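import Cfsg.Agent.H6.Sch12
set_option maxRecDepth 100000
set_option Elab.async false
namespace Cfsg.Agent.H6.Al6
open Cfsg.Agent.H6
universe u

noncomputable def il : List ℕ := [1,0,3,2,5,4]
noncomputable abbrev io : ℕ → ℕ := iota il
noncomputable def C1 : List (List ℕ) := []
noncomputable def m2n0 : Net := (Net.cons (nat_lit 3) (nat_lit 5)
  (Net.cons (nat_lit 1) (nat_lit 2)
  (Net.cons (nat_lit 1) (nat_lit 8)
  (Net.cons (nat_lit 3) (nat_lit 6)
  Net.nil))))
noncomputable def m2n1 : Net := (Net.cons (nat_lit 3) (nat_lit 1)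
  (Net.cons (nat_lit 1) (nat_lit 16)
  (Net.cons (nat_lit 1) (nat_lit 1)
  (Net.cons (nat_lit 3) (nat_lit 2)
  Net.nil))))
noncomputable def m2n2 : Net := (Net.cons (nat_lit 3) (nat_lit 6)
  (Net.cons (nat_lit 1) (nat_lit 1)
  (Net.cons (nat_lit 1) (nat_lit 18)
  (Net.cons (nat_lit 1) (nat_lit 1)
  (Net.cons (nat_lit 3) (nat_lit 6)
  Net.nil)))))
noncomputable def m2n4 : Net := (Net.cons (nat_lit 3) (nat_lit 2)
  (Net.cons (nat_lit 1) (nat_lit 8)
  (Net.cons (nat_lit 1) (nat_lit 16)
  (Net.cons (nat_lit 1) (nat_lit 8)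
  Net.nil))))
noncomputable def m2l : List Net := [m2n0,m2n1,m2n2,m2n2,m2n4,m2n4]
noncomputable abbrev m2 : ℕ → Net := lk Net.nil m2l
theorem m2ok : NetsOk 6 m2 vT := netsOk_of (by decide +kernel)
theorem m2s0 : Sat io [] (finG m2ok) := fin_sat_nil _ (k := 3) (n := 6) (by decide +kernel)
noncomputable def m3n0 : Net := (Net.cons (nat_lit 1) (nat_lit 5)
  (Net.cons (nat_lit 1) (nat_lit 10)
  Net.nil))
noncomputable def m3n1 : Net := (Net.cons (nat_lit 1) (nat_lit 10)
  (Net.cons (nat_lit 1) (nat_lit 5)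
  Net.nil))
noncomputable def m3l : List Net := [m3n0,m3n1]
noncomputable abbrev m3 : ℕ → Net := lk Net.nil m3l
theorem m3ok : NetsOk 5 m3 vT := netsOk_of (by decide +kernel)
theorem m3s0 : Sat io [] (finG m3ok) := fin_sat_nil _ (k := 3) (n := 6) (by decide +kernel)
noncomputable def r0 : List ℕ := [0,0,0,0,0]
noncomputable def m4n0 : Net := (Net.cons (nat_lit 1) (nat_lit 5)
  (Net.cons (nat_lit 1) (nat_lit 10)
  Net.nil))
noncomputable def m4n1 : Net := (Net.cons (nat_lit 1) (nat_lit 10)
  (Net.cons (nat_lit 1) (nat_lit 5)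
  Net.nil))
noncomputable def m4l : List Net := [m4n0,m4n1]
noncomputable abbrev m4 : ℕ → Net := lk Net.nil m4l
theorem m4ok : NetsOk 5 m4 vT := netsOk_of (by decide +kernel)
theorem m4s0 : Sat io [] (finG m4ok) := fin_sat_nil _ (k := 3) (n := 6) (by decide +kernel)
noncomputable def C5 : List (List ℕ) := [r0]
theorem cl6 : Clo.{u} io C5 [] 5 m4 1 (mkB []) := Clo.start (by decide +kernel)
theorem imp7 : Imp.{u} io C5 C1 := Imp.of_chk (pfs := []) (by decide +kernel)
theorem ix8 : Idx.{u} io C5 [] [] 1 := (Idx.triv (Bound.nil) (by norm_num)).of_imp imp7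
noncomputable def lk9 : List (List ℕ × List ℕ × Pf) := []
noncomputable def O10 : ℕ := (nat_lit 2)
noncomputable def M11 : ℕ := (nat_lit 3)
noncomputable def b12 : ℕ := (nat_lit 1)
theorem cl13 : Clo.{u} io C5 [] 5 m4 M11 (mkB [(0,b12)]) := cl6.new (k := 0) (b := 0) (q := 0) (p := 1) (r := 200) (n := 1) (O := O10) (by decide +kernel) (lks := lk9) (by decide +kernel) (gens_of_lall2 (m := []) (by decide +kernel)) ix8 (by decide +kernel)
noncomputable def b14 : ℕ := (nat_lit 2)
theorem cl15 : Clo.{u} io C5 [] 5 m4 M11 (mkB [(0,b12),(1,b14)]) := cl13.ops (os := [Op.inv 0]) (by decide +kernel) (by decide +kernel)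
theorem ix16 : Idx.{u} io C5 [] [] 1 := (Idx.triv (Bound.nil) (by norm_num)).of_imp imp7
noncomputable def lk17 : List (List ℕ × List ℕ × Pf) := []
noncomputable def O18 : ℕ := (nat_lit 8)
noncomputable def M19 : ℕ := (nat_lit 11)
noncomputable def b20 : ℕ := (nat_lit 3)
theorem cl21 : Clo.{u} io C5 [] 5 m4 M19 (mkB [(0,b20),(1,b14)]) := cl15.new (k := 0) (b := 0) (q := 1) (p := 3) (r := 200) (n := 1) (O := O18) (by decide +kernel) (lks := lk17) (by decide +kernel) (gens_of_lall2 (m := []) (by decide +kernel)) ix16 (by decide +kernel)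
noncomputable def b22 : ℕ := (nat_lit 10)
theorem cl23 : Clo.{u} io C5 [] 5 m4 M19 (mkB [(0,b20),(1,b22)]) := cl21.ops (os := [Op.inv 0]) (by decide +kernel) (by decide +kernel)
theorem ix24 : Idx.{u} io C5 [] [] 1 := (Idx.triv (Bound.nil) (by norm_num)).of_imp imp7
noncomputable def lk25 : List (List ℕ × List ℕ × Pf) := []
noncomputable def O26 : ℕ := (nat_lit 16)
noncomputable def M27 : ℕ := (nat_lit 27)
noncomputable def b28 : ℕ := (nat_lit 11)
theorem cl29 : Clo.{u} io C5 [] 5 m4 M27 (mkB [(0,b28),(1,b22)]) := cl23.new (k := 0) (b := 0) (q := 3) (p := 4) (r := 200) (n := 1) (O := O26) (by decide +kernel) (lks := lk25) (by decide +kernel) (gens_of_lall2 (m := []) (by decide +kernel)) ix24 (by decide +kernel)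
noncomputable def b30 : ℕ := (nat_lit 26)
theorem cl31 : Clo.{u} io C5 [] 5 m4 M27 (mkB [(0,b28),(1,b30)]) := cl29.ops (os := [Op.inv 0]) (by decide +kernel) (by decide +kernel)
theorem ix32 : Idx.{u} io C5 [] [] 1 := (Idx.triv (Bound.nil) (by norm_num)).of_imp imp7
noncomputable def lk33 : List (List ℕ × List ℕ × Pf) := []
noncomputable def O34 : ℕ := (nat_lit 4)
noncomputable def M35 : ℕ := (nat_lit 31)
noncomputable def b36 : ℕ := (nat_lit 27)
theorem cl37 : Clo.{u} io C5 [] 5 m4 M35 (mkB [(0,b36),(1,b30)]) := cl31.new (k := 0) (b := 0) (q := 4) (p := 2) (r := 200) (n := 1) (O := O34) (by decide +kernel) (lks := lk33) (by decide +kernel) (gens_of_lall2 (m := []) (by decide +kernel)) ix32 (by decide +kernel)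
noncomputable def b38 : ℕ := (nat_lit 31)
noncomputable def b39 : ℕ := (nat_lit 31)
theorem cl40 : Clo.{u} io C5 [] 5 m4 M35 (mkB [(0,b38),(1,b39)]) := cl37.ops (os := [Op.inv 0,Op.rel 0 [] 1 [1,1,1] [([],1)],Op.inv 0]) (by decide +kernel) (by decide +kernel)
theorem sat42 : Sat io C5 (finG m4ok) := m4s0.fin (k := 3) (by decide +kernel)
theorem bd41 : Bound.{u} io C5 [0,1] 5 := cl40.bound (by decide +kernel) sat42 ((Bound.nil).of_imp imp7)
noncomputable def m43n0 : Net := (Net.cons (nat_lit 3) (nat_lit 5)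
  (Net.cons (nat_lit 1) (nat_lit 8)
  (Net.cons (nat_lit 1) (nat_lit 16)
  (Net.cons (nat_lit 1) (nat_lit 9)
  (Net.cons (nat_lit 3) (nat_lit 6)
  Net.nil)))))
noncomputable def m43n1 : Net := (Net.cons (nat_lit 3) (nat_lit 1)
  (Net.cons (nat_lit 1) (nat_lit 1)
  (Net.cons (nat_lit 1) (nat_lit 2)
  (Net.cons (nat_lit 1) (nat_lit 9)
  (Net.cons (nat_lit 3) (nat_lit 2)
  Net.nil)))))
noncomputable def m43n2 : Net := (Net.cons (nat_lit 3) (nat_lit 5)
  Net.nil)
noncomputable def m43l : List Net := [m43n0,m43n1,m43n2,m43n2]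
noncomputable abbrev m43 : ℕ → Net := lk Net.nil m43l
theorem m43ok : NetsOk 6 m43 vT := netsOk_of (by decide +kernel)
theorem m43s0 : Sat io [] (finG m43ok) := fin_sat_nil _ (k := 3) (n := 6) (by decide +kernel)
noncomputable def r1 : List ℕ := [2,2]
noncomputable def r2 : List ℕ := [2,0,2,0,2,0]
noncomputable def r3 : List ℕ := [3,1,1,3,0,0,3,0,2,1,1,2,0,0,2,0]
noncomputable def m44n0 : Net := (Net.cons (nat_lit 3) (nat_lit 322)
  (Net.cons (nat_lit 1) (nat_lit 520)
  (Net.cons (nat_lit 1) (nat_lit 1042)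
  (Net.cons (nat_lit 1) (nat_lit 64)
  (Net.cons (nat_lit 3) (nat_lit 256)
  Net.nil)))))
noncomputable def m44n1 : Net := (Net.cons (nat_lit 3) (nat_lit 128)
  (Net.cons (nat_lit 1) (nat_lit 146)
  (Net.cons (nat_lit 1) (nat_lit 584)
  (Net.cons (nat_lit 3) (nat_lit 2)
  Net.nil))))
noncomputable def m44n2 : Net := (Net.cons (nat_lit 6) (nat_lit 48)
  (Net.cons (nat_lit 3) (nat_lit 453)
  (Net.cons (nat_lit 1) (nat_lit 65)
  (Net.cons (nat_lit 1) (nat_lit 1170)
  (Net.cons (nat_lit 1) (nat_lit 520)
  (Net.cons (nat_lit 3) (nat_lit 2)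
  (Net.cons (nat_lit 6) (nat_lit 48)
  Net.nil)))))))
noncomputable def m44l : List Net := [m44n0,m44n1,m44n2,m44n2]
noncomputable abbrev m44 : ℕ → Net := lk Net.nil m44l
theorem m44ok : NetsOk 12 m44 vT := netsOk_of (by decide +kernel)
theorem m44s0 : Sat io [] (finG m44ok) := fin_sat_nil _ (k := 4) (n := 6) (by decide +kernel)
noncomputable def C45 : List (List ℕ) := [r0,r1,r2,r3]
theorem cl46 : Clo.{u} io C45 [0,1] 12 m44 1 (mkB []) := Clo.start (by decide +kernel)
theorem imp47 : Imp.{u} io C45 C5 := Imp.of_chk (pfs := [[([],1)]]) (by decide +kernel)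
theorem ix48 : Idx.{u} io C45 [0,1] [] 5 := (Idx.triv bd41 (by norm_num)).of_imp imp47
noncomputable def lk49 : List (List ℕ × List ℕ × Pf) := []
noncomputable def O50 : ℕ := (nat_lit 62)
noncomputable def M51 : ℕ := (nat_lit 63)
noncomputable def b52 : ℕ := (nat_lit 1)
theorem cl53 : Clo.{u} io C45 [0,1] 12 m44 M51 (mkB [(2,b52)]) := cl46.new (k := 1) (b := 2) (q := 0) (p := 1) (r := 200) (n := 5) (O := O50) (by decide +kernel) (lks := lk49) (by decide +kernel) (gens_of_lall2 (m := []) (by decide +kernel)) ix48 (by decide +kernel)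
noncomputable def b54 : ℕ := (nat_lit 15)
noncomputable def b55 : ℕ := (nat_lit 15)
theorem cl56 : Clo.{u} io C45 [0,1] 12 m44 M51 (mkB [(2,b54),(3,b55)]) := cl53.ops (os := [Op.inv 2,Op.rel 2 [] 3 [] [([],3)],Op.inv 2,Op.rel 2 [0] 3 [1,3,1] [([3],5)],Op.inv 2,Op.rel 2 [] 3 [] [([],3)],Op.inv 2]) (by decide +kernel) (by decide +kernel)
theorem ix57 : Idx.{u} io C45 [0,1] [] 5 := (Idx.triv bd41 (by norm_num)).of_imp imp47
noncomputable def lk58 : List (List ℕ × List ℕ × Pf) := []
noncomputable def O59 : ℕ := (nat_lit 1984)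
noncomputable def M60 : ℕ := (nat_lit 2047)
noncomputable def b61 : ℕ := (nat_lit 31)
theorem cl62 : Clo.{u} io C45 [0,1] 12 m44 M60 (mkB [(2,b61),(3,b55)]) := cl56.new (k := 1) (b := 2) (q := 4) (p := 6) (r := 200) (n := 5) (O := O59) (by decide +kernel) (lks := lk58) (by decide +kernel) (gens_of_lall2 (m := []) (by decide +kernel)) ix57 (by decide +kernel)
noncomputable def b63 : ℕ := (nat_lit 1023)
noncomputable def b64 : ℕ := (nat_lit 1023)
theorem cl65 : Clo.{u} io C45 [0,1] 12 m44 M60 (mkB [(2,b63),(3,b64)]) := cl62.ops (os := [Op.inv 2,Op.rel 2 [] 3 [] [([],3)],Op.inv 2,Op.rel 2 [0] 3 [1,3,1] [([3],5)],Op.inv 2,Op.rel 2 [] 3 [] [([],3)],Op.inv 2,Op.rel 2 [0] 3 [1,3,1] [([3],5)],Op.inv 2,Op.rel 2 [] 3 [] [([],3)],Op.inv 2]) (by decide +kernel) (by decide +kernel)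
theorem der67 : Der 5 (finX 5) (cl (finG m3ok) [[0]]) (fun _ => Net.nil) := Der.zero (finModel m3ok).inj
noncomputable def ns68 : ℕ → Net := upd (fun _ => Net.nil) 0 (m3 0)
theorem der69 : Der 5 (finX 5) (cl (finG m3ok) [[0]]) ns68 := der67.add (wp_mem_cl (w := [0]) (by decide)) (rep_letter (finModel m3ok) 0) 0
noncomputable def L70 : Lev := Lev.cons 0 5 [[0]] Lev.nil
theorem lc71 : Lev.chk 5 0 ns68 vT 100 L70 = true := by decide +kernel
theorem lb72 : 5 ≤ Nat.card (cl (finG m3ok) [[0]]) := le_of_eq_of_le (by decide +kernel) (der69.card_ge lc71)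
theorem sat73 : Sat io C5 (finG m3ok) := m3s0.fin (k := 3) (by decide +kernel)
theorem ix66 : Idx.{u} io C45 [0,1] [[0]] 1 := (Idx.of bd41 sat73 (by decide +kernel) lb72 (by decide +kernel)).of_imp imp47
noncomputable def lk74 : List (List ℕ × List ℕ × Pf) := [([0],[1,1,2,0,0,2,1,3,1,1,3,0,0],[([2,1,1,2,0,0,2],7)])]
noncomputable def O75 : ℕ := (nat_lit 2048)
noncomputable def M76 : ℕ := (nat_lit 4095)
noncomputable def b77 : ℕ := (nat_lit 2047)
theorem cl78 : Clo.{u} io C45 [0,1] 12 m44 M76 (mkB [(2,b77),(3,b64)]) := cl65.new (k := 1) (b := 2) (q := 10) (p := 11) (r := 200) (n := 1) (O := O75) (by decide +kernel) (lks := lk74) (by decide +kernel) (gens_of_lall2 (m := [[0]]) (by decide +kernel)) ix66 (by decide +kernel)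
noncomputable def b79 : ℕ := (nat_lit 4095)
noncomputable def b80 : ℕ := (nat_lit 4095)
theorem cl81 : Clo.{u} io C45 [0,1] 12 m44 M76 (mkB [(2,b79),(3,b80)]) := cl78.ops (os := [Op.inv 2,Op.rel 2 [] 3 [] [([],3)],Op.inv 2]) (by decide +kernel) (by decide +kernel)
theorem sat83 : Sat io C45 (finG m44ok) := m44s0.fin (k := 4) (by decide +kernel)
theorem bd82 : Bound.{u} io C45 [0,1,2,3] 60 := cl81.bound (by decide +kernel) sat83 (bd41.of_imp imp47)
noncomputable def r4 : List ℕ := [4,4]
noncomputable def r5 : List ℕ := [4,2,4,2,4,2]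
noncomputable def r6 : List ℕ := [5,1,2,4,1,1,3,1,1]
noncomputable def r7 : List ℕ := [4,1,2,5,1,1,3,1,1]
noncomputable def r8 : List ℕ := [4,1,3,5,1,1,3,1,1]
noncomputable def m84n0 : Net := (Net.cons (nat_lit 3) (nat_lit 2)
  (Net.cons (nat_lit 1) (nat_lit 8)
  (Net.cons (nat_lit 1) (nat_lit 18)
  Net.nil)))
noncomputable def m84n1 : Net := (Net.cons (nat_lit 1) (nat_lit 18)
  (Net.cons (nat_lit 1) (nat_lit 8)
  (Net.cons (nat_lit 3) (nat_lit 2)
  Net.nil)))
noncomputable def m84n2 : Net := (Net.cons (nat_lit 1) (nat_lit 18)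
  Net.nil)
noncomputable def m84n4 : Net := (Net.cons (nat_lit 1) (nat_lit 16)
  (Net.cons (nat_lit 1) (nat_lit 1)
  Net.nil))
noncomputable def m84l : List Net := [m84n0,m84n1,m84n2,m84n2,m84n4,m84n4]
noncomputable abbrev m84 : ℕ → Net := lk Net.nil m84l
theorem m84ok : NetsOk 6 m84 vT := netsOk_of (by decide +kernel)
theorem m84s0 : Sat io [] (finG m84ok) := fin_sat_nil _ (k := 3) (n := 6) (by decide +kernel)
noncomputable def C85 : List (List ℕ) := [r0,r1,r2,r3,r4,r5,r6,r7,r8]
theorem cl86 : Clo.{u} io C85 [0,1,2,3] 6 m84 1 (mkB []) := Clo.start (by decide +kernel)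
theorem imp87 : Imp.{u} io C85 C45 := Imp.of_chk (pfs := [[([],1)],[([],3)],[([],5)],[([],7)]]) (by decide +kernel)
theorem der89 : Der 6 (finX 6) (cl (finG m43ok) [[1,2],[1,1,3,1,1]]) (fun _ => Net.nil) := Der.zero (finModel m43ok).inj
noncomputable def x90 : Net := (Net.cons (nat_lit 3) (nat_lit 6)
  (Net.cons (nat_lit 1) (nat_lit 8)
  (Net.cons (nat_lit 1) (nat_lit 16)
  (Net.cons (nat_lit 1) (nat_lit 9)
  Net.nil))))
noncomputable def ns91 : ℕ → Net := upd (fun _ => Net.nil) 0 x90
theorem der92 : Der 6 (finX 6) (cl (finG m43ok) [[1,2],[1,1,3,1,1]]) ns91 := der89.add (wp_mem_cl (w := [1,2]) (by decide)) ((finModel m43ok).toIsPre.rep_word (k := 3) (w := [1,2]) (n := x90) (by decide +kernel)) 0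
noncomputable def x93 : Net := (Net.cons (nat_lit 3) (nat_lit 7)
  (Net.cons (nat_lit 1) (nat_lit 8)
  (Net.cons (nat_lit 1) (nat_lit 18)
  (Net.cons (nat_lit 1) (nat_lit 8)
  (Net.cons (nat_lit 3) (nat_lit 4)
  Net.nil)))))
noncomputable def ns94 : ℕ → Net := upd ns91 1 x93
theorem der95 : Der 6 (finX 6) (cl (finG m43ok) [[1,2],[1,1,3,1,1]]) ns94 := der92.add (wp_mem_cl (w := [1,1,3,1,1]) (by decide)) ((finModel m43ok).toIsPre.rep_word (k := 3) (w := [1,1,3,1,1]) (n := x93) (by decide +kernel)) 1
noncomputable def x96 : Net := (Net.cons (nat_lit 1) (nat_lit 2)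
  (Net.cons (nat_lit 1) (nat_lit 8)
  Net.nil))
noncomputable def x96s : ℕ → Net := upd ns94 2 x96
theorem der97 : Der 6 (finX 6) (cl (finG m43ok) [[1,2],[1,1,3,1,1]]) x96s := der95.ext (k := 3) (w := [1,0,1]) 2 (by decide +kernel)
noncomputable def L98 : Lev := Lev.cons 1 2 [[2]] Lev.nil
noncomputable def L99 : Lev := Lev.cons 0 6 [[0],[1]] L98
theorem lc100 : Lev.chk 6 0 x96s vT 100 L99 = true := by decide +kernel
theorem lb101 : 12 ≤ Nat.card (cl (finG m43ok) [[1,2],[1,1,3,1,1]]) := le_of_eq_of_le (by decide +kernel) (der97.card_ge lc100)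
theorem sat102 : Sat io C45 (finG m43ok) := m43s0.fin (k := 3) (by decide +kernel)
theorem ix88 : Idx.{u} io C85 [0,1,2,3] [[1,2],[1,1,3,1,1]] 5 := (Idx.of bd82 sat102 (by decide +kernel) lb101 (by decide +kernel)).of_imp imp87
noncomputable def lk103 : List (List ℕ × List ℕ × Pf) := [([1,2],[0,0,2,0,0],[([4],13)]),([1,1,3,1,1],[3,0],[([4,3,0,5],15)])]
noncomputable def O104 : ℕ := (nat_lit 62)
noncomputable def M105 : ℕ := (nat_lit 63)
noncomputable def b106 : ℕ := (nat_lit 1)
theorem cl107 : Clo.{u} io C85 [0,1,2,3] 6 m84 M105 (mkB [(4,b106)]) := cl86.new (k := 0) (b := 4) (q := 0) (p := 1) (r := 200) (n := 5) (O := O104) (by decide +kernel) (lks := lk103) (by decide +kernel) (gens_of_lall2 (m := [[0],[1]]) (by decide +kernel)) ix88 (by decide +kernel)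
noncomputable def b108 : ℕ := (nat_lit 63)
noncomputable def b109 : ℕ := (nat_lit 63)
theorem cl110 : Clo.{u} io C85 [0,1,2,3] 6 m84 M105 (mkB [(4,b108),(5,b109)]) := cl107.ops (os := [Op.inv 4,Op.rel 4 [] 5 [] [([],9)],Op.inv 4,Op.rel 4 [2] 5 [3,5,3] [([5],11)],Op.ext 4 2 [([1,1,3,1,1],[3,0],[([4,3,0,5],15)]),([0,0,2,0,0],[1,2],[([],14)]),([1,1,3,1,1],[2,0],[([4,2,0,5],17)]),([0,0,2,0,0],[1,3],[([],16)]),([1,2],[0,0,2,0,0],[([4],13)]),([3,0],[1,1,3,1,1],[([4,1,1,3,1,1],12)])],Op.inv 4]) (by decide +kernel) (by decide +kernel)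
theorem sat112 : Sat io C85 (finG m84ok) := m84s0.fin (k := 3) (by decide +kernel)
theorem bd111 : Bound.{u} io C85 [0,1,2,3,4,5] 360 := cl110.bound (by decide +kernel) sat112 (bd82.of_imp imp87)
abbrev GA : Type := ↥(cl (finG m2ok) (lw [0,1,2,3,4,5]))
theorem allA : ∀ l, finG m2ok l ∈ (cl (finG m2ok) (lw [0,1,2,3,4,5])) := finG_mem_all _ (by decide +kernel)
noncomputable def gA : ℕ → GA := subA _ _ allA
theorem sat113 : Sat io C85 (finG m2ok) := m2s0.fin (k := 3) (by decide +kernel)
noncomputable abbrev RA : List (List ℕ) := C85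
theorem satA : Sat io RA gA := sat113.subA _
theorem topA : cl gA (lw [0,1,2,3,4,5]) = ⊤ := cl_subA _
theorem modelA : IsModel 6 (finX 6) gA m2 vT := (finModel m2ok).subA _
theorem faithA : Faith GA 6 (finX 6) := (faith_fin 6).sub _
theorem der114 : Der 6 (finX 6) (cl (finG m2ok) (lw [0,1,2,3,4,5])) (resN m2 [0,1,2,3,4,5]) := Der.letters (finModel m2ok) _
noncomputable def x115 : Net := (Net.cons (nat_lit 3) (nat_lit 2)
  (Net.cons (nat_lit 1) (nat_lit 8)
  (Net.cons (nat_lit 1) (nat_lit 18)
  (Net.cons (nat_lit 1) (nat_lit 8)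
  (Net.cons (nat_lit 3) (nat_lit 4)
  Net.nil)))))
noncomputable def x115s : ℕ → Net := upd (resN m2 [0,1,2,3,4,5]) 6 x115
theorem der116 : Der 6 (finX 6) (cl (finG m2ok) (lw [0,1,2,3,4,5])) x115s := der114.ext (k := 3) (w := [0,0,2]) 6 (by decide +kernel)
noncomputable def x117 : Net := (Net.cons (nat_lit 3) (nat_lit 2)
  (Net.cons (nat_lit 1) (nat_lit 8)
  (Net.cons (nat_lit 1) (nat_lit 16)
  (Net.cons (nat_lit 3) (nat_lit 2)
  Net.nil))))
noncomputable def x117s : ℕ → Net := upd x115s 7 x117
theorem der118 : Der 6 (finX 6) (cl (finG m2ok) (lw [0,1,2,3,4,5])) x117s := der116.ext (k := 3) (w := [6,4,6,6,6]) 7 (by decide +kernel)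
noncomputable def L119 : Lev := Lev.cons 1 3 [[7]] Lev.nil
noncomputable def L120 : Lev := Lev.cons 4 4 [[4],[5]] L119
noncomputable def L121 : Lev := Lev.cons 2 5 [[6]] L120
noncomputable def L122 : Lev := Lev.cons 0 6 [[0],[1],[2],[3]] L121
theorem lc123 : Lev.chk 6 0 x117s vT 100 L122 = true := by decide +kernel
theorem bdA : Bound.{u} io RA [0,1,2,3,4,5] 360 := bd111
theorem cardA : Nat.card GA = 360 := le_antisymm (bdA.{0}.fin sat113) (le_of_eq_of_le (by decide +kernel) (der118.card_ge lc123))
noncomputable def baseA : List ℕ := [0,2,4,1]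
theorem basedA : Based 6 (finX 6) (⊤ : Subgroup GA) baseA := (der118.based lc123 (le_of_eq_of_le cardA (by decide +kernel))).sub
noncomputable def eqvA : List ℕ → List ℕ → Bool := eqBc m2 baseA
theorem heqA : ∀ u w, eqvA u w = true → wp gA u = wp gA w := basedA.eqv modelA.toIsPre
theorem hgeA : ∀ l, llen il ≤ l → gA l = 1 := fun l h => Subtype.ext (finG_eq_one m2ok (n := 6) (by decide +kernel) l (le_of_eq_of_le (by decide +kernel) h))
theorem s0A : Sat io [] gA := satA.nil
theorem isoA : Nonempty (GA ≃* alternatingGroup (Fin 6)) := ⟨MulEquiv.subgroupCongr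
  (Equiv.Perm.eq_alternatingGroup_of_index_eq_two (index_of_card (m := 360) (by rw [Nat.card_perm]; simp [Nat.factorial]) cardA (by norm_num)))⟩
noncomputable def E124 : List (List ℕ) := []
noncomputable def E125 : List (List ℕ) := [0,0,0,0,0] :: E124
noncomputable def E126 : List (List ℕ) := [2,2] :: E125
noncomputable def t127v0 : ℕ := (nat_lit 0x150000150001000017000017000300001500001700030000170000150002000012000015000200001500001100040000110000120003000011000012000100001200000d000200001100000b000000000d00000d000200000b00000d000300000900000d000300000d000009000300000800000b000300000b00000800020000080000090002000009000005000100000800000400040000050000040004000004000005000200000500000200010000040000020003000000000002000300000200000000010000000000000000000000000000)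
noncomputable def t127 : Tr := (Tr.leaf t127v0)
noncomputable def tt128v0 : ℕ := (nat_lit 0x6005001000000000000000001007000000000001000001000000000000001005008002000000000000000000000000000000000000000000000001000008000000000000000000000000000000000000)
noncomputable def tt128 : Tr := (Tr.leaf tt128v0)
noncomputable def t127T : List (List ℕ) := [[2,0,2,0,2,0],[3,1,1,3,0,0,3,0,2,1,1,2,0,0,2,0]]
noncomputable def t127R : List (List ℕ × ℕ) := [([2,2],0),([1,1,1,1,1],0),([3,1,3,1,3,1],8),([3,3],0),([1,3,0,0,3,1,1,3,1,2,0,0,2,1,1,2],32768),([1,3,1,3,1,3],8),([2,0,2,0,2,0],1),([3,0,0,3,1,1,3,0,2,0,0,2,1,1,2,0],4096),([0,2,0,2,0,2],1),([2,1,1,2,0,3,0,0,3,1,1,3,0,2,0,0],4096),([],0)]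
theorem t127Rok : TRot.{u} (3 ^ (1 + 1)) 2 io E126 t127T t127R := TRot.of (cs := [(0,0,[],[([],1)]),(0,0,[],[([],2)]),(2,0,[],[]),(0,0,[],[([],0)]),(2,1,[2,1,1,2,0,0,2],[]),(2,0,[0],[]),(1,0,[3],[]),(1,1,[2,1,1,2,0,0,2],[]),(1,0,[],[]),(1,1,[0,0,2,0],[]),(0,0,[],[])]) (by decide +kernel)
noncomputable def dg129p : List (List ℕ) := [[11],[0],[],[1,4],[],[],[3,9,5,3,7,10],[4,12],[],[],[2,17,9,10,18],[],[1,22],[],[1,26],[5,23,21,19,12,9,10,12,9,6,2,2,4,10,18,26],[6,30,23,17,14,18,29],[],[],[7,35,24,21,26,36],[8,35,31,27,20,17,14,11,6,2,2,4,10,18,26,36],[],[2,37,30,34,42],[],[1,46],[9,48,43,41,45,46],[10,46,51,51,48,43,39,45,43,39,37,30,23,21,26,36,45]]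
theorem dg129 : TD.{u} (3 ^ (1 + 1)) 2 io E126 t127T [0,1] t127 (tt128.getW 24) 27 := TD.steps (i := 0) TD.zero t127Rok (prs := dg129p) (by decide +kernel)
noncomputable def E130 : List (List ℕ) := [[2,0,2,0,2,0],[3,1,1,3,0,0,3,0,2,1,1,2,0,0,2,0]]
theorem ck131 : lall2 (fun r o => band (outChk t127 (tt128.getW 24) (3 ^ (1 + 1)) 2 27 o) (eqnChk io [] r (sel t127T o.1) [])) E130 [([0],[16,16,16,16,16,16,26,26,26,26,26]),([1],[16,16,16,16,16,16,16,26,26])] = true := by decide +kernel
noncomputable def E132 : List (List ℕ) := lapp E130 E126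
theorem imp133 : Imp.{u} io E126 C5 := Imp.of_chk (pfs := [[([],3)]]) (by decide +kernel)
noncomputable def E134 : List (List ℕ) := [4,4] :: E132
noncomputable def t135v0 : ℕ := (nat_lit 0xf00000f000300000e00000f000500000e00000f000400000d00000d000400000e00000f000200000e00000f000200000f00000d000100000e000005000200000d0000030000000005000005000500000500000500000000050000050000000005000005000300000300000500000000030000030004000003000005000100000500000300050000000000030005000003000000000300000000000000010000000000000000000000000000)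
noncomputable def t135 : Tr := (Tr.leaf t135v0)
noncomputable def tt136v0 : ℕ := (nat_lit 0x1000000001000000000000001000000002000001001000002000001000000000000001000000000000000000000000000000000000000000000000000000000000000000007000002007000001000008001000001000008000000006000000000000008000000000000000008001000000000000008000000000000000000000000000000000000000000000000000000000000000000000000000000000000000000000)
noncomputable def tt136 : Tr := (Tr.leaf tt136v0)
noncomputable def t135T : List (List ℕ) := [[4,2,4,2,4,2],[5,1,2,4,1,1,3,1,1],[4,1,2,5,1,1,3,1,1],[4,1,3,5,1,1,3,1,1],[2,5,0,4,3,1,2,5,0,4,3,1]]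
noncomputable def t135R : List (List ℕ × ℕ) := [([4,4],0),([3,5,0,0,2,0,0,4,0],32768),([0,3,4,0,0,2,0,0,5],134217728),([2,4,0,0,2,0,0,5,0],549755813888),([1,3,1,3,1,3],0),([2,2],0),([4,2,4,2,4,2],1),([1,1,1,1,1],0),([3,1,1,4,2,1,5,1,1],4096),([3,0,0,3,1,1,3,1,2,0,0,2,1,1,2,1],0),([4,0,0,2,0,0,5,0,2],549755813888),([2,0,0,2,1,1,2,0,3,0,0,3,1,1,3,0],0),([2,1,3,4,0,5,2,1,3,4,0,5],281474976710656),([],0)]
theorem t135Rok : TRot.{u} (3 ^ (1 + 1)) 5 io E134 t135T t135R := TRot.of (cs := [(0,0,[],[([],1)]),(2,1,[0,4],[]),(2,2,[5],[]),(2,3,[0,5],[]),(0,0,[],[([0],2)]),(0,0,[],[([],7)]),(1,0,[5],[]),(0,0,[],[([],8)]),(1,1,[1,1],[]),(0,0,[],[([2,1,1,2,0,0,2,0],4)]),(2,3,[2,0,5],[]),(0,0,[],[([3,1,1,3,0,0,3,1,2,1,1,2,0,0,2],5)]),(1,4,[3],[]),(0,0,[],[])]) (by decide +kernel)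
noncomputable def dg137p : List (List ℕ) := [[14],[0],[0],[],[1,6],[],[2,7,2,2,4,2,2,6,10],[3,10,12,8,2,2,4,2,2,9],[4,8,2,2,4,2,2,9,10],[5,11,17,11,17,11,17],[6,16,13],[7,16,8,4,6,13],[1,22,22],[],[],[],[8,29,11,26,30],[9,29,11,8,4,3,9,26,30],[10,27,10,12,26,30,34,29,16,10,28,35,32,29,16,26],[11,33,31,37,27,10,23,28,35],[12,33,31,37,30,32,35,31,36,27,10,12,26,30,34,33],[13,40,29,12,8,2,9,13,11,17,22,28,39]]
theorem dg137 : TD.{u} (3 ^ (1 + 1)) 5 io E134 t135T [0,1,2,3] t135 (tt136.getW 60) 22 := TD.steps (i := 0) TD.zero t135Rok (prs := dg137p) (by decide +kernel)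
noncomputable def E138 : List (List ℕ) := [[4,2,4,2,4,2],[5,1,2,4,1,1,3,1,1,2,5,0,4,3,1,2,5,0,4,3,1],[4,1,2,5,1,1,3,1,1,2,5,0,4,3,1,2,5,0,4,3,1],[4,1,3,5,1,1,3,1,1,2,5,0,4,3,1,2,5,0,4,3,1],[2,5,0,4,3,1,2,5,0,4,3,1,2,5,0,4,3,1,2,5,0,4,3,1,2,5,0,4,3,1,2,5,0,4,3,1]]
theorem ck139 : lall2 (fun r o => band (outChk t135 (tt136.getW 60) (3 ^ (1 + 1)) 5 22 o) (eqnChk io [] r (sel t135T o.1) [])) E138 [([0],[10,10,10,10,10,10,10,10,12,12,12,12]),([1,4],[21]),([2,4],[7,7,7,7,7,7,7,7,21]),([3,4],[10,21]),([4,4,4],[9,9,9,9,9,9,9,10,10,10,21,21,21])] = true := by decide +kernel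
noncomputable def E140 : List (List ℕ) := lapp E138 E134
theorem imp141 : Imp.{u} io E134 C45 := Imp.of_chk (pfs := [[([],9)],[([],7)],[([],3)],[([],5)]]) (by decide +kernel)
theorem ex142 : Ex (3 ^ (1 + 1)) gA io [] E124 := Ex.start s0A (by decide +kernel) hgeA
theorem rl144 : ∀ r ∈ [[0,0,0,0,0]], wp gA r = 1 := rels_of_eqv heqA (by decide +kernel)
theorem ex143 : Ex (3 ^ (1 + 1)) gA io [] E125 := ex142.norm (ol := [7,2,0,0,0,0]) (rl144 _ (List.mem_singleton_self _)) (by decide +kernel)
theorem rl146 : ∀ r ∈ [[2,2]], wp gA r = 1 := rels_of_eqv heqA (by decide +kernel)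
theorem ex145 : Ex (3 ^ (1 + 1)) gA io [] E126 := ex143.norm (ol := [0,0,4,5,0,0]) (rl146 _ (List.mem_singleton_self _)) (by decide +kernel)
theorem der148 : Der 6 (finX 6) (cl gA (lw [0,1])) (fun _ => Net.nil) := Der.zero modelA.inj
noncomputable def ns149 : ℕ → Net := upd (fun _ => Net.nil) 0 (m2 0)
theorem der150 : Der 6 (finX 6) (cl gA (lw [0,1])) ns149 := der148.add (wp_mem_cl (w := [0]) (by decide)) (rep_letter modelA 0) 0
noncomputable def ns151 : ℕ → Net := upd ns149 1 (m2 1)
theorem der152 : Der 6 (finX 6) (cl gA (lw [0,1])) ns151 := der150.add (wp_mem_cl (w := [1]) (by decide)) (rep_letter modelA 1) 1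
noncomputable def L153 : Lev := Lev.cons 0 5 [[0],[1]] Lev.nil
theorem lc154 : Lev.chk 6 0 ns151 vT 100 L153 = true := by decide +kernel
theorem lb155 : 5 ≤ Nat.card (cl gA (lw [0,1])) := le_of_eq_of_le (by decide +kernel) (der152.card_ge lc154)
theorem rl156 : ∀ r ∈ t127T, wp gA r = 1 := rels_of_eqv heqA (by decide +kernel)
theorem ui147 : UImp (3 ^ (1 + 1)) gA io [] E126 E130 := dg129.uimp (UGen.base (us := []) bd41 imp133 lb155 (by simp)) rl156 ck131
theorem ex157 : Ex (3 ^ (1 + 1)) gA io [] E132 := ex145.step (UImp.add (UImp.of_imp Imp.refl) ui147)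
theorem rl159 : ∀ r ∈ [[4,4]], wp gA r = 1 := rels_of_eqv heqA (by decide +kernel)
theorem ex158 : Ex (3 ^ (1 + 1)) gA io [] E134 := ex157.norm (ol := [0,0,0,0,4,5]) (rl159 _ (List.mem_singleton_self _)) (by decide +kernel)
theorem der161 : Der 6 (finX 6) (cl gA (lw [0,1,2,3])) (fun _ => Net.nil) := Der.zero modelA.inj
noncomputable def ns162 : ℕ → Net := upd (fun _ => Net.nil) 0 (m2 0)
theorem der163 : Der 6 (finX 6) (cl gA (lw [0,1,2,3])) ns162 := der161.add (wp_mem_cl (w := [0]) (by decide)) (rep_letter modelA 0) 0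
noncomputable def ns164 : ℕ → Net := upd ns162 1 (m2 1)
theorem der165 : Der 6 (finX 6) (cl gA (lw [0,1,2,3])) ns164 := der163.add (wp_mem_cl (w := [1]) (by decide)) (rep_letter modelA 1) 1
noncomputable def ns166 : ℕ → Net := upd ns164 2 (m2 2)
theorem der167 : Der 6 (finX 6) (cl gA (lw [0,1,2,3])) ns166 := der165.add (wp_mem_cl (w := [2]) (by decide)) (rep_letter modelA 2) 2
noncomputable def ns168 : ℕ → Net := upd ns166 3 (m2 3)
theorem der169 : Der 6 (finX 6) (cl gA (lw [0,1,2,3])) ns168 := der167.add (wp_mem_cl (w := [3]) (by decide)) (rep_letter modelA 3) 3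
noncomputable def x170 : Net := (Net.cons (nat_lit 3) (nat_lit 6)
  Net.nil)
noncomputable def x170s : ℕ → Net := upd ns168 4 x170
theorem der171 : Der 6 (finX 6) (cl gA (lw [0,1,2,3])) x170s := der169.ext (k := 3) (w := [1,2,0]) 4 (by decide +kernel)
noncomputable def L172 : Lev := Lev.cons 0 2 [[2],[3]] Lev.nil
noncomputable def L173 : Lev := Lev.cons 4 5 [[4]] L172
noncomputable def L174 : Lev := Lev.cons 3 6 [[0],[1]] L173
theorem lc175 : Lev.chk 6 0 x170s vT 100 L174 = true := by decide +kernel
theorem lb176 : 60 ≤ Nat.card (cl gA (lw [0,1,2,3])) := le_of_eq_of_le (by decide +kernel) (der171.card_ge lc175)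
theorem rl177 : ∀ r ∈ t135T, wp gA r = 1 := rels_of_eqv heqA (by decide +kernel)
theorem ui160 : UImp (3 ^ (1 + 1)) gA io [] E134 E138 := dg137.uimp (UGen.base (us := []) bd82 imp141 lb176 (by simp)) rl177 ck139
theorem ex178 : Ex (3 ^ (1 + 1)) gA io [] E140 := ex158.step (UImp.add (UImp.of_imp Imp.refl) ui160)
noncomputable def E179 : List (List ℕ) := lapp [[2,5,0,4,3,1,2,5,0,4,3,1]] E140
theorem imp180 : Imp.{u} io E179 C85 := Imp.of_chk (pfs := [[([],21)],[([],19)],[([],15)],[([],17)],[([],13)],[([],3)],[([],0),([],5)],[([],0),([],7)],[([],0),([],9)]]) (by decide +kernel)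
theorem der181 : Der 6 (finX 6) (cl gA (lw [0,1,2,3,4,5])) (fun _ => Net.nil) := Der.zero modelA.inj
noncomputable def ns182 : ℕ → Net := upd (fun _ => Net.nil) 0 (m2 0)
theorem der183 : Der 6 (finX 6) (cl gA (lw [0,1,2,3,4,5])) ns182 := der181.add (wp_mem_cl (w := [0]) (by decide)) (rep_letter modelA 0) 0
noncomputable def ns184 : ℕ → Net := upd ns182 1 (m2 1)
theorem der185 : Der 6 (finX 6) (cl gA (lw [0,1,2,3,4,5])) ns184 := der183.add (wp_mem_cl (w := [1]) (by decide)) (rep_letter modelA 1) 1
noncomputable def ns186 : ℕ → Net := upd ns184 2 (m2 2)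
theorem der187 : Der 6 (finX 6) (cl gA (lw [0,1,2,3,4,5])) ns186 := der185.add (wp_mem_cl (w := [2]) (by decide)) (rep_letter modelA 2) 2
noncomputable def ns188 : ℕ → Net := upd ns186 3 (m2 3)
theorem der189 : Der 6 (finX 6) (cl gA (lw [0,1,2,3,4,5])) ns188 := der187.add (wp_mem_cl (w := [3]) (by decide)) (rep_letter modelA 3) 3
noncomputable def ns190 : ℕ → Net := upd ns188 4 (m2 4)
theorem der191 : Der 6 (finX 6) (cl gA (lw [0,1,2,3,4,5])) ns190 := der189.add (wp_mem_cl (w := [4]) (by decide)) (rep_letter modelA 4) 4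
noncomputable def ns192 : ℕ → Net := upd ns190 5 (m2 5)
theorem der193 : Der 6 (finX 6) (cl gA (lw [0,1,2,3,4,5])) ns192 := der191.add (wp_mem_cl (w := [5]) (by decide)) (rep_letter modelA 5) 5
noncomputable def x194 : Net := (Net.cons (nat_lit 1) (nat_lit 8)
  (Net.cons (nat_lit 1) (nat_lit 16)
  Net.nil))
noncomputable def x194s : ℕ → Net := upd ns192 6 x194
theorem der195 : Der 6 (finX 6) (cl gA (lw [0,1,2,3,4,5])) x194s := der193.ext (k := 3) (w := [0,4,0,0]) 6 (by decide +kernel)
noncomputable def L196 : Lev := Lev.cons 3 3 [[6]] Lev.nil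
noncomputable def L197 : Lev := Lev.cons 1 4 [[4],[5]] L196
noncomputable def L198 : Lev := Lev.cons 0 5 [[0],[1]] L197
noncomputable def L199 : Lev := Lev.cons 2 6 [[2],[3]] L198
theorem lc200 : Lev.chk 6 0 x194s vT 100 L199 = true := by decide +kernel
theorem lb201 : 360 ≤ Nat.card (cl gA (lw [0,1,2,3,4,5])) := le_of_eq_of_le (by decide +kernel) (der195.card_ge lc200)
theorem rl202 : ∀ r ∈ [[2,5,0,4,3,1,2,5,0,4,3,1]], wp gA r = 1 := rels_of_eqv heqA (by decide +kernel)
theorem ug203 : UGen (3 ^ (1 + 1)) gA io [] E140 [0,1,2,3,4,5] [[2,5,0,4,3,1,2,5,0,4,3,1]] := (UGen.base (us := [[2,5,0,4,3,1,2,5,0,4,3,1]]) bd111 imp180 lb201 rl202)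
theorem pm3 : PM GA 3 1 1 := PM.of ex178 ug203 rl202 (pfs := [[([],9)]]) (by decide +kernel) (coprime_index (n := 1) (B := 360) (cardA.trans (by norm_num)) lb201 (bd111 _ _ satA).2 (by norm_num) (by norm_num))
noncomputable def E204 : List (List ℕ) := []
noncomputable def E205 : List (List ℕ) := [0,0,0,0,0] :: E204
noncomputable def E206 : List (List ℕ) := [2,0,2,0,2,0] :: E205
noncomputable def E207 : List (List ℕ) := [4,2,4,2,4,2] :: E206
noncomputable def t208v0 : ℕ := (nat_lit 0x6400006400010000640000560005000056000064000600005600006400040000980000570000000063000057000600004b0000710005000047000053000600002d0000450000000068000045000200006f0000980003000063000098000500009800003b00030000780000640003000064000078000400003300002b000300003300002b000000002b000074000000003300006500030000760000610003000061000076000600008a000067000300008a0000450001000079000047000300004500008a000100004b00008a000100008a00003b0002000067000061000000006a0000610000000043000043000200007600006f000600002700001e000500002700001e0000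00001e00005c000000002700004e0002000040000043000400004300004a000400004a000043000400006c00007c000500004a00007c000100007c000037000400007900003b000400003b000079000200007900003400010000780000340005000033000076000500007600003300030000330000740003000074000033000200007100007200020000720000330001000071000031000500003000006f000500006f000030000600004000006c000500004000006c000200006c000030000200006700006a000200006a00002e000500002d000068000500006800002d000100006700002d000300002b000065000300006500002b000200006400002b000100006300002b00050000290000610005000061000029000400005e00002d000400002d00005e000200005e000029000500002700005c000500005c000027000500005800003700020000490000580005000037000058000300005800002500020000570000250001000056000025000400005300003c000400003c000053000200005300001f000000001f00001f000300002e000050000100005000001f000500001e00004e000500004e00001e000100003c00004b000300001e00004b000300004b00001e000200004a000019000500004900001800030000180000470003000047000018000200003d0000450002000045000018000500001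70000430005000043000017000100004000002900030000170000400003000040000017000300003d000027000300002700003d000100003d000017000200003c000015000100003b00001500000000370000370002000030000037000300001300003700030000370000130005000031000034000300001100003400030000340000110002000033000011000300001500003100010000310000110003000030000010000500001000002e000200002e00000e000100002d00000e000500000d00002b000500002b00000d000300000d000029000300002900000d000200001e000027000200002700000d000500000c000025000500002500000c0000000013000013000000001f00001f000500001f000013000500001300001f000300000c00001f000300001f00000c000100001e00000c000000000e00000e000500001900000e000500000e000019000300000a000019000300001900000a000200001800000a000100001700000a0005000007000015000500001500000700020000100000130002000013000007000500000600001100050000110000060001000010000006000300000400000e000300000e000004000200000d000004000100000c000004000500000200000a000500000a0000020004000007000006000400000600000700020000070000020001000006000002000500000000000400050000040000000003000000000002000300000200000000010000000000000000000000000000)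
noncomputable def t208 : Tr := (Tr.leaf t208v0)
noncomputable def tt209v0 : ℕ := (nat_lit 0x1000000000000000000003000000001000000000000000000000000000000000000000000000000000000000000000000000000000000001002000000000000000003001000000000000000000001000000000000000000000000001000000003000001000000000000000000001000000000000000000000000000000000000000000000003000000000000001000000000000000000000000000000000000000000000000001000001000000000000000000000000000000000000000000000000000000000000001000000000000000000000000000000000000000000000001000000000000000000000000000000000000000000000000000000000000000000000000000001000000000000000000000000000000003000001000000003000001003000000000001000001000000000000001000003000000001000003000000000000000000001000000000000000000000000000000000000000000000000000000001000001000000000000002000001000000000000003000003000000000000000000001000000000000000000000000000000000000000000000000000000000000000000000000000001000000000000000000000000000000000000000000000000000000000000000000000000000000000001000000000000000000000000000000000000000000000000000000000000000000001000000000000000000000000000000000000000000000000000000000000000000000000000001000000000000000000000000000000000000000000000002000000000000000000001000000000000000000000000000000000000000000000000000000001000000000000000000000000000000000000000000000001000000000000000000000000000000000000000000000000000000000000000)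
noncomputable def tt209v1 : ℕ := (nat_lit 0x1001002003002000000000000000000002000000000003000003001000000000000000000000000001000000000000001000003000000000000002000000000000000000000000000000000000000000000000000000001000000000000000000000000000000000000000000000001000000000000000000000000000000000000000000000000000000000000000000000000000000000000000000000000001000000000000000000000000000000000003002003000001000000000001000001003000000000000000000000000000000000000000000000000000000000000000000000000000001000000000000000000000000000000000000000000000000000000000000000000001000000000000000000000000000000000000000000000000000000000000000000000000000001000000000000000000000000000000000000000000000002000000000000000000001000000000000000000000000000000000001000000000000000000000000000000001000000001000003000000000002000000000000003000000000000001000000000000000000000000000000000000000000000000000000000000000000000000001000000002000000000003000000001000000000000000000000000002003000000000002000000000000000000003000000000000000000000000000000000001000000000000000000000000000000000000003000000000000000000000000000001000000000000000000000000000000000000000000000000000000000000000000000000000000000001000000000000000000000000000000000000000000000000000000000000000000000000000001000000000000000000000000000000000000001000000002000000000000000000001000000000000000000000)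
noncomputable def tt209v2 : ℕ := (nat_lit 0x1003002001003002003000001001002001000003000000002002002000003000000001003001000003000002001001003002003000002001003003002000000001000003003000002000002003003001003002000002001002003001000000002001002003001000003003000002003003002000000000002000000001000000000000000000000000001000002002002003000003000002002002002000001000002002002001000001000002002002002000003000002002002003000001000002002002002000001000002003002000000003000002001002001000000000003001003002000000000001000000003000001000002000001001000000000003000000002000000000001000000000000000000000000000000000000000000002003002000000000000002003002002000001003000001002001000002001002001001000000003000002001002000000003000003001002000000001000002003002000000003000003001002000000001001002003000000000003003002001001)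
noncomputable def tt209 : Tr := (Tr.node (Tr.node (Tr.leaf tt209v0) (Tr.leaf tt209v2)) (Tr.leaf tt209v1))
noncomputable def t208T : List (List ℕ) := [[2,2],[3,1,1,3,0,0,3,0,2,1,1,2,0,0,2,0],[4,4],[5,1,2,4,1,1,3,1,1],[4,1,2,5,1,1,3,1,1],[4,1,3,5,1,1,3,1,1],[4,1,5,0,4,1,5,0,4,1,5,0]]
noncomputable def t208R : List (List ℕ × ℕ) := [([2,2],1),([4,4],16777216),([3,3],3),([1,1,1,1,1],0),([4,2,4,2,4,2],0),([3,1,3,1,3,1],0),([4,2,1,5,1,1,3,1,1],68719476736),([2,1,5,1,1,3,1,1,4],68719476736),([5,4],0),([3,2],0),([4,0,0,2,0,0,5,0,3],844424930131968),([4,1,1,3,1,1,5,2,1],281474976710656),([1,3,1,3,1,3],0),([2,0,0,4,0,3,5,0,0],206158430208),([2,0,2,0,2,0],0),([5,1,1,3,1,1,4,2,1],68719476736),([1,5,0,4,1,5,0,4,1,5,0,4],14167099448608935641088),([0,0,2,0,0,5,0,3,4],844424930131968),([5,0,3,4,0,0,2,0,0],844424930131968),([4,0,0,2,0,0,5,0,2],3458764513820540928),([2,4,0,0,2,0,0,5,0],3458764513820540928),([1,3,0,0,3,1,1,3,1,2,0,0,2,1,1,2],12288),([0,2,0,2,0,2],0),([0,0,4,0,3,5,0,0,2],206158430208),([0,2,4,0,0,2,0,0,5],3458764513820540928),([1,5,1,1,3,1,1,4,2],68719476736),([4,0,3,5,0,0,2,0,0],206158430208),([3,0,0,3,1,1,3,0,2,0,0,2,1,1,2,0],4096),([3,5,3,5,3,5],0),([4,5],0),([1,4,0,5,1,4,0,5,1,4,0,5],4722366482869645213696),([1,0],0),([0,0,0,0,0],0),([0,2,0,0,2,1,1,2,0,3,0,0,3,1,1,3],4096),([2,3],0),([1,3,1,1,5,2,1,4,1],281474976710656),([4,0,5,1,4,0,5,1,4,0,5,1],4722366482869645213696),([],0)]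
theorem t208Rok : TRot.{u} (2 ^ (1 + 1)) 7 io E207 t208T t208R := TRot.of (cs := [(1,0,[],[]),(1,2,[],[]),(2,0,[],[]),(0,0,[],[([],4)]),(0,0,[],[([5],1)]),(0,0,[],[([],2)]),(1,3,[5,3,0,4],[]),(1,3,[3,0,4],[]),(0,0,[],[]),(0,0,[],[]),(2,4,[3,0,5],[]),(1,4,[5],[]),(0,0,[],[([0],2)]),(2,3,[3,1,1],[]),(0,0,[],[([3],3)]),(1,3,[4],[]),(2,6,[0],[]),(2,4,[4,3,0,5],[]),(2,4,[],[]),(2,5,[2,0,5],[]),(2,5,[0,5],[]),(2,1,[2,1,1,2,0,0,2],[]),(0,0,[],[([],3)]),(2,3,[1,1],[]),(2,5,[5],[]),(1,3,[0,4],[]),(2,3,[],[]),(1,1,[2,1,1,2,0,0,2],[]),(0,0,[],[([2],0)]),(0,0,[],[]),(1,6,[0,5],[]),(0,0,[],[]),(0,0,[],[([],5)]),(1,1,[],[]),(0,0,[],[]),(1,4,[1],[]),(1,6,[5],[]),(0,0,[],[])]) (by decide +kernel)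
noncomputable def dg210p : List (List ℕ) := [[38],[0],[],[1,4],[],[2,8],[],[],[6,13,5,3,7,14],[3,16],[],[2,20],[],[],[],[1,28],[],[],[2,34],[],[4,33,13,14,38],[],[2,42],[],[],[],[1,50],[5,30,10,4,20,50],[2,54],[5,56,52,22,6,8,28],[],[],[1,62],[20,39,15,6,2,2,11,24,62],[2,66],[11,66,39,15,6,2,2,11,24,65],[7,68,64,25,9,3,3,7,14,38],[],[2,74],[],[4,61,25,26,78],[],[1,82],[],[2,86],[],[],[12,33,13,5,3,3,11,28,92],[],[],[21,44,15,12,17,15,12,37,98],[],[],[1,104],[5,100,44,19,34,104],[],[1,110],[22,97,41,39,16,13,14,16,13,6,2,2,4,14,38,110],[13,114,97,33,18,38,113],[],[],[],[14,79,27,10,2,7,23,46,122],[1,124],[],[1,128],[23,130,122,124,79,82],[],[2,134],[],[4,123,47,48,138],[],[1,142],[],[],[],[1,150],[24,121,44,15,5,11,24,60,150],[],[2,156],[],[15,93,30,24,62,160],[25,160,162,94,41,39,19,32,41,67],[],[6,155,151,61,65,166],[3,168],[],[],[],[5,112,68,64,74,176],[26,147,138,140,127,80,61,74,176],[2,178],[],[2,184],[],[6,91,29,26,85,188],[3,190],[],[2,194],[],[],[],[1,202],[],[],[2,208],[],[4,207,91,92,212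],[],[7,130,47,21,14,38,113,114,216],[16,133,188,190,91,92,94,96,216],[],[2,222],[],[],[4,227,99,102,228],[],[1,232],[],[2,236],[],[],[6,119,101,99,107,242],[3,244],[],[27,149,51,21,12,32,96,115,248],[28,217,115,111,40,33,18,15,6,2,2,4,14,38,110,248],[29,251,252,220,129,137],[3,254],[13,129,47,53,148,256],[8,126,123,137,258,133,83,78,80,156],[9,159,260,184],[30,187,262],[9,184,262],[31,238,103,35,13,20,46,137,258,221,217,225],[17,258,219,217,222,268,237,103,36,13,23,46,134],[18,213,93,30,24,60,266,79,85,194],[32,215,273],[],[33,154,121,118,276],[14,139,49,22,12,18,45,118,276],[34,247,276,278,152,61,25,28,90,192,189,132,129,47,48,145],[1,280],[19,278,151,264,79,27,28,90,206],[8,274,286,277,119,101,99,102,236],[1,288],[5,236,288,196,84,86,202],[10,205,292,232],[35,235,294],[10,232,294],[15,201,296,103,104,240],[1,300],[],[8,199,87,78,80,153,279,277,304],[17,223,115,182,180,147,49,22,14,45,118,304],[11,210,206,275,290,269,309,305,276,285],[9,208,311],[7,144,138,312,91,92,163,161,166],[19,154,170,314,282,243,106,98,226],[36,199,298,228,230,316,152,61,74,174],[10,306,319],[16,173,174,320,308,268,238,299,200],[12,173,174,320,308,268,237,299,200],[18,201,296,103,98,109,240,303,324],[37,324,326,322,173,76,60,266,80,264,79,89,200]]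
theorem dg210 : TD.{u} (2 ^ (1 + 1)) 7 io E207 t208T [0,1] t208 (tt209.getW 84) 165 := TD.steps (i := 0) TD.zero t208Rok (prs := dg210p) (by decide +kernel)
noncomputable def E211 : List (List ℕ) := [[2,2,4,1,5,0,4,1,5,0,4,1,5,0],[3,1,1,3,0,0,3,0,2,1,1,2,0,0,2,0],[4,4,4,1,5,0,4,1,5,0,4,1,5,0],[5,1,2,4,1,1,3,1,1],[4,1,2,5,1,1,3,1,1],[4,1,3,5,1,1,3,1,1,4,1,5,0,4,1,5,0,4,1,5,0],[4,1,5,0,4,1,5,0,4,1,5,0,4,1,5,0,4,1,5,0,4,1,5,0]]
theorem ck212 : lall2 (fun r o => band (outChk t208 (tt209.getW 84) (2 ^ (1 + 1)) 7 165 o) (eqnChk io [] r (sel t208T o.1) [])) E211 [([0,6],[29,36,36,36,58,58,82,82,164]),([1],[29,29,35,36,36,36,135,164,164]),([2,6],[35,36,36,58,82,82,135,164,164,164]),([3],[35,35,35,36,82]),([4],[35,35,82]),([5,6],[29,29,29,36,36,58,82,82,82,135,164,164,164]),([6,6],[35,36,58,58,58,135])] = true := by decide +kernel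
noncomputable def E213 : List (List ℕ) := lapp E211 E207
theorem imp214 : Imp.{u} io E207 C5 := Imp.of_chk (pfs := [[([],5)]]) (by decide +kernel)
theorem ex215 : Ex (2 ^ (1 + 1)) gA io [] E204 := Ex.start s0A (by decide +kernel) hgeA
theorem ex216 : Ex (2 ^ (1 + 1)) gA io [] E205 := ex215.norm (ol := [3,1,0,0,0,0]) (rl144 _ (List.mem_singleton_self _)) (by decide +kernel)
theorem rl218 : ∀ r ∈ [[2,0,2,0,2,0]], wp gA r = 1 := rels_of_eqv heqA (by decide +kernel)
theorem ex217 : Ex (2 ^ (1 + 1)) gA io [] E206 := ex216.norm (ol := [0,0,1,3,0,0]) (rl218 _ (List.mem_singleton_self _)) (by decide +kernel)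
theorem rl220 : ∀ r ∈ [[4,2,4,2,4,2]], wp gA r = 1 := rels_of_eqv heqA (by decide +kernel)
theorem ex219 : Ex (2 ^ (1 + 1)) gA io [] E207 := ex217.norm (ol := [0,0,0,0,1,3]) (rl220 _ (List.mem_singleton_self _)) (by decide +kernel)
theorem rl222 : ∀ r ∈ t208T, wp gA r = 1 := rels_of_eqv heqA (by decide +kernel)
theorem ui221 : UImp (2 ^ (1 + 1)) gA io [] E207 E211 := dg210.uimp (UGen.base (us := []) bd41 imp214 lb155 (by simp)) rl222 ck212
theorem ex223 : Ex (2 ^ (1 + 1)) gA io [] E213 := ex219.step (UImp.add (UImp.of_imp Imp.refl) ui221)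
noncomputable def E224 : List (List ℕ) := lapp [[4,1,5,0,4,1,5,0,4,1,5,0]] E213
theorem imp225 : Imp.{u} io E224 C85 := Imp.of_chk (pfs := [[([],21)],[([],0),([],3)],[([],19)],[([],5)],[([],0),([],7)],[([],17)],[([],9)],[([],11)],[([],0),([],13)]]) (by decide +kernel)
theorem rl226 : ∀ r ∈ [[4,1,5,0,4,1,5,0,4,1,5,0]], wp gA r = 1 := rels_of_eqv heqA (by decide +kernel)
theorem ug227 : UGen (2 ^ (1 + 1)) gA io [] E213 [0,1,2,3,4,5] [[4,1,5,0,4,1,5,0,4,1,5,0]] := (UGen.base (us := [[4,1,5,0,4,1,5,0,4,1,5,0]]) bd111 imp225 lb201 rl226)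
theorem pm2 : PM GA 2 1 1 := PM.of ex223 ug227 rl226 (pfs := [[([],13)]]) (by decide +kernel) (coprime_index (n := 1) (B := 360) (cardA.trans (by norm_num)) lb201 (bd111 _ _ satA).2 (by norm_num) (by norm_num))
noncomputable def m228n0 : Net := (Net.cons (nat_lit 96) (nat_lit 0xc29500edd672b04856e41380)
  (Net.cons (nat_lit 48) (nat_lit 0x4716a48ba06a000000000000fdecaf44d080)
  (Net.cons (nat_lit 24) (nat_lit 0xc6be18000000a3fcfb000000c542fb000000348510)
  (Net.cons (nat_lit 12) (nat_lit 0x300000b76000aca0008c2000e80000735000d92000920)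
  (Net.cons (nat_lit 6) (nat_lit 0x901801902402502801d00b00203400401400c014010008)
  (Net.cons (nat_lit 3) (nat_lit 0x71041850c00031821031c60841830060030870c6080144)
  (Net.cons (nat_lit 1) (nat_lit 0x1000201000001008000000200000008040200040200208)
  (Net.cons (nat_lit 1) (nat_lit 0x402090412090402410002090410080412480482090402490)
  (Net.cons (nat_lit 1) (nat_lit 0x9200001240001001001241000209001041201008240240)
  (Net.cons (nat_lit 3) (nat_lit 0x104184186000104100000004004080104000084002004106)
  (Net.cons (nat_lit 6) (nat_lit 0x8014014010030014006018034028036024018010006)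
  (Net.cons (nat_lit 12) (nat_lit 0x320000db2000b68000dc0000e80000f3a000e14000260)
  (Net.cons (nat_lit 24) (nat_lit 0x23c180000004980b0000000c0ca5c000000068c08)
  (Net.cons (nat_lit 48) (nat_lit 0x4503a461e820000000000000d9c6f346b000)
  (Net.cons (nat_lit 96) (nat_lit 0xc29500ee795cd9b069a80508)
  Net.nil)))))))))))))))
noncomputable def m228n1 : Net := (Net.cons (nat_lit 96) (nat_lit 0xc29500ee795cd9b069a80508)
  (Net.cons (nat_lit 48) (nat_lit 0x4503a461e824000000000000d9c6f346b000)
  (Net.cons (nat_lit 24) (nat_lit 0x473d3c000000a66e4f000000063583000000baa004)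
  (Net.cons (nat_lit 12) (nat_lit 0x320000db2000dc0000ae8000f30000e800002e6000aa0)
  (Net.cons (nat_lit 6) (nat_lit 0x1100802901402b039039030020034026034014000012008)
  (Net.cons (nat_lit 3) (nat_lit 0x801840461c01c41070c61010870c01001030c3142084146)
  (Net.cons (nat_lit 1) (nat_lit 0x40000200200200008200000008200000000048240200008)
  (Net.cons (nat_lit 1) (nat_lit 0x90090490410400410480410092480410400490490402410)
  (Net.cons (nat_lit 1) (nat_lit 0x8200208040000041200009208041008009240208000200)
  (Net.cons (nat_lit 3) (nat_lit 0x182104086100100180100100182102102000102004000104)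
  (Net.cons (nat_lit 6) (nat_lit 0x2801802202402203402802800601c03c034014000010014)
  (Net.cons (nat_lit 12) (nat_lit 0x300000b760008c2000e4a0005b4000e8000094c000934)
  (Net.cons (nat_lit 24) (nat_lit 0x2a81800000004030400000002b50000000080c0c0)
  (Net.cons (nat_lit 48) (nat_lit 0x4712a48ba06a000000000000fdecaf44d080)
  (Net.cons (nat_lit 96) (nat_lit 0xc29500edd672b04856e41380)
  Net.nil)))))))))))))))
noncomputable def m228n2 : Net := (Net.cons (nat_lit 96) (nat_lit 0x753f840008e0fdb9df6b1e84)
  (Net.cons (nat_lit 48) (nat_lit 0xcedee24a788200000000000023adb2cf4bdc)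
  (Net.cons (nat_lit 24) (nat_lit 0x21baf000000011b1bd000000032c730000004e0079)
  (Net.cons (nat_lit 12) (nat_lit 0xd56000ac6000144000826000244000a9d000a88000ca8)
  (Net.cons (nat_lit 6) (nat_lit 0x2401002102400402802b01d02001803c01f034014033034)
  (Net.cons (nat_lit 3) (nat_lit 0x1801001001800000410051411060031060c1145000081141)
  (Net.cons (nat_lit 1) (nat_lit 0x40000041200000200001008040000048008240008048201)
  (Net.cons (nat_lit 1) (nat_lit 0x90492082482002490092492082090492410490490492492)
  (Net.cons (nat_lit 1) (nat_lit 0x41040248200208040049040048200241040240009200040)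
  (Net.cons (nat_lit 3) (nat_lit 0x100080104180000180000080106104004102004000100084)
  (Net.cons (nat_lit 6) (nat_lit 0x1000002400002802a00002003e01001a03401400800c)
  (Net.cons (nat_lit 12) (nat_lit 0x516000c400001440001260002c4000072000a88000b80)
  (Net.cons (nat_lit 24) (nat_lit 0x228f10000000209024000000080400000000040240)
  (Net.cons (nat_lit 48) (nat_lit 0xefef624951d400000000000021ade33f5856)
  (Net.cons (nat_lit 96) (nat_lit 0x753f84014440fab71f9d7f40)
  Net.nil)))))))))))))))
noncomputable def m228n3 : Net := (Net.cons (nat_lit 96) (nat_lit 0x753f84014440fab71f9d7f40)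
  (Net.cons (nat_lit 48) (nat_lit 0xefef624951d400000000000021ade33f5856)
  (Net.cons (nat_lit 24) (nat_lit 0x628f1000000024be24000000f6d3ee000000f3fd8e)
  (Net.cons (nat_lit 12) (nat_lit 0x516000cc0000144000116000f8d0002c4000b94000a88)
  (Net.cons (nat_lit 6) (nat_lit 0x403002002400002802503b02503102003e02c00e034014)
  (Net.cons (nat_lit 3) (nat_lit 0x1800801041800000411401c1143044106103105141145000)
  (Net.cons (nat_lit 1) (nat_lit 0x40040040200000200241008000241040000200200240008)
  (Net.cons (nat_lit 1) (nat_lit 0x90492082482002490492412082492082082492492490490)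
  (Net.cons (nat_lit 1) (nat_lit 0x41000249200208040240040048048048200041048240009)
  (Net.cons (nat_lit 3) (nat_lit 0x100100100180000180000180184006106004082082004000)
  (Net.cons (nat_lit 6) (nat_lit 0x2000002002400402800402002000c020018030030034014)
  (Net.cons (nat_lit 12) (nat_lit 0xd56000a46000144000846000562000244000428000a88)
  (Net.cons (nat_lit 24) (nat_lit 0x21bad000000001b0a40000005c1384000000317f80)
  (Net.cons (nat_lit 48) (nat_lit 0xcedee24a788200000000000023adb2cf4bdc)
  (Net.cons (nat_lit 96) (nat_lit 0x753f840008e0fdb9df6b1e84)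
  Net.nil)))))))))))))))
noncomputable def m228n4 : Net := (Net.cons (nat_lit 96) (nat_lit 0x42e922f0ecd416e61b41e902)
  (Net.cons (nat_lit 48) (nat_lit 0xd54292bd596d0000000000003cfe7d28c073)
  (Net.cons (nat_lit 24) (nat_lit 0x947ea8000000f16bf60000009af18c00000068227b)
  (Net.cons (nat_lit 12) (nat_lit 0x9c00007040007a0000d40000958000dfc0008800008d0)
  (Net.cons (nat_lit 6) (nat_lit 0x2801003803403200300300001501800002b02201b02002a)
  (Net.cons (nat_lit 3) (nat_lit 0x1821061461801841831010000840011861c3180141082002)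
  (Net.cons (nat_lit 1) (nat_lit 0x201040200041000040001000001000001200000001000009)
  (Net.cons (nat_lit 1) (nat_lit 0x402482480082080482082002002010082410480482080092)
  (Net.cons (nat_lit 1) (nat_lit 0x201048208000201041041001040040200008001049201209)
  (Net.cons (nat_lit 3) (nat_lit 0x100106082102180080100004004080180184002086082000)
  (Net.cons (nat_lit 6) (nat_lit 0x801001800203202402600003001800002c02202200002a)
  (Net.cons (nat_lit 12) (nat_lit 0x9c0000660000398000940000980000da2000850000890)
  (Net.cons (nat_lit 24) (nat_lit 0x4170a00000093139000000096136c0000002220a0)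
  (Net.cons (nat_lit 48) (nat_lit 0xd523b08eb11a000000000000b0ecf92ac0a2)
  (Net.cons (nat_lit 96) (nat_lit 0x42e922f0dce4b81e734aa120)
  Net.nil)))))))))))))))
noncomputable def m228n5 : Net := (Net.cons (nat_lit 96) (nat_lit 0x9e508e5daf5223f3f49a542)
  (Net.cons (nat_lit 48) (nat_lit 0x669fe4af7e85000000000000bc57a70f0d0a)
  (Net.cons (nat_lit 24) (nat_lit 0xe7a524000000457fd90000004b32cb000000b59074)
  (Net.cons (nat_lit 12) (nat_lit 0xad00002bc0001400001000009d0000dc200021a0009d8)
  (Net.cons (nat_lit 6) (nat_lit 0x2801001203c03800d004010024010022008000000010012)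
  (Net.cons (nat_lit 3) (nat_lit 0xc21840c40c01841c31041010021820000010821800c2000)
  (Net.cons (nat_lit 1) (nat_lit 0x1040001001200000008008000040000000200041200201)
  (Net.cons (nat_lit 1) (nat_lit 0x2080002002400082012412000482080090490092412492)
  (Net.cons (nat_lit 1) (nat_lit 0x9048240000201048008001041049001000201241041201)
  (Net.cons (nat_lit 3) (nat_lit 0x2100002000100100006104000104000000082182002082)
  (Net.cons (nat_lit 6) (nat_lit 0x801001201803a006004010000010002008000000004000)
  (Net.cons (nat_lit 12) (nat_lit 0xad00006b80005800001000009c0000982000230000c90)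
  (Net.cons (nat_lit 24) (nat_lit 0x801104000000441ec00000004527ca000000061000)
  (Net.cons (nat_lit 48) (nat_lit 0x669be4cb7a04000000000000b847b70e0c08)
  (Net.cons (nat_lit 96) (nat_lit 0x9e508e6e6f61f0a0a4de128)
  Net.nil)))))))))))))))
noncomputable def m228l : List Net := [m228n0,m228n1,m228n2,m228n3,m228n4,m228n5]
noncomputable abbrev m228 : ℕ → Net := lk Net.nil m228l
theorem m228ok : NetsOk 162 m228 vT := netsOk_of (by decide +kernel)
theorem m228s0 : Sat io [] (finG m228ok) := fin_sat_nil _ (k := 8) (n := 6) (by decide +kernel)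
noncomputable def us229 : List (List ℕ) := [[4,1,5,0,4,1,5,0,4,1,5,0],[2,5,0,4,3,1,2,5,0,4,3,1]]
theorem der230 : Der 162 (finX 162) (cl (finG m228ok) us229) (fun _ => Net.nil) := Der.zero (finModel m228ok).inj
noncomputable def x231 : Net := (Net.cons (nat_lit 96) (nat_lit 0xffffff000000)
  (Net.cons (nat_lit 48) (nat_lit 0xffffffffffff)
  (Net.cons (nat_lit 24) (nat_lit 0xffffff000000ffffff000000ffffff)
  (Net.cons (nat_lit 96) (nat_lit 0xffffff000000)
  Net.nil))))
noncomputable def ns232 : ℕ → Net := upd (fun _ => Net.nil) 0 x231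
theorem der233 : Der 162 (finX 162) (cl (finG m228ok) us229) ns232 := der230.add (wp_mem_cl (w := [4,1,5,0,4,1,5,0,4,1,5,0]) (by decide)) ((finModel m228ok).toIsPre.rep_word (k := 8) (w := [4,1,5,0,4,1,5,0,4,1,5,0]) (n := x231) (by decide +kernel)) 0
noncomputable def x234 : Net := (Net.cons (nat_lit 96) (nat_lit 0xffffff000000)
  (Net.cons (nat_lit 48) (nat_lit 0xffffffffffff)
  (Net.cons (nat_lit 24) (nat_lit 0xffffff000000ffffff000000ffffff)
  (Net.cons (nat_lit 12) (nat_lit 0xfff000000000000000000000000000000000000)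
  (Net.cons (nat_lit 6) (nat_lit 0x3f000000000000000000000000000000000000000)
  (Net.cons (nat_lit 12) (nat_lit 0xfc0000000000000000000000000000000000000)
  (Net.cons (nat_lit 96) (nat_lit 0xffffff000000)
  Net.nil)))))))
noncomputable def ns235 : ℕ → Net := upd ns232 1 x234
theorem der236 : Der 162 (finX 162) (cl (finG m228ok) us229) ns235 := der233.add (wp_mem_cl (w := [2,5,0,4,3,1,2,5,0,4,3,1]) (by decide)) ((finModel m228ok).toIsPre.rep_word (k := 8) (w := [2,5,0,4,3,1,2,5,0,4,3,1]) (n := x234) (by decide +kernel)) 1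
noncomputable def L237 : Lev := Lev.cons 0 2 [[0]] Lev.nil
noncomputable def L238 : Lev := Lev.cons 144 3 [[1]] L237
theorem lc239 : Lev.chk 162 5 ns235 vT 100 L238 = true := by decide +kernel
theorem lb240 : 6 ≤ Nat.card (cl (finG m228ok) us229) := le_of_eq_of_le (by decide +kernel) (der236.card_ge lc239)
theorem cv241 : ∀ r ∈ C85, wp (finG m228ok) r ∈ cl (finG m228ok) us229 := (mem_cl_of_eqv (eqv_of_faith (finModel m228ok) (faith_fin 162) 8) (sl := [[],[0],[],[],[0],[],[1,1],[1,1],[0,1,1]]) (by decide +kernel))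
theorem rl242 : ∀ r ∈ us229, wp gA r = 1 := rels_of_eqv heqA (by decide +kernel)
theorem cov : HasCov GA 6 := HasCov.of satA m228s0 bd111 (le_of_eq_of_le (by norm_num) cardA.ge) (top_of_card cardA lb201) (cs := [([4],[1],3),([2,5],[0],2)]) (us := us229) (by decide +kernel) (by decide +kernel) rl242 (comm_of_eqv' (eqv_of_faith (finModel m228ok) (faith_fin 162) 8) (by decide +kernel)) cv241 lb240
theorem schur : HasCyclicSchurMultiplier GA 6 := hasCyc_of (a := 1) (b := 1) (pm2.mono (by norm_num)) (pm3.mono (by norm_num)) (PM.ge5 cardA (fl := [2,2,2,3,3,5]) (l := []) (by simp) (by decide +kernel)) cov (by norm_num)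

end Cfsg.Agent.H6.Al6
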