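import Cfsg.Agent.H6.CeA
import Cfsg.Agent.S0242
set_option maxRecDepth 100000
set_option Elab.async false
namespace Cfsg.Agent.H6.Sl9
open Cfsg.Agent.H6
universe u

noncomputable def il : List ℕ := [1,0,3,2,5,4]
noncomputable abbrev io : ℕ → ℕ := iota il
noncomputable def C1 : List (List ℕ) := []
noncomputable def m2n0 : Net := (Net.cons (nat_lit 48) (nat_lit 0x96c4f0d14554)
  (Net.cons (nat_lit 24) (nat_lit 0x6b712d0000002126da)
  (Net.cons (nat_lit 12) (nat_lit 0xd17000b0e000a92000258)
  (Net.cons (nat_lit 6) (nat_lit 0x1701f00c00902803503202c)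
  (Net.cons (nat_lit 3) (nat_lit 0x1061c4142046005143140006)
  (Net.cons (nat_lit 1) (nat_lit 0x8200200201000000041048)
  (Net.cons (nat_lit 1) (nat_lit 0x410490410482002080492090)
  (Net.cons (nat_lit 1) (nat_lit 0x8241208040009201201000)
  (Net.cons (nat_lit 3) (nat_lit 0x100104006182004100104106)
  (Net.cons (nat_lit 6) (nat_lit 0xc02c02401802a02800a00c)
  (Net.cons (nat_lit 12) (nat_lit 0xc4c000346000c10000310)
  (Net.cons (nat_lit 24) (nat_lit 0x7bb4440000006804e4)
  (Net.cons (nat_lit 48) (nat_lit 0x96c57d906304)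
  Net.nil)))))))))))))
noncomputable def m2n1 : Net := (Net.cons (nat_lit 48) (nat_lit 0xd6c5ff906704)
  (Net.cons (nat_lit 24) (nat_lit 0x6467b6000000d7ff9c)
  (Net.cons (nat_lit 12) (nat_lit 0xd620000890005df000810)
  (Net.cons (nat_lit 6) (nat_lit 0x403500300b01701a02a026)
  (Net.cons (nat_lit 3) (nat_lit 0x46102182180046102006142)
  (Net.cons (nat_lit 1) (nat_lit 0x48201001200000201001000)
  (Net.cons (nat_lit 1) (nat_lit 0x90482012490412482002080)
  (Net.cons (nat_lit 1) (nat_lit 0x40041049000241240008008)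
  (Net.cons (nat_lit 3) (nat_lit 0x2100084104000102004000)
  (Net.cons (nat_lit 6) (nat_lit 0x801c03202c002032028020)
  (Net.cons (nat_lit 12) (nat_lit 0xb4a0005540007f6000a92)
  (Net.cons (nat_lit 24) (nat_lit 0xb4a362000000dedc04)
  (Net.cons (nat_lit 48) (nat_lit 0xd6c4b0d14558)
  Net.nil)))))))))))))
noncomputable def m2n2 : Net := (Net.cons (nat_lit 48) (nat_lit 0x26df3019f93e)
  (Net.cons (nat_lit 24) (nat_lit 0x181409000000169a12)
  (Net.cons (nat_lit 12) (nat_lit 0x959000b2e000fb9000e1a)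
  (Net.cons (nat_lit 6) (nat_lit 0xd02103302a000026012012)
  (Net.cons (nat_lit 3) (nat_lit 0xc10c3041081040181100046)
  (Net.cons (nat_lit 1) (nat_lit 0x240201049000000040000040)
  (Net.cons (nat_lit 1) (nat_lit 0x480482092410080490402082)
  (Net.cons (nat_lit 1) (nat_lit 0x48249009201001008008240)
  (Net.cons (nat_lit 3) (nat_lit 0x80102180004000002100104)
  (Net.cons (nat_lit 6) (nat_lit 0x2002400a01a008014010004)
  (Net.cons (nat_lit 12) (nat_lit 0xab0000b500007d8000a18)
  (Net.cons (nat_lit 24) (nat_lit 0x384740000000c79ae6)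
  (Net.cons (nat_lit 48) (nat_lit 0x26de719c2850)
  Net.nil)))))))))))))
noncomputable def m2n3 : Net := (Net.cons (nat_lit 48) (nat_lit 0xc22b6689ffd6)
  (Net.cons (nat_lit 24) (nat_lit 0x7857730000001d6672)
  (Net.cons (nat_lit 12) (nat_lit 0xb2000012000294000374)
  (Net.cons (nat_lit 6) (nat_lit 0x3c02c02800400200e01603e)
  (Net.cons (nat_lit 3) (nat_lit 0x10c01440051830c1085146)
  (Net.cons (nat_lit 1) (nat_lit 0x1200040201000008048200)
  (Net.cons (nat_lit 1) (nat_lit 0x92400082492402010092402)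
  (Net.cons (nat_lit 1) (nat_lit 0x8041240241201000008248)
  (Net.cons (nat_lit 3) (nat_lit 0x106100104006182004086184)
  (Net.cons (nat_lit 6) (nat_lit 0xc00200800200c00001202c)
  (Net.cons (nat_lit 12) (nat_lit 0x930000038000058000b54)
  (Net.cons (nat_lit 24) (nat_lit 0xf855c40000000cf268)
  (Net.cons (nat_lit 48) (nat_lit 0xc22aedb16942)
  Net.nil)))))))))))))
noncomputable def m2n4 : Net := (Net.cons (nat_lit 48) (nat_lit 0x6a511b0565b4)
  (Net.cons (nat_lit 24) (nat_lit 0xdf3e1000000d92226)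
  (Net.cons (nat_lit 12) (nat_lit 0x2b300062f00068c000bce)
  (Net.cons (nat_lit 6) (nat_lit 0x2003800a01503801902800a)
  (Net.cons (nat_lit 3) (nat_lit 0x1010451020c4002140140000)
  (Net.cons (nat_lit 1) (nat_lit 0x8201041040000208200)
  (Net.cons (nat_lit 1) (nat_lit 0x82410412492092000410410)
  (Net.cons (nat_lit 1) (nat_lit 0x208008001041240041249248)
  (Net.cons (nat_lit 3) (nat_lit 0x100104102104080000000180)
  (Net.cons (nat_lit 6) (nat_lit 0x30030028030026008020002)
  (Net.cons (nat_lit 12) (nat_lit 0x6400022e000a8c0000e2)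
  (Net.cons (nat_lit 24) (nat_lit 0x2da2f0000000cc8030)
  (Net.cons (nat_lit 48) (nat_lit 0x6a504654bb94)
  Net.nil)))))))))))))
noncomputable def m2n5 : Net := (Net.cons (nat_lit 48) (nat_lit 0x6a504654bb94)
  (Net.cons (nat_lit 24) (nat_lit 0x51c2b6000000dbeeb4)
  (Net.cons (nat_lit 12) (nat_lit 0x12a000f2a000a1e00032a)
  (Net.cons (nat_lit 6) (nat_lit 0x3e00000801801a002028026)
  (Net.cons (nat_lit 3) (nat_lit 0x1051431c01821021831000c4)
  (Net.cons (nat_lit 1) (nat_lit 0x200200001001008000240048)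
  (Net.cons (nat_lit 1) (nat_lit 0x490402482092010000490092)
  (Net.cons (nat_lit 1) (nat_lit 0x201041008040048249240)
  (Net.cons (nat_lit 3) (nat_lit 0x104106080104000002000080)
  (Net.cons (nat_lit 6) (nat_lit 0x2400c028018022000028038)
  (Net.cons (nat_lit 12) (nat_lit 0x2a60007ec0002d0000262)
  (Net.cons (nat_lit 24) (nat_lit 0x5983ca0000004e463a)
  (Net.cons (nat_lit 48) (nat_lit 0x6a511b0565b4)
  Net.nil)))))))))))))
noncomputable def m2l : List Net := [m2n0,m2n1,m2n2,m2n3,m2n4,m2n5]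
noncomputable abbrev m2 : ℕ → Net := lk Net.nil m2l
theorem m2ok : NetsOk 81 m2 vT := netsOk_of (by decide +kernel)
theorem m2s0 : Sat io [] (finG m2ok) := fin_sat_nil _ (k := 7) (n := 6) (by decide +kernel)
noncomputable def m3n0 : Net := (Net.cons (nat_lit 1) (nat_lit 5)
  (Net.cons (nat_lit 1) (nat_lit 10)
  Net.nil))
noncomputable def m3n1 : Net := (Net.cons (nat_lit 1) (nat_lit 10)
  (Net.cons (nat_lit 1) (nat_lit 5)
  Net.nil))
noncomputable def m3l : List Net := [m3n0,m3n1]
noncomputable abbrev m3 : ℕ → Net := lk Net.nil m3l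
theorem m3ok : NetsOk 5 m3 vT := netsOk_of (by decide +kernel)
theorem m3s0 : Sat io [] (finG m3ok) := fin_sat_nil _ (k := 3) (n := 6) (by decide +kernel)
noncomputable def r0 : List ℕ := [0,0,0,0,0]
noncomputable def m4n0 : Net := (Net.cons (nat_lit 1) (nat_lit 5)
  (Net.cons (nat_lit 1) (nat_lit 10)
  Net.nil))
noncomputable def m4n1 : Net := (Net.cons (nat_lit 1) (nat_lit 10)
  (Net.cons (nat_lit 1) (nat_lit 5)
  Net.nil))
noncomputable def m4l : List Net := [m4n0,m4n1]
noncomputable abbrev m4 : ℕ → Net := lk Net.nil m4l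
theorem m4ok : NetsOk 5 m4 vT := netsOk_of (by decide +kernel)
theorem m4s0 : Sat io [] (finG m4ok) := fin_sat_nil _ (k := 3) (n := 6) (by decide +kernel)
noncomputable def C5 : List (List ℕ) := [r0]
theorem cl6 : Clo.{u} io C5 [] 5 m4 1 (mkB []) := Clo.start (by decide +kernel)
theorem imp7 : Imp.{u} io C5 C1 := Imp.of_chk (pfs := []) (by decide +kernel)
theorem ix8 : Idx.{u} io C5 [] [] 1 := (Idx.triv (Bound.nil) (by norm_num)).of_imp imp7
noncomputable def lk9 : List (List ℕ × List ℕ × Pf) := []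
noncomputable def O10 : ℕ := (nat_lit 2)
noncomputable def M11 : ℕ := (nat_lit 3)
noncomputable def b12 : ℕ := (nat_lit 1)
theorem cl13 : Clo.{u} io C5 [] 5 m4 M11 (mkB [(0,b12)]) := cl6.new (k := 0) (b := 0) (q := 0) (p := 1) (r := 200) (n := 1) (O := O10) (by decide +kernel) (lks := lk9) (by decide +kernel) (gens_of_lall2 (m := []) (by decide +kernel)) ix8 (by decide +kernel)
noncomputable def b14 : ℕ := (nat_lit 2)
theorem cl15 : Clo.{u} io C5 [] 5 m4 M11 (mkB [(0,b12),(1,b14)]) := cl13.ops (os := [Op.inv 0]) (by decide +kernel) (by decide +kernel)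
theorem ix16 : Idx.{u} io C5 [] [] 1 := (Idx.triv (Bound.nil) (by norm_num)).of_imp imp7
noncomputable def lk17 : List (List ℕ × List ℕ × Pf) := []
noncomputable def O18 : ℕ := (nat_lit 8)
noncomputable def M19 : ℕ := (nat_lit 11)
noncomputable def b20 : ℕ := (nat_lit 3)
theorem cl21 : Clo.{u} io C5 [] 5 m4 M19 (mkB [(0,b20),(1,b14)]) := cl15.new (k := 0) (b := 0) (q := 1) (p := 3) (r := 200) (n := 1) (O := O18) (by decide +kernel) (lks := lk17) (by decide +kernel) (gens_of_lall2 (m := []) (by decide +kernel)) ix16 (by decide +kernel)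
noncomputable def b22 : ℕ := (nat_lit 10)
theorem cl23 : Clo.{u} io C5 [] 5 m4 M19 (mkB [(0,b20),(1,b22)]) := cl21.ops (os := [Op.inv 0]) (by decide +kernel) (by decide +kernel)
theorem ix24 : Idx.{u} io C5 [] [] 1 := (Idx.triv (Bound.nil) (by norm_num)).of_imp imp7
noncomputable def lk25 : List (List ℕ × List ℕ × Pf) := []
noncomputable def O26 : ℕ := (nat_lit 16)
noncomputable def M27 : ℕ := (nat_lit 27)
noncomputable def b28 : ℕ := (nat_lit 11)
theorem cl29 : Clo.{u} io C5 [] 5 m4 M27 (mkB [(0,b28),(1,b22)]) := cl23.new (k := 0) (b := 0) (q := 3) (p := 4) (r := 200) (n := 1) (O := O26) (by decide +kernel) (lks := lk25) (by decide +kernel) (gens_of_lall2 (m := []) (by decide +kernel)) ix24 (by decide +kernel)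
noncomputable def b30 : ℕ := (nat_lit 26)
theorem cl31 : Clo.{u} io C5 [] 5 m4 M27 (mkB [(0,b28),(1,b30)]) := cl29.ops (os := [Op.inv 0]) (by decide +kernel) (by decide +kernel)
theorem ix32 : Idx.{u} io C5 [] [] 1 := (Idx.triv (Bound.nil) (by norm_num)).of_imp imp7
noncomputable def lk33 : List (List ℕ × List ℕ × Pf) := []
noncomputable def O34 : ℕ := (nat_lit 4)
noncomputable def M35 : ℕ := (nat_lit 31)
noncomputable def b36 : ℕ := (nat_lit 27)
theorem cl37 : Clo.{u} io C5 [] 5 m4 M35 (mkB [(0,b36),(1,b30)]) := cl31.new (k := 0) (b := 0) (q := 4) (p := 2) (r := 200) (n := 1) (O := O34) (by decide +kernel) (lks := lk33) (by decide +kernel) (gens_of_lall2 (m := []) (by decide +kernel)) ix32 (by decide +kernel)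
noncomputable def b38 : ℕ := (nat_lit 31)
noncomputable def b39 : ℕ := (nat_lit 31)
theorem cl40 : Clo.{u} io C5 [] 5 m4 M35 (mkB [(0,b38),(1,b39)]) := cl37.ops (os := [Op.inv 0,Op.rel 0 [] 1 [1,1,1] [([],1)],Op.inv 0]) (by decide +kernel) (by decide +kernel)
theorem sat42 : Sat io C5 (finG m4ok) := m4s0.fin (k := 3) (by decide +kernel)
theorem bd41 : Bound.{u} io C5 [0,1] 5 := cl40.bound (by decide +kernel) sat42 ((Bound.nil).of_imp imp7)
noncomputable def m43n0 : Net := (Net.cons (nat_lit 20) (nat_lit 0x62ec5)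
  (Net.cons (nat_lit 10) (nat_lit 0x13c001a8)
  (Net.cons (nat_lit 5) (nat_lit 0x341601818)
  (Net.cons (nat_lit 1) (nat_lit 33)
  (Net.cons (nat_lit 1) (nat_lit 0x4210a10142)
  (Net.cons (nat_lit 1) (nat_lit 0x2908520484)
  (Net.cons (nat_lit 1) (nat_lit 0x1094250948)
  (Net.cons (nat_lit 1) (nat_lit 0x902009020)
  (Net.cons (nat_lit 5) (nat_lit 0x80a0280e)
  (Net.cons (nat_lit 10) (nat_lit 0x388000f2)
  (Net.cons (nat_lit 20) (nat_lit 0x647cc)
  Net.nil)))))))))))
noncomputable def m43n1 : Net := (Net.cons (nat_lit 20) (nat_lit 0xa1972)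
  (Net.cons (nat_lit 10) (nat_lit 0xfe003a8)
  (Net.cons (nat_lit 5) (nat_lit 0x7c0605c02)
  (Net.cons (nat_lit 1) (nat_lit 0x102000420)
  (Net.cons (nat_lit 1) (nat_lit 0x294a00840)
  (Net.cons (nat_lit 1) (nat_lit 0x148501480)
  (Net.cons (nat_lit 1) (nat_lit 0x294a4294a)
  (Net.cons (nat_lit 1) (nat_lit 0x90a100081)
  (Net.cons (nat_lit 5) (nat_lit 0x600c00014)
  (Net.cons (nat_lit 10) (nat_lit 0x3200032c)
  (Net.cons (nat_lit 20) (nat_lit 0x5d3ac)
  Net.nil)))))))))))
noncomputable def m43n2 : Net := (Net.cons (nat_lit 20) (nat_lit 0x4b105)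
  (Net.cons (nat_lit 10) (nat_lit 0x38600316)
  (Net.cons (nat_lit 5) (nat_lit 0x4c0303006)
  (Net.cons (nat_lit 1) (nat_lit 0x42008400)
  (Net.cons (nat_lit 1) (nat_lit 0x84010900)
  (Net.cons (nat_lit 1) (nat_lit 0x1080214a5)
  (Net.cons (nat_lit 1) (nat_lit 0x121424284a)
  (Net.cons (nat_lit 1) (nat_lit 0x2942020405)
  (Net.cons (nat_lit 5) (nat_lit 0x101801010)
  (Net.cons (nat_lit 10) (nat_lit 0x14e002b4)
  (Net.cons (nat_lit 20) (nat_lit 0x54f18)
  Net.nil)))))))))))
noncomputable def m43n3 : Net := (Net.cons (nat_lit 20) (nat_lit 0xab967)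
  (Net.cons (nat_lit 10) (nat_lit 0x296000c6)
  (Net.cons (nat_lit 5) (nat_lit 0x2c010780f)
  (Net.cons (nat_lit 1) (nat_lit 0x4204040008)
  (Net.cons (nat_lit 1) (nat_lit 0x290a428405)
  (Net.cons (nat_lit 1) (nat_lit 0x1294a1084a)
  (Net.cons (nat_lit 1) (nat_lit 0x2848108005)
  (Net.cons (nat_lit 5) (nat_lit 0x400a00018)
  (Net.cons (nat_lit 10) (nat_lit 0x3540018e)
  (Net.cons (nat_lit 20) (nat_lit 0x95ef8)
  Net.nil))))))))))
noncomputable def m43l : List Net := [m43n0,m43n1,m43n2,m43n3]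
noncomputable abbrev m43 : ℕ → Net := lk Net.nil m43l
theorem m43ok : NetsOk 40 m43 vT := netsOk_of (by decide +kernel)
theorem m43s0 : Sat io [] (finG m43ok) := fin_sat_nil _ (k := 6) (n := 6) (by decide +kernel)
noncomputable def r1 : List ℕ := [2,2,2,2]
noncomputable def r2 : List ℕ := [2,0,0,2,0,0,2,0,0]
noncomputable def r3 : List ℕ := [3,3,0,2,2,1]
noncomputable def r4 : List ℕ := [3,1,3,0,3,0,2,1,2,0,2,0]
noncomputable def m44n0 : Net := (Net.cons (nat_lit 12) (nat_lit 1794)
  (Net.cons (nat_lit 6) (nat_lit 0x3702a)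
  (Net.cons (nat_lit 3) (nat_lit 16514)
  (Net.cons (nat_lit 1) (nat_lit 0x248040)
  (Net.cons (nat_lit 1) (nat_lit 0x490082)
  (Net.cons (nat_lit 1) (nat_lit 0x49248)
  (Net.cons (nat_lit 3) (nat_lit 0x86084)
  (Net.cons (nat_lit 6) (nat_lit 0x32026)
  (Net.cons (nat_lit 12) (nat_lit 1624)
  Net.nil)))))))))
noncomputable def m44n1 : Net := (Net.cons (nat_lit 12) (nat_lit 1624)
  (Net.cons (nat_lit 6) (nat_lit 53294)
  (Net.cons (nat_lit 3) (nat_lit 0x182084)
  (Net.cons (nat_lit 1) (nat_lit 0x201040)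
  (Net.cons (nat_lit 1) (nat_lit 0x412082)
  (Net.cons (nat_lit 1) (nat_lit 0x249248)
  (Net.cons (nat_lit 3) (nat_lit 0x100082)
  (Net.cons (nat_lit 6) (nat_lit 32808)
  (Net.cons (nat_lit 12) (nat_lit 1794)
  Net.nil)))))))))
noncomputable def m44n2 : Net := (Net.cons (nat_lit 12) (nat_lit 2472)
  (Net.cons (nat_lit 6) (nat_lit 77836)
  (Net.cons (nat_lit 3) (nat_lit 0x1441c0)
  (Net.cons (nat_lit 1) (nat_lit 4161)
  (Net.cons (nat_lit 1) (nat_lit 73858)
  (Net.cons (nat_lit 1) (nat_lit 0x208000)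
  (Net.cons (nat_lit 3) (nat_lit 2)
  (Net.cons (nat_lit 6) (nat_lit 81952)
  (Net.cons (nat_lit 12) (nat_lit 3218)
  Net.nil)))))))))
noncomputable def m44n3 : Net := (Net.cons (nat_lit 12) (nat_lit 3218)
  (Net.cons (nat_lit 6) (nat_lit 12320)
  (Net.cons (nat_lit 3) (nat_lit 29122)
  (Net.cons (nat_lit 1) (nat_lit 4096)
  (Net.cons (nat_lit 1) (nat_lit 0x82402)
  (Net.cons (nat_lit 1) (nat_lit 0x240201)
  (Net.cons (nat_lit 3) (nat_lit 0x102000)
  (Net.cons (nat_lit 6) (nat_lit 0x3800c)
  (Net.cons (nat_lit 12) (nat_lit 2472)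
  Net.nil)))))))))
noncomputable def m44l : List Net := [m44n0,m44n1,m44n2,m44n3]
noncomputable abbrev m44 : ℕ → Net := lk Net.nil m44l
theorem m44ok : NetsOk 24 m44 vT := netsOk_of (by decide +kernel)
theorem m44s0 : Sat io [] (finG m44ok) := fin_sat_nil _ (k := 5) (n := 6) (by decide +kernel)
noncomputable def C45 : List (List ℕ) := [r0,r1,r2,r3,r4]
theorem cl46 : Clo.{u} io C45 [0,1] 24 m44 1 (mkB []) := Clo.start (by decide +kernel)
theorem imp47 : Imp.{u} io C45 C5 := Imp.of_chk (pfs := [[([],1)]]) (by decide +kernel)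
theorem ix48 : Idx.{u} io C45 [0,1] [] 5 := (Idx.triv bd41 (by norm_num)).of_imp imp47
noncomputable def lk49 : List (List ℕ × List ℕ × Pf) := []
noncomputable def O50 : ℕ := (nat_lit 2330)
noncomputable def M51 : ℕ := (nat_lit 2331)
noncomputable def b52 : ℕ := (nat_lit 1)
theorem cl53 : Clo.{u} io C45 [0,1] 24 m44 M51 (mkB [(2,b52)]) := cl46.new (k := 2) (b := 2) (q := 0) (p := 1) (r := 200) (n := 5) (O := O50) (by decide +kernel) (lks := lk49) (by decide +kernel) (gens_of_lall2 (m := []) (by decide +kernel)) ix48 (by decide +kernel)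
noncomputable def b54 : ℕ := (nat_lit 2)
theorem cl55 : Clo.{u} io C45 [0,1] 24 m44 M51 (mkB [(2,b52),(3,b54)]) := cl53.ops (os := [Op.inv 2]) (by decide +kernel) (by decide +kernel)
theorem der57 : Der 5 (finX 5) (cl (finG m3ok) [[0]]) (fun _ => Net.nil) := Der.zero (finModel m3ok).inj
noncomputable def ns58 : ℕ → Net := upd (fun _ => Net.nil) 0 (m3 0)
theorem der59 : Der 5 (finX 5) (cl (finG m3ok) [[0]]) ns58 := der57.add (wp_mem_cl (w := [0]) (by decide)) (rep_letter (finModel m3ok) 0) 0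
noncomputable def L60 : Lev := Lev.cons 0 5 [[0]] Lev.nil
theorem lc61 : Lev.chk 5 0 ns58 vT 100 L60 = true := by decide +kernel
theorem lb62 : 5 ≤ Nat.card (cl (finG m3ok) [[0]]) := le_of_eq_of_le (by decide +kernel) (der59.card_ge lc61)
theorem sat63 : Sat io C5 (finG m3ok) := m3s0.fin (k := 3) (by decide +kernel)
theorem ix56 : Idx.{u} io C45 [0,1] [[0]] 1 := (Idx.of bd41 sat63 (by decide +kernel) lb62 (by decide +kernel)).of_imp imp47
noncomputable def lk64 : List (List ℕ × List ℕ × Pf) := [([0],[2,0,3],[([2,2],7)])]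
noncomputable def O65 : ℕ := (nat_lit 32)
noncomputable def M66 : ℕ := (nat_lit 2363)
noncomputable def b67 : ℕ := (nat_lit 3)
theorem cl68 : Clo.{u} io C45 [0,1] 24 m44 M66 (mkB [(2,b67),(3,b54)]) := cl55.new (k := 2) (b := 2) (q := 1) (p := 5) (r := 200) (n := 1) (O := O65) (by decide +kernel) (lks := lk64) (by decide +kernel) (gens_of_lall2 (m := [[0]]) (by decide +kernel)) ix56 (by decide +kernel)
noncomputable def b69 : ℕ := (nat_lit 34)
theorem cl70 : Clo.{u} io C45 [0,1] 24 m44 M66 (mkB [(2,b67),(3,b69)]) := cl68.ops (os := [Op.inv 2]) (by decide +kernel) (by decide +kernel)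
theorem ix71 : Idx.{u} io C45 [0,1] [] 5 := (Idx.triv bd41 (by norm_num)).of_imp imp47
noncomputable def lk72 : List (List ℕ × List ℕ × Pf) := []
noncomputable def O73 : ℕ := (nat_lit 49348)
noncomputable def M74 : ℕ := (nat_lit 51711)
noncomputable def b75 : ℕ := (nat_lit 35)
theorem cl76 : Clo.{u} io C45 [0,1] 24 m44 M74 (mkB [(2,b75),(3,b69)]) := cl70.new (k := 2) (b := 2) (q := 5) (p := 2) (r := 200) (n := 5) (O := O73) (by decide +kernel) (lks := lk72) (by decide +kernel) (gens_of_lall2 (m := []) (by decide +kernel)) ix71 (by decide +kernel)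
noncomputable def b77 : ℕ := (nat_lit 16679)
noncomputable def b78 : ℕ := (nat_lit 34855)
theorem cl79 : Clo.{u} io C45 [0,1] 24 m44 M74 (mkB [(2,b77),(3,b78)]) := cl76.ops (os := [Op.inv 2,Op.rel 2 [] 3 [3,3] [([],3)],Op.inv 2,Op.rel 2 [0,0] 3 [1,1,3,1,1] [([3],5)],Op.inv 2]) (by decide +kernel) (by decide +kernel)
theorem ix80 : Idx.{u} io C45 [0,1] [] 5 := (Idx.triv bd41 (by norm_num)).of_imp imp47
noncomputable def lk81 : List (List ℕ × List ℕ × Pf) := []
noncomputable def O82 : ℕ := (nat_lit 0x232200)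
noncomputable def M83 : ℕ := (nat_lit 0x23ebff)
noncomputable def b84 : ℕ := (nat_lit 16687)
theorem cl85 : Clo.{u} io C45 [0,1] 24 m44 M83 (mkB [(2,b84),(3,b78)]) := cl79.new (k := 2) (b := 2) (q := 3) (p := 9) (r := 200) (n := 5) (O := O82) (by decide +kernel) (lks := lk81) (by decide +kernel) (gens_of_lall2 (m := []) (by decide +kernel)) ix80 (by decide +kernel)
noncomputable def b86 : ℕ := (nat_lit 0x20ebaf)
noncomputable def b87 : ℕ := (nat_lit 0x1eb77)
theorem cl88 : Clo.{u} io C45 [0,1] 24 m44 M83 (mkB [(2,b86),(3,b87)]) := cl85.ops (os := [Op.inv 2,Op.rel 2 [1] 2 [2,1,3] [([2,2,1],6)],Op.inv 2,Op.rel 2 [1] 2 [2,1,3] [([2,2,1],6)],Op.inv 2,Op.rel 2 [] 3 [3,3] [([],3)],Op.inv 2,Op.rel 2 [0,0] 3 [1,1,3,1,1] [([3],5)],Op.inv 2,Op.rel 2 [0] 2 [2,0,3] [([2,2],7)],Op.inv 2,Op.rel 2 [0,0] 3 [1,1,3,1,1] [([3],5)],Op.inv 2]) (by decide +kernel) (by decide +kernel)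
theorem der90 : Der 5 (finX 5) (cl (finG m3ok) [[0]]) (fun _ => Net.nil) := Der.zero (finModel m3ok).inj
noncomputable def ns91 : ℕ → Net := upd (fun _ => Net.nil) 0 (m3 0)
theorem der92 : Der 5 (finX 5) (cl (finG m3ok) [[0]]) ns91 := der90.add (wp_mem_cl (w := [0]) (by decide)) (rep_letter (finModel m3ok) 0) 0
noncomputable def L93 : Lev := Lev.cons 0 5 [[0]] Lev.nil
theorem lc94 : Lev.chk 5 0 ns91 vT 100 L93 = true := by decide +kernel
theorem lb95 : 5 ≤ Nat.card (cl (finG m3ok) [[0]]) := le_of_eq_of_le (by decide +kernel) (der92.card_ge lc94)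
theorem ix89 : Idx.{u} io C45 [0,1] [[0]] 1 := (Idx.of bd41 sat63 (by decide +kernel) lb95 (by decide +kernel)).of_imp imp47
noncomputable def lk96 : List (List ℕ × List ℕ × Pf) := [([0],[1,2,0,2,1,3,1,3,0],[([2,1,2,0,2],9)])]
noncomputable def O97 : ℕ := (nat_lit 0x400000)
noncomputable def M98 : ℕ := (nat_lit 0x63ebff)
noncomputable def b99 : ℕ := (nat_lit 0x22ebaf)
theorem cl100 : Clo.{u} io C45 [0,1] 24 m44 M98 (mkB [(2,b99),(3,b87)]) := cl88.new (k := 2) (b := 2) (q := 17) (p := 22) (r := 200) (n := 1) (O := O97) (by decide +kernel) (lks := lk96) (by decide +kernel) (gens_of_lall2 (m := [[0]]) (by decide +kernel)) ix89 (by decide +kernel)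
noncomputable def b101 : ℕ := (nat_lit 0x41eb77)
theorem cl102 : Clo.{u} io C45 [0,1] 24 m44 M98 (mkB [(2,b99),(3,b101)]) := cl100.ops (os := [Op.inv 2]) (by decide +kernel) (by decide +kernel)
theorem der104 : Der 5 (finX 5) (cl (finG m3ok) [[1]]) (fun _ => Net.nil) := Der.zero (finModel m3ok).inj
noncomputable def ns105 : ℕ → Net := upd (fun _ => Net.nil) 0 (m3 1)
theorem der106 : Der 5 (finX 5) (cl (finG m3ok) [[1]]) ns105 := der104.add (wp_mem_cl (w := [1]) (by decide)) (rep_letter (finModel m3ok) 1) 0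
noncomputable def L107 : Lev := Lev.cons 0 5 [[0]] Lev.nil
theorem lc108 : Lev.chk 5 0 ns105 vT 100 L107 = true := by decide +kernel
theorem lb109 : 5 ≤ Nat.card (cl (finG m3ok) [[1]]) := le_of_eq_of_le (by decide +kernel) (der106.card_ge lc108)
theorem ix103 : Idx.{u} io C45 [0,1] [[1]] 1 := (Idx.of bd41 sat63 (by decide +kernel) lb109 (by decide +kernel)).of_imp imp47
noncomputable def lk110 : List (List ℕ × List ℕ × Pf) := [([1],[3,1,2],[([3,3,1,2,2],7)])]
noncomputable def O111 : ℕ := (nat_lit 0x800000)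
noncomputable def M112 : ℕ := (nat_lit 0xe3ebff)
noncomputable def b113 : ℕ := (nat_lit 0x43eb77)
theorem cl114 : Clo.{u} io C45 [0,1] 24 m44 M112 (mkB [(2,b99),(3,b113)]) := cl102.new (k := 2) (b := 3) (q := 17) (p := 23) (r := 200) (n := 1) (O := O111) (by decide +kernel) (lks := lk110) (by decide +kernel) (gens_of_lall2 (m := [[0]]) (by decide +kernel)) ix103 (by decide +kernel)
noncomputable def b115 : ℕ := (nat_lit 0xa2ebaf)
theorem cl116 : Clo.{u} io C45 [0,1] 24 m44 M112 (mkB [(2,b115),(3,b113)]) := cl114.ops (os := [Op.inv 3]) (by decide +kernel) (by decide +kernel)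
theorem ix117 : Idx.{u} io C45 [0,1] [] 5 := (Idx.triv bd41 (by norm_num)).of_imp imp47
noncomputable def lk118 : List (List ℕ × List ℕ × Pf) := []
noncomputable def O119 : ℕ := (nat_lit 0x1c1400)
noncomputable def M120 : ℕ := (nat_lit 0xffffff)
noncomputable def b121 : ℕ := (nat_lit 0xa2ebbf)
theorem cl122 : Clo.{u} io C45 [0,1] 24 m44 M120 (mkB [(2,b121),(3,b113)]) := cl116.new (k := 2) (b := 2) (q := 4) (p := 12) (r := 200) (n := 5) (O := O119) (by decide +kernel) (lks := lk118) (by decide +kernel) (gens_of_lall2 (m := []) (by decide +kernel)) ix117 (by decide +kernel)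
noncomputable def b123 : ℕ := (nat_lit 0xffffff)
noncomputable def b124 : ℕ := (nat_lit 0xffffff)
theorem cl125 : Clo.{u} io C45 [0,1] 24 m44 M120 (mkB [(2,b123),(3,b124)]) := cl122.ops (os := [Op.inv 2,Op.rel 2 [] 3 [3,3] [([],3)],Op.inv 2,Op.rel 3 [1] 3 [3,1,2] [([3,3,1,2,2],7)],Op.inv 3,Op.rel 2 [] 3 [3,3] [([],3)],Op.inv 2,Op.rel 3 [1] 3 [3,1,2] [([3,3,1,2,2],7)],Op.inv 3,Op.rel 2 [] 3 [3,3] [([],3)],Op.inv 2,Op.rel 3 [1] 3 [3,1,2] [([3,3,1,2,2],7)],Op.inv 3,Op.rel 3 [1] 3 [3,1,2] [([3,3,1,2,2],7)],Op.inv 3,Op.rel 2 [] 3 [3,3] [([],3)],Op.inv 2]) (by decide +kernel) (by decide +kernel)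
theorem sat127 : Sat io C45 (finG m44ok) := m44s0.fin (k := 5) (by decide +kernel)
theorem bd126 : Bound.{u} io C45 [0,1,2,3] 120 := cl125.bound (by decide +kernel) sat127 (bd41.of_imp imp47)
noncomputable def r5 : List ℕ := [4,1,4,1,4,1]
noncomputable def r6 : List ℕ := [5,3,3,4,3,3]
noncomputable def r7 : List ℕ := [5,3,0,0,4,1,2,1]
noncomputable def r8 : List ℕ := [5,0,2,0,4,1,1,3]
noncomputable def r9 : List ℕ := [4,4,3,3]
noncomputable def m128n0 : Net := (Net.cons (nat_lit 3) (nat_lit 2)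
  (Net.cons (nat_lit 1) (nat_lit 8)
  (Net.cons (nat_lit 1) (nat_lit 18)
  Net.nil)))
noncomputable def m128n1 : Net := (Net.cons (nat_lit 1) (nat_lit 18)
  (Net.cons (nat_lit 1) (nat_lit 8)
  (Net.cons (nat_lit 3) (nat_lit 2)
  Net.nil)))
noncomputable def m128n2 : Net := (Net.cons (nat_lit 3) (nat_lit 6)
  (Net.cons (nat_lit 1) (nat_lit 8)
  (Net.cons (nat_lit 1) (nat_lit 16)
  (Net.cons (nat_lit 1) (nat_lit 8)
  (Net.cons (nat_lit 3) (nat_lit 4)
  Net.nil)))))
noncomputable def m128n4 : Net := (Net.cons (nat_lit 3) (nat_lit 4)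
  (Net.cons (nat_lit 1) (nat_lit 8)
  (Net.cons (nat_lit 1) (nat_lit 16)
  (Net.cons (nat_lit 1) (nat_lit 9)
  (Net.cons (nat_lit 3) (nat_lit 4)
  Net.nil)))))
noncomputable def m128l : List Net := [m128n0,m128n1,m128n2,m128n2,m128n4,m128n4]
noncomputable abbrev m128 : ℕ → Net := lk Net.nil m128l
theorem m128ok : NetsOk 6 m128 vT := netsOk_of (by decide +kernel)
theorem m128s0 : Sat io [] (finG m128ok) := fin_sat_nil _ (k := 3) (n := 6) (by decide +kernel)
noncomputable def C129 : List (List ℕ) := [r0,r1,r2,r3,r4,r5,r6,r7,r8,r9]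
theorem cl130 : Clo.{u} io C129 [0,1,2,3] 6 m128 1 (mkB []) := Clo.start (by decide +kernel)
theorem imp131 : Imp.{u} io C129 C45 := Imp.of_chk (pfs := [[([],1)],[([],3)],[([],5)],[([],7)],[([],9)]]) (by decide +kernel)
theorem der133 : Der 40 (finX 40) (cl (finG m43ok) [[3,3],[3,0,0],[0,2,0]]) (fun _ => Net.nil) := Der.zero (finModel m43ok).inj
noncomputable def x134 : Net := (Net.cons (nat_lit 20) (nat_lit 0x6524b)
  (Net.cons (nat_lit 10) (nat_lit 0x39500089)
  (Net.cons (nat_lit 5) (nat_lit 0x4c1c06801)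
  (Net.cons (nat_lit 1) (nat_lit 32)
  (Net.cons (nat_lit 1) (nat_lit 0x294212840)
  (Net.cons (nat_lit 1) (nat_lit 0x294a5294a4)
  (Net.cons (nat_lit 1) (nat_lit 0x5084a5094a)
  (Net.cons (nat_lit 1) (nat_lit 0x2048109081)
  (Net.cons (nat_lit 5) (nat_lit 0x301a07000)
  (Net.cons (nat_lit 10) (nat_lit 0x36600062)
  (Net.cons (nat_lit 20) (nat_lit 0x9adb4)
  Net.nil)))))))))))
noncomputable def ns135 : ℕ → Net := upd (fun _ => Net.nil) 0 x134
theorem der136 : Der 40 (finX 40) (cl (finG m43ok) [[3,3],[3,0,0],[0,2,0]]) ns135 := der133.add (wp_mem_cl (w := [3,3]) (by decide)) ((finModel m43ok).toIsPre.rep_word (k := 6) (w := [3,3]) (n := x134) (by decide +kernel)) 0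
noncomputable def x137 : Net := (Net.cons (nat_lit 20) (nat_lit 89549)
  (Net.cons (nat_lit 10) (nat_lit 0x10b00197)
  (Net.cons (nat_lit 5) (nat_lit 0x7c0700c0d)
  (Net.cons (nat_lit 1) (nat_lit 0x4000a0)
  (Net.cons (nat_lit 1) (nat_lit 0x1200a10142)
  (Net.cons (nat_lit 1) (nat_lit 0x29005284a5)
  (Net.cons (nat_lit 1) (nat_lit 0x5290a1294a)
  (Net.cons (nat_lit 1) (nat_lit 0x148508004)
  (Net.cons (nat_lit 5) (nat_lit 24602)
  (Net.cons (nat_lit 10) (nat_lit 0x18000382)
  (Net.cons (nat_lit 20) (nat_lit 0xeee24)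
  Net.nil)))))))))))
noncomputable def ns138 : ℕ → Net := upd ns135 1 x137
theorem der139 : Der 40 (finX 40) (cl (finG m43ok) [[3,3],[3,0,0],[0,2,0]]) ns138 := der136.add (wp_mem_cl (w := [3,0,0]) (by decide)) ((finModel m43ok).toIsPre.rep_word (k := 6) (w := [3,0,0]) (n := x137) (by decide +kernel)) 1
noncomputable def x140 : Net := (Net.cons (nat_lit 20) (nat_lit 0x43d3f)
  (Net.cons (nat_lit 10) (nat_lit 0x280001e5)
  (Net.cons (nat_lit 5) (nat_lit 0x281f05c17)
  (Net.cons (nat_lit 1) (nat_lit 0x200048)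
  (Net.cons (nat_lit 1) (nat_lit 0x2042401085)
  (Net.cons (nat_lit 1) (nat_lit 0x508481214a)
  (Net.cons (nat_lit 1) (nat_lit 0x100021481)
  (Net.cons (nat_lit 5) (nat_lit 0x101804808)
  (Net.cons (nat_lit 10) (nat_lit 0x6600292)
  (Net.cons (nat_lit 20) (nat_lit 0x1a0fc)
  Net.nil))))))))))
noncomputable def ns141 : ℕ → Net := upd ns138 2 x140
theorem der142 : Der 40 (finX 40) (cl (finG m43ok) [[3,3],[3,0,0],[0,2,0]]) ns141 := der139.add (wp_mem_cl (w := [0,2,0]) (by decide)) ((finModel m43ok).toIsPre.rep_word (k := 6) (w := [0,2,0]) (n := x140) (by decide +kernel)) 2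
noncomputable def L143 : Lev := Lev.cons 0 24 [[0],[1],[2]] Lev.nil
theorem lc144 : Lev.chk 40 3 ns141 vT 100 L143 = true := by decide +kernel
theorem lb145 : 24 ≤ Nat.card (cl (finG m43ok) [[3,3],[3,0,0],[0,2,0]]) := le_of_eq_of_le (by decide +kernel) (der142.card_ge lc144)
theorem sat146 : Sat io C45 (finG m43ok) := m43s0.fin (k := 6) (by decide +kernel)
theorem ix132 : Idx.{u} io C129 [0,1,2,3] [[3,3],[3,0,0],[0,2,0]] 5 := (Idx.of bd126 sat146 (by decide +kernel) lb145 (by decide +kernel)).of_imp imp131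
noncomputable def lk147 : List (List ℕ × List ℕ × Pf) := [([3,3],[2,2],[([4],13)]),([3,0,0],[0,3,0],[([4],15)]),([0,2,0],[2,0,0],[([4],17)])]
noncomputable def O148 : ℕ := (nat_lit 62)
noncomputable def M149 : ℕ := (nat_lit 63)
noncomputable def b150 : ℕ := (nat_lit 1)
theorem cl151 : Clo.{u} io C129 [0,1,2,3] 6 m128 M149 (mkB [(4,b150)]) := cl130.new (k := 0) (b := 4) (q := 0) (p := 1) (r := 200) (n := 5) (O := O148) (by decide +kernel) (lks := lk147) (by decide +kernel) (gens_of_lall2 (m := [[0],[1],[2]]) (by decide +kernel)) ix132 (by decide +kernel)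
noncomputable def b152 : ℕ := (nat_lit 63)
noncomputable def b153 : ℕ := (nat_lit 63)
theorem cl154 : Clo.{u} io C129 [0,1,2,3] 6 m128 M149 (mkB [(4,b152),(5,b153)]) := cl151.ops (os := [Op.inv 4,Op.rel 4 [3,3] 5 [] [([5,5],19)],Op.inv 4,Op.rel 4 [1] 5 [0,5,0] [([5],11)],Op.ext 4 2 [([3,3],[2,2],[([4],13)]),([2,2],[3,3],[([4,3,3],12)]),([3,0,0],[0,3,0],[([4],15)]),([1,1,2],[1,2,1],[([4,1,2,1],14)]),([0,2,0],[2,0,0],[([4],17)]),([1,3,1],[1,1,3],[([4,1,1,3],16)])],Op.inv 4]) (by decide +kernel) (by decide +kernel)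
theorem sat156 : Sat io C129 (finG m128ok) := m128s0.fin (k := 3) (by decide +kernel)
theorem bd155 : Bound.{u} io C129 [0,1,2,3,4,5] 720 := cl154.bound (by decide +kernel) sat156 (bd126.of_imp imp131)
abbrev KK : Type := GaloisField 3 2
noncomputable instance ftK : Fintype KK := Fintype.ofFinite _
theorem cK : Fintype.card KK = 9 := by rw [← Nat.card_eq_fintype_card, GaloisField.card 3 2 (by norm_num)]; norm_num
noncomputable def om : KK := (exists_w9 cK).choose
theorem hom : om ^ 2 + 1 = 0 := (exists_w9 cK).choose_spec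
abbrev SS : Type := Matrix.SpecialLinearGroup (Fin 2) KK
noncomputable def mS : List (List ℕ) := [[20,78],[17,21],[6,33],[3,57],[3,55],[6,29]]
noncomputable def fS : List (List (List ℕ)) := [[[28,9],[1,15],[37,9]],[[73,9],[1,12],[55,9]],[[64,9],[1,15],[73,9]],[[37,9],[1,12],[46,9]],[[46,9],[1,10],[73,9]],[[37,9],[1,11],[64,9]]]
theorem exS : ∃ g : ℕ → SS, MRep (ixFin 2) (cd2 3 2 0) (val2 3 om) (slToMat 2 KK) g (lk (idm (cd2 3 2 0).q 2) mS) := mrep_SL (sem9 hom) (fs := fS) (by decide +kernel)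
noncomputable def gS : ℕ → SS := exS.choose
theorem hgS : MRep (ixFin 2) (cd2 3 2 0) (val2 3 om) (slToMat 2 KK) gS (lk (idm (cd2 3 2 0).q 2) mS) := exS.choose_spec
noncomputable abbrev XS : ℕ → Fin 2 → KK := Ce.vecC (cd2 3 2 0).q (val2 3 om) 2
theorem modelS : IsModel 81 XS gS m2 vT := Ce.vecModel (fun _ _ => rfl) hgS (inj9 hom) (by decide +kernel)
noncomputable def eqvS : List ℕ → List ℕ → Bool := (cd2 3 2 0).eqv 2 (lk (idm (cd2 3 2 0).q 2) mS)
theorem heqS : ∀ u w, eqvS u w = true → wp gS u = wp gS w := hgS.eqv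
theorem hgeS : ∀ l, llen il ≤ l → gS l = 1 := fun _ h => hgS.gen_one (le_of_eq_of_le (by decide +kernel) h)
theorem s0S : Sat io [] gS := hgS.sat (il := il) (by decide +kernel)
theorem cardS : Nat.card SS = 720 := by
  have cS := S0242.result cK 2 (by norm_num)
  generalize Nat.card (Matrix.SpecialLinearGroup (Fin 2) KK) = x at cS
  norm_num [Fin.prod_univ_succ] at cS; omega
noncomputable def E157 : List (List ℕ) := []
noncomputable def E158 : List (List ℕ) := [0,0,0,0,0] :: E157
noncomputable def E159 : List (List ℕ) := [2,2,2,2] :: E158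
noncomputable def t160v0 : ℕ := (nat_lit 0x150000150004000021000029000300001e000029000200001e0000290002000029000015000400001e00002400000000130000130004000024000021000200002100002400020000240000130002000013000022000200002200000f000100002100000f000200001500001f000200001f00000d000100001e00000d000400000c00001a000300001700001a000200001700001a000200001a00000b000400001100000c0003000011000017000100001700000a000400000b0000150004000015000005000300000b0000130003000013000005000200000c0000110002000011000005000400000a00000f000400000f000004000300000a00000d000300000d000004000100000c000004000200000b000003000100000a0000030000000006000006000100000600000600030000030000060003000006000002000200000500000200010000040000020004000003000000000300000200000000010000000000000000000000000000)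
noncomputable def t160 : Tr := (Tr.leaf t160v0)
noncomputable def tt161v0 : ℕ := (nat_lit 0x3002004000002005008007006000000002000000000008006006008004001000006004000007002000000000000002007000000000000000000000000007000000000000000000000000008000002008000000000000000000000007001000007001000000000000001000000000000000001000000000000000000000000000000000008000000000000000008000000000000000000000000000000000000000000004000000001000000000000000000000000000000000000000000000000000000000000000000000000000)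
noncomputable def tt161 : Tr := (Tr.leaf tt161v0)
noncomputable def t160T : List (List ℕ) := [[2,0,0,2,0,0,2,0,0],[3,3,0,2,2,1],[3,1,3,0,3,0,2,1,2,0,2,0]]
noncomputable def t160R : List (List ℕ × ℕ) := [([1,1,1,1,1],0),([3,3,3,3],0),([2,2,0,3,3,1],4096),([3,3,0,2,2,1],32768),([1,3,1,1,3,1,1,3,1],8),([2,2,2,2],0),([0,3,3,1,2,2],4096),([0,0,0,0,0],0),([2,1,3,3,0,2],32768),([2,0,3,3,1,2],4096),([2,0,0,2,0,0,2,0,0],1),([3,3,1,2,2,0],4096),([3,1,1,3,1,1,3,1,1],8),([1,2,1,3,0,3,1,3,1,2,0,2],134217728),([3,1,2,0,2,1,2,1,3,0,3,1],134217728),([1,2,0,3,0,3,1,3,0,2,0,2],16777216),([],0)]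
theorem t160Rok : TRot.{u} (3 ^ (1 + 1)) 3 io E159 t160T t160R := TRot.of (cs := [(0,0,[],[([],2)]),(0,0,[],[([],0)]),(1,1,[1],[]),(2,1,[2,2,1],[]),(2,0,[0],[]),(0,0,[],[([],1)]),(1,1,[1,2,2],[]),(0,0,[],[([],3)]),(2,1,[2],[]),(1,1,[2,1],[]),(1,0,[3],[]),(1,1,[2,2],[]),(2,0,[],[]),(2,2,[2,0,2],[]),(2,2,[2,0],[]),(1,2,[2,0,2,0],[]),(0,0,[],[])]) (by decide +kernel)
noncomputable def dg162p : List (List ℕ) := [[17],[0],[],[],[],[],[],[6,7,4,12],[7,13,5,3,4,12],[8,16,16,16,16,16],[],[],[],[],[9,21,15,13,8,26],[],[2,29,27,30],[],[1,25,9,10,34],[],[10,23,15,13,10,38],[],[2,41,39,42],[],[11,35,11,12,16,16,14,20,46],[12,49,47,33,31,24],[],[1,47,21,22,52],[3,48,35,42,44,52],[4,50,35,38,40,52],[],[],[5,44,52,54,57,54,47,29,62],[],[],[5,39,34,36,50,36,25,30,68],[],[1,67,68,70,72],[13,74,67,32,21,22,41,72,74],[14,72,77,67,32,46,57,54,57,54,48,35,38],[15,61,28,46,48,36,59,54,57,53,41,72],[],[1,61,62,64,82],[3,81,73,39,42,82],[4,76,73,40,45,82],[16,82,86,85,88,75,80,61,27,24,59,53,45]]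
theorem dg162 : TD.{u} (3 ^ (1 + 1)) 3 io E159 t160T [0,1] t160 (tt161.getW 36) 46 := TD.steps (i := 0) TD.zero t160Rok (prs := dg162p) (by decide +kernel)
noncomputable def E163 : List (List ℕ) := [[2,0,0,2,0,0,2,0,0],[3,3,0,2,2,1],[3,1,3,0,3,0,2,1,2,0,2,0]]
theorem ck164 : lall2 (fun r o => band (outChk t160 (tt161.getW 36) (3 ^ (1 + 1)) 3 46 o) (eqnChk io [] r (sel t160T o.1) [])) E163 [([0],[9,9,9,9,39,39,39,45,45,45,45]),([1],[9,9,9,9,9,9,9]),([2],[9,9,9,9,9,39,39,45,45,45,45])] = true := by decide +kernel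
noncomputable def E165 : List (List ℕ) := lapp E163 E159
theorem imp166 : Imp.{u} io E159 C5 := Imp.of_chk (pfs := [[([],3)]]) (by decide +kernel)
noncomputable def E167 : List (List ℕ) := [4,4,3,3] :: E165
noncomputable def t168v0 : ℕ := (nat_lit 0x11000011000500000f00000f0004000011000011000200000f0000110002000011000006000200000500000f000300000f000003000000000600000600000000060000060000000006000006000500000600000500000000030000030004000005000006000300000500000600050000050000060002000006000003000100000500000300050000000000030005000003000000000300000000000000010000000000000000000000000000)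
noncomputable def t168 : Tr := (Tr.leaf t168v0)
noncomputable def tt169v0 : ℕ := (nat_lit 0x1001000007000001004000001000000003000000000000007000000000000000000000000000002000000000000000000000001000001000008000002002001000000002002000000000001001000008000003000000000000008000000000000000001000000000000000000001000000000000000000000000000000000000000000000000000000000000000000000000000000000000000000000000000000000)
noncomputable def tt169 : Tr := (Tr.leaf tt169v0)
noncomputable def t168T : List (List ℕ) := [[4,1,4,1,4,1],[5,3,3,4,3,3],[5,3,0,0,4,1,2,1],[5,0,2,0,4,1,1,3],[1,1,2,5,0,0,4,3,1,1,2,5,0,0,4,3,1,1,2,5,0,0,4,3,1,1,2,5,0,0,4,3]]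
noncomputable def t168R : List (List ℕ × ℕ) := [([4,3,3,4],0),([4,1,4,1,4,1],1),([2,1,4,0,0,3,5,1],16777216),([3,1,5,0,0,2,4,1],549755813888),([1,3,1,1,3,1,1,3,1],0),([3,3,3,3],0),([3,3,4,3,3,5],4096),([3,4,0,0,5,2,1,1,3,4,0,0,5,2,1,1,3,4,0,0,5,2,1,1,3,4,0,0,5,2,1,1],281474976710656),([1,4,0,0,3,5,1,2],16777216),([1,1,1,1,1],0),([3,1,1,3,1,1,3,1,1],0),([4,0,0,3,5,1,2,1],16777216),([0,5,3,1,1,4,0,2],68719476736),([],0)]
theorem t168Rok : TRot.{u} (3 ^ (1 + 1)) 5 io E167 t168T t168R := TRot.of (cs := [(0,0,[],[([5],1)]),(1,0,[5],[]),(1,2,[1],[]),(2,3,[1,4],[]),(0,0,[],[([0],2)]),(0,0,[],[([],8)]),(1,1,[],[]),(1,4,[],[]),(1,2,[2,1],[]),(0,0,[],[([],10)]),(0,0,[],[([],2)]),(1,2,[1,2,1],[]),(1,3,[1,4],[]),(0,0,[],[])]) (by decide +kernel)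
noncomputable def dg170p : List (List ℕ) := [[14],[0],[0],[],[1,5,5,6],[],[],[2,11,8,3,6,12],[3,11,8,2,2,5,9,12],[4,11,7,2,2,4,6,12],[5,12,18,11,12,18,11,12,18,11],[1,18,17,14],[6,18,17,18,17],[7,18,17,14,17,18,15],[8,18,22,13,10,15,16,11,12,18,22,13,10,15,16,11,12,18,22,13,10,15,16,11,12,18,22,13,10,15,16,11,12],[],[9,22,13,10,17,23,11,30],[],[10,32,11,12,34],[11,36,32,17,34,36,31,12,34],[12,37,35,18,15,34,39,36],[13,35,23,17,34,36,40,37,39]]
theorem dg170 : TD.{u} (3 ^ (1 + 1)) 5 io E167 t168T [0,1,2,3] t168 (tt169.getW 60) 22 := TD.steps (i := 0) TD.zero t168Rok (prs := dg170p) (by decide +kernel)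
noncomputable def E171 : List (List ℕ) := [[4,1,4,1,4,1],[5,3,3,4,3,3],[5,3,0,0,4,1,2,1,1,1,2,5,0,0,4,3,1,1,2,5,0,0,4,3,1,1,2,5,0,0,4,3,1,1,2,5,0,0,4,3],[5,0,2,0,4,1,1,3,1,1,2,5,0,0,4,3,1,1,2,5,0,0,4,3,1,1,2,5,0,0,4,3,1,1,2,5,0,0,4,3,1,1,2,5,0,0,4,3,1,1,2,5,0,0,4,3,1,1,2,5,0,0,4,3,1,1,2,5,0,0,4,3],[1,1,2,5,0,0,4,3,1,1,2,5,0,0,4,3,1,1,2,5,0,0,4,3,1,1,2,5,0,0,4,3,1,1,2,5,0,0,4,3,1,1,2,5,0,0,4,3,1,1,2,5,0,0,4,3,1,1,2,5,0,0,4,3,1,1,2,5,0,0,4,3,1,1,2,5,0,0,4,3,1,1,2,5,0,0,4,3,1,1,2,5,0,0,4,3]]
theorem ck172 : lall2 (fun r o => band (outChk t168 (tt169.getW 60) (3 ^ (1 + 1)) 5 22 o) (eqnChk io [] r (sel t168T o.1) [])) E171 [([0],[12,12,12,12,12,12,12,21,21,21,21]),([1],[12,12,12,12,12,12,12,12,13]),([2,4],[12,12,12,12,12,12,12,14,21,21,21,21]),([3,4,4],[10,12,12,12,12,14,14,21,21,21,21,21,21,21,21]),([4,4,4],[10,12,12,12,12,12,12,14,14,14,21,21,21])] = true := by decide +kernel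
noncomputable def E173 : List (List ℕ) := lapp E171 E167
theorem imp174 : Imp.{u} io E167 C45 := Imp.of_chk (pfs := [[([],11)],[([],9)],[([],3)],[([],5)],[([],7)]]) (by decide +kernel)
theorem ex175 : Ex (3 ^ (1 + 1)) gS io [] E157 := Ex.start s0S (by decide +kernel) hgeS
theorem rl177 : ∀ r ∈ [[0,0,0,0,0]], wp gS r = 1 := rels_of_eqv heqS (by decide +kernel)
theorem ex176 : Ex (3 ^ (1 + 1)) gS io [] E158 := ex175.norm (ol := [7,2,0,0,0,0]) (rl177 _ (List.mem_singleton_self _)) (by decide +kernel)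
theorem rl179 : ∀ r ∈ [[2,2,2,2]], wp gS r = 1 := rels_of_eqv heqS (by decide +kernel)
theorem ex178 : Ex (3 ^ (1 + 1)) gS io [] E159 := ex176.norm (ol := [0,0,2,7,0,0]) (rl179 _ (List.mem_singleton_self _)) (by decide +kernel)
theorem der181 : Der 81 XS (cl gS (lw [0,1])) (fun _ => Net.nil) := Der.zero modelS.inj
noncomputable def ns182 : ℕ → Net := upd (fun _ => Net.nil) 0 (m2 0)
theorem der183 : Der 81 XS (cl gS (lw [0,1])) ns182 := der181.add (wp_mem_cl (w := [0]) (by decide)) (rep_letter modelS 0) 0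
noncomputable def ns184 : ℕ → Net := upd ns182 1 (m2 1)
theorem der185 : Der 81 XS (cl gS (lw [0,1])) ns184 := der183.add (wp_mem_cl (w := [1]) (by decide)) (rep_letter modelS 1) 1
noncomputable def L186 : Lev := Lev.cons 1 5 [[0],[1]] Lev.nil
theorem lc187 : Lev.chk 81 4 ns184 vT 100 L186 = true := by decide +kernel
theorem lb188 : 5 ≤ Nat.card (cl gS (lw [0,1])) := le_of_eq_of_le (by decide +kernel) (der185.card_ge lc187)
theorem rl189 : ∀ r ∈ t160T, wp gS r = 1 := rels_of_eqv heqS (by decide +kernel)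
theorem ui180 : UImp (3 ^ (1 + 1)) gS io [] E159 E163 := dg162.uimp (UGen.base (us := []) bd41 imp166 lb188 (by simp)) rl189 ck164
theorem ex190 : Ex (3 ^ (1 + 1)) gS io [] E165 := ex178.step (UImp.add (UImp.of_imp Imp.refl) ui180)
theorem rl192 : ∀ r ∈ [[4,4,3,3]], wp gS r = 1 := rels_of_eqv heqS (by decide +kernel)
theorem ex191 : Ex (3 ^ (1 + 1)) gS io [] E167 := ex190.norm (ol := [0,0,0,0,4,5]) (rl192 _ (List.mem_singleton_self _)) (by decide +kernel)
theorem der194 : Der 81 XS (cl gS (lw [0,1,2,3])) (fun _ => Net.nil) := Der.zero modelS.inj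
noncomputable def ns195 : ℕ → Net := upd (fun _ => Net.nil) 0 (m2 0)
theorem der196 : Der 81 XS (cl gS (lw [0,1,2,3])) ns195 := der194.add (wp_mem_cl (w := [0]) (by decide)) (rep_letter modelS 0) 0
noncomputable def ns197 : ℕ → Net := upd ns195 1 (m2 1)
theorem der198 : Der 81 XS (cl gS (lw [0,1,2,3])) ns197 := der196.add (wp_mem_cl (w := [1]) (by decide)) (rep_letter modelS 1) 1
noncomputable def ns199 : ℕ → Net := upd ns197 2 (m2 2)
theorem der200 : Der 81 XS (cl gS (lw [0,1,2,3])) ns199 := der198.add (wp_mem_cl (w := [2]) (by decide)) (rep_letter modelS 2) 2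
noncomputable def ns201 : ℕ → Net := upd ns199 3 (m2 3)
theorem der202 : Der 81 XS (cl gS (lw [0,1,2,3])) ns201 := der200.add (wp_mem_cl (w := [3]) (by decide)) (rep_letter modelS 3) 3
noncomputable def x203 : Net := (Net.cons (nat_lit 24) (nat_lit 0xfc7000)
  (Net.cons (nat_lit 12) (nat_lit 0xfc00001c0000e00)
  (Net.cons (nat_lit 6) (nat_lit 0x3f00700000003f03f000)
  (Net.cons (nat_lit 3) (nat_lit 0x1c01c00001c71c0007000)
  (Net.cons (nat_lit 1) (nat_lit 0x8240240249000000)
  (Net.cons (nat_lit 1) (nat_lit 0x492492490492402400)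
  (Net.cons (nat_lit 1) (nat_lit 0x241009008000201200)
  (Net.cons (nat_lit 6) (nat_lit 0x38000000000000000000)
  (Net.cons (nat_lit 12) (nat_lit 0xfc0000e00000e00)
  (Net.cons (nat_lit 24) (nat_lit 0xff8000)
  Net.nil))))))))))
noncomputable def x203s : ℕ → Net := upd ns201 4 x203
theorem der204 : Der 81 XS (cl gS (lw [0,1,2,3])) x203s := der202.ext (k := 7) (w := [2,1,3,1,3]) 4 (by decide +kernel)
noncomputable def L205 : Lev := Lev.cons 9 3 [[4]] Lev.nil
noncomputable def L206 : Lev := Lev.cons 1 40 [[0],[1],[2],[3]] L205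
theorem lc207 : Lev.chk 81 4 x203s vT 100 L206 = true := by decide +kernel
theorem lb208 : 120 ≤ Nat.card (cl gS (lw [0,1,2,3])) := le_of_eq_of_le (by decide +kernel) (der204.card_ge lc207)
theorem rl209 : ∀ r ∈ t168T, wp gS r = 1 := rels_of_eqv heqS (by decide +kernel)
theorem ui193 : UImp (3 ^ (1 + 1)) gS io [] E167 E171 := dg170.uimp (UGen.base (us := []) bd126 imp174 lb208 (by simp)) rl209 ck172
theorem ex210 : Ex (3 ^ (1 + 1)) gS io [] E173 := ex191.step (UImp.add (UImp.of_imp Imp.refl) ui193)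
noncomputable def E211 : List (List ℕ) := lapp [[1,1,2,5,0,0,4,3,1,1,2,5,0,0,4,3,1,1,2,5,0,0,4,3,1,1,2,5,0,0,4,3]] E173
theorem imp212 : Imp.{u} io E211 C129 := Imp.of_chk (pfs := [[([],23)],[([],21)],[([],15)],[([],17)],[([],19)],[([],3)],[([],5)],[([],0),([],7)],[([],0),([],0),([],9)],[([],13)]]) (by decide +kernel)
theorem der213 : Der 81 XS (cl gS (lw [0,1,2,3,4,5])) (fun _ => Net.nil) := Der.zero modelS.inj
noncomputable def ns214 : ℕ → Net := upd (fun _ => Net.nil) 0 (m2 0)
theorem der215 : Der 81 XS (cl gS (lw [0,1,2,3,4,5])) ns214 := der213.add (wp_mem_cl (w := [0]) (by decide)) (rep_letter modelS 0) 0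
noncomputable def ns216 : ℕ → Net := upd ns214 1 (m2 1)
theorem der217 : Der 81 XS (cl gS (lw [0,1,2,3,4,5])) ns216 := der215.add (wp_mem_cl (w := [1]) (by decide)) (rep_letter modelS 1) 1
noncomputable def ns218 : ℕ → Net := upd ns216 2 (m2 2)
theorem der219 : Der 81 XS (cl gS (lw [0,1,2,3,4,5])) ns218 := der217.add (wp_mem_cl (w := [2]) (by decide)) (rep_letter modelS 2) 2
noncomputable def ns220 : ℕ → Net := upd ns218 3 (m2 3)
theorem der221 : Der 81 XS (cl gS (lw [0,1,2,3,4,5])) ns220 := der219.add (wp_mem_cl (w := [3]) (by decide)) (rep_letter modelS 3) 3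
noncomputable def ns222 : ℕ → Net := upd ns220 4 (m2 4)
theorem der223 : Der 81 XS (cl gS (lw [0,1,2,3,4,5])) ns222 := der221.add (wp_mem_cl (w := [4]) (by decide)) (rep_letter modelS 4) 4
noncomputable def ns224 : ℕ → Net := upd ns222 5 (m2 5)
theorem der225 : Der 81 XS (cl gS (lw [0,1,2,3,4,5])) ns224 := der223.add (wp_mem_cl (w := [5]) (by decide)) (rep_letter modelS 5) 5
noncomputable def x226 : Net := (Net.cons (nat_lit 48) (nat_lit 0xe00000000000)
  (Net.cons (nat_lit 24) (nat_lit 0xff8000000000fc7e00)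
  (Net.cons (nat_lit 12) (nat_lit 0xe00000e07000000)
  (Net.cons (nat_lit 6) (nat_lit 0x3f000038007038007000)
  (Net.cons (nat_lit 3) (nat_lit 0x1c01c0000007007007007000)
  (Net.cons (nat_lit 1) (nat_lit 0x248241201040000000000000)
  (Net.cons (nat_lit 1) (nat_lit 0x490482402492002480090400)
  (Net.cons (nat_lit 1) (nat_lit 0x209001240048200)
  (Net.cons (nat_lit 6) (nat_lit 0x38038000000038038000000)
  (Net.cons (nat_lit 12) (nat_lit 0xe00000000000000)
  (Net.cons (nat_lit 24) (nat_lit 0xff8000000000ff8e00)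
  (Net.cons (nat_lit 48) (nat_lit 0xe00000000000)
  Net.nil))))))))))))
noncomputable def x226s : ℕ → Net := upd ns224 6 x226
theorem der227 : Der 81 XS (cl gS (lw [0,1,2,3,4,5])) x226s := der225.ext (k := 7) (w := [5,1,2,4,1]) 6 (by decide +kernel)
noncomputable def x228 : Net := (Net.cons (nat_lit 24) (nat_lit 0xff8000)
  (Net.cons (nat_lit 12) (nat_lit 0xfc0000e00000e00)
  (Net.cons (nat_lit 6) (nat_lit 0x703f00000003f03f000)
  (Net.cons (nat_lit 3) (nat_lit 0x70070001c70071c0000)
  (Net.cons (nat_lit 1) (nat_lit 0x49009001000208200)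
  (Net.cons (nat_lit 1) (nat_lit 0x492492482492410400)
  (Net.cons (nat_lit 1) (nat_lit 0x200240240249000000)
  (Net.cons (nat_lit 6) (nat_lit 0x38000000000000000)
  (Net.cons (nat_lit 12) (nat_lit 0xfc00001c0000e00)
  (Net.cons (nat_lit 24) (nat_lit 0xfc7000)
  Net.nil))))))))))
noncomputable def x228s : ℕ → Net := upd x226s 7 x228
theorem der229 : Der 81 XS (cl gS (lw [0,1,2,3,4,5])) x228s := der227.ext (k := 7) (w := [2,0,2,0,3]) 7 (by decide +kernel)
noncomputable def L230 : Lev := Lev.cons 9 9 [[6],[7]] Lev.nil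
noncomputable def L231 : Lev := Lev.cons 1 80 [[0],[1],[2],[3],[4],[5]] L230
theorem lc232 : Lev.chk 81 4 x228s vT 100 L231 = true := by decide +kernel
theorem lb233 : 720 ≤ Nat.card (cl gS (lw [0,1,2,3,4,5])) := le_of_eq_of_le (by decide +kernel) (der229.card_ge lc232)
theorem rl234 : ∀ r ∈ [[1,1,2,5,0,0,4,3,1,1,2,5,0,0,4,3,1,1,2,5,0,0,4,3,1,1,2,5,0,0,4,3]], wp gS r = 1 := rels_of_eqv heqS (by decide +kernel)
theorem ug235 : UGen (3 ^ (1 + 1)) gS io [] E173 [0,1,2,3,4,5] [[1,1,2,5,0,0,4,3,1,1,2,5,0,0,4,3,1,1,2,5,0,0,4,3,1,1,2,5,0,0,4,3]] := (UGen.base (us := [[1,1,2,5,0,0,4,3,1,1,2,5,0,0,4,3,1,1,2,5,0,0,4,3,1,1,2,5,0,0,4,3]]) bd155 imp212 lb233 rl234)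
theorem rl237 : ∀ r ∈ C129, wp gS r = 1 := rels_of_eqv heqS (by decide +kernel)
theorem sa236 : Sat io C129 gS := ⟨s0S.inv, rl237⟩
theorem pm3 : PM SS 3 1 1 := PM.of ex210 ug235 rl234 (pfs := [[([],9)]]) (by decide +kernel) (coprime_index (n := 1) (B := 720) (cardS.trans (by norm_num)) lb233 (bd155 _ _ sa236).2 (by norm_num) (by norm_num))
noncomputable def E238 : List (List ℕ) := []
noncomputable def E239 : List (List ℕ) := [0,0,0,0,0] :: E238
noncomputable def E240 : List (List ℕ) := [4,1,4,1,4,1] :: E239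
noncomputable def E241 : List (List ℕ) := [2,0,0,2,0,0,2,0,0] :: E240
noncomputable def t242v0 : ℕ := (nat_lit 0x9e00009e000200008c00009e000500009300009e000300009e000080000400009300009b000200008300009b000200009b00007c0004000098000093000200008b000098000200009800007800020000910000950003000075000095000300009500006d000200006f000093000200009300005b00030000770000910006000091000052000300008e000077000300008200008e000500008e000052000300005000008c000300008c00004e000100008b000048000400005c00008800010000500000880006000088000046000300005c000084000200008400004e000500004800008400050000840000460001000083000046000100008200003800020000770000800002000080000030000100005d00007c0005000075000038000400003800007c000400007c00002f000500006d00002f00010000600000780003000038000078000300007800002f000100007700002f000500002f000075000200007500002d000200005c000072000400002d000072000400007200002b000200005800006f000300002d00006f000300006f00002b000500003800006d000200006d00002b0000000029000029000400005500006800030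000520000680002000052000068000200006800002900040000520000630000000027000027000400006300005500020000550000630002000063000027000100004800006000060000400000600006000060000025000100004600005d000500004000005d000500005d000025000100005c000024000200005b0000220000000022000022000600003900005800010000580000220002000027000056000200005600002000010000550000200002000029000053000200005300001e000100005200001e000600003d000050000600005000001d000500003d00004e000500004e00001d000200004a00004c000200004c00001b000400002200004a000100004a000019000400001b0000480004000048000015000300001b000046000300004600001500030000220000440001000044000014000400001d000040000300003d000040000200003d0000400002000040000013000400002500001d000300002500003d000100003d000012000500001b00001900040000190000390003000014000039000200003900001000010000380000100004000010000036000400003600000e0003000010000034000300003400000e000000003000003000040000140000300003000019000030000200003000000e000100002f00000e000600001300002d000600002d0000070005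00001300002b000500002b0000070004000013000029000400002900000700030000130000270003000027000007000200001d000025000200002500000700060000240000060005000012000022000500002200000600040000120000200004000020000006000300001200001e000300001e000006000100001d000006000500001400001b000200001b00000500060000150000190001000019000005000000000400000400030000050000160003000016000004000200001500000400010000140000040002000013000003000100001200000300060000030000100006000010000002000500000300000e000500000e00000200060000080000050000000008000008000100000800000800060000040000080003000003000008000300000800000200020000070000020001000006000002000600000500000000050000040000000004000003000000000300000200000000010000000000000000000000000000)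
noncomputable def t242 : Tr := (Tr.leaf t242v0)
noncomputable def tt243v0 : ℕ := (nat_lit 0x1000000000000000000001000000000000000000000000001001000000001001000000001000000001000001001000000000001000000000000000000000000000000000000000000000001000000000000000000000000000000000000000001000000000000000001000000000000000000000000001001000000001000000001000000000000000001000001000000000001000000000000000000000000000000000000000000001000000000000001000000000000000000000000001000000000000001001000000000000000000000000000000000000001000000000000000000000000000000000000000001001000000000000000000000000000000000000000000000000000000000000000000000000000000000000001000000000000001001000000000000000000000000000000000000001000000000000000000000000000000000000000001001000000000000000000000000000000000000000000000000000000000001001000000000000000000000000000000000000000000000000000000000000000000000000001000000001001000000000000000001000000000000000000000000000000000000000000000000000000000000000000000000000000000000000000000000000000000001000000000000000000000000000000000000000001000000000000000001000000000000000000000001000000000000000001000000000000000001000000000000000000001000001000000000000000000000000000000000000001000000000000000000000000000000000000000000000000000000000000000000000000000000000000000000000000000000000000000000000000000000000000000000000000000000000000000000000000000000000000000000000)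
noncomputable def tt243v1 : ℕ := (nat_lit 0x1000000000001000000000000000000001001000000000000001000000000000000000000000000000000000000001001001001000000000000000001000000000000001001000000000000000000000000000000000000000000000000000000000001001000000000000000000000001001000000000001001001000000000000000000000000000000000000000000000001000000000001001000000000000000001000000000000000000000000000000000000000000000000000000000000000000000000000001001001000000000000000001000000000000000001001000000000000000000000000000000000000000000000000000000000001000000000000000000001001000000000000000000000001000000000000000000001000000000000000000000001001000000000001000001000000000000000000000000000000000000000000000001000000001000001000000000000000001000000000000000000000000000000000000000000000000000000000000000000000001000000001000000000000000000001001000000000000000000000000000000000000000001000000000000000000000000000000000000000000000000000000000000000000000000000000000000000000000000000000000001000000000000000000000000000000000000000001000000000000000001000000000000000000000000000000000000000000000000000000000000000001000001000000001001000000000000000000000001001001000000001000000000000000000000000001001001000000001001000000000000000000000000001000000000000000000000000000000000000000000000000000000000000000000000000000001000000000000000000000000000000000000000000)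
noncomputable def tt243v2 : ℕ := (nat_lit 0x1000001001001001001000000000001001000000000001001000000001000000000000000000000000000001000000000000000000000000000000001001000000000000000000000000001000000000001001000000000000000001000000000000000000000000001000001000000000001001000000000000000001000000000000000000000000000001000000000001000000000000000000000001000001000000001000000000000000000000000000000001000000001000001000001000000001001000000000000000000000001000000000000000001000000000000000000000000000000000000000000000001001001000001001000000001000000001001000000000000000000000001001001000000001001000001000000000001001001000000000000000001000000000000000000000000000000000000000000000000000000000000000000000000000000000000000000000000000000000)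
noncomputable def tt243 : Tr := (Tr.node (Tr.node (Tr.leaf tt243v0) (Tr.leaf tt243v2)) (Tr.leaf tt243v1))
noncomputable def t242T : List (List ℕ) := [[2,2,2,2],[3,3,0,2,2,1],[3,1,3,0,3,0,2,1,2,0,2,0],[5,3,3,4,3,3],[5,3,0,0,4,1,2,1],[5,0,2,0,4,1,1,3],[4,4,3,3]]
noncomputable def t242R : List (List ℕ × ℕ) := [([1,1,1,1,1],0),([4,3,3,4],4722366482869645213696),([2,5,5,2],4722366482869645213696),([3,3,3,3],1),([5,2,2,5],4722366482869645213696),([3,3,0,2,2,1],4096),([4,1,4,1,4,1],0),([2,2,0,3,3,1],4096),([4,4,3,3],4722366482869645213696),([5,0,5,0,5,0],0),([2,1,3,3,0,2],4096),([2,1,4,0,0,3,5,1],281474976710656),([3,3,1,2,2,0],4096),([1,3,1,1,3,1,1,3,1],0),([0,5,3,1,1,4,0,2],1152921504606846976),([3,1,1,3,1,1,3,1,1],0),([1,2,1,3,0,3,1,3,1,2,0,2],16777216),([2,2,2,2],1),([5,5,2,2],4722366482869645213696),([0,3,3,1,2,2],4096),([0,0,0,0,0],0),([2,2,5,2,2,4],68719476736),([2,0,3,3,1,2],4096),([3,1,5,0,0,2,4,1],1152921504606846976),([3,1,2,2,0,3],4096),([2,0,0,2,0,0,2,0,0],0),([2,4,1,3,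1,5,0,0],1152921504606846976),([0,2,0,5,3,1,1,4],1152921504606846976),([0,3,0,4,2,1,1,5],281474976710656),([3,1,2,0,2,1,2,1,3,0,3,1],16777216),([1,2,0,3,0,3,1,3,0,2,0,2],16777216),([1,1,5,0,3,0,4,2],281474976710656),([1,1,4,0,2,0,5,3],1152921504606846976),([0,4,2,1,1,5,0,3],281474976710656),([1,4,1,4,1,4],0),([0,5,0,5,0,5],0),([3,3,4,3,3,5],68719476736),([2,1,1,5,0,3,0,4],281474976710656),([2,2,1,3,3,0],4096),([2,2,5,5],4722366482869645213696),([1,4,0,0,3,5,1,2],281474976710656),([4,1,3,1,5,0,0,2],1152921504606846976),([1,2,1,4,0,0,3,5],281474976710656),([],0)]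
theorem t242Rok : TRot.{u} (2 ^ (0 + 1)) 7 io E241 t242T t242R := TRot.of (cs := [(0,0,[],[([],4)]),(1,6,[5],[]),(2,6,[3],[]),(2,0,[],[]),(2,6,[5],[]),(2,1,[2,2,1],[]),(0,0,[],[([5],3)]),(1,1,[1],[]),(1,6,[5,5],[]),(0,0,[],[([],2)]),(2,1,[2],[]),(1,4,[1],[]),(1,1,[2,2],[]),(0,0,[],[([0],0)]),(1,5,[1,4],[]),(0,0,[],[([],0)]),(2,2,[2,0,2],[]),(1,0,[],[]),(2,6,[],[]),(1,1,[1,2,2],[]),(0,0,[],[([],5)]),(2,3,[4],[]),(1,1,[2,1],[]),(2,5,[1,4],[]),(1,1,[2],[]),(0,0,[],[([3],1)]),(2,5,[3],[]),(1,5,[1,3,1,4],[]),(2,4,[1,2,1],[]),(2,2,[2,0],[]),(1,2,[2,0,2,0],[]),(2,4,[2,4],[]),(1,5,[3],[]),(2,4,[1],[]),(0,0,[],[([],3)]),(0,0,[],[([1],2)]),(1,3,[],[]),(2,4,[4],[]),(2,1,[],[]),(2,6,[3,3],[]),(1,4,[2,1],[]),(2,5,[],[]),(1,4,[],[]),(0,0,[],[])]) (by decide +kernel)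
noncomputable def dg244p : List (List ℕ) := [[44],[0],[],[],[],[],[],[],[],[18,7,4,16],[19,9,4,16],[20,17,5,3,4,16],[21,22,22,22,22,22],[5,18,7,10],[],[2,19,17,28],[],[5,7,4,32],[],[],[],[],[],[3,26,20,44],[22,44,46,26,18,7,8],[],[10,43,9,2,10,50],[],[7,41,21,23,27,54],[],[],[11,37,19,17,12,60],[],[4,63,61,64],[],[2,63,61,68],[],[],[1,59,13,14,74],[],[23,39,19,17,14,78],[],[4,81,79,82],[],[2,81,79,86],[],[5,85,83,90],[],[],[12,51,11,2,2,6,31,96],[24,41,9,2,2,4,28,96],[25,100,41,44,46,50,99],[],[3,34,31,104],[],[4,107,105,108],[],[],[8,101,97,108,110,114],[6,99,97,104,106,114],[9,56,117,118],[],[26,75,15,16,22,22,18,36,122],[13,125,123,67,65,58],[],[1,123,37,38,128],[8,124,75,82,84,128],[6,126,75,78,80,128],[],[27,70,37,19,23,20,40,136],[],[3,121,52,140],[],[4,143,141,144],[],[13,139,137,101,98,148],[],[1,149,51,54,152],[],[2,133,134,156],[],[5,124,127,160],[],[],[14,84,128,130,133,130,123,63,166],[],[],[14,79,74,76,126,76,59,64,172],[],[10,115,34,36,71,176],[15,176,178,118,51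,54,56,136,138],[],[],[],[2,134,126,186],[28,142,55,26,17,14,74,186],[],[5,132,124,192],[29,146,55,11,4,14,74,192],[],[1,171,172,174,198],[16,200,171,66,37,38,81,198,200],[17,198,203,171,66,122,133,130,133,130,124,75,78],[30,165,62,122,124,76,135,130,133,129,81,198],[],[1,165,166,168,208],[8,207,199,79,82,208],[6,202,199,80,85,208],[31,208,212,211,214,201,206,165,61,58,135,129,85],[],[7,113,33,14,86,218],[],[3,92,89,222],[32,177,69,58,126,75,86,222],[],[4,225,223,228],[33,185,73,58,135,129,89,228],[],[7,95,30,38,93,234],[],[],[11,113,107,105,94,240],[15,194,134,59,13,28,94,240],[9,220,243,241],[],[4,243,241,248],[9,236,248,250],[34,188,132,123,37,31,94,248],[],[1,239,95,96,256],[],[],[],[2,146,143,264],[35,266,197,193,76,156],[12,185,73,58,77,125,159,268],[],[36,162,131,189,190,272],[37,271,266,146,143,272],[],[],[3,162,159,280],[],[38,261,113,34,36,63,164,284],[39,286,261,243,241,238],[],[40,288,285,290],[],[1,226,177,182,294],[],[3,253,221,298],[41,291,211,209,84,89,218,298],[],[1,279,197,245,304],[16,306,279,146,152,154,150,182,294],[],[1,263,191,255,310],[6,308,305,242,251,310],[],[42,296,223,218,247,238,259,316],[17,282,275,276,233,230,234,301,302,292,259,316],[43,320,282,275,273,262,313,314,319]]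
theorem dg244 : TD.{u} (2 ^ (0 + 1)) 7 io E241 t242T [0,1] t242 (tt243.getW 84) 162 := TD.steps (i := 0) TD.zero t242Rok (prs := dg244p) (by decide +kernel)
noncomputable def E245 : List (List ℕ) := [[2,2,2,2],[3,3,0,2,2,1],[3,1,3,0,3,0,2,1,2,0,2,0],[5,3,3,4,3,3],[5,3,0,0,4,1,2,1],[5,0,2,0,4,1,1,3],[4,4,3,3]]
theorem ck246 : lall2 (fun r o => band (outChk t242 (tt243.getW 84) (2 ^ (0 + 1)) 7 162 o) (eqnChk io [] r (sel t242T o.1) [])) E245 [([0],[102,108]),([1],[12]),([2],[12,102]),([3],[24,102,108]),([4],[12,90]),([5],[51,90]),([6],[12,24,90,102,161])] = true := by decide +kernel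
noncomputable def E247 : List (List ℕ) := lapp E245 E241
theorem imp248 : Imp.{u} io E241 C5 := Imp.of_chk (pfs := [[([],5)]]) (by decide +kernel)
theorem ex249 : Ex (2 ^ (0 + 1)) gS io [] E238 := Ex.start s0S (by decide +kernel) hgeS
theorem ex250 : Ex (2 ^ (0 + 1)) gS io [] E239 := ex249.norm (ol := [1,1,0,0,0,0]) (rl177 _ (List.mem_singleton_self _)) (by decide +kernel)
theorem rl252 : ∀ r ∈ [[4,1,4,1,4,1]], wp gS r = 1 := rels_of_eqv heqS (by decide +kernel)
theorem ex251 : Ex (2 ^ (0 + 1)) gS io [] E240 := ex250.norm (ol := [0,0,0,0,1,1]) (rl252 _ (List.mem_singleton_self _)) (by decide +kernel)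
theorem rl254 : ∀ r ∈ [[2,0,0,2,0,0,2,0,0]], wp gS r = 1 := rels_of_eqv heqS (by decide +kernel)
theorem ex253 : Ex (2 ^ (0 + 1)) gS io [] E241 := ex251.norm (ol := [0,0,1,1,0,0]) (rl254 _ (List.mem_singleton_self _)) (by decide +kernel)
theorem rl256 : ∀ r ∈ t242T, wp gS r = 1 := rels_of_eqv heqS (by decide +kernel)
theorem ui255 : UImp (2 ^ (0 + 1)) gS io [] E241 E245 := dg244.uimp (UGen.base (us := []) bd41 imp248 lb188 (by simp)) rl256 ck246
theorem ex257 : Ex (2 ^ (0 + 1)) gS io [] E247 := ex253.step (UImp.add (UImp.of_imp Imp.refl) ui255)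
theorem imp258 : Imp.{u} io E247 C129 := Imp.of_chk (pfs := [[([],19)],[([],1)],[([],15)],[([],3)],[([],5)],[([],17)],[([],7)],[([],9)],[([],11)],[([],13)]]) (by decide +kernel)
theorem ug259 : UGen (2 ^ (0 + 1)) gS io [] E247 [0,1,2,3,4,5] [] := (UGen.base (us := []) bd155 imp258 lb233 (by simp))
theorem pm2 : PM SS 2 0 0 := PM.of ex257 ug259 (by simp) (pfs := []) (by decide +kernel) (coprime_index (n := 1) (B := 720) (cardS.trans (by norm_num)) lb233 (bd155 _ _ sa236).2 (by norm_num) (by norm_num))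
noncomputable def m260n0 : Net := (Net.cons (nat_lit 10) (nat_lit 310)
  (Net.cons (nat_lit 5) (nat_lit 29720)
  (Net.cons (nat_lit 1) (nat_lit 32768)
  (Net.cons (nat_lit 1) (nat_lit 65546)
  (Net.cons (nat_lit 1) (nat_lit 0x280a4)
  (Net.cons (nat_lit 1) (nat_lit 0x5094a)
  (Net.cons (nat_lit 1) (nat_lit 37920)
  (Net.cons (nat_lit 5) (nat_lit 22536)
  (Net.cons (nat_lit 10) (nat_lit 398)
  Net.nil)))))))))
noncomputable def m260n1 : Net := (Net.cons (nat_lit 10) (nat_lit 398)
  (Net.cons (nat_lit 5) (nat_lit 9224)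
  (Net.cons (nat_lit 1) (nat_lit 10250)
  (Net.cons (nat_lit 1) (nat_lit 0x29424)
  (Net.cons (nat_lit 1) (nat_lit 67914)
  (Net.cons (nat_lit 1) (nat_lit 5280)
  (Net.cons (nat_lit 5) (nat_lit 2072)
  (Net.cons (nat_lit 10) (nat_lit 310)
  Net.nil))))))))
noncomputable def m260n2 : Net := (Net.cons (nat_lit 10) (nat_lit 456)
  (Net.cons (nat_lit 5) (nat_lit 4108)
  (Net.cons (nat_lit 1) (nat_lit 10)
  (Net.cons (nat_lit 1) (nat_lit 0x28484)
  (Net.cons (nat_lit 1) (nat_lit 76106)
  (Net.cons (nat_lit 1) (nat_lit 0x28480)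
  (Net.cons (nat_lit 5) (nat_lit 4108)
  (Net.cons (nat_lit 10) (nat_lit 456)
  Net.nil))))))))
noncomputable def m260n4 : Net := (Net.cons (nat_lit 5) (nat_lit 16384)
  (Net.cons (nat_lit 1) (nat_lit 32768)
  (Net.cons (nat_lit 1) (nat_lit 0x50000)
  (Net.cons (nat_lit 1) (nat_lit 0x20000)
  (Net.cons (nat_lit 1) (nat_lit 0x50140)
  (Net.cons (nat_lit 1) (nat_lit 36869)
  (Net.cons (nat_lit 5) (nat_lit 16384)
  Net.nil)))))))
noncomputable def m260l : List Net := [m260n0,m260n1,m260n2,m260n2,m260n4,m260n4]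
noncomputable abbrev m260 : ℕ → Net := lk Net.nil m260l
theorem m260ok : NetsOk 18 m260 vT := netsOk_of (by decide +kernel)
theorem m260s0 : Sat io [] (finG m260ok) := fin_sat_nil _ (k := 5) (n := 6) (by decide +kernel)
noncomputable def us261 : List (List ℕ) := [[1,1,2,5,0,0,4,3,1,1,2,5,0,0,4,3,1,1,2,5,0,0,4,3,1,1,2,5,0,0,4,3]]
theorem der262 : Der 18 (finX 18) (cl (finG m260ok) us261) (fun _ => Net.nil) := Der.zero (finModel m260ok).inj
noncomputable def x263 : Net := (Net.cons (nat_lit 10) (nat_lit 63)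
  (Net.cons (nat_lit 5) (nat_lit 30750)
  (Net.cons (nat_lit 1) (nat_lit 0x20021)
  (Net.cons (nat_lit 1) (nat_lit 0x50042)
  (Net.cons (nat_lit 1) (nat_lit 0x28484)
  (Net.cons (nat_lit 1) (nat_lit 67848)
  (Net.cons (nat_lit 5) (nat_lit 24576)
  Net.nil)))))))
noncomputable def ns264 : ℕ → Net := upd (fun _ => Net.nil) 0 x263
theorem der265 : Der 18 (finX 18) (cl (finG m260ok) us261) ns264 := der262.add (wp_mem_cl (w := [1,1,2,5,0,0,4,3,1,1,2,5,0,0,4,3,1,1,2,5,0,0,4,3,1,1,2,5,0,0,4,3]) (by decide)) ((finModel m260ok).toIsPre.rep_word (k := 5) (w := [1,1,2,5,0,0,4,3,1,1,2,5,0,0,4,3,1,1,2,5,0,0,4,3,1,1,2,5,0,0,4,3]) (n := x263) (by decide +kernel)) 0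
noncomputable def L266 : Lev := Lev.cons 0 3 [[0]] Lev.nil
theorem lc267 : Lev.chk 18 2 ns264 vT 100 L266 = true := by decide +kernel
theorem lb268 : 3 ≤ Nat.card (cl (finG m260ok) us261) := le_of_eq_of_le (by decide +kernel) (der265.card_ge lc267)
theorem cv269 : ∀ r ∈ C129, wp (finG m260ok) r ∈ cl (finG m260ok) us261 := (mem_cl_of_eqv (eqv_of_faith (finModel m260ok) (faith_fin 18) 5) (sl := [[],[],[],[],[],[],[],[0,0],[0],[]]) (by decide +kernel))
theorem rl270 : ∀ r ∈ us261, wp gS r = 1 := rels_of_eqv heqS (by decide +kernel)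
theorem cov : HasCov SS 3 := HasCov.of sa236 m260s0 bd155 (le_of_eq_of_le (by norm_num) cardS.ge) (top_of_card cardS lb233) (cs := [([1,1],[2,5],4)]) (us := us261) (by decide +kernel) (by decide +kernel) rl270 (comm_of_eqv' (eqv_of_faith (finModel m260ok) (faith_fin 18) 5) (by decide +kernel)) cv269 lb268
theorem schur : HasCyclicSchurMultiplier SS 3 := hasCyc_of (a := 0) (b := 1) (pm2.mono (by norm_num)) (pm3.mono (by norm_num)) (PM.ge5 cardS (fl := [2,2,2,2,3,3,5]) (l := []) (by simp) (by decide +kernel)) cov (by norm_num)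
theorem iso {F : Type u} [Field F] [Fintype F] (hF : Fintype.card F = 9) :
    Nonempty (SS ≃* Matrix.SpecialLinearGroup (Fin 2) F) := by
  let e : KK ≃+* F := FiniteField.ringEquivOfCardEq (cK.trans hF.symm)
  exact ⟨MonoidHom.toMulEquiv (Matrix.SpecialLinearGroup.map e.toRingHom) (Matrix.SpecialLinearGroup.map e.symm.toRingHom)
    (by ext x i j; simp) (by ext x i j; simp)⟩

end Cfsg.Agent.H6.Sl9
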