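/- Orders of commutators of commuting elements in central extensions. -/
import Cfsg.Agent.H6.Sch7

namespace Cfsg.Agent.H6
universe u
variable {G : Type u} [Group G] {m : ℕ} {g : ℕ → G} {ι : ℕ → ℕ} {hs R : List (List ℕ)}

theorem UImp.commPow {x y r : List ℕ} {n : ℕ} (h2 : wp g (lapp x y) = wp g (lapp y x))
    (hx : wp g (lpow x n) = wp g []) (hm : eqnChk ι [] r (lpow (cmw ι (x, y, 1)) n) [] = true) :
    UImp m g ι hs R [r] := fun Γ _ σ γ h s _ => by
  refine ⟨s.inv, fun w hw => ?_⟩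
  rw [wp_lapp, wp_lapp] at h2
  have a : σ (wp γ x * wp γ y * (wp γ x)⁻¹ * (wp γ y)⁻¹) = 1 := by
    simp only [map_mul, map_inv, h.wp, h2]; group
  have b : σ (wp γ x ^ n) = 1 := by rw [← wp_lpow, h.wp, hx]; rfl
  rw [List.mem_singleton.1 hw, (Sat.mk s.inv (by simp) : Sat ι [] γ).of_eqnChk hm]
  simp only [cmw, wp_lapp, wp_invw s.inv, wp_lpow, pow_one, ← mul_assoc]
  generalize wp γ x = X at a b
  generalize wp γ y = Y at a
  have c := fun v => (h.cen _ a v).eq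
  have k : ∀ j : ℕ, X ^ j * Y = (X * Y * X⁻¹ * Y⁻¹) ^ j * Y * X ^ j := fun j => by
    induction j with
    | zero => simp
    | succ j ih =>
      calc X ^ (j + 1) * Y = X ^ j * ((X * Y * X⁻¹ * Y⁻¹) * (Y * X)) := by group
        _ = (X * Y * X⁻¹ * Y⁻¹) * (X ^ j * Y) * X := by rw [← mul_assoc, c (X ^ j)]; group
        _ = _ := by rw [ih, pow_succ' (X * Y * X⁻¹ * Y⁻¹) j]; simp only [pow_succ X, mul_assoc]
  have e := k n
  rw [← (h.cen _ b Y).eq, mul_assoc] at e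
  exact (mul_eq_right.1 e.symm)

end Cfsg.Agent.H6
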