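/- New letters in a group with a permutation model. -/
import Cfsg.Agent.H6.Sch8

namespace Cfsg.Agent.H6
variable {G Ω : Type*} [Group G] [MulAction G Ω] {N : ℕ} [NeZero N] {X : ℕ → Ω} {nets : ℕ → Net}

theorem Rep.inv2 {g : G} {l l' : ℕ} (h : Rep N X g (nets l)) (hok : NetsOk N nets vT) {ι : ℕ → ℕ}
    (s : Sat ι [] (finG hok)) (e : ι l = l') : Rep N X g⁻¹ (nets l') := by
  subst e
  refine ⟨hok _ rfl, fun i hi => ?_⟩
  have m := finModel hok
  have a := ((hok (ι l) rfl).lt i).2 hi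
  rw [inv_smul_eq_iff, h.2 _ a]
  congr 1
  refine m.inj _ hi _ (((hok l rfl).lt _).2 a) ?_
  rw [← m.cmp l rfl _ a, ← m.cmp (ι l) rfl _ hi, s.inv, smul_inv_smul]

theorem lk1_ge' {gl : List G} {l : ℕ} (h : gl.length ≤ l) : lk 1 gl l = 1 := by
  rw [lk_eq, List.getD_eq_default _ _ h]

end Cfsg.Agent.H6
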