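/- Commutation with inverse letters. -/
import Cfsg.Agent.H6.Sch9

namespace Cfsg.Agent.H6
variable {G : Type*} [Group G]

theorem comm_io {ι : ℕ → ℕ} {g : ℕ → G} (s : Sat ι [] g) {l l' : ℕ} (e : ι l = l') {x : G}
    (h : g l * x = x * g l) : g l' * x = x * g l' := by
  subst e
  rw [s.inv]
  exact (Commute.inv_left h).eq

end Cfsg.Agent.H6
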