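/- Commutation and membership from relators. -/
import Cfsg.Agent.H6.Sch10

namespace Cfsg.Agent.H6
variable {G : Type*} [Group G]

theorem comm_of_rel {ι : ℕ → ℕ} {g : ℕ → G} (s : Sat ι [] g) {l : ℕ} {u r : List ℕ}
    (e : lapp (l :: u) (invw ι (lapp u [l])) = r) (h : wp g r = 1) : g l * wp g u = wp g u * g l := by
  rw [← e, wp_lapp, wp_invw s.inv, wp_lapp, mul_inv_eq_one] at h
  simpa using h

theorem eq_of_rel {ι : ℕ → ℕ} {g : ℕ → G} (s : Sat ι [] g) {u w r : List ℕ}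
    (e : lapp u (invw ι w) = r) (h : wp g r = 1) : wp g u = wp g w := by
  rwa [← e, wp_lapp, wp_invw s.inv, mul_inv_eq_one] at h

end Cfsg.Agent.H6
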