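/- Membership from relators; small lower bounds. -/
import Cfsg.Agent.H6.Sch11

namespace Cfsg.Agent.H6
variable {G : Type*} [Group G]

theorem mem_of_rel {ι : ℕ → ℕ} {g : ℕ → G} (s : Sat ι [] g) {us : List (List ℕ)} {u sl r : List ℕ}
    (e : lapp u (invw ι (sel us sl)) = r) (h : wp g r = 1) : wp g u ∈ cl g us := by
  rw [eq_of_rel s e h]; exact wp_sel_mem _ _

theorem card_ge_three [Finite G] {g : ℕ → G} {u : List ℕ} (h1 : wp g u ≠ 1) (h2 : wp g (lapp u u) ≠ 1) :
    3 ≤ Nat.card (cl g [u]) := by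
  classical
  have hm : wp g u ∈ cl g [u] := wp_mem_cl (List.mem_singleton_self _)
  rw [wp_lapp] at h2
  let x : cl g [u] := ⟨_, hm⟩
  have a : x ≠ 1 := fun e => h1 (congrArg Subtype.val e)
  have b : x * x ≠ 1 := fun e => h2 (congrArg Subtype.val e)
  have c : x * x ≠ x := fun e => a (mul_left_cancel (e.trans (mul_one x).symm))
  have h3 : ({1, x, x * x} : Finset (cl g [u])).card = 3 :=
    Finset.card_eq_three.2 ⟨1, x, x * x, a.symm, b.symm, c.symm, rfl⟩
  letI := Fintype.ofFinite (cl g [u])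
  rw [Nat.card_eq_fintype_card, ← h3]
  exact Finset.card_le_univ _

end Cfsg.Agent.H6
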