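/- Centralizers from a certified backtrack search; matrix groups acting on vectors. -/
import Cfsg.Agent.H6.Out2
import Cfsg.Agent.H6.Sch12
import Mathlib.LinearAlgebra.Projectivization.Action

set_option linter.unusedSectionVars false
namespace Cfsg.Agent.H6
open MulAction Finset

section chk
variable {G Ω : Type*} [Group G] [MulAction G Ω] {N : ℕ} {X : ℕ → Ω} {nets : ℕ → Net}

noncomputable def spC (N : ℕ) (nets : ℕ → Net) (z : ℕ) (cw : List (List ℕ)) (fl : List (List ℕ × ℕ)) : SP :=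
  ⟨N, nets, [z], fun l => l, cw, fl, true⟩

theorem cent_eq_cl [Finite G] {g0 : ℕ → G} {n0 : ℕ → Net} (m0 : IsModel N X g0 n0 vT) {B : ℕ} (hG : Nat.card G = B)
    {K : Subgroup G} (hD : Der N X K nets) {ch : Ch} (hB : ChnL G N X nets ch B) {fl : List (List ℕ × ℕ)} {z : ℕ}
    {kl : List ℕ} (fB : (spC N nets z (lw kl) fl).FixOk) (cB : (spC N nets z (lw kl) fl).Clm G X false 0 ch [] [])
    {w : List ℕ} (hc : band (eqCh n0 nets ch w [z]) (lall (fun l => band (eqCh nets n0 ch [l] [l])
      (eqCh nets nets ch [z, l] [l, z])) kl) = true) :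
    cl g0 (lw kl) = Subgroup.centralizer {wp g0 w} := by
  obtain ⟨gens, hm, -⟩ := hD
  have KB : Chn N X gens ch ⊤ := (hB gens hm ⊤ inferInstance le_top).2 (by rw [Subgroup.card_top, hG])
  rw [band_eq, lall_eq] at hc
  have e1 : wp g0 w = gens z := by simpa using KB.eq m0.toIsPre hm.toIsPre hc.1
  have e2 : ∀ l ∈ kl, gens l = g0 l := fun l hl => by
    simpa using KB.eq hm.toIsPre m0.toIsPre ((band_eq _ _).1 (hc.2 l hl)).1
  have e3 : ∀ l ∈ kl, gens z * gens l = gens l * gens z := fun l hl => by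
    simpa using KB.eq hm.toIsPre hm.toIsPre ((band_eq _ _).1 (hc.2 l hl)).2
  rw [e1]
  refine le_antisymm (cl_lw_le.2 fun l hl => Subgroup.mem_centralizer_singleton_iff.2 (by
    rw [← e2 l hl]; exact (e3 l hl).symm)) fun y hy => ?_
  have := (cB gens hm fB (fun c c1 l hl => by
    rw [List.mem_singleton.1 hl]
    obtain ⟨a, ha, rfl⟩ := List.mem_map.1 (lw_eq kl ▸ c1 : c ∈ kl.map fun l => [l])
    simpa [spC] using e3 a ha) ⊤ KB (by simp) (by simp) y
    (fun l hl => by rw [List.mem_singleton.1 hl]; exact Subgroup.mem_centralizer_singleton_iff.1 hy) (by simp)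
    (fun c => by cases c)).2
  exact (cl_lw_le (K := cl g0 (lw kl))).2 (fun l hl => e2 l hl ▸ gen_mem_lw hl) this

end chk

namespace Ce
section
variable {G Ω : Type*} [Group G] [MulAction G Ω] {N : ℕ} {X : ℕ → Ω}
theorem rep_of {g : G} {n : Net} (h1 : n.ok N = true) (h2 : ∀ i : Fin N, g • X i = X (n.fnc i)) : Rep N X g n :=
  ⟨Net.ok_of h1, fun i hi => by rw [← Net.fnc_eq]; exact h2 ⟨i, hi⟩⟩

end

section mat
open Matrix
variable {F : Type*} [Field F] {c : Cd} {val : ℕ → F} {n : ℕ}

noncomputable def dotC (c : Cd) (x r n : ℕ) : ℕ :=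
  Nat.rec (motive := fun _ => ℕ) 0 (fun k ih => Nat.mod (c.op (dg c.q x k) (dg c.q r k) ih) c.q) n

theorem dotC_spec (h : c.Sem val) (x r n : ℕ) :
    dotC c x r n < c.q ∧ val (dotC c x r n) = ∑ k ∈ range n, val (dg c.q x k) * val (dg c.q r k) := by
  induction n with
  | zero => exact ⟨h.pos, h.v0⟩
  | succ n ih =>
    have e : dotC c x r (n + 1) = c.op (dg c.q x n) (dg c.q r n) (dotC c x r n) % c.q := rfl
    rw [e]
    exact ⟨Nat.mod_lt _ h.pos, by
      rw [h.op _ (dg_lt h.pos _ _) _ (dg_lt h.pos _ _) _ ih.1, ih.2, sum_range_succ, add_comm]⟩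

def vecC (q : ℕ) (val : ℕ → F) (n r : ℕ) : Fin n → F := fun j => val (dg q r j)

theorem mulVec_vecC (h : c.Sem val) (A : List ℕ) (r : ℕ) (j : Fin n) :
    (toMat (ixFin n) c.q val A *ᵥ vecC c.q val n r) j = val (dotC c (lk 0 A j) r n) := by
  rw [(dotC_spec h _ _ _).2, ← Fin.sum_univ_eq_sum_range (fun k => val (dg c.q (lk 0 A j) k) * val (dg c.q r k))]
  rfl

noncomputable def vecChk (c : Cd) (n N : ℕ) (A : List ℕ) (net : Net) : Bool :=
  band (net.ok N) (nall (fun i => nall (fun j => Nat.beq (dotC c (lk 0 A j) i n) (dg c.q (net.fnc i) j)) n) N)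

theorem vecC_inj (h : c.Sem val) (hv : ∀ a < c.q, ∀ b < c.q, val a = val b → a = b) {N : ℕ}
    (hc : nall (fun i => Nat.beq (mkrow c.q (dg c.q i) n 0) i) N = true) :
    ∀ i < N, ∀ j < N, vecC c.q val n i = vecC c.q val n j → i = j := by
  intro i hi j hj e
  simp only [nall_eq, beq_eq] at hc
  rw [← hc i hi, ← hc j hj]
  have : ∀ m s, s + m ≤ n → mkrow c.q (dg c.q i) m s = mkrow c.q (dg c.q j) m s := by
    intro m
    induction m with
    | zero => intro _ _; rfl
    | succ m ih =>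
      intro s hs
      show dg c.q i s % c.q + c.q * mkrow c.q (dg c.q i) m (s + 1) = dg c.q j s % c.q + c.q * mkrow c.q (dg c.q j) m (s + 1)
      rw [ih _ (by omega), hv _ (dg_lt h.pos _ _) _ (dg_lt h.pos _ _) (congrFun e ⟨s, by omega⟩)]
  exact this n 0 (by omega)

variable {H : Type*} [Group H] {ρ : H →* Matrix (Fin n) (Fin n) F} {gens : ℕ → H}

theorem lk_lall2 {α β : Type} {f : α → β → Bool} {l : List α} {m : List β} (h : lall2 f l m = true)
    (hl : llen l = llen m) {a : α} {b : β} (h0 : f a b = true) (i : ℕ) : f (lk a l i) (lk b m i) = true := by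
  induction l generalizing m i with
  | nil => cases m with
    | nil => exact h0
    | cons _ _ => cases hl
  | cons x l ih => cases m with
    | nil => cases hl
    | cons y m =>
      have h' : band (f x y) (lall2 f l m) = true := h
      rw [band_eq] at h'
      cases i with
      | zero => exact h'.1
      | succ i => exact ih h'.2 (Nat.succ.inj hl) i

theorem vecModel [MulAction H (Fin n → F)] (hact : ∀ (g : H) (v : Fin n → F), g • v = ρ g *ᵥ v) {ml : List (List ℕ)}
    (h : MRep (ixFin n) c val ρ gens (lk (idm c.q n) ml)) (hv : ∀ a < c.q, ∀ b < c.q, val a = val b → a = b)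
    {N : ℕ} {nl : List Net} (hc : band (nall (fun i => Nat.beq (mkrow c.q (dg c.q i) n 0) i) N)
      (band (lall2 (vecChk c n N) ml nl) (band (Nat.beq (llen ml) (llen nl)) (vecChk c n N (idm c.q n) Net.nil))) = true) :
    IsModel N (vecC c.q val n) gens (lk Net.nil nl) vT := by
  simp only [band_eq, beq_eq] at hc
  refine ⟨IsPre.of_rep fun l _ => ?_, vecC_inj h.1 hv hc.1⟩
  have := lk_lall2 hc.2.1 hc.2.2.1 hc.2.2.2 l
  simp only [vecChk, band_eq, nall_eq, beq_eq] at this
  refine rep_of this.1 fun i => funext fun j => ?_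
  rw [hact, (h.2.2 l).2, mulVec_vecC h.1, this.2 i i.2 j j.2]; rfl

end mat
end Ce
end Cfsg.Agent.H6
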