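/- Recognising an extraspecial `O₂` from words. -/
import Cfsg.Agent.H6.CeA
import Cfsg.Prelude.Def_Transfer
import Cfsg.Prelude.Def_CaseTheorems

namespace Cfsg.Agent.H6
open Subgroup
open scoped commutatorElement

theorem two_mul_card_le_of_lt {Q : Type*} [Group Q] {A B : Subgroup Q} [Finite B] (h : A < B) :
    2 * Nat.card A ≤ Nat.card B := by
  haveI : Finite A := Finite.of_injective _ (inclusion_injective h.le)
  obtain ⟨k, hk⟩ := card_dvd_of_le h.le
  have p : 0 < Nat.card B := Nat.card_pos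
  have k0 : k ≠ 0 := fun e => by rw [e] at hk; omega
  have k1 : k ≠ 1 := fun e => h.ne (eq_of_le_of_card_ge h.le (by rw [hk, e, mul_one]))
  rw [hk, mul_comm]
  exact Nat.mul_le_mul_left _ (by omega)

theorem cent_chain {Q : Type*} [Group Q] (K : Subgroup Q) [Finite K] (l : List (Q × Q)) (hm : ∀ a ∈ l, a.2 ∈ K)
    (h : l.Pairwise fun a b => a.2 * b.1 = b.1 * a.2) (hn : ∀ a ∈ l, a.2 * a.1 ≠ a.1 * a.2) :
    2 ^ l.length * Nat.card ↥(K ⊓ centralizer {x | ∃ a ∈ l, a.1 = x}) ≤ Nat.card K := by
  induction l with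
  | nil => simpa using card_le_of_le (inf_le_left (a := K))
  | cons a l ih =>
    rw [List.pairwise_cons] at h
    haveI : Finite ↥(K ⊓ centralizer {x | ∃ a ∈ l, a.1 = x}) := Finite.of_injective _ (inclusion_injective inf_le_left)
    have lt : K ⊓ centralizer {x | ∃ b ∈ a :: l, b.1 = x} < K ⊓ centralizer {x | ∃ a ∈ l, a.1 = x} := by
      refine lt_of_le_of_ne (inf_le_inf_left _ (centralizer_le fun x ⟨b, hb, e⟩ => ⟨b, by simp [hb], e⟩)) fun e => ?_
      have : a.2 ∈ K ⊓ centralizer {x | ∃ a ∈ l, a.1 = x} :=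
        ⟨hm a (by simp), mem_centralizer_iff.2 fun x ⟨b, hb, e⟩ => e ▸ (h.1 b hb).symm⟩
      rw [← e] at this
      exact hn a (by simp) (mem_centralizer_iff.1 this.2 _ ⟨a, by simp, rfl⟩).symm
    have := two_mul_card_le_of_lt lt
    have i := ih (fun b hb => hm b (by simp [hb])) h.2 fun b hb => hn b (by simp [hb])
    rw [List.length_cons, pow_succ, mul_assoc]
    exact (Nat.mul_le_mul_left _ this).trans i

def XSd (Q : Type*) [Group Q] : Prop := ∃ z : Q, z ≠ 1 ∧ z * z = 1 ∧ (∀ x, x * z = z * x) ∧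
  (∀ x y, x * y = y * x ∨ x * y = y * x * z) ∧ (∀ x, (∀ y, x * y = y * x) → x = 1 ∨ x = z) ∧ ∃ x y : Q, x * y ≠ y * x

theorem XSd.congr {Q Q' : Type*} [Group Q] [Group Q'] (h : XSd Q) (e : Q ≃* Q') : XSd Q' := by
  obtain ⟨z, h1, h2, h3, h4, h5, x, y, h6⟩ := h
  refine ⟨e z, by simpa using h1, by rw [← map_mul, h2, map_one], e.surjective.forall.2 fun a => ?_,
    e.surjective.forall.2 fun a => e.surjective.forall.2 fun b => ?_, e.surjective.forall.2 fun a ha => ?_,
    e x, e y, fun c => h6 (e.injective (by simpa using c))⟩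
  · rw [← map_mul, h3, map_mul]
  · simp only [← map_mul, e.injective.eq_iff]; exact h4 a b
  · simpa using h5 a fun b => e.injective (by simpa using ha (e b))

theorem XSd.xs {Q : Type*} [Group Q] (h : XSd Q) (hp : IsPGroup 2 Q) : IsExtraspecial 2 Q := by
  obtain ⟨z, h1, h2, h3, h4, h5, x, y, h6⟩ := h
  have o : orderOf z = 2 := orderOf_two h2 h1
  have e : zpowers z = center Q := le_antisymm (zpowers_le.2 (mem_center_iff.2 h3)) fun a ha => by
    rcases h5 a fun b => (mem_center_iff.1 ha b).symm with c | c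
    · rw [c]; exact one_mem _
    · rw [c]; exact mem_zpowers _
  have h7 := (h4 x y).resolve_left h6
  have zc : z ∈ commutator Q := by
    have : z = ⁅x⁻¹, y⁻¹⁆ := by
      rw [commutatorElement_def, inv_inv, inv_inv, mul_assoc, h7]; group
    rw [this]; exact commutator_mem_commutator (mem_top _) (mem_top _)
  have ec : commutator Q = center Q := le_antisymm (commutator_le.2 fun a _ b _ => by
    rw [commutatorElement_def, ← e]
    rcases h4 a b with c | c
    · rw [c]; simp
    · rw [c, h3]; simp [mul_assoc]) (e ▸ zpowers_le.2 zc)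
  refine ⟨⟨hp, le_antisymm (fun a ha => mem_center_iff.2 fun b => ?_) ?_, ec⟩, by rw [← e, Nat.card_zpowers, o]⟩
  · by_contra hne
    have co : IsCoatom (centralizer ({b} : Set Q)) :=
      ⟨fun t => hne (mem_centralizer_singleton_iff.1 (t ▸ mem_top a)).symm, fun M hM => eq_top_iff.2 fun g _ => by
        obtain ⟨m, m1, m2⟩ := SetLike.exists_of_lt hM
        rcases h4 g b with c | c
        · exact hM.le (mem_centralizer_singleton_iff.2 c)
        · have c2 := (h4 m b).resolve_left fun t => m2 (mem_centralizer_singleton_iff.2 t)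
          have : g * m ∈ M := hM.le (mem_centralizer_singleton_iff.2 (by
            rw [mul_assoc, c2, ← mul_assoc, ← mul_assoc, c, mul_assoc _ z, ← h3 m, ← mul_assoc, mul_assoc _ z, h2,
              mul_one, mul_assoc]))
          exact (M.mul_mem_cancel_right m1).1 this⟩
    exact hne (mem_centralizer_singleton_iff.1 (frattini_le_coatom co ha)).symm
  · rw [← e, zpowers_le]
    simp only [frattini, Order.radical, mem_iInf]
    intro M hM
    by_contra hz
    have all : ∀ g : Q, g ∈ M ∨ g * z ∈ M := fun g => by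
      let S : Subgroup Q :=
        { carrier := {g | g ∈ M ∨ g * z ∈ M}
          one_mem' := Or.inl M.one_mem
          mul_mem' := fun {a b} ha hb => by
            rcases ha with ha | ha <;> rcases hb with hb | hb
            · exact Or.inl (M.mul_mem ha hb)
            · exact Or.inr (mul_assoc a b z ▸ M.mul_mem ha hb)
            · exact Or.inr (by rw [mul_assoc, h3, ← mul_assoc]; exact M.mul_mem ha hb)
            · refine Or.inl ?_
              have := M.mul_mem ha hb
              rwa [mul_assoc, ← mul_assoc z, ← h3, mul_assoc, h2, mul_one] at this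
          inv_mem' := fun {a} ha => by
            rcases ha with ha | ha
            · exact Or.inl (M.inv_mem ha)
            · refine Or.inr ?_
              have := M.inv_mem ha
              rwa [mul_inv_rev, inv_eq_of_mul_eq_one_right h2, ← h3] at this }
      have : S = ⊤ := hM.2 S (lt_of_le_of_ne (fun a ha => Or.inl ha) fun c => hz (c ▸ Or.inr (h2 ▸ M.one_mem)))
      exact (this ▸ mem_top g : g ∈ S)
    have key : ∀ a b : Q, a ∈ M → b ∈ M → a * b ≠ b * a * z := fun a b ha hb c => hz (by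
      have : z = (b * a)⁻¹ * (a * b) := by rw [c]; group
      rw [this]; exact M.mul_mem (M.inv_mem (M.mul_mem hb ha)) (M.mul_mem ha hb))
    rcases all x with a | a <;> rcases all y with b | b
    · exact key _ _ a b h7
    · exact key _ _ a b (by rw [← mul_assoc, h7, mul_assoc y z, ← h3 x, ← mul_assoc])
    · exact key _ _ a b (by rw [mul_assoc, ← h3 y, ← mul_assoc, h7, ← mul_assoc])
    · exact key _ _ a b (by
        rw [mul_assoc, ← mul_assoc z, ← h3 y, mul_assoc y, h2, mul_one, h7, mul_assoc y z, ← mul_assoc z, ← h3 x,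
          mul_assoc x, h2, mul_one])

section words
variable {G : Type*} [Group G] {g : ℕ → G} {eqv : List ℕ → List ℕ → Bool}

noncomputable def pwC {α : Type} (f : α → α → Bool) (l : List α) : Bool :=
  List.rec (motive := fun _ => Bool) true (fun a r ih => band (lall (f a) r) ih) l

theorem pwC_spec {α : Type} {f : α → α → Bool} {l : List α} (h : pwC f l = true) :
    l.Pairwise fun a b => f a b = true := by
  induction l with
  | nil => simp
  | cons a l ih =>
    have h' : band (lall (f a) l) (pwC f l) = true := h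
    rw [band_eq, lall_eq] at h'
    exact List.pairwise_cons.2 ⟨h'.1, ih h'.2⟩

theorem XSd.of_words (he : ∀ u w, eqv u w = true → wp g u = wp g w) {qs : List (List ℕ)} [Finite (cl g qs)]
    {zs : List ℕ} {l : List (List ℕ × List ℕ)} (hc : Nat.card (cl g qs) ≤ 2 ^ l.length * 2) (h0 : l ≠ [])
    (h1 : wp g (sel qs zs) ≠ 1)
    (hn : ∀ a ∈ l, wp g (lapp (sel qs a.2) (sel qs a.1)) ≠ wp g (lapp (sel qs a.1) (sel qs a.2)))
    (h : band (eqv (lapp (sel qs zs) (sel qs zs)) [])
      (band (lall (fun u => band (eqv (lapp u (sel qs zs)) (lapp (sel qs zs) u))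
        (lall (fun w => bor (eqv (lapp u w) (lapp w u)) (eqv (lapp u w) (lapp (lapp w u) (sel qs zs)))) qs)) qs)
      (pwC (fun a b => eqv (lapp (sel qs a.2) (sel qs b.1)) (lapp (sel qs b.1) (sel qs a.2))) l)) = true) :
    XSd (cl g qs) := by
  simp only [band_eq, lall_eq, bor_eq] at h
  obtain ⟨a1, a2, a3⟩ := h
  set z := wp g (sel qs zs) with hz
  have z2 : z * z = 1 := by simpa [wp_lapp] using he _ _ a1
  have zc : ∀ x ∈ cl g qs, x * z = z * x := comm_of_cl fun w hw => by simpa [wp_lapp] using he _ _ (a2 w hw).1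
  have sub : ∀ y : G, (∀ w ∈ qs, wp g w * y = y * wp g w ∨ wp g w * y = y * wp g w * z) →
      ∀ x ∈ cl g qs, x * y = y * x ∨ x * y = y * x * z := fun y hy x hx => by
    let S : Subgroup G :=
      { carrier := {x | x * z = z * x ∧ (x * y = y * x ∨ x * y = y * x * z)}
        one_mem' := by simp
        mul_mem' := fun {a b} ha hb => ⟨by rw [mul_assoc, hb.1, ← mul_assoc, ha.1, mul_assoc], by
          rcases ha.2 with c | c <;> rcases hb.2 with d | d
          · left; rw [mul_assoc, d, ← mul_assoc, c, mul_assoc]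
          · right; rw [mul_assoc, d, ← mul_assoc, ← mul_assoc, c, mul_assoc y]
          · right; rw [mul_assoc, d, ← mul_assoc, c, mul_assoc, ← hb.1, ← mul_assoc, mul_assoc y]
          · left
            rw [mul_assoc, d, ← mul_assoc, ← mul_assoc, c, mul_assoc _ z, ← hb.1, ← mul_assoc, mul_assoc _ z, z2, mul_one,
              mul_assoc]⟩
        inv_mem' := fun {a} ha => ⟨by rw [inv_mul_eq_iff_eq_mul, ← mul_assoc, ha.1, mul_inv_cancel_right], by
          rcases ha.2 with c | c
          · left; rw [inv_mul_eq_iff_eq_mul, ← mul_assoc, c, mul_inv_cancel_right]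
          · right
            rw [inv_mul_eq_iff_eq_mul, ← mul_assoc, ← mul_assoc, c, mul_assoc y, ha.1, ← mul_assoc,
              mul_inv_cancel_right, mul_assoc, z2, mul_one]⟩ }
    exact ((cl_le (K := S)).2 (fun w hw => ⟨zc _ (wp_mem_cl hw), hy w hw⟩) hx).2
  have all : ∀ x ∈ cl g qs, ∀ y ∈ cl g qs, x * y = y * x ∨ x * y = y * x * z := fun x hx y hy =>
    sub y (fun w hw => by
      rcases sub (wp g w) (fun u hu => ((a2 u hu).2 w hw).imp (fun c => by simpa [wp_lapp] using he _ _ c)
        fun c => by simpa [wp_lapp] using he _ _ c) y hy with c | c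
      · exact Or.inl c.symm
      · right; rw [c, mul_assoc, z2, mul_one]) x hx
  have ch := cent_chain (cl g qs) (l.map fun a => (wp g (sel qs a.1), wp g (sel qs a.2)))
    (List.forall_mem_map.2 fun a _ => wp_sel_mem qs a.2)
    (List.pairwise_map.2 ((pwC_spec a3).imp fun c => by simpa [wp_lapp] using he _ _ c))
    (List.forall_mem_map.2 fun a ha => by simpa [wp_lapp] using hn a ha)
  rw [List.length_map] at ch
  have c2 := Nat.le_of_mul_le_mul_left (ch.trans hc) (by positivity)
  obtain ⟨a, ha⟩ := List.exists_mem_of_ne_nil l h0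
  refine ⟨⟨z, wp_sel_mem qs zs⟩, fun c => h1 (congrArg Subtype.val c), Subtype.ext z2, fun x => Subtype.ext (zc x x.2),
    fun x y => (all x x.2 y y.2).imp Subtype.ext Subtype.ext, fun x hx => ?_,
    ⟨_, wp_sel_mem qs a.2⟩, ⟨_, wp_sel_mem qs a.1⟩, fun c => hn a ha (by simpa [wp_lapp] using congrArg Subtype.val c)⟩
  set T := cl g qs ⊓ centralizer {x | ∃ a ∈ l.map fun a => (wp g (sel qs a.1), wp g (sel qs a.2)), a.1 = x}
  haveI : Finite T := Finite.of_injective _ (inclusion_injective inf_le_left)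
  have mem : ∀ y ∈ cl g qs, (∀ u ∈ cl g qs, y * u = u * y) → y ∈ T := fun y hy hu =>
    ⟨hy, mem_centralizer_iff.2 fun u ⟨b, hb, e⟩ => by
      obtain ⟨c, -, rfl⟩ := List.mem_map.1 hb
      exact (hu u (e ▸ wp_sel_mem qs c.1)).symm⟩
  have e : zpowers z = T := eq_of_le_of_card_ge
    (zpowers_le.2 (mem z (wp_sel_mem qs zs) fun u hu => (zc u hu).symm)) (by rw [Nat.card_zpowers, orderOf_two z2 h1]; exact c2)
  have hx' : (x : G) ∈ zpowers z := e ▸ mem x x.2 fun u hu => congrArg Subtype.val (hx ⟨u, hu⟩)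
  obtain ⟨k, hk⟩ := mem_zpowers_iff.1 hx'
  rcases Int.even_or_odd' k with ⟨j, rfl | rfl⟩
  · left; apply Subtype.ext; rw [← hk, zpow_mul, zpow_two, z2, one_zpow]; rfl
  · right; apply Subtype.ext; rw [← hk, zpow_add, zpow_mul, zpow_two, z2, one_zpow, one_mul, zpow_one]

end words

theorem core_struct {G S C : Type*} [Group G] [Group S] [Group C] {K Q : Subgroup G} [Finite K] (φ : K →* S)
    (hs : φ.range = ⊤) (hS : IsSimpleGroup S) {B n : ℕ} (cS : Nat.card S = B) (h3 : 3 ∣ B)
    (cK : Nat.card K = 2 ^ n * B) (hQ : Q ≤ K) (hq : ∀ x (hx : x ∈ Q), φ ⟨x, hQ hx⟩ = 1) (lb : 2 ^ n ≤ Nat.card Q)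
    (hx : Nat.card Q ≤ 2 ^ n → XSd Q) (e : K ≃* C) :
    IsExtraspecial 2 (pCore 2 C) ∧ Nat.card (pCore 2 C) = 2 ^ n ∧ Nonempty (C ⧸ pCore 2 C ≃* S) := by
  haveI : Fact (Nat.Prime 2) := ⟨Nat.prime_two⟩
  haveI : Finite C := Finite.of_equiv _ e.toEquiv
  have sj : Function.Surjective φ := MonoidHom.range_eq_top.1 hs
  haveI : Finite S := Finite.of_surjective _ sj
  let ψ : C →* S := φ.comp e.symm.toMonoidHom
  have sψ : Function.Surjective ψ := sj.comp e.symm.surjective
  have B0 : 0 < B := cS ▸ Nat.card_pos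
  have ck : Nat.card ψ.ker = 2 ^ n := by
    have := card_eq_card_quotient_mul_card_subgroup ψ.ker
    rw [Nat.card_congr (QuotientGroup.quotientKerEquivOfSurjective ψ sψ).toEquiv, cS,
      ← Nat.card_congr e.toEquiv, cK, mul_comm] at this
    exact (Nat.eq_of_mul_eq_mul_left B0 this).symm
  have pk : IsPGroup 2 ψ.ker := IsPGroup.of_card ck
  have ep : pCore 2 C = ψ.ker := le_antisymm (sSup_le fun N hN => by
    rcases hS.eq_bot_or_eq_top_of_normal (N.map ψ) (hN.1.map ψ sψ) with c | c
    · exact (map_eq_bot_iff N).1 c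
    · exfalso
      obtain ⟨k, hk⟩ := IsPGroup.iff_card.1 (hN.2.map ψ)
      rw [c, card_top, cS] at hk
      rw [hk] at h3
      exact absurd (Nat.prime_three.dvd_of_dvd_pow h3) (by norm_num)) (le_sSup ⟨inferInstance, pk⟩)
  let f : Q →* ψ.ker := (e.toMonoidHom.comp (inclusion hQ)).codRestrict _ fun x => by
    have : φ (inclusion hQ x) = 1 := hq x x.2
    simpa [ψ] using this
  have fi : Function.Injective f := fun a b c =>
    inclusion_injective hQ (e.injective (congrArg Subtype.val c))
  have c1 : Nat.card Q ≤ 2 ^ n := ck ▸ Nat.card_le_card_of_injective f fi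
  have fb : Function.Bijective f := fi.bijective_of_nat_card_le (ck ▸ lb)
  refine ⟨?_, ep ▸ ck, ⟨(QuotientGroup.quotientMulEquivOfEq ep).trans (QuotientGroup.quotientKerEquivOfSurjective ψ sψ)⟩⟩
  rw [ep]
  exact ((hx c1).congr (MulEquiv.ofBijective f fb)).xs pk

end Cfsg.Agent.H6
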