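/- Centralizers from a backtrack search with derived symmetry generators. -/
import Cfsg.Agent.H6.CeB

namespace Cfsg.Agent.H6
open MulAction
variable {G Ω : Type*} [Group G] [MulAction G Ω] {N : ℕ} {X : ℕ → Ω} {nets : ℕ → Net}

theorem cent_eq_cl2 [Finite G] {g0 : ℕ → G} {n0 : ℕ → Net} (m0 : IsModel N X g0 n0 vT) {B : ℕ} (hG : Nat.card G = B)
    {kl : List ℕ} {n1 : ℕ → Net} (hD1 : Der N X (cl g0 (lw kl)) n1)
    {K : Subgroup G} (hD : Der N X K nets) {ch : Ch} (hB : ChnL G N X nets ch B) {fl : List (List ℕ × ℕ)} {z : ℕ}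
    {cs : List ℕ} (fB : (spC N nets z (lw cs) fl).FixOk) (cB : (spC N nets z (lw cs) fl).Clm G X false 0 ch [] [])
    {w : List ℕ} (hc : band (eqCh n0 nets ch w [z]) (band (lall (fun l => band (eqCh nets n1 ch [l] [l])
      (eqCh nets nets ch [z, l] [l, z])) cs) (lall (fun l => eqCh n0 n0 ch (l :: w) (lapp w [l])) kl)) = true) :
    cl g0 (lw kl) = Subgroup.centralizer {wp g0 w} := by
  obtain ⟨gens, hm, -⟩ := hD
  obtain ⟨g1, hm1, hK1⟩ := hD1
  have KB : Chn N X gens ch ⊤ := (hB gens hm ⊤ inferInstance le_top).2 (by rw [Subgroup.card_top, hG])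
  rw [band_eq, band_eq, lall_eq, lall_eq] at hc
  have e1 : wp g0 w = gens z := by simpa using KB.eq m0.toIsPre hm.toIsPre hc.1
  have e2 : ∀ l ∈ cs, gens l = g1 l := fun l hl => by
    simpa using KB.eq hm.toIsPre hm1.toIsPre ((band_eq _ _).1 (hc.2.1 l hl)).1
  have e3 : ∀ l ∈ cs, gens z * gens l = gens l * gens z := fun l hl => by
    simpa using KB.eq hm.toIsPre hm.toIsPre ((band_eq _ _).1 (hc.2.1 l hl)).2
  refine le_antisymm (cl_lw_le.2 fun l hl => Subgroup.mem_centralizer_singleton_iff.2 (by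
    simpa [wp_lapp] using KB.eq m0.toIsPre m0.toIsPre (hc.2.2 l hl))) fun y hy => ?_
  rw [e1] at hy
  have := (cB gens hm fB (fun c c1 l hl => by
    rw [List.mem_singleton.1 hl]
    obtain ⟨a, ha, rfl⟩ := List.mem_map.1 (lw_eq cs ▸ c1 : c ∈ cs.map fun l => [l])
    simpa [spC] using e3 a ha) ⊤ KB (by simp) (by simp) y
    (fun l hl => by rw [List.mem_singleton.1 hl]; exact Subgroup.mem_centralizer_singleton_iff.1 hy) (by simp)
    (fun c => by cases c)).2
  exact (cl_lw_le (K := cl g0 (lw kl))).2 (fun l hl => e2 l hl ▸ hK1 l) this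

theorem centralizer_equiv {G' : Type*} [Group G'] (e : G ≃* G') (d : G) :
    Nonempty (Subgroup.centralizer ({d} : Set G) ≃* Subgroup.centralizer ({e d} : Set G')) :=
  ⟨(e.subgroupMap _).trans (MulEquiv.subgroupCongr (by
    ext x
    obtain ⟨y, rfl⟩ := e.surjective x
    refine (Subgroup.mem_map_iff_mem (f := (e : G →* G')) e.injective).trans ?_
    rw [Subgroup.mem_centralizer_singleton_iff,
      Subgroup.mem_centralizer_singleton_iff, ← map_mul, ← map_mul, e.injective.eq_iff]))⟩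

theorem hom_cl_one {S : Type*} [Group S] {g : ℕ → G} {g' : ℕ → S} {kl : List ℕ} {φ : cl g (lw kl) →* S}
    (h : ∀ (w : List ℕ) (hw : wok (tb (mkM kl)) w = true), φ ⟨wp g w, wp_mem_lw hw⟩ = wp g' w)
    {qs : List (List ℕ)} (hq : wsok (tb (mkM kl)) qs = true) (h1 : ∀ w ∈ qs, wp g' w = 1) (x : G) (hx : x ∈ cl g qs) :
    φ ⟨x, cl_le_lw hq hx⟩ = 1 := by
  have : cl g qs ≤ φ.ker.map (cl g (lw kl)).subtype := cl_le.2 fun w hw =>
    ⟨⟨wp g w, wp_mem_lw (wok_iff.2 (wsok_iff.1 hq w hw))⟩, (h w (wok_iff.2 (wsok_iff.1 hq w hw))).trans (h1 w hw), rfl⟩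
  obtain ⟨y, y1, rfl⟩ := this hx
  exact y1

end Cfsg.Agent.H6
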