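import Cfsg.Agent.H6.CeA
import Cfsg.Agent.H6.HeB1
import Cfsg.Agent.S0242
set_option maxRecDepth 100000
set_option Elab.async false
namespace Cfsg.Agent.H6.CeHe
open Cfsg.Agent.H6
universe u

noncomputable def il : List ℕ := [1,0,3,2,5,4,7,6,9,8]
noncomputable abbrev io : ℕ → ℕ := iota il
noncomputable def C1 : List (List ℕ) := []
noncomputable def m2n0 : Net := (Net.cons (nat_lit 16) (nat_lit 4080)
  (Net.cons (nat_lit 8) (nat_lit 0xf00f0)
  (Net.cons (nat_lit 4) (nat_lit 0xf0f0000)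
  Net.nil)))
noncomputable def m2n1 : Net := (Net.cons (nat_lit 16) (nat_lit 4080)
  (Net.cons (nat_lit 8) (nat_lit 0xf000f0)
  (Net.cons (nat_lit 4) (nat_lit 0xf0f00)
  (Net.cons (nat_lit 16) (nat_lit 61680)
  Net.nil))))
noncomputable def m2n2 : Net := (Net.cons (nat_lit 16) (nat_lit 61680)
  (Net.cons (nat_lit 8) (nat_lit 0xf000f0)
  Net.nil))
noncomputable def m2n4 : Net := (Net.cons (nat_lit 1) (nat_lit 0x50505050)
  Net.nil)
noncomputable def m2n6 : Net := (Net.cons (nat_lit 4) (nat_lit 0xc0c0c0c)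
  Net.nil)
noncomputable def m2n8 : Net := (Net.cons (nat_lit 2) (nat_lit 0x22111122)
  Net.nil)
noncomputable def m2l : List Net := [m2n0,m2n1,m2n2,m2n2,m2n4,m2n4,m2n6,m2n6,m2n8,m2n8]
noncomputable abbrev m2 : ℕ → Net := lk Net.nil m2l
theorem m2ok : NetsOk 32 m2 vT := netsOk_of (by decide +kernel)
theorem m2s0 : Sat io [] (finG m2ok) := fin_sat_nil _ (k := 5) (n := 10) (by decide +kernel)
noncomputable def m3n0 : Net := (Net.cons (nat_lit 4) (nat_lit 12)
  (Net.cons (nat_lit 2) (nat_lit 49)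
  (Net.cons (nat_lit 1) (nat_lit 1)
  (Net.cons (nat_lit 4) (nat_lit 10)
  Net.nil))))
noncomputable def m3n1 : Net := (Net.cons (nat_lit 4) (nat_lit 10)
  (Net.cons (nat_lit 2) (nat_lit 51)
  (Net.cons (nat_lit 1) (nat_lit 4)
  (Net.cons (nat_lit 2) (nat_lit 2)
  (Net.cons (nat_lit 4) (nat_lit 12)
  Net.nil)))))
noncomputable def m3l : List Net := [m3n0,m3n1]
noncomputable abbrev m3 : ℕ → Net := lk Net.nil m3l
theorem m3ok : NetsOk 7 m3 vT := netsOk_of (by decide +kernel)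
theorem m3s0 : Sat io [] (finG m3ok) := fin_sat_nil _ (k := 3) (n := 10) (by decide +kernel)
noncomputable def r0 : List ℕ := [0,0,0,0,0,0,0]
noncomputable def m4n0 : Net := (Net.cons (nat_lit 4) (nat_lit 12)
  (Net.cons (nat_lit 2) (nat_lit 49)
  (Net.cons (nat_lit 1) (nat_lit 1)
  (Net.cons (nat_lit 4) (nat_lit 10)
  Net.nil))))
noncomputable def m4n1 : Net := (Net.cons (nat_lit 4) (nat_lit 10)
  (Net.cons (nat_lit 2) (nat_lit 51)
  (Net.cons (nat_lit 1) (nat_lit 4)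
  (Net.cons (nat_lit 2) (nat_lit 2)
  (Net.cons (nat_lit 4) (nat_lit 12)
  Net.nil)))))
noncomputable def m4l : List Net := [m4n0,m4n1]
noncomputable abbrev m4 : ℕ → Net := lk Net.nil m4l
theorem m4ok : NetsOk 7 m4 vT := netsOk_of (by decide +kernel)
theorem m4s0 : Sat io [] (finG m4ok) := fin_sat_nil _ (k := 3) (n := 10) (by decide +kernel)
noncomputable def C5 : List (List ℕ) := [r0]
theorem cl6 : Clo.{u} io C5 [] 7 m4 1 (mkB []) := Clo.start (by decide +kernel)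
theorem imp7 : Imp.{u} io C5 C1 := Imp.of_chk (pfs := []) (by decide +kernel)
theorem ix8 : Idx.{u} io C5 [] [] 1 := (Idx.triv (Bound.nil) (by norm_num)).of_imp imp7
noncomputable def lk9 : List (List ℕ × List ℕ × Pf) := []
noncomputable def O10 : ℕ := (nat_lit 2)
noncomputable def M11 : ℕ := (nat_lit 3)
noncomputable def b12 : ℕ := (nat_lit 1)
theorem cl13 : Clo.{u} io C5 [] 7 m4 M11 (mkB [(0,b12)]) := cl6.new (k := 0) (b := 0) (q := 0) (p := 1) (r := 200) (n := 1) (O := O10) (by decide +kernel) (lks := lk9) (by decide +kernel) (gens_of_lall2 (m := []) (by decide +kernel)) ix8 (by decide +kernel)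
noncomputable def b14 : ℕ := (nat_lit 2)
theorem cl15 : Clo.{u} io C5 [] 7 m4 M11 (mkB [(0,b12),(1,b14)]) := cl13.ops (os := [Op.inv 0]) (by decide +kernel) (by decide +kernel)
theorem ix16 : Idx.{u} io C5 [] [] 1 := (Idx.triv (Bound.nil) (by norm_num)).of_imp imp7
noncomputable def lk17 : List (List ℕ × List ℕ × Pf) := []
noncomputable def O18 : ℕ := (nat_lit 8)
noncomputable def M19 : ℕ := (nat_lit 11)
noncomputable def b20 : ℕ := (nat_lit 3)
theorem cl21 : Clo.{u} io C5 [] 7 m4 M19 (mkB [(0,b20),(1,b14)]) := cl15.new (k := 0) (b := 0) (q := 1) (p := 3) (r := 200) (n := 1) (O := O18) (by decide +kernel) (lks := lk17) (by decide +kernel) (gens_of_lall2 (m := []) (by decide +kernel)) ix16 (by decide +kernel)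
noncomputable def b22 : ℕ := (nat_lit 10)
theorem cl23 : Clo.{u} io C5 [] 7 m4 M19 (mkB [(0,b20),(1,b22)]) := cl21.ops (os := [Op.inv 0]) (by decide +kernel) (by decide +kernel)
theorem ix24 : Idx.{u} io C5 [] [] 1 := (Idx.triv (Bound.nil) (by norm_num)).of_imp imp7
noncomputable def lk25 : List (List ℕ × List ℕ × Pf) := []
noncomputable def O26 : ℕ := (nat_lit 32)
noncomputable def M27 : ℕ := (nat_lit 43)
noncomputable def b28 : ℕ := (nat_lit 11)
theorem cl29 : Clo.{u} io C5 [] 7 m4 M27 (mkB [(0,b28),(1,b22)]) := cl23.new (k := 0) (b := 0) (q := 3) (p := 5) (r := 200) (n := 1) (O := O26) (by decide +kernel) (lks := lk25) (by decide +kernel) (gens_of_lall2 (m := []) (by decide +kernel)) ix24 (by decide +kernel)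
noncomputable def b30 : ℕ := (nat_lit 42)
theorem cl31 : Clo.{u} io C5 [] 7 m4 M27 (mkB [(0,b28),(1,b30)]) := cl29.ops (os := [Op.inv 0]) (by decide +kernel) (by decide +kernel)
theorem ix32 : Idx.{u} io C5 [] [] 1 := (Idx.triv (Bound.nil) (by norm_num)).of_imp imp7
noncomputable def lk33 : List (List ℕ × List ℕ × Pf) := []
noncomputable def O34 : ℕ := (nat_lit 64)
noncomputable def M35 : ℕ := (nat_lit 107)
noncomputable def b36 : ℕ := (nat_lit 43)
theorem cl37 : Clo.{u} io C5 [] 7 m4 M35 (mkB [(0,b36),(1,b30)]) := cl31.new (k := 0) (b := 0) (q := 5) (p := 6) (r := 200) (n := 1) (O := O34) (by decide +kernel) (lks := lk33) (by decide +kernel) (gens_of_lall2 (m := []) (by decide +kernel)) ix32 (by decide +kernel)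
noncomputable def b38 : ℕ := (nat_lit 106)
theorem cl39 : Clo.{u} io C5 [] 7 m4 M35 (mkB [(0,b36),(1,b38)]) := cl37.ops (os := [Op.inv 0]) (by decide +kernel) (by decide +kernel)
theorem ix40 : Idx.{u} io C5 [] [] 1 := (Idx.triv (Bound.nil) (by norm_num)).of_imp imp7
noncomputable def lk41 : List (List ℕ × List ℕ × Pf) := []
noncomputable def O42 : ℕ := (nat_lit 16)
noncomputable def M43 : ℕ := (nat_lit 123)
noncomputable def b44 : ℕ := (nat_lit 107)
theorem cl45 : Clo.{u} io C5 [] 7 m4 M43 (mkB [(0,b44),(1,b38)]) := cl39.new (k := 0) (b := 0) (q := 6) (p := 4) (r := 200) (n := 1) (O := O42) (by decide +kernel) (lks := lk41) (by decide +kernel) (gens_of_lall2 (m := []) (by decide +kernel)) ix40 (by decide +kernel)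
noncomputable def b46 : ℕ := (nat_lit 122)
theorem cl47 : Clo.{u} io C5 [] 7 m4 M43 (mkB [(0,b44),(1,b46)]) := cl45.ops (os := [Op.inv 0]) (by decide +kernel) (by decide +kernel)
theorem ix48 : Idx.{u} io C5 [] [] 1 := (Idx.triv (Bound.nil) (by norm_num)).of_imp imp7
noncomputable def lk49 : List (List ℕ × List ℕ × Pf) := []
noncomputable def O50 : ℕ := (nat_lit 4)
noncomputable def M51 : ℕ := (nat_lit 127)
noncomputable def b52 : ℕ := (nat_lit 123)
theorem cl53 : Clo.{u} io C5 [] 7 m4 M51 (mkB [(0,b52),(1,b46)]) := cl47.new (k := 0) (b := 0) (q := 4) (p := 2) (r := 200) (n := 1) (O := O50) (by decide +kernel) (lks := lk49) (by decide +kernel) (gens_of_lall2 (m := []) (by decide +kernel)) ix48 (by decide +kernel)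
noncomputable def b54 : ℕ := (nat_lit 127)
noncomputable def b55 : ℕ := (nat_lit 127)
theorem cl56 : Clo.{u} io C5 [] 7 m4 M51 (mkB [(0,b54),(1,b55)]) := cl53.ops (os := [Op.inv 0,Op.rel 0 [] 1 [1,1,1,1,1] [([],1)],Op.inv 0]) (by decide +kernel) (by decide +kernel)
theorem sat58 : Sat io C5 (finG m4ok) := m4s0.fin (k := 3) (by decide +kernel)
theorem bd57 : Bound.{u} io C5 [0,1] 7 := cl56.bound (by decide +kernel) sat58 ((Bound.nil).of_imp imp7)
noncomputable def m59n0 : Net := (Net.cons (nat_lit 2) (nat_lit 49)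
  (Net.cons (nat_lit 1) (nat_lit 65)
  (Net.cons (nat_lit 2) (nat_lit 34)
  (Net.cons (nat_lit 4) (nat_lit 2)
  Net.nil))))
noncomputable def m59n1 : Net := (Net.cons (nat_lit 4) (nat_lit 2)
  (Net.cons (nat_lit 2) (nat_lit 17)
  (Net.cons (nat_lit 1) (nat_lit 20)
  (Net.cons (nat_lit 2) (nat_lit 2)
  Net.nil))))
noncomputable def m59n2 : Net := (Net.cons (nat_lit 4) (nat_lit 2)
  (Net.cons (nat_lit 2) (nat_lit 2)
  (Net.cons (nat_lit 1) (nat_lit 17)
  (Net.cons (nat_lit 2) (nat_lit 2)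
  (Net.cons (nat_lit 4) (nat_lit 2)
  Net.nil)))))
noncomputable def m59l : List Net := [m59n0,m59n1,m59n2,m59n2]
noncomputable abbrev m59 : ℕ → Net := lk Net.nil m59l
theorem m59ok : NetsOk 7 m59 vT := netsOk_of (by decide +kernel)
theorem m59s0 : Sat io [] (finG m59ok) := fin_sat_nil _ (k := 3) (n := 10) (by decide +kernel)
noncomputable def r1 : List ℕ := [2,2]
noncomputable def r2 : List ℕ := [2,0,2,0,2,0,2,0]
noncomputable def r3 : List ℕ := [2,0,0,2,0,0,2,0,0]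
noncomputable def r4 : List ℕ := [3,1,1,1,3,0,3,0,2,1,2,0,0,0,2,1,1]
noncomputable def m60n0 : Net := (Net.cons (nat_lit 12) (nat_lit 2560)
  (Net.cons (nat_lit 6) (nat_lit 57388)
  (Net.cons (nat_lit 3) (nat_lit 0x1470c2)
  (Net.cons (nat_lit 1) (nat_lit 0x48000)
  (Net.cons (nat_lit 1) (nat_lit 0x90482)
  (Net.cons (nat_lit 1) (nat_lit 37384)
  (Net.cons (nat_lit 3) (nat_lit 0x100002)
  (Net.cons (nat_lit 6) (nat_lit 32802)
  (Net.cons (nat_lit 12) (nat_lit 2176)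
  Net.nil)))))))))
noncomputable def m60n1 : Net := (Net.cons (nat_lit 12) (nat_lit 2176)
  (Net.cons (nat_lit 6) (nat_lit 0x19022)
  (Net.cons (nat_lit 3) (nat_lit 0xc71c2)
  (Net.cons (nat_lit 1) (nat_lit 4160)
  (Net.cons (nat_lit 1) (nat_lit 0x402482)
  (Net.cons (nat_lit 1) (nat_lit 0x209008)
  (Net.cons (nat_lit 3) (nat_lit 8450)
  (Net.cons (nat_lit 6) (nat_lit 0x1c02c)
  (Net.cons (nat_lit 12) (nat_lit 2560)
  Net.nil)))))))))
noncomputable def m60n2 : Net := (Net.cons (nat_lit 12) (nat_lit 1989)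
  (Net.cons (nat_lit 6) (nat_lit 0x1e034)
  (Net.cons (nat_lit 3) (nat_lit 0x182080)
  (Net.cons (nat_lit 1) (nat_lit 32833)
  (Net.cons (nat_lit 1) (nat_lit 0x92092)
  (Net.cons (nat_lit 1) (nat_lit 0x41008)
  (Net.cons (nat_lit 3) (nat_lit 0x80182)
  (Net.cons (nat_lit 6) (nat_lit 0x3000e)
  (Net.cons (nat_lit 12) (nat_lit 2106)
  Net.nil)))))))))
noncomputable def m60l : List Net := [m60n0,m60n1,m60n2,m60n2]
noncomputable abbrev m60 : ℕ → Net := lk Net.nil m60l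
theorem m60ok : NetsOk 24 m60 vT := netsOk_of (by decide +kernel)
theorem m60s0 : Sat io [] (finG m60ok) := fin_sat_nil _ (k := 5) (n := 10) (by decide +kernel)
noncomputable def C61 : List (List ℕ) := [r0,r1,r2,r3,r4]
theorem cl62 : Clo.{u} io C61 [0,1] 24 m60 1 (mkB []) := Clo.start (by decide +kernel)
theorem imp63 : Imp.{u} io C61 C5 := Imp.of_chk (pfs := [[([],1)]]) (by decide +kernel)
theorem ix64 : Idx.{u} io C61 [0,1] [] 7 := (Idx.triv bd57 (by norm_num)).of_imp imp63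
noncomputable def lk65 : List (List ℕ × List ℕ × Pf) := []
noncomputable def O66 : ℕ := (nat_lit 1374)
noncomputable def M67 : ℕ := (nat_lit 1375)
noncomputable def b68 : ℕ := (nat_lit 1)
theorem cl69 : Clo.{u} io C61 [0,1] 24 m60 M67 (mkB [(2,b68)]) := cl62.new (k := 2) (b := 2) (q := 0) (p := 1) (r := 200) (n := 7) (O := O66) (by decide +kernel) (lks := lk65) (by decide +kernel) (gens_of_lall2 (m := []) (by decide +kernel)) ix64 (by decide +kernel)
noncomputable def b70 : ℕ := (nat_lit 83)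
noncomputable def b71 : ℕ := (nat_lit 83)
theorem cl72 : Clo.{u} io C61 [0,1] 24 m60 M67 (mkB [(2,b70),(3,b71)]) := cl69.ops (os := [Op.inv 2,Op.rel 2 [] 3 [] [([],3)],Op.inv 2,Op.rel 2 [0,0] 3 [1,1,3,1,1] [([3],7)],Op.inv 2,Op.rel 2 [] 3 [] [([],3)],Op.inv 2]) (by decide +kernel) (by decide +kernel)
theorem ix73 : Idx.{u} io C61 [0,1] [] 7 := (Idx.triv bd57 (by norm_num)).of_imp imp63
noncomputable def lk74 : List (List ℕ × List ℕ × Pf) := []
noncomputable def O75 : ℕ := (nat_lit 0x4aaa0)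
noncomputable def M76 : ℕ := (nat_lit 0x4afff)
noncomputable def b77 : ℕ := (nat_lit 87)
theorem cl78 : Clo.{u} io C61 [0,1] 24 m60 M76 (mkB [(2,b77),(3,b71)]) := cl72.new (k := 2) (b := 2) (q := 2) (p := 5) (r := 200) (n := 7) (O := O75) (by decide +kernel) (lks := lk74) (by decide +kernel) (gens_of_lall2 (m := []) (by decide +kernel)) ix73 (by decide +kernel)
noncomputable def b79 : ℕ := (nat_lit 2815)
noncomputable def b80 : ℕ := (nat_lit 2815)
theorem cl81 : Clo.{u} io C61 [0,1] 24 m60 M76 (mkB [(2,b79),(3,b80)]) := cl78.ops (os := [Op.inv 2,Op.rel 2 [] 3 [] [([],3)],Op.inv 2,Op.rel 2 [0] 3 [1,3,1,3,1] [([3],5)],Op.inv 2,Op.rel 2 [] 3 [] [([],3)],Op.inv 2,Op.rel 2 [0] 3 [1,3,1,3,1] [([3],5)],Op.inv 2,Op.rel 2 [] 3 [] [([],3)],Op.inv 2]) (by decide +kernel) (by decide +kernel)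
theorem der83 : Der 7 (finX 7) (cl (finG m3ok) [[1,1]]) (fun _ => Net.nil) := Der.zero (finModel m3ok).inj
noncomputable def x84 : Net := (Net.cons (nat_lit 4) (nat_lit 13)
  (Net.cons (nat_lit 2) (nat_lit 16)
  (Net.cons (nat_lit 1) (nat_lit 80)
  (Net.cons (nat_lit 4) (nat_lit 10)
  Net.nil))))
noncomputable def ns85 : ℕ → Net := upd (fun _ => Net.nil) 0 x84
theorem der86 : Der 7 (finX 7) (cl (finG m3ok) [[1,1]]) ns85 := der83.add (wp_mem_cl (w := [1,1]) (by decide)) ((finModel m3ok).toIsPre.rep_word (k := 3) (w := [1,1]) (n := x84) (by decide +kernel)) 0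
noncomputable def L87 : Lev := Lev.cons 0 7 [[0]] Lev.nil
theorem lc88 : Lev.chk 7 0 ns85 vT 100 L87 = true := by decide +kernel
theorem lb89 : 7 ≤ Nat.card (cl (finG m3ok) [[1,1]]) := le_of_eq_of_le (by decide +kernel) (der86.card_ge lc88)
theorem sat90 : Sat io C5 (finG m3ok) := m3s0.fin (k := 3) (by decide +kernel)
theorem ix82 : Idx.{u} io C61 [0,1] [[1,1]] 1 := (Idx.of bd57 sat90 (by decide +kernel) lb89 (by decide +kernel)).of_imp imp63
noncomputable def lk91 : List (List ℕ × List ℕ × Pf) := [([1,1],[1,1,1,3,0,3,1,2,1,2,0,0,0],[([3,1,1,1,3,0,3,1,2,1,2,0,0,0,2],9)])]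
noncomputable def O92 : ℕ := (nat_lit 0x800000)
noncomputable def M93 : ℕ := (nat_lit 0x84afff)
noncomputable def b94 : ℕ := (nat_lit 0x40aff)
theorem cl95 : Clo.{u} io C61 [0,1] 24 m60 M93 (mkB [(2,b79),(3,b94)]) := cl81.new (k := 2) (b := 3) (q := 18) (p := 23) (r := 200) (n := 1) (O := O92) (by decide +kernel) (lks := lk91) (by decide +kernel) (gens_of_lall2 (m := [[0]]) (by decide +kernel)) ix82 (by decide +kernel)
noncomputable def b96 : ℕ := (nat_lit 0x840aff)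
noncomputable def b97 : ℕ := (nat_lit 0x840aff)
theorem cl98 : Clo.{u} io C61 [0,1] 24 m60 M93 (mkB [(2,b96),(3,b97)]) := cl95.ops (os := [Op.inv 3,Op.rel 2 [] 3 [] [([],3)],Op.inv 2]) (by decide +kernel) (by decide +kernel)
theorem ix99 : Idx.{u} io C61 [0,1] [] 7 := (Idx.triv bd57 (by norm_num)).of_imp imp63
noncomputable def lk100 : List (List ℕ × List ℕ × Pf) := []
noncomputable def O101 : ℕ := (nat_lit 0x3b5000)
noncomputable def M102 : ℕ := (nat_lit 0xbfffff)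
noncomputable def b103 : ℕ := (nat_lit 0x842aff)
theorem cl104 : Clo.{u} io C61 [0,1] 24 m60 M102 (mkB [(2,b103),(3,b97)]) := cl98.new (k := 2) (b := 2) (q := 13) (p := 19) (r := 200) (n := 7) (O := O101) (by decide +kernel) (lks := lk100) (by decide +kernel) (gens_of_lall2 (m := []) (by decide +kernel)) ix99 (by decide +kernel)
noncomputable def b105 : ℕ := (nat_lit 0xbdffff)
noncomputable def b106 : ℕ := (nat_lit 0xbdffff)
theorem cl107 : Clo.{u} io C61 [0,1] 24 m60 M102 (mkB [(2,b105),(3,b106)]) := cl104.ops (os := [Op.inv 2,Op.rel 2 [] 3 [] [([],3)],Op.inv 2,Op.rel 2 [0] 3 [1,3,1,3,1] [([3],5)],Op.inv 2,Op.rel 2 [] 3 [] [([],3)],Op.inv 2,Op.rel 2 [0] 3 [1,3,1,3,1] [([3],5)],Op.inv 2,Op.rel 2 [] 3 [] [([],3)],Op.inv 2,Op.rel 2 [0,0] 3 [1,1,3,1,1] [([3],7)],Op.inv 2,Op.rel 2 [] 3 [] [([],3)],Op.inv 2]) (by decide +kernel) (by decide +kernel)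
theorem der109 : Der 7 (finX 7) (cl (finG m3ok) [[0]]) (fun _ => Net.nil) := Der.zero (finModel m3ok).inj
noncomputable def ns110 : ℕ → Net := upd (fun _ => Net.nil) 0 (m3 0)
theorem der111 : Der 7 (finX 7) (cl (finG m3ok) [[0]]) ns110 := der109.add (wp_mem_cl (w := [0]) (by decide)) (rep_letter (finModel m3ok) 0) 0
noncomputable def L112 : Lev := Lev.cons 0 7 [[0]] Lev.nil
theorem lc113 : Lev.chk 7 0 ns110 vT 100 L112 = true := by decide +kernel
theorem lb114 : 7 ≤ Nat.card (cl (finG m3ok) [[0]]) := le_of_eq_of_le (by decide +kernel) (der111.card_ge lc113)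
theorem ix108 : Idx.{u} io C61 [0,1] [[0]] 1 := (Idx.of bd57 sat90 (by decide +kernel) lb114 (by decide +kernel)).of_imp imp63
noncomputable def lk115 : List (List ℕ × List ℕ × Pf) := [([0],[1,2,0,0,0,2,0,0,3,1,1,1,3,0],[([2,1,2,0,0,0,2],9)])]
noncomputable def O116 : ℕ := (nat_lit 0x400000)
noncomputable def M117 : ℕ := (nat_lit 0xffffff)
noncomputable def b118 : ℕ := (nat_lit 0xbfffff)
theorem cl119 : Clo.{u} io C61 [0,1] 24 m60 M117 (mkB [(2,b118),(3,b106)]) := cl107.new (k := 2) (b := 2) (q := 17) (p := 22) (r := 200) (n := 1) (O := O116) (by decide +kernel) (lks := lk115) (by decide +kernel) (gens_of_lall2 (m := [[0]]) (by decide +kernel)) ix108 (by decide +kernel)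
noncomputable def b120 : ℕ := (nat_lit 0xffffff)
noncomputable def b121 : ℕ := (nat_lit 0xffffff)
theorem cl122 : Clo.{u} io C61 [0,1] 24 m60 M117 (mkB [(2,b120),(3,b121)]) := cl119.ops (os := [Op.inv 2,Op.rel 2 [] 3 [] [([],3)],Op.inv 2]) (by decide +kernel) (by decide +kernel)
theorem sat124 : Sat io C61 (finG m60ok) := m60s0.fin (k := 5) (by decide +kernel)
theorem bd123 : Bound.{u} io C61 [0,1,2,3] 168 := cl122.bound (by decide +kernel) sat124 (bd57.of_imp imp63)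
noncomputable def m125n0 : Net := (Net.cons (nat_lit 8) (nat_lit 152)
  (Net.cons (nat_lit 4) (nat_lit 1281)
  (Net.cons (nat_lit 2) (nat_lit 16)
  (Net.cons (nat_lit 1) (nat_lit 16645)
  (Net.cons (nat_lit 2) (nat_lit 8192)
  (Net.cons (nat_lit 4) (nat_lit 3078)
  (Net.cons (nat_lit 8) (nat_lit 160)
  Net.nil)))))))
noncomputable def m125n1 : Net := (Net.cons (nat_lit 8) (nat_lit 160)
  (Net.cons (nat_lit 4) (nat_lit 777)
  (Net.cons (nat_lit 2) (nat_lit 513)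
  (Net.cons (nat_lit 1) (nat_lit 5200)
  (Net.cons (nat_lit 4) (nat_lit 2574)
  (Net.cons (nat_lit 8) (nat_lit 152)
  Net.nil))))))
noncomputable def m125n2 : Net := (Net.cons (nat_lit 8) (nat_lit 80)
  (Net.cons (nat_lit 4) (nat_lit 2306)
  (Net.cons (nat_lit 2) (nat_lit 2)
  (Net.cons (nat_lit 1) (nat_lit 16385)
  (Net.cons (nat_lit 2) (nat_lit 2)
  (Net.cons (nat_lit 4) (nat_lit 2048)
  (Net.cons (nat_lit 8) (nat_lit 80)
  Net.nil)))))))
noncomputable def m125n4 : Net := (Net.cons (nat_lit 8) (nat_lit 8)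
  (Net.cons (nat_lit 4) (nat_lit 13)
  (Net.cons (nat_lit 2) (nat_lit 546)
  (Net.cons (nat_lit 1) (nat_lit 260)
  (Net.cons (nat_lit 2) (nat_lit 514)
  (Net.cons (nat_lit 4) (nat_lit 12)
  (Net.cons (nat_lit 8) (nat_lit 8)
  Net.nil)))))))
noncomputable def m125l : List Net := [m125n0,m125n1,m125n2,m125n2,m125n4,m125n4]
noncomputable abbrev m125 : ℕ → Net := lk Net.nil m125l
theorem m125ok : NetsOk 14 m125 vT := netsOk_of (by decide +kernel)
theorem m125s0 : Sat io [] (finG m125ok) := fin_sat_nil _ (k := 4) (n := 10) (by decide +kernel)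
noncomputable def r5 : List ℕ := [4,4]
noncomputable def r6 : List ℕ := [5,2,4,3]
noncomputable def r7 : List ℕ := [5,1,2,0,4,1,3,0]
noncomputable def r8 : List ℕ := [5,0,3,1,1,1,4,0,0,0,3,1]
noncomputable def r9 : List ℕ := [5,0,0,2,1,1,4,0,0,3,1,1]
noncomputable def r10 : List ℕ := [5,0,0,4,0,4,1,1,1]
noncomputable def m126n0 : Net := (Net.cons (nat_lit 4) (nat_lit 6)
  (Net.cons (nat_lit 2) (nat_lit 50)
  (Net.cons (nat_lit 1) (nat_lit 20)
  (Net.cons (nat_lit 4) (nat_lit 14)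
  Net.nil))))
noncomputable def m126n1 : Net := (Net.cons (nat_lit 4) (nat_lit 14)
  (Net.cons (nat_lit 2) (nat_lit 48)
  (Net.cons (nat_lit 1) (nat_lit 68)
  (Net.cons (nat_lit 2) (nat_lit 2)
  (Net.cons (nat_lit 4) (nat_lit 6)
  Net.nil)))))
noncomputable def m126n2 : Net := (Net.cons (nat_lit 4) (nat_lit 4)
  (Net.cons (nat_lit 2) (nat_lit 32)
  (Net.cons (nat_lit 1) (nat_lit 20)
  (Net.cons (nat_lit 2) (nat_lit 32)
  (Net.cons (nat_lit 4) (nat_lit 4)
  Net.nil)))))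
noncomputable def m126n4 : Net := (Net.cons (nat_lit 4) (nat_lit 4)
  (Net.cons (nat_lit 2) (nat_lit 48)
  (Net.cons (nat_lit 1) (nat_lit 85)
  (Net.cons (nat_lit 4) (nat_lit 4)
  Net.nil))))
noncomputable def m126l : List Net := [m126n0,m126n1,m126n2,m126n2,m126n4,m126n4]
noncomputable abbrev m126 : ℕ → Net := lk Net.nil m126l
theorem m126ok : NetsOk 8 m126 vT := netsOk_of (by decide +kernel)
theorem m126s0 : Sat io [] (finG m126ok) := fin_sat_nil _ (k := 3) (n := 10) (by decide +kernel)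
noncomputable def C127 : List (List ℕ) := [r0,r1,r2,r3,r4,r5,r6,r7,r8,r9,r10]
theorem cl128 : Clo.{u} io C127 [0,1,2,3] 8 m126 1 (mkB []) := Clo.start (by decide +kernel)
theorem imp129 : Imp.{u} io C127 C61 := Imp.of_chk (pfs := [[([],1)],[([],3)],[([],5)],[([],7)],[([],9)]]) (by decide +kernel)
theorem der131 : Der 7 (finX 7) (cl (finG m59ok) [[2],[1,2,0],[0,3,1,1,1]]) (fun _ => Net.nil) := Der.zero (finModel m59ok).inj
noncomputable def ns132 : ℕ → Net := upd (fun _ => Net.nil) 0 (m59 2)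
theorem der133 : Der 7 (finX 7) (cl (finG m59ok) [[2],[1,2,0],[0,3,1,1,1]]) ns132 := der131.add (wp_mem_cl (w := [2]) (by decide)) (rep_letter (finModel m59ok) 2) 0
noncomputable def x134 : Net := (Net.cons (nat_lit 4) (nat_lit 4)
  (Net.cons (nat_lit 2) (nat_lit 32)
  (Net.cons (nat_lit 1) (nat_lit 65)
  (Net.cons (nat_lit 2) (nat_lit 32)
  (Net.cons (nat_lit 4) (nat_lit 4)
  Net.nil)))))
noncomputable def ns135 : ℕ → Net := upd ns132 1 x134
theorem der136 : Der 7 (finX 7) (cl (finG m59ok) [[2],[1,2,0],[0,3,1,1,1]]) ns135 := der133.add (wp_mem_cl (w := [1,2,0]) (by decide)) ((finModel m59ok).toIsPre.rep_word (k := 3) (w := [1,2,0]) (n := x134) (by decide +kernel)) 1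
noncomputable def x137 : Net := (Net.cons (nat_lit 4) (nat_lit 1)
  (Net.cons (nat_lit 2) (nat_lit 34)
  (Net.cons (nat_lit 1) (nat_lit 65)
  (Net.cons (nat_lit 2) (nat_lit 34)
  (Net.cons (nat_lit 4) (nat_lit 4)
  Net.nil)))))
noncomputable def ns138 : ℕ → Net := upd ns135 2 x137
theorem der139 : Der 7 (finX 7) (cl (finG m59ok) [[2],[1,2,0],[0,3,1,1,1]]) ns138 := der136.add (wp_mem_cl (w := [0,3,1,1,1]) (by decide)) ((finModel m59ok).toIsPre.rep_word (k := 3) (w := [0,3,1,1,1]) (n := x137) (by decide +kernel)) 2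
noncomputable def x140 : Net := (Net.cons (nat_lit 4) (nat_lit 6)
  (Net.cons (nat_lit 1) (nat_lit 16)
  (Net.cons (nat_lit 4) (nat_lit 2)
  Net.nil)))
noncomputable def x140s : ℕ → Net := upd ns138 3 x140
theorem der141 : Der 7 (finX 7) (cl (finG m59ok) [[2],[1,2,0],[0,3,1,1,1]]) x140s := der139.ext (k := 3) (w := [0,2,0,1,0]) 3 (by decide +kernel)
noncomputable def L142 : Lev := Lev.cons 1 2 [[3]] Lev.nil
noncomputable def L143 : Lev := Lev.cons 0 3 [[1]] L142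
noncomputable def L144 : Lev := Lev.cons 3 4 [[0],[2]] L143
theorem lc145 : Lev.chk 7 0 x140s vT 100 L144 = true := by decide +kernel
theorem lb146 : 24 ≤ Nat.card (cl (finG m59ok) [[2],[1,2,0],[0,3,1,1,1]]) := le_of_eq_of_le (by decide +kernel) (der141.card_ge lc145)
theorem sat147 : Sat io C61 (finG m59ok) := m59s0.fin (k := 3) (by decide +kernel)
theorem ix130 : Idx.{u} io C127 [0,1,2,3] [[2],[1,2,0],[0,3,1,1,1]] 7 := (Idx.of bd123 sat147 (by decide +kernel) lb146 (by decide +kernel)).of_imp imp129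
noncomputable def lk148 : List (List ℕ × List ℕ × Pf) := [([2],[2],[([4],13)]),([1,2,0],[1,2,0],[([4],15)]),([0,3,1,1,1],[0,2,1,1,1],[([4],17)])]
noncomputable def O149 : ℕ := (nat_lit 254)
noncomputable def M150 : ℕ := (nat_lit 255)
noncomputable def b151 : ℕ := (nat_lit 1)
theorem cl152 : Clo.{u} io C127 [0,1,2,3] 8 m126 M150 (mkB [(4,b151)]) := cl128.new (k := 0) (b := 4) (q := 0) (p := 1) (r := 200) (n := 7) (O := O149) (by decide +kernel) (lks := lk148) (by decide +kernel) (gens_of_lall2 (m := [[0],[1],[2]]) (by decide +kernel)) ix130 (by decide +kernel)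
noncomputable def b153 : ℕ := (nat_lit 255)
noncomputable def b154 : ℕ := (nat_lit 255)
theorem cl155 : Clo.{u} io C127 [0,1,2,3] 8 m126 M150 (mkB [(4,b153),(5,b154)]) := cl152.ops (os := [Op.inv 4,Op.rel 4 [] 5 [] [([],11)],Op.inv 4,Op.rel 5 [1,1,1] 5 [1,5,1,1] [([5,1,5,1,1,4],21)],Op.ext 5 2 [([3],[3],[([5,3,4],13)]),([2],[2],[([],12)]),([1,3,0],[1,3,0],[([5,1,3,0,4],15)]),([1,2,0],[1,2,0],[([],14)]),([0,0,0,3,1],[0,0,0,2,1],[([5,0,0,0,2,1,4],17)]),([0,2,1,1,1],[0,3,1,1,1],[([],16)]),([0,0,3,1,1],[0,0,3,1,1],[([5,0,0,3,1,1,4],19)]),([0,0,2,1,1],[0,0,2,1,1],[([],18)])],Op.inv 5]) (by decide +kernel) (by decide +kernel)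
theorem sat157 : Sat io C127 (finG m126ok) := m126s0.fin (k := 3) (by decide +kernel)
theorem bd156 : Bound.{u} io C127 [0,1,2,3,4,5] 1344 := cl155.bound (by decide +kernel) sat157 (bd123.of_imp imp129)
noncomputable def r11 : List ℕ := [6,6]
noncomputable def r12 : List ℕ := [7,3,1,1,6,0,0,3]
noncomputable def r13 : List ℕ := [7,0,2,1,6,0,3,1]
noncomputable def r14 : List ℕ := [7,0,4,1,6,0,5,1]
noncomputable def r15 : List ℕ := [7,1,1,2,0,6,1,3,0,0]
noncomputable def r16 : List ℕ := [7,1,1,1,6,0,6,0,0]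
noncomputable def m158n0 : Net := (Net.cons (nat_lit 8) (nat_lit 248)
  (Net.cons (nat_lit 4) (nat_lit 2048)
  (Net.cons (nat_lit 2) (nat_lit 8448)
  (Net.cons (nat_lit 1) (nat_lit 4420)
  (Net.cons (nat_lit 2) (nat_lit 546)
  (Net.cons (nat_lit 4) (nat_lit 3584)
  (Net.cons (nat_lit 8) (nat_lit 116)
  Net.nil)))))))
noncomputable def m158n1 : Net := (Net.cons (nat_lit 8) (nat_lit 116)
  (Net.cons (nat_lit 4) (nat_lit 3584)
  (Net.cons (nat_lit 2) (nat_lit 290)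
  (Net.cons (nat_lit 1) (nat_lit 5188)
  (Net.cons (nat_lit 2) (nat_lit 8704)
  (Net.cons (nat_lit 4) (nat_lit 2048)
  (Net.cons (nat_lit 8) (nat_lit 248)
  Net.nil)))))))
noncomputable def m158n2 : Net := (Net.cons (nat_lit 8) (nat_lit 32)
  (Net.cons (nat_lit 4) (nat_lit 1038)
  (Net.cons (nat_lit 2) (nat_lit 8194)
  (Net.cons (nat_lit 1) (nat_lit 16400)
  (Net.cons (nat_lit 2) (nat_lit 8192)
  (Net.cons (nat_lit 4) (nat_lit 1034)
  (Net.cons (nat_lit 8) (nat_lit 32)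
  Net.nil)))))))
noncomputable def m158n4 : Net := (Net.cons (nat_lit 8) (nat_lit 80)
  (Net.cons (nat_lit 4) (nat_lit 1546)
  (Net.cons (nat_lit 2) (nat_lit 4608)
  (Net.cons (nat_lit 1) (nat_lit 1028)
  (Net.cons (nat_lit 2) (nat_lit 512)
  (Net.cons (nat_lit 4) (nat_lit 1544)
  (Net.cons (nat_lit 8) (nat_lit 80)
  Net.nil)))))))
noncomputable def m158n6 : Net := (Net.cons (nat_lit 8) (nat_lit 148)
  (Net.cons (nat_lit 4) (nat_lit 2828)
  (Net.cons (nat_lit 2) (nat_lit 4352)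
  (Net.cons (nat_lit 1) (nat_lit 5205)
  (Net.cons (nat_lit 2) (nat_lit 8704)
  (Net.cons (nat_lit 4) (nat_lit 1024)
  (Net.cons (nat_lit 8) (nat_lit 148)
  Net.nil)))))))
noncomputable def m158l : List Net := [m158n0,m158n1,m158n2,m158n2,m158n4,m158n4,m158n6,m158n6]
noncomputable abbrev m158 : ℕ → Net := lk Net.nil m158l
theorem m158ok : NetsOk 16 m158 vT := netsOk_of (by decide +kernel)
theorem m158s0 : Sat io [] (finG m158ok) := fin_sat_nil _ (k := 4) (n := 10) (by decide +kernel)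
noncomputable def C159 : List (List ℕ) := [r0,r1,r2,r3,r4,r5,r6,r7,r8,r9,r10,r11,r12,r13,r14,r15,r16]
theorem cl160 : Clo.{u} io C159 [0,1,2,3,4,5] 16 m158 1 (mkB []) := Clo.start (by decide +kernel)
theorem imp161 : Imp.{u} io C159 C127 := Imp.of_chk (pfs := [[([],1)],[([],3)],[([],5)],[([],7)],[([],9)],[([],11)],[([],13)],[([],15)],[([],17)],[([],19)],[([],21)]]) (by decide +kernel)
theorem der163 : Der 14 (finX 14) (cl (finG m125ok) [[3,1,1],[0,2,1],[0,4,1],[1,1,2,0]]) (fun _ => Net.nil) := Der.zero (finModel m125ok).inj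
noncomputable def x164 : Net := (Net.cons (nat_lit 8) (nat_lit 150)
  (Net.cons (nat_lit 4) (nat_lit 2562)
  (Net.cons (nat_lit 2) (nat_lit 8498)
  (Net.cons (nat_lit 1) (nat_lit 1348)
  (Net.cons (nat_lit 2) (nat_lit 32)
  (Net.cons (nat_lit 4) (nat_lit 2)
  (Net.cons (nat_lit 8) (nat_lit 150)
  Net.nil)))))))
noncomputable def ns165 : ℕ → Net := upd (fun _ => Net.nil) 0 x164
theorem der166 : Der 14 (finX 14) (cl (finG m125ok) [[3,1,1],[0,2,1],[0,4,1],[1,1,2,0]]) ns165 := der163.add (wp_mem_cl (w := [3,1,1]) (by decide)) ((finModel m125ok).toIsPre.rep_word (k := 4) (w := [3,1,1]) (n := x164) (by decide +kernel)) 0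
noncomputable def x167 : Net := (Net.cons (nat_lit 8) (nat_lit 104)
  (Net.cons (nat_lit 4) (nat_lit 1544)
  (Net.cons (nat_lit 2) (nat_lit 8738)
  (Net.cons (nat_lit 1) (nat_lit 17412)
  (Net.cons (nat_lit 2) (nat_lit 8706)
  (Net.cons (nat_lit 4) (nat_lit 8)
  (Net.cons (nat_lit 8) (nat_lit 104)
  Net.nil)))))))
noncomputable def ns168 : ℕ → Net := upd ns165 1 x167
theorem der169 : Der 14 (finX 14) (cl (finG m125ok) [[3,1,1],[0,2,1],[0,4,1],[1,1,2,0]]) ns168 := der166.add (wp_mem_cl (w := [0,2,1]) (by decide)) ((finModel m125ok).toIsPre.rep_word (k := 4) (w := [0,2,1]) (n := x167) (by decide +kernel)) 1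
noncomputable def x170 : Net := (Net.cons (nat_lit 8) (nat_lit 36)
  (Net.cons (nat_lit 4) (nat_lit 2054)
  (Net.cons (nat_lit 2) (nat_lit 8738)
  (Net.cons (nat_lit 1) (nat_lit 1092)
  (Net.cons (nat_lit 2) (nat_lit 546)
  (Net.cons (nat_lit 4) (nat_lit 2048)
  (Net.cons (nat_lit 8) (nat_lit 36)
  Net.nil)))))))
noncomputable def ns171 : ℕ → Net := upd ns168 2 x170
theorem der172 : Der 14 (finX 14) (cl (finG m125ok) [[3,1,1],[0,2,1],[0,4,1],[1,1,2,0]]) ns171 := der169.add (wp_mem_cl (w := [0,4,1]) (by decide)) ((finModel m125ok).toIsPre.rep_word (k := 4) (w := [0,4,1]) (n := x170) (by decide +kernel)) 2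
noncomputable def x173 : Net := (Net.cons (nat_lit 8) (nat_lit 64)
  (Net.cons (nat_lit 4) (nat_lit 2826)
  (Net.cons (nat_lit 2) (nat_lit 8194)
  (Net.cons (nat_lit 1) (nat_lit 16388)
  (Net.cons (nat_lit 2) (nat_lit 2)
  (Net.cons (nat_lit 4) (nat_lit 2048)
  (Net.cons (nat_lit 8) (nat_lit 68)
  Net.nil)))))))
noncomputable def ns174 : ℕ → Net := upd ns171 3 x173
theorem der175 : Der 14 (finX 14) (cl (finG m125ok) [[3,1,1],[0,2,1],[0,4,1],[1,1,2,0]]) ns174 := der172.add (wp_mem_cl (w := [1,1,2,0]) (by decide)) ((finModel m125ok).toIsPre.rep_word (k := 4) (w := [1,1,2,0]) (n := x173) (by decide +kernel)) 3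
noncomputable def x176 : Net := (Net.cons (nat_lit 8) (nat_lit 36)
  (Net.cons (nat_lit 4) (nat_lit 1024)
  (Net.cons (nat_lit 2) (nat_lit 8738)
  (Net.cons (nat_lit 1) (nat_lit 16452)
  (Net.cons (nat_lit 2) (nat_lit 8226)
  (Net.cons (nat_lit 4) (nat_lit 1024)
  (Net.cons (nat_lit 8) (nat_lit 36)
  Net.nil)))))))
noncomputable def x176s : ℕ → Net := upd ns174 4 x176
theorem der177 : Der 14 (finX 14) (cl (finG m125ok) [[3,1,1],[0,2,1],[0,4,1],[1,1,2,0]]) x176s := der175.ext (k := 4) (w := [3,0,0,0,3]) 4 (by decide +kernel)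
noncomputable def L178 : Lev := Lev.cons 1 8 [[1],[2],[4]] Lev.nil
noncomputable def L179 : Lev := Lev.cons 7 12 [[0],[3]] L178
theorem lc180 : Lev.chk 14 1 x176s vT 100 L179 = true := by decide +kernel
theorem lb181 : 96 ≤ Nat.card (cl (finG m125ok) [[3,1,1],[0,2,1],[0,4,1],[1,1,2,0]]) := le_of_eq_of_le (by decide +kernel) (der177.card_ge lc180)
theorem sat182 : Sat io C127 (finG m125ok) := m125s0.fin (k := 4) (by decide +kernel)
theorem ix162 : Idx.{u} io C159 [0,1,2,3,4,5] [[3,1,1],[0,2,1],[0,4,1],[1,1,2,0]] 14 := (Idx.of bd156 sat182 (by decide +kernel) lb181 (by decide +kernel)).of_imp imp161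
noncomputable def lk183 : List (List ℕ × List ℕ × Pf) := [([3,1,1],[2,1,1],[([6],25)]),([0,2,1],[0,2,1],[([6],27)]),([0,4,1],[0,4,1],[([6],29)]),([1,1,2,0],[1,1,2,0],[([6],31)])]
noncomputable def O184 : ℕ := (nat_lit 61438)
noncomputable def M185 : ℕ := (nat_lit 61439)
noncomputable def b186 : ℕ := (nat_lit 1)
theorem cl187 : Clo.{u} io C159 [0,1,2,3,4,5] 16 m158 M185 (mkB [(6,b186)]) := cl160.new (k := 1) (b := 6) (q := 0) (p := 1) (r := 200) (n := 14) (O := O184) (by decide +kernel) (lks := lk183) (by decide +kernel) (gens_of_lall2 (m := [[0],[1],[2],[3]]) (by decide +kernel)) ix162 (by decide +kernel)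
noncomputable def b188 : ℕ := (nat_lit 61407)
noncomputable def b189 : ℕ := (nat_lit 61407)
theorem cl190 : Clo.{u} io C159 [0,1,2,3,4,5] 16 m158 M185 (mkB [(6,b188),(7,b189)]) := cl187.ops (os := [Op.inv 6,Op.rel 6 [] 7 [] [([],23)],Op.inv 6,Op.rel 6 [1,1,1] 6 [1,1,7,1] [([6],33)],Op.ext 6 3 [([3,1,1],[2,1,1],[([6],25)]),([0,0,2],[0,0,3],[([6,0,0,3],24)]),([0,2,1],[0,2,1],[([6],27)]),([0,3,1],[0,3,1],[([6,0,3,1],26)]),([0,4,1],[0,4,1],[([6],29)]),([0,5,1],[0,5,1],[([6,0,5,1],28)]),([1,1,2,0],[1,1,2,0],[([6],31)]),([1,3,0,0],[1,3,0,0],[([6,1,3,0,0],30)])],Op.inv 6]) (by decide +kernel) (by decide +kernel)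
theorem der192 : Der 14 (finX 14) (cl (finG m125ok) [[3,1,1],[0,2,1],[0,4,1],[1,1,1]]) (fun _ => Net.nil) := Der.zero (finModel m125ok).inj
noncomputable def x193 : Net := (Net.cons (nat_lit 8) (nat_lit 150)
  (Net.cons (nat_lit 4) (nat_lit 2562)
  (Net.cons (nat_lit 2) (nat_lit 8498)
  (Net.cons (nat_lit 1) (nat_lit 1348)
  (Net.cons (nat_lit 2) (nat_lit 32)
  (Net.cons (nat_lit 4) (nat_lit 2)
  (Net.cons (nat_lit 8) (nat_lit 150)
  Net.nil)))))))
noncomputable def ns194 : ℕ → Net := upd (fun _ => Net.nil) 0 x193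
theorem der195 : Der 14 (finX 14) (cl (finG m125ok) [[3,1,1],[0,2,1],[0,4,1],[1,1,1]]) ns194 := der192.add (wp_mem_cl (w := [3,1,1]) (by decide)) ((finModel m125ok).toIsPre.rep_word (k := 4) (w := [3,1,1]) (n := x193) (by decide +kernel)) 0
noncomputable def x196 : Net := (Net.cons (nat_lit 8) (nat_lit 104)
  (Net.cons (nat_lit 4) (nat_lit 1544)
  (Net.cons (nat_lit 2) (nat_lit 8738)
  (Net.cons (nat_lit 1) (nat_lit 17412)
  (Net.cons (nat_lit 2) (nat_lit 8706)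
  (Net.cons (nat_lit 4) (nat_lit 8)
  (Net.cons (nat_lit 8) (nat_lit 104)
  Net.nil)))))))
noncomputable def ns197 : ℕ → Net := upd ns194 1 x196
theorem der198 : Der 14 (finX 14) (cl (finG m125ok) [[3,1,1],[0,2,1],[0,4,1],[1,1,1]]) ns197 := der195.add (wp_mem_cl (w := [0,2,1]) (by decide)) ((finModel m125ok).toIsPre.rep_word (k := 4) (w := [0,2,1]) (n := x196) (by decide +kernel)) 1
noncomputable def x199 : Net := (Net.cons (nat_lit 8) (nat_lit 36)
  (Net.cons (nat_lit 4) (nat_lit 2054)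
  (Net.cons (nat_lit 2) (nat_lit 8738)
  (Net.cons (nat_lit 1) (nat_lit 1092)
  (Net.cons (nat_lit 2) (nat_lit 546)
  (Net.cons (nat_lit 4) (nat_lit 2048)
  (Net.cons (nat_lit 8) (nat_lit 36)
  Net.nil)))))))
noncomputable def ns200 : ℕ → Net := upd ns197 2 x199
theorem der201 : Der 14 (finX 14) (cl (finG m125ok) [[3,1,1],[0,2,1],[0,4,1],[1,1,1]]) ns200 := der198.add (wp_mem_cl (w := [0,4,1]) (by decide)) ((finModel m125ok).toIsPre.rep_word (k := 4) (w := [0,4,1]) (n := x199) (by decide +kernel)) 2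
noncomputable def x202 : Net := (Net.cons (nat_lit 8) (nat_lit 5)
  (Net.cons (nat_lit 4) (nat_lit 11)
  (Net.cons (nat_lit 2) (nat_lit 818)
  (Net.cons (nat_lit 1) (nat_lit 257)
  (Net.cons (nat_lit 4) (nat_lit 514)
  (Net.cons (nat_lit 8) (nat_lit 48)
  Net.nil))))))
noncomputable def ns203 : ℕ → Net := upd ns200 3 x202
theorem der204 : Der 14 (finX 14) (cl (finG m125ok) [[3,1,1],[0,2,1],[0,4,1],[1,1,1]]) ns203 := der201.add (wp_mem_cl (w := [1,1,1]) (by decide)) ((finModel m125ok).toIsPre.rep_word (k := 4) (w := [1,1,1]) (n := x202) (by decide +kernel)) 3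
noncomputable def x205 : Net := (Net.cons (nat_lit 8) (nat_lit 68)
  (Net.cons (nat_lit 4) (nat_lit 264)
  (Net.cons (nat_lit 2) (nat_lit 8194)
  (Net.cons (nat_lit 1) (nat_lit 16388)
  (Net.cons (nat_lit 2) (nat_lit 8194)
  (Net.cons (nat_lit 8) (nat_lit 68)
  Net.nil))))))
noncomputable def x205s : ℕ → Net := upd ns203 4 x205
theorem der206 : Der 14 (finX 14) (cl (finG m125ok) [[3,1,1],[0,2,1],[0,4,1],[1,1,1]]) x205s := der204.ext (k := 4) (w := [3,3,2,2,0,0,3]) 4 (by decide +kernel)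
noncomputable def x207 : Net := (Net.cons (nat_lit 8) (nat_lit 68)
  (Net.cons (nat_lit 4) (nat_lit 2562)
  (Net.cons (nat_lit 1) (nat_lit 16384)
  (Net.cons (nat_lit 4) (nat_lit 2048)
  (Net.cons (nat_lit 8) (nat_lit 64)
  Net.nil)))))
noncomputable def x207s : ℕ → Net := upd x205s 5 x207
theorem der208 : Der 14 (finX 14) (cl (finG m125ok) [[3,1,1],[0,2,1],[0,4,1],[1,1,1]]) x207s := der206.ext (k := 4) (w := [0,0,2,0,4,1,4,0,2,0,0]) 5 (by decide +kernel)
noncomputable def L209 : Lev := Lev.cons 1 8 [[1],[2],[5]] Lev.nil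
noncomputable def L210 : Lev := Lev.cons 7 12 [[0],[4]] L209
noncomputable def L211 : Lev := Lev.cons 0 14 [[3]] L210
theorem lc212 : Lev.chk 14 1 x207s vT 100 L211 = true := by decide +kernel
theorem lb213 : 1344 ≤ Nat.card (cl (finG m125ok) [[3,1,1],[0,2,1],[0,4,1],[1,1,1]]) := le_of_eq_of_le (by decide +kernel) (der208.card_ge lc212)
theorem ix191 : Idx.{u} io C159 [0,1,2,3,4,5] [[3,1,1],[0,2,1],[0,4,1],[1,1,1]] 1 := (Idx.of bd156 sat182 (by decide +kernel) lb213 (by decide +kernel)).of_imp imp161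
noncomputable def lk214 : List (List ℕ × List ℕ × Pf) := [([3,1,1],[2,1,1],[([6],25)]),([0,2,1],[0,2,1],[([6],27)]),([0,4,1],[0,4,1],[([6],29)]),([1,1,1],[1,1,7,1],[([6],33)])]
noncomputable def O215 : ℕ := (nat_lit 4096)
noncomputable def M216 : ℕ := (nat_lit 65535)
noncomputable def b217 : ℕ := (nat_lit 61439)
theorem cl218 : Clo.{u} io C159 [0,1,2,3,4,5] 16 m158 M216 (mkB [(6,b217),(7,b189)]) := cl190.new (k := 1) (b := 6) (q := 5) (p := 12) (r := 200) (n := 1) (O := O215) (by decide +kernel) (lks := lk214) (by decide +kernel) (gens_of_lall2 (m := [[0],[1],[2],[3]]) (by decide +kernel)) ix191 (by decide +kernel)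
noncomputable def b219 : ℕ := (nat_lit 65535)
noncomputable def b220 : ℕ := (nat_lit 65535)
theorem cl221 : Clo.{u} io C159 [0,1,2,3,4,5] 16 m158 M216 (mkB [(6,b219),(7,b220)]) := cl218.ops (os := [Op.inv 6,Op.rel 6 [] 7 [] [([],23)],Op.inv 6]) (by decide +kernel) (by decide +kernel)
theorem sat223 : Sat io C159 (finG m158ok) := m158s0.fin (k := 4) (by decide +kernel)
theorem bd222 : Bound.{u} io C159 [0,1,2,3,4,5,6,7] 21504 := cl221.bound (by decide +kernel) sat223 (bd156.of_imp imp161)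
noncomputable def mS : List (List ℕ) := [[1,2,20,12,8],[1,2,24,16,28],[1,2,4,12,20],[1,2,4,12,20],[5,2,4,8,16],[5,2,4,8,16],[1,2,6,8,16],[1,2,6,8,16],[1,27,4,8,16],[1,27,4,8,16]]
noncomputable def fS : List (List (List ℕ)) := [[[1,2,4,12,24],[1,2,20,24,16]],[[1,2,20,8,16],[1,2,4,8,20],[1,2,4,24,16],[1,2,4,8,24]],[[1,2,4,12,20]],[[1,2,4,12,20]],[[5,2,4,8,16]],[[5,2,4,8,16]],[[1,2,6,8,16]],[[1,2,6,8,16]],[[1,3,4,8,16],[1,26,4,8,16]],[[1,3,4,8,16],[1,26,4,8,16]]]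
theorem exS : ∃ g : ℕ → (Matrix.SpecialLinearGroup (Fin 5) (ZMod 2)), MRep (ixFin 5) (cdP 2) (Nat.cast : ℕ → ZMod 2) (slToMat 5 (ZMod 2)) g (lk (idm (cdP 2).q 5) mS) := mrep_SL (semP (F := ZMod 2) 2 (by norm_num)) (fs := fS) (by decide +kernel)
noncomputable def gS : ℕ → (Matrix.SpecialLinearGroup (Fin 5) (ZMod 2)) := exS.choose
theorem hgS : MRep (ixFin 5) (cdP 2) (Nat.cast : ℕ → ZMod 2) (slToMat 5 (ZMod 2)) gS (lk (idm (cdP 2).q 5) mS) := exS.choose_spec
noncomputable abbrev XS : ℕ → Fin 5 → ZMod 2 := Ce.vecC (cdP 2).q Nat.cast 5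
theorem modelS : IsModel 32 XS gS m2 vT := Ce.vecModel (fun _ _ => rfl) hgS (injP 2) (by decide +kernel)
theorem satS : Sat io C159 gS := hgS.sat (il := il) (by decide +kernel)
theorem cardS : Nat.card (Matrix.SpecialLinearGroup (Fin 5) (ZMod 2)) = 9999360 := by
  have cS := S0242.result (ZMod.card 2) 5 (by norm_num)
  generalize Nat.card (Matrix.SpecialLinearGroup (Fin 5) (ZMod 2)) = x at cS
  norm_num [Fin.prod_univ_succ] at cS; omega
theorem der224 : Der 32 XS (cl gS (lw [0,1,2,3,4,5,6,7])) (fun _ => Net.nil) := Der.zero modelS.inj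
noncomputable def ns225 : ℕ → Net := upd (fun _ => Net.nil) 0 (m2 0)
theorem der226 : Der 32 XS (cl gS (lw [0,1,2,3,4,5,6,7])) ns225 := der224.add (wp_mem_cl (w := [0]) (by decide)) (rep_letter modelS 0) 0
noncomputable def ns227 : ℕ → Net := upd ns225 1 (m2 1)
theorem der228 : Der 32 XS (cl gS (lw [0,1,2,3,4,5,6,7])) ns227 := der226.add (wp_mem_cl (w := [1]) (by decide)) (rep_letter modelS 1) 1
noncomputable def ns229 : ℕ → Net := upd ns227 2 (m2 2)
theorem der230 : Der 32 XS (cl gS (lw [0,1,2,3,4,5,6,7])) ns229 := der228.add (wp_mem_cl (w := [2]) (by decide)) (rep_letter modelS 2) 2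
noncomputable def ns231 : ℕ → Net := upd ns229 3 (m2 3)
theorem der232 : Der 32 XS (cl gS (lw [0,1,2,3,4,5,6,7])) ns231 := der230.add (wp_mem_cl (w := [3]) (by decide)) (rep_letter modelS 3) 3
noncomputable def ns233 : ℕ → Net := upd ns231 4 (m2 4)
theorem der234 : Der 32 XS (cl gS (lw [0,1,2,3,4,5,6,7])) ns233 := der232.add (wp_mem_cl (w := [4]) (by decide)) (rep_letter modelS 4) 4
noncomputable def ns235 : ℕ → Net := upd ns233 5 (m2 5)
theorem der236 : Der 32 XS (cl gS (lw [0,1,2,3,4,5,6,7])) ns235 := der234.add (wp_mem_cl (w := [5]) (by decide)) (rep_letter modelS 5) 5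
noncomputable def ns237 : ℕ → Net := upd ns235 6 (m2 6)
theorem der238 : Der 32 XS (cl gS (lw [0,1,2,3,4,5,6,7])) ns237 := der236.add (wp_mem_cl (w := [6]) (by decide)) (rep_letter modelS 6) 6
noncomputable def ns239 : ℕ → Net := upd ns237 7 (m2 7)
theorem der240 : Der 32 XS (cl gS (lw [0,1,2,3,4,5,6,7])) ns239 := der238.add (wp_mem_cl (w := [7]) (by decide)) (rep_letter modelS 7) 7
noncomputable def x241 : Net := (Net.cons (nat_lit 16) (nat_lit 61680)
  (Net.cons (nat_lit 4) (nat_lit 0xf000f00)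
  (Net.cons (nat_lit 8) (nat_lit 0xf000f0)
  Net.nil)))
noncomputable def x241s : ℕ → Net := upd ns239 8 x241
theorem der242 : Der 32 XS (cl gS (lw [0,1,2,3,4,5,6,7])) x241s := der240.ext (k := 5) (w := [0,4,2,4,0]) 8 (by decide +kernel)
noncomputable def x243 : Net := (Net.cons (nat_lit 16) (nat_lit 4080)
  Net.nil)
noncomputable def x243s : ℕ → Net := upd x241s 9 x243
theorem der244 : Der 32 XS (cl gS (lw [0,1,2,3,4,5,6,7])) x243s := der242.ext (k := 5) (w := [0,0,3,1,1]) 9 (by decide +kernel)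
noncomputable def x245 : Net := (Net.cons (nat_lit 8) (nat_lit 0xf000f0)
  Net.nil)
noncomputable def x245s : ℕ → Net := upd x243s 10 x245
theorem der246 : Der 32 XS (cl gS (lw [0,1,2,3,4,5,6,7])) x245s := der244.ext (k := 5) (w := [9,8,9,2,8]) 10 (by decide +kernel)
noncomputable def L247 : Lev := Lev.cons 4 8 [[2],[3],[4],[5],[10]] Lev.nil
noncomputable def L248 : Lev := Lev.cons 8 12 [[8],[9]] L247
noncomputable def L249 : Lev := Lev.cons 16 14 [[0],[1]] L248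
noncomputable def L250 : Lev := Lev.cons 2 16 [[6],[7]] L249
theorem lc251 : Lev.chk 32 2 x245s vT 100 L250 = true := by decide +kernel
theorem lb252 : 21504 ≤ Nat.card (cl gS (lw [0,1,2,3,4,5,6,7])) := le_of_eq_of_le (by decide +kernel) (der246.card_ge lc251)
theorem odS : Der 32 XS (cl gS (lw [0,1,2,3,4,5,6,7,8,9])) (resN m2 [0,1,2,3,4,5,6,7,8,9]) := Der.letters modelS _
noncomputable def x253 : Net := (Net.cons (nat_lit 1) (nat_lit 0x44444444)
  Net.nil)
noncomputable def x253s : ℕ → Net := upd (resN m2 [0,1,2,3,4,5,6,7,8,9]) 10 x253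
theorem der254 : Der 32 XS (cl gS (lw [0,1,2,3,4,5,6,7,8,9])) x253s := odS.ext (k := 5) (w := [4,6,5,7]) 10 (by decide +kernel)
noncomputable def x255 : Net := (Net.cons (nat_lit 16) (nat_lit 4080)
  (Net.cons (nat_lit 4) (nat_lit 0xf0f00)
  (Net.cons (nat_lit 2) (nat_lit 0x33330000)
  (Net.cons (nat_lit 8) (nat_lit 0xf000f0)
  Net.nil))))
noncomputable def x255s : ℕ → Net := upd x253s 11 x255
theorem der256 : Der 32 XS (cl gS (lw [0,1,2,3,4,5,6,7,8,9])) x255s := der254.ext (k := 5) (w := [8,6,2,7,1,2,6,8]) 11 (by decide +kernel)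
noncomputable def x257 : Net := (Net.cons (nat_lit 16) (nat_lit 4080)
  (Net.cons (nat_lit 2) (nat_lit 0x33003300)
  Net.nil))
noncomputable def x257s : ℕ → Net := upd x255s 12 x257
theorem der258 : Der 32 XS (cl gS (lw [0,1,2,3,4,5,6,7,8,9])) x257s := der256.ext (k := 5) (w := [11,4,11,0,4,0,0]) 12 (by decide +kernel)
noncomputable def x259 : Net := (Net.cons (nat_lit 8) (nat_lit 0xf000f0)
  (Net.cons (nat_lit 2) (nat_lit 0x30303030)
  Net.nil))
noncomputable def x259s : ℕ → Net := upd x257s 13 x259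
theorem der260 : Der 32 XS (cl gS (lw [0,1,2,3,4,5,6,7,8,9])) x259s := der258.ext (k := 5) (w := [12,3,12]) 13 (by decide +kernel)
noncomputable def x261 : Net := (Net.cons (nat_lit 8) (nat_lit 0xcc00cc)
  (Net.cons (nat_lit 4) (nat_lit 0xc0c0c0c)
  Net.nil))
noncomputable def x261s : ℕ → Net := upd x259s 14 x261
theorem der262 : Der 32 XS (cl gS (lw [0,1,2,3,4,5,6,7,8,9])) x261s := der260.ext (k := 5) (w := [12,6,2,12,6,3,6,12,2,6,12]) 14 (by decide +kernel)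
noncomputable def x263 : Net := (Net.cons (nat_lit 1) (nat_lit 0x44444444)
  Net.nil)
noncomputable def x263s : ℕ → Net := upd x261s 15 x263
theorem der264 : Der 32 XS (cl gS (lw [0,1,2,3,4,5,6,7,8,9])) x263s := der262.ext (k := 5) (w := [13,14,4,14,13]) 15 (by decide +kernel)
noncomputable def x265 : Net := (Net.cons (nat_lit 16) (nat_lit 52428)
  (Net.cons (nat_lit 8) (nat_lit 0xcc00cc)
  Net.nil))
noncomputable def x265s : ℕ → Net := upd x263s 16 x265
theorem der266 : Der 32 XS (cl gS (lw [0,1,2,3,4,5,6,7,8,9])) x265s := der264.ext (k := 5) (w := [13,14,2,14,13]) 16 (by decide +kernel)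
theorem nokS : NetsOk 32 x265s vT := der266.elim fun _ h => h.1.ok
noncomputable def chS5 : Ch := []
noncomputable def chSD4 : ℕ := (nat_lit 0xcccccccc)
noncomputable def chS4 : Ch := (2, chSD4, [6,7,14,15,16]) :: chS5
theorem chSok4 : ChnL (Matrix.SpecialLinearGroup (Fin 5) (ZMod 2)) 32 XS x265s chS4 16 := ChnL.cons2 (l0 := [6,7,14,15,16]) (n := 16) (B := 1) (k := 2) (rr := 300) ChnL.nil (by decide +kernel) (by decide +kernel)
noncomputable def chSD3 : ℕ := (nat_lit 0xfcfcfcfc)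
noncomputable def chS3 : Ch := (13, chSD3, [2,3,4,5,6,7,13,14,15,16]) :: chS4
theorem chSok3 : ChnL (Matrix.SpecialLinearGroup (Fin 5) (ZMod 2)) 32 XS x265s chS3 384 := ChnL.cons2 (l0 := [2,3,4,5,6,7,13,14]) (n := 24) (B := 16) (k := 2) (rr := 300) chSok4 (by decide +kernel) (by decide +kernel)
noncomputable def chSD2 : ℕ := (nat_lit 0xfffcfffc)
noncomputable def chS2 : Ch := (24, chSD2, [2,3,4,5,6,7,12,13,14,15,16]) :: chS3
theorem chSok2 : ChnL (Matrix.SpecialLinearGroup (Fin 5) (ZMod 2)) 32 XS x265s chS2 10752 := ChnL.cons2 (l0 := [2,3,4,5,6,7,12]) (n := 28) (B := 384) (k := 2) (rr := 300) chSok3 (by decide +kernel) (by decide +kernel)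
noncomputable def chSD1 : ℕ := (nat_lit 0xfffffffc)
noncomputable def chS1 : Ch := (16, chSD1, [0,1,2,3,4,5,6,7,11,12,13,14,15,16]) :: chS2
theorem chSok1 : ChnL (Matrix.SpecialLinearGroup (Fin 5) (ZMod 2)) 32 XS x265s chS1 322560 := ChnL.cons2 (l0 := [0,1,2,3,4,5,6,7,11]) (n := 30) (B := 10752) (k := 2) (rr := 300) chSok2 (by decide +kernel) (by decide +kernel)
noncomputable def chSD0 : ℕ := (nat_lit 0xfffffffe)
noncomputable def chS0 : Ch := (1, chSD0, [0,1,2,3,4,5,6,7,8,9,11,12,13,14,15,16]) :: chS1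
theorem chSok0 : ChnL (Matrix.SpecialLinearGroup (Fin 5) (ZMod 2)) 32 XS x265s chS0 9999360 := ChnL.cons2 (l0 := [0,1,2,3,4,5,6,7,8,9]) (n := 31) (B := 322560) (k := 2) (rr := 300) chSok1 (by decide +kernel) (by decide +kernel)
noncomputable def flS0 : ℕ := (nat_lit 0x33333333)
noncomputable def flS : List (List ℕ × ℕ) := [([10],flS0)]
theorem fokS : (spC 32 x265s 10 (lw [0,1,2,3,4,5,6,7]) flS).FixOk := SP.fixOk_of _ nokS (k := 5) (by decide +kernel)
noncomputable def cm267T : BT := (BT.br [[0],[2],[4],[6]] (BT.kid 1 [] (BT.br [[0],[2],[4],[6]] (BT.kid 16 [] (BT.br [[2],[4],[6],[0,2,0],[0,0,2,1,1]] (BT.kid 24 [] (BT.br [[2],[4],[6],[1,6,0],[1,2,0,2,1,2,0]] (BT.kid 13 [] (BT.br [[6],[1,6,0],[0,6,1],[4,6,4]] (BT.kid 2 [] BT.live BT.nil)) BT.nil)) BT.nil)) BT.nil)) (BT.kid 5 [8,6,8] (BT.br [[6],[1,6,0],[2,1,1],[0,2,1],[0,4,1],[1,2,0,0]] (BT.kid 20 [] (BT.br [[6],[1,6,0],[0,6,1],[4,6,4],[2,1,2,1],[1,4,1,4,0,0],[2,1,1,1,2,0,0]]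 (BT.kid 24 [] (BT.br [[6],[1,6,0],[0,6,1],[4,6,4]] (BT.kid 13 [] (BT.br [[6],[1,6,0],[0,6,1],[4,6,4]] (BT.kid 6 [] (BT.nc 10 2) BT.nil)) (BT.kid 21 [2] (BT.br [[6],[1,6,0],[0,6,1],[4,6,4]] (BT.kid 6 [] (BT.nc 10 2) BT.nil)) (BT.kid 8 [4] (BT.br [[6],[1,6,0],[0,6,1],[4,6,4]] (BT.kid 6 [] (BT.nc 10 2) BT.nil)) (BT.kid 16 [2,4] (BT.br [[6],[1,6,0],[0,6,1],[4,6,4]] (BT.kid 6 [] (BT.nc 10 2) BT.nil)) (BT.kid 1 [13,6,14,13] (BT.br [[6],[1,6,0],[0,6,1],[4,6,4]] (BT.kid 10 [] (BT.nc 10 2) BT.nil)) (BT.kid 25 [2,13,6,14,13] (BT.br [[6],[1,6,0],[0,6,1],[4,6,4]] (BT.kid 10 [] (BT.nc 10 2) BT.nil)) (BT.kid 4 [4,13,6,14,13] (BT.br [[6],[1,6,0],[0,6,1],[4,6,4]] (BT.kid 10 [] (BT.nc 10 2) BT.nil)) (BT.kid 28 [2,4,13,6,14,13] (BT.br [[6],[1,6,0],[0,6,1],[4,6,4]] (BT.kid 10 [] (BT.nc 10 2) BT.nil)) BT.nil))))))))) (BT.kid 4 [12,6,13] (BT.br [[6],[1,6,0],[0,6,1],[4,6,4],[2,1,2,1],[1,4,1,4,0,0],[2,1,1,1,2,0,0]] (BT.kid 13 [13,6] (BT.br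 [[6],[1,6,0],[0,6,1],[4,6,4]] (BT.kid 18 [] (BT.nc 10 2) BT.nil)) BT.nil)) (BT.kid 1 [12,6,4,13] (BT.br [[6],[1,6,0],[0,6,1],[4,6,4],[2,1,2,1],[1,4,1,4,0,0],[2,1,1,1,2,0,0]] (BT.kid 8 [13,6] (BT.br [[6],[1,6,0],[0,6,1],[4,6,4]] (BT.kid 18 [] (BT.nc 10 2) BT.nil)) BT.nil)) (BT.kid 16 [12,6,12,2] (BT.br [[6],[1,6,0],[0,6,1],[4,6,4],[2,1,2,1],[1,4,1,4,0,0],[2,1,1,1,2,0,0]] (BT.kid 29 [] (BT.br [[6],[1,6,0],[0,6,1],[4,6,4]] (BT.kid 14 [] (BT.nc 10 2) BT.nil)) BT.nil)) (BT.kid 21 [12,6,4,12,2] (BT.br [[6],[1,6,0],[0,6,1],[4,6,4],[2,1,2,1],[1,4,1,4,0,0],[2,1,1,1,2,0,0]] (BT.kid 29 [] (BT.br [[6],[1,6,0],[0,6,1],[4,6,4]] (BT.kid 11 [] (BT.nc 10 2) BT.nil)) BT.nil)) BT.nil)))))) (BT.kid 4 [1] (BT.br [[6],[1,6,0],[2,1,1],[0,2,1],[0,4,1],[1,2,0,0]] (BT.kid 28 [] (BT.br [[6],[1,6,0],[0,2,1],[0,4,1],[2,0,2,1,2]] (BT.kid 21 [] (BT.br [[6],[1,6,0],[0,6,1],[4,6,4]] (BT.kid 6 [] (BT.nc 10 2) BT.nil)) BT.nil)) BT.nil)) (BT.kid 1 [1,4]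 (BT.br [[6],[1,6,0],[2,1,1],[0,2,1],[0,4,1],[1,2,0,0]] (BT.kid 25 [] (BT.br [[6],[1,6,0],[0,2,1],[0,4,1],[2,0,2,1,2]] (BT.kid 16 [] (BT.br [[6],[1,6,0],[0,6,1],[4,6,4]] (BT.kid 6 [] (BT.nc 10 2) BT.nil)) BT.nil)) BT.nil)) BT.nil)))) BT.nil)))
theorem cm267 : (spC 32 x265s 10 (lw [0,1,2,3,4,5,6,7]) flS).Clm (Matrix.SpecialLinearGroup (Fin 5) (ZMod 2)) XS false 0 chS0 [] [] := SP.Clm.ofN (T := cm267T) (by decide +kernel)
theorem ceS : cl gS (lw [0,1,2,3,4,5,6,7]) = Subgroup.centralizer {wp gS [4,6,5,7]} := cent_eq_cl modelS cardS der266 chSok0 fokS cm267 (by decide +kernel)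

end Cfsg.Agent.H6.CeHe
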