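import Cfsg.Agent.H6.CeC
import Cfsg.Agent.H6.LeS2c3
import Cfsg.Agent.H6.Simp3
import Cfsg.Agent.S0245
set_option maxRecDepth 100000
set_option Elab.async false
namespace Cfsg.Agent.H6.Le.S2c
open Cfsg.Agent.H6
universe u

noncomputable def m5001n0 : Net := (Net.cons (nat_lit 16) (nat_lit 21549)
  (Net.cons (nat_lit 8) (nat_lit 65568)
  (Net.cons (nat_lit 4) (nat_lit 0xe050204)
  (Net.cons (nat_lit 2) (nat_lit 0x1120330)
  (Net.cons (nat_lit 1) (nat_lit 0x40410401)
  (Net.cons (nat_lit 2) (nat_lit 0x20000000)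
  (Net.cons (nat_lit 4) (nat_lit 0xa080802)
  (Net.cons (nat_lit 8) (nat_lit 0x54002c)
  (Net.cons (nat_lit 16) (nat_lit 21380)
  Net.nil)))))))))
noncomputable def m5001n1 : Net := (Net.cons (nat_lit 16) (nat_lit 27441)
  (Net.cons (nat_lit 8) (nat_lit 0x6c0043)
  (Net.cons (nat_lit 4) (nat_lit 0x6020a08)
  (Net.cons (nat_lit 2) (nat_lit 0x23103203)
  (Net.cons (nat_lit 1) (nat_lit 0x41110100)
  (Net.cons (nat_lit 2) (nat_lit 0x22200200)
  (Net.cons (nat_lit 4) (nat_lit 0x4040600)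
  (Net.cons (nat_lit 8) (nat_lit 0x2000dc)
  (Net.cons (nat_lit 16) (nat_lit 26114)
  Net.nil)))))))))
noncomputable def m5001n2 : Net := (Net.cons (nat_lit 16) (nat_lit 30071)
  (Net.cons (nat_lit 8) (nat_lit 0x40084)
  (Net.cons (nat_lit 4) (nat_lit 0x1010404)
  (Net.cons (nat_lit 2) (nat_lit 0x31010022)
  (Net.cons (nat_lit 1) (nat_lit 0x41044115)
  (Net.cons (nat_lit 2) (nat_lit 0x20000200)
  (Net.cons (nat_lit 4) (nat_lit 0x6000400)
  (Net.cons (nat_lit 8) (nat_lit 0x660084)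
  (Net.cons (nat_lit 16) (nat_lit 29438)
  Net.nil)))))))))
noncomputable def m5001n3 : Net := (Net.cons (nat_lit 16) (nat_lit 35841)
  (Net.cons (nat_lit 8) (nat_lit 0x840066)
  (Net.cons (nat_lit 4) (nat_lit 0x400010d)
  (Net.cons (nat_lit 2) (nat_lit 0x2013130)
  (Net.cons (nat_lit 1) (nat_lit 0x41154110)
  (Net.cons (nat_lit 2) (nat_lit 0x202020)
  (Net.cons (nat_lit 4) (nat_lit 0x404060c)
  (Net.cons (nat_lit 8) (nat_lit 0x840004)
  (Net.cons (nat_lit 16) (nat_lit 34952)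
  Net.nil)))))))))
noncomputable def m5001n4 : Net := (Net.cons (nat_lit 16) (nat_lit 10960)
  (Net.cons (nat_lit 8) (nat_lit 0x9c0094)
  (Net.cons (nat_lit 4) (nat_lit 0x900040b)
  (Net.cons (nat_lit 2) (nat_lit 0x20222031)
  (Net.cons (nat_lit 1) (nat_lit 0x11401041)
  (Net.cons (nat_lit 2) (nat_lit 0x2202020)
  (Net.cons (nat_lit 4) (nat_lit 0x2000004)
  (Net.cons (nat_lit 8) (nat_lit 0x980094)
  (Net.cons (nat_lit 16) (nat_lit 10960)
  Net.nil)))))))))
noncomputable def m5001n6 : Net := (Net.cons (nat_lit 16) (nat_lit 17080)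
  (Net.cons (nat_lit 8) (nat_lit 0x640018)
  (Net.cons (nat_lit 4) (nat_lit 0x40804)
  (Net.cons (nat_lit 2) (nat_lit 0x20032003)
  (Net.cons (nat_lit 1) (nat_lit 0x44000410)
  (Net.cons (nat_lit 2) (nat_lit 0x20000000)
  (Net.cons (nat_lit 4) (nat_lit 0x40804)
  (Net.cons (nat_lit 8) (nat_lit 0x640018)
  (Net.cons (nat_lit 16) (nat_lit 16424)
  Net.nil)))))))))
noncomputable def m5001l : List Net := [m5001n0,m5001n1,m5001n2,m5001n3,m5001n4,m5001n4,m5001n6,m5001n6]
noncomputable abbrev m5001 : ℕ → Net := lk Net.nil m5001l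
theorem m5001ok : NetsOk 28 m5001 vT := netsOk_of (by decide +kernel)
theorem m5001s0 : Sat io [] (finG m5001ok) := fin_sat_nil _ (k := 5) (n := 16) (by decide +kernel)
abbrev GS : Type := ↥(cl (finG m5001ok) (lw [0,1,2,3,4,5,6,7]))
theorem allS : ∀ l, finG m5001ok l ∈ (cl (finG m5001ok) (lw [0,1,2,3,4,5,6,7])) := finG_mem_all _ (by decide +kernel)
noncomputable def gS : ℕ → GS := subA _ _ allS
theorem sat5002 : Sat io C288 (finG m5001ok) := m5001s0.fin (k := 5) (by decide +kernel)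
noncomputable abbrev RS : List (List ℕ) := C288
theorem satS : Sat io RS gS := sat5002.subA _
theorem topS : cl gS (lw [0,1,2,3,4,5,6,7]) = ⊤ := cl_subA _
theorem modelS : IsModel 28 (finX 28) gS m5001 vT := (finModel m5001ok).subA _
theorem faithS : Faith GS 28 (finX 28) := (faith_fin 28).sub _
theorem der5003 : Der 28 (finX 28) (cl (finG m5001ok) (lw [0,1,2,3,4,5,6,7])) (resN m5001 [0,1,2,3,4,5,6,7]) := Der.letters (finModel m5001ok) _
noncomputable def x5004 : Net := (Net.cons (nat_lit 16) (nat_lit 1380)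
  (Net.cons (nat_lit 8) (nat_lit 0x6a0098)
  (Net.cons (nat_lit 4) (nat_lit 0xc080804)
  (Net.cons (nat_lit 2) (nat_lit 0x1231032)
  (Net.cons (nat_lit 1) (nat_lit 0x40110114)
  (Net.cons (nat_lit 2) (nat_lit 0x20220222)
  (Net.cons (nat_lit 4) (nat_lit 0xe00020c)
  (Net.cons (nat_lit 8) (nat_lit 0x600038)
  (Net.cons (nat_lit 16) (nat_lit 1992)
  Net.nil)))))))))
noncomputable def x5004s : ℕ → Net := upd (resN m5001 [0,1,2,3,4,5,6,7]) 16 x5004
theorem der5005 : Der 28 (finX 28) (cl (finG m5001ok) (lw [0,1,2,3,4,5,6,7])) x5004s := der5003.ext (k := 5) (w := [6,1,3]) 16 (by decide +kernel)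
noncomputable def x5006 : Net := (Net.cons (nat_lit 16) (nat_lit 5170)
  (Net.cons (nat_lit 8) (nat_lit 0x830028)
  (Net.cons (nat_lit 4) (nat_lit 0x4060e0a)
  (Net.cons (nat_lit 2) (nat_lit 0x10222312)
  (Net.cons (nat_lit 1) (nat_lit 0x41414554)
  (Net.cons (nat_lit 2) (nat_lit 0x220000)
  (Net.cons (nat_lit 4) (nat_lit 0x4000a0a)
  (Net.cons (nat_lit 8) (nat_lit 0x8200c2)
  (Net.cons (nat_lit 16) (nat_lit 5026)
  Net.nil)))))))))
noncomputable def x5006s : ℕ → Net := upd x5004s 17 x5006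
theorem der5007 : Der 28 (finX 28) (cl (finG m5001ok) (lw [0,1,2,3,4,5,6,7])) x5006s := der5005.ext (k := 5) (w := [4,6,4,1,1]) 17 (by decide +kernel)
noncomputable def x5008 : Net := (Net.cons (nat_lit 16) (nat_lit 15420)
  (Net.cons (nat_lit 8) (nat_lit 0x8900aa)
  (Net.cons (nat_lit 4) (nat_lit 0xe070406)
  (Net.cons (nat_lit 2) (nat_lit 0x10010110)
  (Net.cons (nat_lit 1) (nat_lit 0x50010140)
  (Net.cons (nat_lit 2) (nat_lit 32)
  (Net.cons (nat_lit 4) (nat_lit 0x404060e)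
  (Net.cons (nat_lit 8) (nat_lit 0xba00e2)
  (Net.cons (nat_lit 16) (nat_lit 13560)
  Net.nil)))))))))
noncomputable def x5008s : ℕ → Net := upd x5006s 18 x5008
theorem der5009 : Der 28 (finX 28) (cl (finG m5001ok) (lw [0,1,2,3,4,5,6,7])) x5008s := der5007.ext (k := 5) (w := [17,17,16,17,16,16,17,17,16,17,17]) 18 (by decide +kernel)
noncomputable def x5010 : Net := (Net.cons (nat_lit 16) (nat_lit 16742)
  (Net.cons (nat_lit 8) (nat_lit 0x2a00a6)
  (Net.cons (nat_lit 4) (nat_lit 0x401010c)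
  (Net.cons (nat_lit 2) (nat_lit 0x1200310)
  (Net.cons (nat_lit 1) (nat_lit 0x1101104)
  (Net.cons (nat_lit 2) (nat_lit 0x200202)
  (Net.cons (nat_lit 4) (nat_lit 0x6080000)
  (Net.cons (nat_lit 8) (nat_lit 0x68003a)
  (Net.cons (nat_lit 16) (nat_lit 17158)
  Net.nil)))))))))
noncomputable def x5010s : ℕ → Net := upd x5008s 19 x5010
theorem der5011 : Der 28 (finX 28) (cl (finG m5001ok) (lw [0,1,2,3,4,5,6,7])) x5010s := der5009.ext (k := 5) (w := [16,16,18]) 19 (by decide +kernel)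
noncomputable def x5012 : Net := (Net.cons (nat_lit 16) (nat_lit 980)
  (Net.cons (nat_lit 8) (nat_lit 0x80008)
  (Net.cons (nat_lit 4) (nat_lit 0xa0a04)
  (Net.cons (nat_lit 2) (nat_lit 0x2222010)
  (Net.cons (nat_lit 1) (nat_lit 0x1411140)
  (Net.cons (nat_lit 2) (nat_lit 0x222000)
  (Net.cons (nat_lit 4) (nat_lit 4)
  (Net.cons (nat_lit 8) (nat_lit 0x80008)
  (Net.cons (nat_lit 16) (nat_lit 212)
  Net.nil)))))))))
noncomputable def x5012s : ℕ → Net := upd x5010s 20 x5012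
theorem der5013 : Der 28 (finX 28) (cl (finG m5001ok) (lw [0,1,2,3,4,5,6,7])) x5012s := der5011.ext (k := 5) (w := [16,18,18,18,16,16,18,18,18]) 20 (by decide +kernel)
noncomputable def x5014 : Net := (Net.cons (nat_lit 16) (nat_lit 836)
  (Net.cons (nat_lit 8) (nat_lit 0x100018)
  (Net.cons (nat_lit 4) (nat_lit 0x808080e)
  (Net.cons (nat_lit 2) (nat_lit 0x20221020)
  (Net.cons (nat_lit 1) (nat_lit 0x11410144)
  (Net.cons (nat_lit 2) (nat_lit 0x20220002)
  (Net.cons (nat_lit 4) (nat_lit 0x8080000)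
  (Net.cons (nat_lit 8) (nat_lit 0x100018)
  (Net.cons (nat_lit 16) (nat_lit 68)
  Net.nil)))))))))
noncomputable def x5014s : ℕ → Net := upd x5012s 21 x5014
theorem der5015 : Der 28 (finX 28) (cl (finG m5001ok) (lw [0,1,2,3,4,5,6,7])) x5014s := der5013.ext (k := 5) (w := [19,19]) 21 (by decide +kernel)
noncomputable def x5016 : Net := (Net.cons (nat_lit 16) (nat_lit 576)
  (Net.cons (nat_lit 8) (nat_lit 0x80078)
  (Net.cons (nat_lit 4) (nat_lit 0xf050a)
  (Net.cons (nat_lit 2) (nat_lit 0x332130)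
  (Net.cons (nat_lit 1) (nat_lit 0x1151140)
  (Net.cons (nat_lit 2) (nat_lit 0x2200000)
  (Net.cons (nat_lit 4) (nat_lit 0xc0c08)
  (Net.cons (nat_lit 8) (nat_lit 0x80002)
  (Net.cons (nat_lit 16) (nat_lit 704)
  Net.nil)))))))))
noncomputable def x5016s : ℕ → Net := upd x5014s 22 x5016
theorem der5017 : Der 28 (finX 28) (cl (finG m5001ok) (lw [0,1,2,3,4,5,6,7])) x5016s := der5015.ext (k := 5) (w := [19,20,19,20,20,19,20,20,19,20,19]) 22 (by decide +kernel)
noncomputable def x5018 : Net := (Net.cons (nat_lit 16) (nat_lit 832)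
  (Net.cons (nat_lit 8) (nat_lit 0x80080)
  (Net.cons (nat_lit 4) (nat_lit 8)
  (Net.cons (nat_lit 2) (nat_lit 0x320000)
  (Net.cons (nat_lit 1) (nat_lit 0x1510100)
  (Net.cons (nat_lit 2) (nat_lit 0x20000)
  (Net.cons (nat_lit 8) (nat_lit 0x80080)
  (Net.cons (nat_lit 16) (nat_lit 64)
  Net.nil))))))))
noncomputable def x5018s : ℕ → Net := upd x5016s 23 x5018
theorem der5019 : Der 28 (finX 28) (cl (finG m5001ok) (lw [0,1,2,3,4,5,6,7])) x5018s := der5017.ext (k := 5) (w := [20,20,21,22]) 23 (by decide +kernel)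
noncomputable def L5020 : Lev := Lev.cons 3 2 [[23]] Lev.nil
noncomputable def L5021 : Lev := Lev.cons 7 6 [[20],[21],[22]] L5020
noncomputable def L5022 : Lev := Lev.cons 10 10 [[19]] L5021
noncomputable def L5023 : Lev := Lev.cons 2 16 [[16],[18]] L5022
noncomputable def L5024 : Lev := Lev.cons 26 27 [[17]] L5023
noncomputable def L5025 : Lev := Lev.cons 0 28 [[0],[1],[2],[3],[4],[5],[6],[7]] L5024
theorem lc5026 : Lev.chk 28 2 x5018s vT 100 L5025 = true := by decide +kernel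
theorem bdS : Bound.{u} io RS [0,1,2,3,4,5,6,7] 1451520 := bd399
theorem cardS : Nat.card GS = 1451520 := le_antisymm (bdS.{0}.fin sat5002) (le_of_eq_of_le (by decide +kernel) (der5019.card_ge lc5026))
noncomputable def baseS : List ℕ := [0,26,2,10,7,3]
theorem basedS : Based 28 (finX 28) (⊤ : Subgroup GS) baseS := (der5019.based lc5026 (le_of_eq_of_le cardS (by decide +kernel))).sub
noncomputable def eqvS : List ℕ → List ℕ → Bool := eqBc m5001 baseS
theorem heqS : ∀ u w, eqvS u w = true → wp gS u = wp gS w := basedS.eqv modelS.toIsPre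
theorem hgeS : ∀ l, llen il ≤ l → gS l = 1 := fun l h => Subtype.ext (finG_eq_one m5001ok (n := 16) (by decide +kernel) l (le_of_eq_of_le (by decide +kernel) h))
theorem s0S : Sat io [] gS := satS.nil
noncomputable def cvS : List (List ℕ) := [[0],[4,6,0,7,5]]
theorem der5027 : Der 28 (finX 28) (cl gS cvS) (fun _ => Net.nil) := Der.zero modelS.inj
noncomputable def ns5028 : ℕ → Net := upd (fun _ => Net.nil) 0 (m5001 0)
theorem der5029 : Der 28 (finX 28) (cl gS cvS) ns5028 := der5027.add (wp_mem_cl (w := [0]) (by decide)) (rep_letter modelS 0) 0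
noncomputable def x5030 : Net := (Net.cons (nat_lit 16) (nat_lit 46513)
  (Net.cons (nat_lit 8) (nat_lit 0xb80017)
  (Net.cons (nat_lit 4) (nat_lit 0xa020e00)
  (Net.cons (nat_lit 2) (nat_lit 0x1311023)
  (Net.cons (nat_lit 1) (nat_lit 0x14114040)
  (Net.cons (nat_lit 2) (nat_lit 0x2202000)
  (Net.cons (nat_lit 4) (nat_lit 0x80e08)
  (Net.cons (nat_lit 8) (nat_lit 0xa0056)
  (Net.cons (nat_lit 16) (nat_lit 46602)
  Net.nil)))))))))
noncomputable def ns5031 : ℕ → Net := upd ns5028 1 x5030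
theorem der5032 : Der 28 (finX 28) (cl gS cvS) ns5031 := der5029.add (wp_mem_cl (w := [4,6,0,7,5]) (by decide)) (modelS.toIsPre.rep_word (k := 5) (w := [4,6,0,7,5]) (n := x5030) (by decide +kernel)) 1
noncomputable def x5033 : Net := (Net.cons (nat_lit 16) (nat_lit 51474)
  (Net.cons (nat_lit 8) (nat_lit 0xda0036)
  (Net.cons (nat_lit 4) (nat_lit 0xe060b00)
  (Net.cons (nat_lit 2) (nat_lit 0x13210020)
  (Net.cons (nat_lit 1) (nat_lit 0x51441044)
  (Net.cons (nat_lit 2) (nat_lit 0x2022020)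
  (Net.cons (nat_lit 4) (nat_lit 0xa040a0c)
  (Net.cons (nat_lit 8) (nat_lit 0x920024)
  (Net.cons (nat_lit 16) (nat_lit 49252)
  Net.nil)))))))))
noncomputable def x5033s : ℕ → Net := upd ns5031 2 x5033
theorem der5034 : Der 28 (finX 28) (cl gS cvS) x5033s := der5032.ext (k := 5) (w := [0,1,0,0,1,1,1]) 2 (by decide +kernel)
noncomputable def x5035 : Net := (Net.cons (nat_lit 16) (nat_lit 65188)
  (Net.cons (nat_lit 8) (nat_lit 0x22006e)
  (Net.cons (nat_lit 4) (nat_lit 0xe0b0a06)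
  (Net.cons (nat_lit 2) (nat_lit 0x230110)
  (Net.cons (nat_lit 1) (nat_lit 0x14444110)
  (Net.cons (nat_lit 2) (nat_lit 0x20202000)
  (Net.cons (nat_lit 4) (nat_lit 0xc020806)
  (Net.cons (nat_lit 8) (nat_lit 0xb60068)
  (Net.cons (nat_lit 16) (nat_lit 64284)
  Net.nil)))))))))
noncomputable def x5035s : ℕ → Net := upd x5033s 3 x5035
theorem der5036 : Der 28 (finX 28) (cl gS cvS) x5035s := der5034.ext (k := 5) (w := [0,1,1,1,1,1,0]) 3 (by decide +kernel)
noncomputable def x5037 : Net := (Net.cons (nat_lit 16) (nat_lit 3380)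
  (Net.cons (nat_lit 8) (nat_lit 0x470012)
  (Net.cons (nat_lit 4) (nat_lit 0x60906)
  (Net.cons (nat_lit 2) (nat_lit 0x3023232)
  (Net.cons (nat_lit 1) (nat_lit 0x4414144)
  (Net.cons (nat_lit 2) (nat_lit 0x22000)
  (Net.cons (nat_lit 4) (nat_lit 0x40c0c00)
  (Net.cons (nat_lit 8) (nat_lit 0x460000)
  (Net.cons (nat_lit 16) (nat_lit 3106)
  Net.nil)))))))))
noncomputable def x5037s : ℕ → Net := upd x5035s 4 x5037
theorem der5038 : Der 28 (finX 28) (cl gS cvS) x5037s := der5036.ext (k := 5) (w := [2,2,2,2,2,2,3,2]) 4 (by decide +kernel)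
noncomputable def x5039 : Net := (Net.cons (nat_lit 16) (nat_lit 64388)
  (Net.cons (nat_lit 8) (nat_lit 0xb600c8)
  (Net.cons (nat_lit 4) (nat_lit 0x6060a04)
  (Net.cons (nat_lit 2) (nat_lit 0x20100210)
  (Net.cons (nat_lit 1) (nat_lit 0x51144110)
  (Net.cons (nat_lit 2) (nat_lit 0x2222200)
  (Net.cons (nat_lit 4) (nat_lit 0xa080a04)
  (Net.cons (nat_lit 8) (nat_lit 0x4400c8)
  (Net.cons (nat_lit 16) (nat_lit 65412)
  Net.nil)))))))))
noncomputable def x5039s : ℕ → Net := upd x5037s 5 x5039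
theorem der5040 : Der 28 (finX 28) (cl gS cvS) x5039s := der5038.ext (k := 5) (w := [4,3,3,3,3,3,3]) 5 (by decide +kernel)
noncomputable def x5041 : Net := (Net.cons (nat_lit 16) (nat_lit 49684)
  (Net.cons (nat_lit 8) (nat_lit 0xce0082)
  (Net.cons (nat_lit 4) (nat_lit 0xc070304)
  (Net.cons (nat_lit 2) (nat_lit 0x3132210)
  (Net.cons (nat_lit 1) (nat_lit 0x45141014)
  (Net.cons (nat_lit 2) (nat_lit 0x222002)
  (Net.cons (nat_lit 4) (nat_lit 0x4040a04)
  (Net.cons (nat_lit 8) (nat_lit 0x4a0082)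
  (Net.cons (nat_lit 16) (nat_lit 50756)
  Net.nil)))))))))
noncomputable def x5041s : ℕ → Net := upd x5039s 6 x5041
theorem der5042 : Der 28 (finX 28) (cl gS cvS) x5041s := der5040.ext (k := 5) (w := [3,4,4,4]) 6 (by decide +kernel)
noncomputable def x5043 : Net := (Net.cons (nat_lit 16) (nat_lit 32784)
  (Net.cons (nat_lit 8) (nat_lit 0x8800a0)
  (Net.cons (nat_lit 4) (nat_lit 0x40004)
  (Net.cons (nat_lit 2) (nat_lit 0x300020)
  (Net.cons (nat_lit 1) (nat_lit 0x4004044)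
  (Net.cons (nat_lit 2) (nat_lit 32)
  (Net.cons (nat_lit 4) (nat_lit 0x40004)
  (Net.cons (nat_lit 8) (nat_lit 0x8800a0)
  (Net.cons (nat_lit 16) (nat_lit 32784)
  Net.nil)))))))))
noncomputable def x5043s : ℕ → Net := upd x5041s 7 x5043
theorem der5044 : Der 28 (finX 28) (cl gS cvS) x5043s := der5042.ext (k := 5) (w := [6,6,5,6,6]) 7 (by decide +kernel)
noncomputable def L5045 : Lev := Lev.cons 2 2 [[7]] Lev.nil
noncomputable def L5046 : Lev := Lev.cons 12 6 [[5]] L5045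
noncomputable def L5047 : Lev := Lev.cons 16 10 [[6]] L5046
noncomputable def L5048 : Lev := Lev.cons 1 16 [[3],[4]] L5047
noncomputable def L5049 : Lev := Lev.cons 27 27 [[2]] L5048
noncomputable def L5050 : Lev := Lev.cons 0 28 [[0],[1]] L5049
theorem lc5051 : Lev.chk 28 2 x5043s vT 100 L5050 = true := by decide +kernel
theorem lb5052 : 1451520 ≤ Nat.card (cl gS cvS) := le_of_eq_of_le (by decide +kernel) (der5044.card_ge lc5051)
theorem simpleS : IsSimpleGroup GS := modelS.simple faithS topS (ws := [[5,0,4,6],[3,1,5,2]]) (r := 300) (p0 := 0) (l := [(1,[0])]) (by decide +kernel) (p := 7) (by norm_num) cardS (by norm_num) (pow_one_of heqS (a := [0]) (by decide +kernel)) (ncl_top s0S (cs := [[],[4,6]]) (by decide +kernel) cardS lb5052)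
theorem sat5053 : Sat io C402 (finG m5001ok) := m5001s0.fin (k := 5) (by decide +kernel)
theorem satSe : Sat io C402 gS := sat5053.subA _
noncomputable def mS : List (List ℕ) := [[23,10,25,36,39,63],[52,44,7,46,30,15],[53,46,41,2,37,13],[52,8,58,46,17,30],[54,15,9,50,29,26],[54,15,9,50,29,26],[50,8,14,2,41,32],[50,8,14,2,41,32],[1,2,4,8,16,32],[1,2,4,8,16,32],[1,2,4,8,16,32],[1,2,4,8,16,32],[1,2,4,8,16,32],[1,2,4,8,16,32],[1,2,4,8,16,32],[1,2,4,8,16,32]]
theorem isoS {F : Type u} [Field F] [Fintype F] (hF : Fintype.card F = 2) : Nonempty (GS ≃* Matrix.symplecticGroup (Fin 3) F) := by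
  haveI : CharP F 2 := charP_of_card (k := 1) Nat.prime_two hF
  have hs := semP (F := F) 2 (by norm_num)
  obtain ⟨g, hg⟩ := mrep_Sp hs (ixSum 3) (hJ_of (e := 1) hs (hs.v1.trans (CharTwo.neg_eq 1).symm) (U := [8,16,32,1,2,4]) (by decide +kernel)) (ml := mS) (by decide +kernel)
  have hc : Nat.card (Matrix.symplecticGroup (Fin 3) F) = 1451520 := by
    exact (S0245.result hF 3).trans (by simp [Finset.prod_range_succ])
  exact bdS.equivU satS (hg.sat (il := il) (Rl := RS) (by decide +kernel)) topS cardS simpleS hc (u := [0]) (w := []) (by decide +kernel) (hg.nev (injP 2) (i := 0) (j := 1) (by decide +kernel))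

end Cfsg.Agent.H6.Le.S2c
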