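import Cfsg.Agent.H6.CeK3
set_option maxRecDepth 100000
set_option Elab.async false
namespace Cfsg.Agent.H6.Le.S2c
open Cfsg.Agent.H6
universe u

theorem nokC : NetsOk 2300 x5172s vT := der5173.elim fun _ h => h.1.ok
noncomputable def chC12 : Ch := []
noncomputable def chCD11 : ℕ := (nat_lit 192)
noncomputable def chC11 : Ch := (6, chCD11, [44]) :: chC12
theorem chCok11 : ChnL (FixV [rU]) 2300 (PX 8 C2.mpS) x5172s chC11 2 := ChnL.cons2 (l0 := [44]) (n := 2) (B := 1) (k := 9) (rr := 300) ChnL.nil (by decide +kernel) (by decide +kernel)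
noncomputable def chCD10 : ℕ := (nat_lit 48)
noncomputable def chC10 : Ch := (4, chCD10, [39,40,44]) :: chC11
theorem chCok10 : ChnL (FixV [rU]) 2300 (PX 8 C2.mpS) x5172s chC10 4 := ChnL.cons2 (l0 := [39,40]) (n := 2) (B := 2) (k := 9) (rr := 300) chCok11 (by decide +kernel) (by decide +kernel)
noncomputable def chCD9 : ℕ := (nat_lit 0x1000004)
noncomputable def chC9 : Ch := (2, chCD9, [39,40,43,44]) :: chC10
theorem chCok9 : ChnL (FixV [rU]) 2300 (PX 8 C2.mpS) x5172s chC9 8 := ChnL.cons2 (l0 := [39,40,43]) (n := 2) (B := 4) (k := 9) (rr := 300) chCok10 (by decide +kernel) (by decide +kernel)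
noncomputable def chCD8 : ℕ := (nat_lit 0x40100000000000000000000000000000000000000000000000000000000000000000000000000000000000000000000000)
noncomputable def chC8 : Ch := (380, chCD8, [39,40,41,42,43,44]) :: chC9
theorem chCok8 : ChnL (FixV [rU]) 2300 (PX 8 C2.mpS) x5172s chC8 16 := ChnL.cons2 (l0 := [39,40,41,42]) (n := 2) (B := 8) (k := 9) (rr := 300) chCok9 (by decide +kernel) (by decide +kernel)
noncomputable def chCD7 : ℕ := (nat_lit 0x696900000000000000000000000000000000000000000000000000000000000000000000000000000000000000000000000000000000000000000000000000000000000000000000000000000000000000000000000000000000000000000000000033330000000033330000cc3300000000000000000000000000000000000000000000000000000000000000000000000000000000000000000000000)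
noncomputable def chC7 : Ch := (394, chCD7, [31,33,34,35,36,37,38,39,40,41,42,43,44]) :: chC8
theorem chCok7 : ChnL (FixV [rU]) 2300 (PX 8 C2.mpS) x5172s chC7 512 := ChnL.cons2 (l0 := [31,33,34,35,36,37,38,39]) (n := 32) (B := 16) (k := 9) (rr := 300) chCok8 (by decide +kernel) (by decide +kernel)
noncomputable def chCD6 : ℕ := (nat_lit 0x40004000000)
noncomputable def chC6 : Ch := (26, chCD6, [31,32,33,34,35,36,37,38,39,40,41,42,43,44]) :: chC7
theorem chCok6 : ChnL (FixV [rU]) 2300 (PX 8 C2.mpS) x5172s chC6 1024 := ChnL.cons2 (l0 := [31,32,33,34,35]) (n := 2) (B := 512) (k := 9) (rr := 300) chCok7 (by decide +kernel) (by decide +kernel)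
noncomputable def chCD5 : ℕ := (nat_lit 0x80008010000)
noncomputable def chC5 : Ch := (16, chCD5, [28,29,30,31,32,33,34,35,36,37,38,39,40,41,42,43,44]) :: chC6
theorem chCok5 : ChnL (FixV [rU]) 2300 (PX 8 C2.mpS) x5172s chC5 3072 := ChnL.cons2 (l0 := [28,29,30,31]) (n := 3) (B := 1024) (k := 9) (rr := 300) chCok6 (by decide +kernel) (by decide +kernel)
noncomputable def chCD4 : ℕ := (nat_lit 0x10820000000000000000000000000000000000000000000000000000000000000000000000000000000000000000000000000000000000000000000000000000000000000000000000000000000000000000002)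
noncomputable def chC4 : Ch := (1, chCD4, [26,27,28,29,30,31,32,33,34,35,36,37,38,39,40,41,42,43,44]) :: chC5
theorem chCok4 : ChnL (FixV [rU]) 2300 (PX 8 C2.mpS) x5172s chC4 12288 := ChnL.cons2 (l0 := [26,27,28]) (n := 4) (B := 3072) (k := 9) (rr := 300) chCok5 (by decide +kernel) (by decide +kernel)
noncomputable def chCD3 : ℕ := (nat_lit 0x1441004100001400000000000000000000000000000000000000000000000014000041004114000000000000000000000000000000000000000000000000000014410041000014000000000000000000000000000000000000000000000000140000410041140000000000000000000000000000000000000000000000000000000000000000000000000000000000000000000000000000000000000000000000000000000000000000000000000000000000000000000000000041240000000000000000000000000000000000000000000000000000000000000000000000000000000000000000000000000000000000000000000000000000000000000000000000000000000081008010000)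
noncomputable def chC3 : Ch := (36, chCD3, [24,25,26,27,28,29,30,31,32,33,34,35,36,37,38,39,40,41,42,43,44]) :: chC4
theorem chCok3 : ChnL (FixV [rU]) 2300 (PX 8 C2.mpS) x5172s chC3 491520 := ChnL.cons2 (l0 := [24,25]) (n := 40) (B := 12288) (k := 9) (rr := 300) chCok4 (by decide +kernel) (by decide +kernel)
noncomputable def chCD2 : ℕ := (nat_lit 0x1441004100001400000000000000000000000000000000000000000000000014000041004114000000000000000000000000000000000000000000000000000014410041000014000000000000000000000000000000000000000000000000140000410041140000000000000000000000000000000000000000000000000000000000000000000000000000000000000000000000000000000000000000000000000000000000000000000000000000000000000000000000000049240000000000000000000000000000000000000000000000000000000000000000000000000000000000000000000000000000000000000000000000000000000000000000000000000000000081008018000)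
noncomputable def chC2 : Ch := (15, chCD2, [22,23,24,25,26,27,28,29,30,31,32,33,34,35,36,37,38,39,40,41,42,43,44]) :: chC3
theorem chCok2 : ChnL (FixV [rU]) 2300 (PX 8 C2.mpS) x5172s chC2 20643840 := ChnL.cons2 (l0 := [22,23]) (n := 42) (B := 491520) (k := 9) (rr := 300) chCok3 (by decide +kernel) (by decide +kernel)
noncomputable def chCD1 : ℕ := (nat_lit 0x555555555555555555555555555555555555555555555555555555555555555555555555555555555555555555555555555555555555555555555555555555555555555555555555555555555555555555555555555555555555555555555555555555555555555555555555555555555555555555555555555555555555555500000000ffff000000000000ffff0000000000000000ffff0000000000000000ffff00000000ffff0000000000000000ffff0000ffff0000000000000000ffff00000000ffff000000000000ffff00000000ffff00000000ffff0000000000000000ffff0000000000000000000000000000ffff00000000ffff0000ffff0000ffff0000000000000000ffff0000ffff0000ffff0000ffff0000ffffffffffe)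
noncomputable def chC1 : Ch := (662, chCD1, [20,21,22,23,24,25,26,27,28,29,30,31,32,33,34,35,36,37,38,39,40,41,42,43,44]) :: chC2
theorem chCok1 : ChnL (FixV [rU]) 2300 (PX 8 C2.mpS) x5172s chC1 18393661440 := ChnL.cons2 (l0 := [20,21]) (n := 891) (B := 20643840) (k := 9) (rr := 300) chCok2 (by decide +kernel) (by decide +kernel)
noncomputable def chCD0 : ℕ := (nat_lit 0xfffffffffffffffffffffffffffffffffffffffffffffffffffffffffffffffffffffffffffffffffffffffffffffffffffffffffffffffffffffffffffffffffffffffffffffffffffffffffffffffffffffffffffffffffffffffffffffffffffffffffffffffffffffffffffffffffffffffffffffffffffffffffffffffffffffffffffffffffffffffffffffffffffffffffffffffffffffffffffffffffffffffffffffffffffffffffffffffffffffffffffffffffffffffffffffffffffffffffffffffffffffffffffffffffffffffffffffffffffffffffffffffffffffffffffffffffffffffffffffffffffffffffffffffffffffffffffffffffffffffffffffffffffffffffffffffffffffffffffffffffffffffffffffff)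
noncomputable def chC0 : Ch := (0, chCD0, [0,1,2,3,4,5,6,7,8,9,10,11,20,21,22,23,24,25,26,27,28,29,30,31,32,33,34,35,36,37,38,39,40,41,42,43,44]) :: chC1
theorem chCok0 : ChnL (FixV [rU]) 2300 (PX 8 C2.mpS) x5172s chC0 42305421312000 := ChnL.cons2 (l0 := [0,1,2,3,4,5,6,7,8,9,10,11]) (n := 2300) (B := 18393661440) (k := 9) (rr := 300) chCok1 (by decide +kernel) (by decide +kernel)
noncomputable def flC0 : ℕ := (nat_lit 0x1611610940440490000000000000000920220290868868000088000020000202040040210800801040000400001100080100108402002040800008000022000402002048010010800044000010000101080080120400402000000000000000061011016049449400000000000000000029229206808808641412020824100a530030000a0504141000000000000000000008484060644884411000021840000448800000000441105500000000000002184050a0000000050a014282211000011440000080400000c030066090900009900882282824411000000001002000000000210000040100000000022119900000082410909000014280c038421441100002121300312480000900900000000882201000008000)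
noncomputable def flC : List (List ℕ × ℕ) := [([100],flC0)]
theorem fokC : (spC 2300 x5172s 100 (lw [118,119,112,117,109,116,111,113,114,115,110,106,107,108,105,103,104,101,102,0,1,2,3,4,5,6,7,8,9]) flC).FixOk := SP.fixOk_of _ nokC (k := 12) (by decide +kernel)
noncomputable def cm5174T : BT := (BT.br [[19],[20],[21],[22],[23],[24],[25],[26],[27],[28]] (BT.kid 0 [] (BT.frc 0 [100] [] (BT.br [[17],[18]] (BT.kid 15 [] (BT.br [[15],[16]] (BT.kid 36 [] (BT.br [[14],[11],[12]] (BT.kid 1 [] (BT.br [[11],[12],[13]] (BT.kid 16 [] (BT.br [[10]] (BT.kid 26 [] (BT.br [[4],[6],[2],[7],[8],[9]] (BT.kid 394 [] (BT.br [[4],[5]] (BT.kid 380 [] (BT.br [[2],[3]] (BT.kid 2 [] (BT.br [[1]] (BT.kid 4 [] (BT.br [[0]] (BT.kid 6 [] BT.live BT.nil)) BT.nil)) BT.nil)) BT.nil)) BT.nil)) BT.nil)) BT.nil)) BT.nil)) BT.nil)) BT.nil))) BT.nil))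
theorem cm5174 : (spC 2300 x5172s 100 (lw [118,119,112,117,109,116,111,113,114,115,110,106,107,108,105,103,104,101,102,0,1,2,3,4,5,6,7,8,9]) flC).Clm (FixV [rU]) (PX 8 C2.mpS) false 0 chC0 [] [] := SP.Clm.ofN (T := cm5174T) (by decide +kernel)
theorem ceC : cl g2 (lw [0,1,2,3,4,5,6,7,8,9]) = Subgroup.centralizer {wp g2 [8,4,2,4,8,5,3,5,8,4,2,4,8,5,3,5]} := cent_eq_cl2 nt2m C2.card2 der5123 der5173 chCok0 fokC cm5174 (by decide +kernel)
theorem ordC : orderOf (wp g2 [8,4,2,4,8,5,3,5,8,4,2,4,8,5,3,5]) = 2 := orderOf_two (by rw [← wp_lapp]; exact heq2 _ [] (by decide +kernel)) (nt2m.ne_one_of_mp (p := 0) (by decide +kernel))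
theorem mainC : ∃ t : ↥Spor.Co2, orderOf t = 2 ∧ IsExtraspecial 2 (pCore 2 ↥(Subgroup.centralizer ({t} : Set ↥Spor.Co2))) ∧ Nat.card (pCore 2 ↥(Subgroup.centralizer ({t} : Set ↥Spor.Co2))) = 2 ^ 9 ∧ Nonempty (↥(Subgroup.centralizer ({t} : Set ↥Spor.Co2)) ⧸ pCore 2 ↥(Subgroup.centralizer ({t} : Set ↥Spor.Co2)) ≃* Matrix.symplecticGroup (Fin 3) (ZMod 2)) := by
  obtain ⟨φ, a, b⟩ := bd528.hom sa707 satSe lb705
  have cK : Nat.card (cl g2 (lw [0,1,2,3,4,5,6,7,8,9])) = 2 ^ 9 * 1451520 := (le_antisymm (bd528.{0} _ _ sa707).2 lb705).trans (by norm_num)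
  obtain ⟨e⟩ := centralizer_equiv eCo2 (wp g2 [8,4,2,4,8,5,3,5,8,4,2,4,8,5,3,5])
  obtain ⟨h1, h2, ⟨e3⟩⟩ := core_struct φ (a.trans (eq_top_iff.2 (le_of_eq_of_le topS.symm (cl_le_lw (by decide +kernel))))) simpleS cardS (by norm_num) cK (Q := cl g2 qsC) (cl_le_lw (by decide +kernel)) (hom_cl_one b (by decide +kernel) (rels_of_eqv heqS (by decide +kernel))) lb5083 xsQ ((MulEquiv.subgroupCongr ceC).trans e)
  exact ⟨eCo2 (wp g2 [8,4,2,4,8,5,3,5,8,4,2,4,8,5,3,5]), (eCo2.orderOf_eq _).trans ordC, h1, h2, ⟨e3.trans (isoS (F := ZMod 2) (ZMod.card 2)).some⟩⟩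

end Cfsg.Agent.H6.Le.S2c
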