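import Cfsg.Agent.H6.Sch7
import Cfsg.Agent.S0243
set_option maxRecDepth 100000
set_option Elab.async false
namespace Cfsg.Agent.H6.Cl.L32
open Cfsg.Agent.H6
universe u

noncomputable def il : List ℕ := [1,0,3,2]
noncomputable abbrev io : ℕ → ℕ := iota il
noncomputable def C1 : List (List ℕ) := []
noncomputable def m2n0 : Net := (Net.cons (nat_lit 4) (nat_lit 7)
  (Net.cons (nat_lit 2) (nat_lit 3)
  (Net.cons (nat_lit 1) (nat_lit 16)
  Net.nil)))
noncomputable def m2n1 : Net := (Net.cons (nat_lit 4) (nat_lit 15)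
  (Net.cons (nat_lit 2) (nat_lit 48)
  (Net.cons (nat_lit 1) (nat_lit 1)
  (Net.cons (nat_lit 4) (nat_lit 8)
  Net.nil))))
noncomputable def m2n2 : Net := (Net.cons (nat_lit 4) (nat_lit 10)
  (Net.cons (nat_lit 2) (nat_lit 32)
  (Net.cons (nat_lit 1) (nat_lit 17)
  (Net.cons (nat_lit 2) (nat_lit 32)
  (Net.cons (nat_lit 4) (nat_lit 10)
  Net.nil)))))
noncomputable def m2n3 : Net := (Net.cons (nat_lit 4) (nat_lit 10)
  (Net.cons (nat_lit 2) (nat_lit 32)
  (Net.cons (nat_lit 1) (nat_lit 17)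
  (Net.cons (nat_lit 2) (nat_lit 32)
  (Net.cons (nat_lit 4) (nat_lit 10)
  Net.nil)))))
noncomputable def m2l : List Net := [m2n0,m2n1,m2n2,m2n3]
noncomputable abbrev m2 : ℕ → Net := lk Net.nil m2l
theorem m2ok : NetsOk 7 m2 vT := netsOk_of (by decide +kernel)
theorem m2s0 : Sat io [] (finG m2ok) := fin_sat_nil _ (k := 3) (n := 4) (by decide +kernel)
noncomputable def m3n0 : Net := (Net.cons (nat_lit 4) (nat_lit 12)
  (Net.cons (nat_lit 2) (nat_lit 49)
  (Net.cons (nat_lit 1) (nat_lit 1)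
  (Net.cons (nat_lit 4) (nat_lit 10)
  Net.nil))))
noncomputable def m3n1 : Net := (Net.cons (nat_lit 4) (nat_lit 10)
  (Net.cons (nat_lit 2) (nat_lit 51)
  (Net.cons (nat_lit 1) (nat_lit 4)
  (Net.cons (nat_lit 2) (nat_lit 2)
  (Net.cons (nat_lit 4) (nat_lit 12)
  Net.nil)))))
noncomputable def m3l : List Net := [m3n0,m3n1]
noncomputable abbrev m3 : ℕ → Net := lk Net.nil m3l
theorem m3ok : NetsOk 7 m3 vT := netsOk_of (by decide +kernel)
theorem m3s0 : Sat io [] (finG m3ok) := fin_sat_nil _ (k := 3) (n := 4) (by decide +kernel)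
noncomputable def r0 : List ℕ := [0,0,0,0,0,0,0]
noncomputable def m4n0 : Net := (Net.cons (nat_lit 4) (nat_lit 12)
  (Net.cons (nat_lit 2) (nat_lit 49)
  (Net.cons (nat_lit 1) (nat_lit 1)
  (Net.cons (nat_lit 4) (nat_lit 10)
  Net.nil))))
noncomputable def m4n1 : Net := (Net.cons (nat_lit 4) (nat_lit 10)
  (Net.cons (nat_lit 2) (nat_lit 51)
  (Net.cons (nat_lit 1) (nat_lit 4)
  (Net.cons (nat_lit 2) (nat_lit 2)
  (Net.cons (nat_lit 4) (nat_lit 12)
  Net.nil)))))
noncomputable def m4l : List Net := [m4n0,m4n1]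
noncomputable abbrev m4 : ℕ → Net := lk Net.nil m4l
theorem m4ok : NetsOk 7 m4 vT := netsOk_of (by decide +kernel)
theorem m4s0 : Sat io [] (finG m4ok) := fin_sat_nil _ (k := 3) (n := 4) (by decide +kernel)
noncomputable def C5 : List (List ℕ) := [r0]
theorem cl6 : Clo.{u} io C5 [] 7 m4 1 (mkB []) := Clo.start (by decide +kernel)
theorem imp7 : Imp.{u} io C5 C1 := Imp.of_chk (pfs := []) (by decide +kernel)
theorem ix8 : Idx.{u} io C5 [] [] 1 := (Idx.triv (Bound.nil) (by norm_num)).of_imp imp7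
noncomputable def lk9 : List (List ℕ × List ℕ × Pf) := []
noncomputable def O10 : ℕ := (nat_lit 2)
noncomputable def M11 : ℕ := (nat_lit 3)
noncomputable def b12 : ℕ := (nat_lit 1)
theorem cl13 : Clo.{u} io C5 [] 7 m4 M11 (mkB [(0,b12)]) := cl6.new (k := 0) (b := 0) (q := 0) (p := 1) (r := 200) (n := 1) (O := O10) (by decide +kernel) (lks := lk9) (by decide +kernel) (gens_of_lall2 (m := []) (by decide +kernel)) ix8 (by decide +kernel)
noncomputable def b14 : ℕ := (nat_lit 2)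
theorem cl15 : Clo.{u} io C5 [] 7 m4 M11 (mkB [(0,b12),(1,b14)]) := cl13.ops (os := [Op.inv 0]) (by decide +kernel) (by decide +kernel)
theorem ix16 : Idx.{u} io C5 [] [] 1 := (Idx.triv (Bound.nil) (by norm_num)).of_imp imp7
noncomputable def lk17 : List (List ℕ × List ℕ × Pf) := []
noncomputable def O18 : ℕ := (nat_lit 8)
noncomputable def M19 : ℕ := (nat_lit 11)
noncomputable def b20 : ℕ := (nat_lit 3)
theorem cl21 : Clo.{u} io C5 [] 7 m4 M19 (mkB [(0,b20),(1,b14)]) := cl15.new (k := 0) (b := 0) (q := 1) (p := 3) (r := 200) (n := 1) (O := O18) (by decide +kernel) (lks := lk17) (by decide +kernel) (gens_of_lall2 (m := []) (by decide +kernel)) ix16 (by decide +kernel)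
noncomputable def b22 : ℕ := (nat_lit 10)
theorem cl23 : Clo.{u} io C5 [] 7 m4 M19 (mkB [(0,b20),(1,b22)]) := cl21.ops (os := [Op.inv 0]) (by decide +kernel) (by decide +kernel)
theorem ix24 : Idx.{u} io C5 [] [] 1 := (Idx.triv (Bound.nil) (by norm_num)).of_imp imp7
noncomputable def lk25 : List (List ℕ × List ℕ × Pf) := []
noncomputable def O26 : ℕ := (nat_lit 32)
noncomputable def M27 : ℕ := (nat_lit 43)
noncomputable def b28 : ℕ := (nat_lit 11)
theorem cl29 : Clo.{u} io C5 [] 7 m4 M27 (mkB [(0,b28),(1,b22)]) := cl23.new (k := 0) (b := 0) (q := 3) (p := 5) (r := 200) (n := 1) (O := O26) (by decide +kernel) (lks := lk25) (by decide +kernel) (gens_of_lall2 (m := []) (by decide +kernel)) ix24 (by decide +kernel)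
noncomputable def b30 : ℕ := (nat_lit 42)
theorem cl31 : Clo.{u} io C5 [] 7 m4 M27 (mkB [(0,b28),(1,b30)]) := cl29.ops (os := [Op.inv 0]) (by decide +kernel) (by decide +kernel)
theorem ix32 : Idx.{u} io C5 [] [] 1 := (Idx.triv (Bound.nil) (by norm_num)).of_imp imp7
noncomputable def lk33 : List (List ℕ × List ℕ × Pf) := []
noncomputable def O34 : ℕ := (nat_lit 64)
noncomputable def M35 : ℕ := (nat_lit 107)
noncomputable def b36 : ℕ := (nat_lit 43)
theorem cl37 : Clo.{u} io C5 [] 7 m4 M35 (mkB [(0,b36),(1,b30)]) := cl31.new (k := 0) (b := 0) (q := 5) (p := 6) (r := 200) (n := 1) (O := O34) (by decide +kernel) (lks := lk33) (by decide +kernel) (gens_of_lall2 (m := []) (by decide +kernel)) ix32 (by decide +kernel)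
noncomputable def b38 : ℕ := (nat_lit 106)
theorem cl39 : Clo.{u} io C5 [] 7 m4 M35 (mkB [(0,b36),(1,b38)]) := cl37.ops (os := [Op.inv 0]) (by decide +kernel) (by decide +kernel)
theorem ix40 : Idx.{u} io C5 [] [] 1 := (Idx.triv (Bound.nil) (by norm_num)).of_imp imp7
noncomputable def lk41 : List (List ℕ × List ℕ × Pf) := []
noncomputable def O42 : ℕ := (nat_lit 16)
noncomputable def M43 : ℕ := (nat_lit 123)
noncomputable def b44 : ℕ := (nat_lit 107)
theorem cl45 : Clo.{u} io C5 [] 7 m4 M43 (mkB [(0,b44),(1,b38)]) := cl39.new (k := 0) (b := 0) (q := 6) (p := 4) (r := 200) (n := 1) (O := O42) (by decide +kernel) (lks := lk41) (by decide +kernel) (gens_of_lall2 (m := []) (by decide +kernel)) ix40 (by decide +kernel)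
noncomputable def b46 : ℕ := (nat_lit 122)
theorem cl47 : Clo.{u} io C5 [] 7 m4 M43 (mkB [(0,b44),(1,b46)]) := cl45.ops (os := [Op.inv 0]) (by decide +kernel) (by decide +kernel)
theorem ix48 : Idx.{u} io C5 [] [] 1 := (Idx.triv (Bound.nil) (by norm_num)).of_imp imp7
noncomputable def lk49 : List (List ℕ × List ℕ × Pf) := []
noncomputable def O50 : ℕ := (nat_lit 4)
noncomputable def M51 : ℕ := (nat_lit 127)
noncomputable def b52 : ℕ := (nat_lit 123)
theorem cl53 : Clo.{u} io C5 [] 7 m4 M51 (mkB [(0,b52),(1,b46)]) := cl47.new (k := 0) (b := 0) (q := 4) (p := 2) (r := 200) (n := 1) (O := O50) (by decide +kernel) (lks := lk49) (by decide +kernel) (gens_of_lall2 (m := []) (by decide +kernel)) ix48 (by decide +kernel)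
noncomputable def b54 : ℕ := (nat_lit 127)
noncomputable def b55 : ℕ := (nat_lit 127)
theorem cl56 : Clo.{u} io C5 [] 7 m4 M51 (mkB [(0,b54),(1,b55)]) := cl53.ops (os := [Op.inv 0,Op.rel 0 [] 1 [1,1,1,1,1] [([],1)],Op.inv 0]) (by decide +kernel) (by decide +kernel)
theorem sat58 : Sat io C5 (finG m4ok) := m4s0.fin (k := 3) (by decide +kernel)
theorem bd57 : Bound.{u} io C5 [0,1] 7 := cl56.bound (by decide +kernel) sat58 ((Bound.nil).of_imp imp7)
noncomputable def r1 : List ℕ := [2,2]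
noncomputable def r2 : List ℕ := [2,0,2,0,2,0,2,0]
noncomputable def r3 : List ℕ := [2,0,0,2,0,0,2,0,0]
noncomputable def r4 : List ℕ := [3,1,1,1,3,0,3,0,2,1,2,0,0,0,2,1,1]
noncomputable def m59n0 : Net := (Net.cons (nat_lit 12) (nat_lit 2560)
  (Net.cons (nat_lit 6) (nat_lit 57388)
  (Net.cons (nat_lit 3) (nat_lit 0x1470c2)
  (Net.cons (nat_lit 1) (nat_lit 0x48000)
  (Net.cons (nat_lit 1) (nat_lit 0x90482)
  (Net.cons (nat_lit 1) (nat_lit 37384)
  (Net.cons (nat_lit 3) (nat_lit 0x100002)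
  (Net.cons (nat_lit 6) (nat_lit 32802)
  (Net.cons (nat_lit 12) (nat_lit 2176)
  Net.nil)))))))))
noncomputable def m59n1 : Net := (Net.cons (nat_lit 12) (nat_lit 2176)
  (Net.cons (nat_lit 6) (nat_lit 0x19022)
  (Net.cons (nat_lit 3) (nat_lit 0xc71c2)
  (Net.cons (nat_lit 1) (nat_lit 4160)
  (Net.cons (nat_lit 1) (nat_lit 0x402482)
  (Net.cons (nat_lit 1) (nat_lit 0x209008)
  (Net.cons (nat_lit 3) (nat_lit 8450)
  (Net.cons (nat_lit 6) (nat_lit 0x1c02c)
  (Net.cons (nat_lit 12) (nat_lit 2560)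
  Net.nil)))))))))
noncomputable def m59n2 : Net := (Net.cons (nat_lit 12) (nat_lit 1989)
  (Net.cons (nat_lit 6) (nat_lit 0x1e034)
  (Net.cons (nat_lit 3) (nat_lit 0x182080)
  (Net.cons (nat_lit 1) (nat_lit 32833)
  (Net.cons (nat_lit 1) (nat_lit 0x92092)
  (Net.cons (nat_lit 1) (nat_lit 0x41008)
  (Net.cons (nat_lit 3) (nat_lit 0x80182)
  (Net.cons (nat_lit 6) (nat_lit 0x3000e)
  (Net.cons (nat_lit 12) (nat_lit 2106)
  Net.nil)))))))))
noncomputable def m59n3 : Net := (Net.cons (nat_lit 12) (nat_lit 1989)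
  (Net.cons (nat_lit 6) (nat_lit 0x1e034)
  (Net.cons (nat_lit 3) (nat_lit 0x182080)
  (Net.cons (nat_lit 1) (nat_lit 32833)
  (Net.cons (nat_lit 1) (nat_lit 0x92092)
  (Net.cons (nat_lit 1) (nat_lit 0x41008)
  (Net.cons (nat_lit 3) (nat_lit 0x80182)
  (Net.cons (nat_lit 6) (nat_lit 0x3000e)
  (Net.cons (nat_lit 12) (nat_lit 2106)
  Net.nil)))))))))
noncomputable def m59l : List Net := [m59n0,m59n1,m59n2,m59n3]
noncomputable abbrev m59 : ℕ → Net := lk Net.nil m59l
theorem m59ok : NetsOk 24 m59 vT := netsOk_of (by decide +kernel)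
theorem m59s0 : Sat io [] (finG m59ok) := fin_sat_nil _ (k := 5) (n := 4) (by decide +kernel)
noncomputable def C60 : List (List ℕ) := [r0,r1,r2,r3,r4]
theorem cl61 : Clo.{u} io C60 [0,1] 24 m59 1 (mkB []) := Clo.start (by decide +kernel)
theorem imp62 : Imp.{u} io C60 C5 := Imp.of_chk (pfs := [[([],1)]]) (by decide +kernel)
theorem ix63 : Idx.{u} io C60 [0,1] [] 7 := (Idx.triv bd57 (by norm_num)).of_imp imp62
noncomputable def lk64 : List (List ℕ × List ℕ × Pf) := []
noncomputable def O65 : ℕ := (nat_lit 1374)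
noncomputable def M66 : ℕ := (nat_lit 1375)
noncomputable def b67 : ℕ := (nat_lit 1)
theorem cl68 : Clo.{u} io C60 [0,1] 24 m59 M66 (mkB [(2,b67)]) := cl61.new (k := 2) (b := 2) (q := 0) (p := 1) (r := 200) (n := 7) (O := O65) (by decide +kernel) (lks := lk64) (by decide +kernel) (gens_of_lall2 (m := []) (by decide +kernel)) ix63 (by decide +kernel)
noncomputable def b69 : ℕ := (nat_lit 83)
noncomputable def b70 : ℕ := (nat_lit 83)
theorem cl71 : Clo.{u} io C60 [0,1] 24 m59 M66 (mkB [(2,b69),(3,b70)]) := cl68.ops (os := [Op.inv 2,Op.rel 2 [] 3 [] [([],3)],Op.inv 2,Op.rel 2 [0,0] 3 [1,1,3,1,1] [([3],7)],Op.inv 2,Op.rel 2 [] 3 [] [([],3)],Op.inv 2]) (by decide +kernel) (by decide +kernel)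
theorem ix72 : Idx.{u} io C60 [0,1] [] 7 := (Idx.triv bd57 (by norm_num)).of_imp imp62
noncomputable def lk73 : List (List ℕ × List ℕ × Pf) := []
noncomputable def O74 : ℕ := (nat_lit 0x4aaa0)
noncomputable def M75 : ℕ := (nat_lit 0x4afff)
noncomputable def b76 : ℕ := (nat_lit 87)
theorem cl77 : Clo.{u} io C60 [0,1] 24 m59 M75 (mkB [(2,b76),(3,b70)]) := cl71.new (k := 2) (b := 2) (q := 2) (p := 5) (r := 200) (n := 7) (O := O74) (by decide +kernel) (lks := lk73) (by decide +kernel) (gens_of_lall2 (m := []) (by decide +kernel)) ix72 (by decide +kernel)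
noncomputable def b78 : ℕ := (nat_lit 2815)
noncomputable def b79 : ℕ := (nat_lit 2815)
theorem cl80 : Clo.{u} io C60 [0,1] 24 m59 M75 (mkB [(2,b78),(3,b79)]) := cl77.ops (os := [Op.inv 2,Op.rel 2 [] 3 [] [([],3)],Op.inv 2,Op.rel 2 [0] 3 [1,3,1,3,1] [([3],5)],Op.inv 2,Op.rel 2 [] 3 [] [([],3)],Op.inv 2,Op.rel 2 [0] 3 [1,3,1,3,1] [([3],5)],Op.inv 2,Op.rel 2 [] 3 [] [([],3)],Op.inv 2]) (by decide +kernel) (by decide +kernel)
theorem der82 : Der 7 (finX 7) (cl (finG m3ok) [[1,1]]) (fun _ => Net.nil) := Der.zero (finModel m3ok).inj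
noncomputable def x83 : Net := (Net.cons (nat_lit 4) (nat_lit 13)
  (Net.cons (nat_lit 2) (nat_lit 16)
  (Net.cons (nat_lit 1) (nat_lit 80)
  (Net.cons (nat_lit 4) (nat_lit 10)
  Net.nil))))
noncomputable def ns84 : ℕ → Net := upd (fun _ => Net.nil) 0 x83
theorem der85 : Der 7 (finX 7) (cl (finG m3ok) [[1,1]]) ns84 := der82.add (wp_mem_cl (w := [1,1]) (by decide)) ((finModel m3ok).toIsPre.rep_word (k := 3) (w := [1,1]) (n := x83) (by decide +kernel)) 0
noncomputable def L86 : Lev := Lev.cons 0 7 [[0]] Lev.nil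
theorem lc87 : Lev.chk 7 0 ns84 vT 100 L86 = true := by decide +kernel
theorem lb88 : 7 ≤ Nat.card (cl (finG m3ok) [[1,1]]) := le_of_eq_of_le (by decide +kernel) (der85.card_ge lc87)
theorem sat89 : Sat io C5 (finG m3ok) := m3s0.fin (k := 3) (by decide +kernel)
theorem ix81 : Idx.{u} io C60 [0,1] [[1,1]] 1 := (Idx.of bd57 sat89 (by decide +kernel) lb88 (by decide +kernel)).of_imp imp62
noncomputable def lk90 : List (List ℕ × List ℕ × Pf) := [([1,1],[1,1,1,3,0,3,1,2,1,2,0,0,0],[([3,1,1,1,3,0,3,1,2,1,2,0,0,0,2],9)])]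
noncomputable def O91 : ℕ := (nat_lit 0x800000)
noncomputable def M92 : ℕ := (nat_lit 0x84afff)
noncomputable def b93 : ℕ := (nat_lit 0x40aff)
theorem cl94 : Clo.{u} io C60 [0,1] 24 m59 M92 (mkB [(2,b78),(3,b93)]) := cl80.new (k := 2) (b := 3) (q := 18) (p := 23) (r := 200) (n := 1) (O := O91) (by decide +kernel) (lks := lk90) (by decide +kernel) (gens_of_lall2 (m := [[0]]) (by decide +kernel)) ix81 (by decide +kernel)
noncomputable def b95 : ℕ := (nat_lit 0x840aff)
noncomputable def b96 : ℕ := (nat_lit 0x840aff)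
theorem cl97 : Clo.{u} io C60 [0,1] 24 m59 M92 (mkB [(2,b95),(3,b96)]) := cl94.ops (os := [Op.inv 3,Op.rel 2 [] 3 [] [([],3)],Op.inv 2]) (by decide +kernel) (by decide +kernel)
theorem ix98 : Idx.{u} io C60 [0,1] [] 7 := (Idx.triv bd57 (by norm_num)).of_imp imp62
noncomputable def lk99 : List (List ℕ × List ℕ × Pf) := []
noncomputable def O100 : ℕ := (nat_lit 0x3b5000)
noncomputable def M101 : ℕ := (nat_lit 0xbfffff)
noncomputable def b102 : ℕ := (nat_lit 0x842aff)
theorem cl103 : Clo.{u} io C60 [0,1] 24 m59 M101 (mkB [(2,b102),(3,b96)]) := cl97.new (k := 2) (b := 2) (q := 13) (p := 19) (r := 200) (n := 7) (O := O100) (by decide +kernel) (lks := lk99) (by decide +kernel) (gens_of_lall2 (m := []) (by decide +kernel)) ix98 (by decide +kernel)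
noncomputable def b104 : ℕ := (nat_lit 0xbdffff)
noncomputable def b105 : ℕ := (nat_lit 0xbdffff)
theorem cl106 : Clo.{u} io C60 [0,1] 24 m59 M101 (mkB [(2,b104),(3,b105)]) := cl103.ops (os := [Op.inv 2,Op.rel 2 [] 3 [] [([],3)],Op.inv 2,Op.rel 2 [0] 3 [1,3,1,3,1] [([3],5)],Op.inv 2,Op.rel 2 [] 3 [] [([],3)],Op.inv 2,Op.rel 2 [0] 3 [1,3,1,3,1] [([3],5)],Op.inv 2,Op.rel 2 [] 3 [] [([],3)],Op.inv 2,Op.rel 2 [0,0] 3 [1,1,3,1,1] [([3],7)],Op.inv 2,Op.rel 2 [] 3 [] [([],3)],Op.inv 2]) (by decide +kernel) (by decide +kernel)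
theorem der108 : Der 7 (finX 7) (cl (finG m3ok) [[0]]) (fun _ => Net.nil) := Der.zero (finModel m3ok).inj
noncomputable def ns109 : ℕ → Net := upd (fun _ => Net.nil) 0 (m3 0)
theorem der110 : Der 7 (finX 7) (cl (finG m3ok) [[0]]) ns109 := der108.add (wp_mem_cl (w := [0]) (by decide)) (rep_letter (finModel m3ok) 0) 0
noncomputable def L111 : Lev := Lev.cons 0 7 [[0]] Lev.nil
theorem lc112 : Lev.chk 7 0 ns109 vT 100 L111 = true := by decide +kernel
theorem lb113 : 7 ≤ Nat.card (cl (finG m3ok) [[0]]) := le_of_eq_of_le (by decide +kernel) (der110.card_ge lc112)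
theorem ix107 : Idx.{u} io C60 [0,1] [[0]] 1 := (Idx.of bd57 sat89 (by decide +kernel) lb113 (by decide +kernel)).of_imp imp62
noncomputable def lk114 : List (List ℕ × List ℕ × Pf) := [([0],[1,2,0,0,0,2,0,0,3,1,1,1,3,0],[([2,1,2,0,0,0,2],9)])]
noncomputable def O115 : ℕ := (nat_lit 0x400000)
noncomputable def M116 : ℕ := (nat_lit 0xffffff)
noncomputable def b117 : ℕ := (nat_lit 0xbfffff)
theorem cl118 : Clo.{u} io C60 [0,1] 24 m59 M116 (mkB [(2,b117),(3,b105)]) := cl106.new (k := 2) (b := 2) (q := 17) (p := 22) (r := 200) (n := 1) (O := O115) (by decide +kernel) (lks := lk114) (by decide +kernel) (gens_of_lall2 (m := [[0]]) (by decide +kernel)) ix107 (by decide +kernel)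
noncomputable def b119 : ℕ := (nat_lit 0xffffff)
noncomputable def b120 : ℕ := (nat_lit 0xffffff)
theorem cl121 : Clo.{u} io C60 [0,1] 24 m59 M116 (mkB [(2,b119),(3,b120)]) := cl118.ops (os := [Op.inv 2,Op.rel 2 [] 3 [] [([],3)],Op.inv 2]) (by decide +kernel) (by decide +kernel)
theorem sat123 : Sat io C60 (finG m59ok) := m59s0.fin (k := 5) (by decide +kernel)
theorem bd122 : Bound.{u} io C60 [0,1,2,3] 168 := cl121.bound (by decide +kernel) sat123 (bd57.of_imp imp62)
abbrev GA : Type := ↥(cl (finG m2ok) (lw [0,1,2,3]))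
theorem allA : ∀ l, finG m2ok l ∈ (cl (finG m2ok) (lw [0,1,2,3])) := finG_mem_all _ (by decide +kernel)
noncomputable def gA : ℕ → GA := subA _ _ allA
theorem sat124 : Sat io C60 (finG m2ok) := m2s0.fin (k := 3) (by decide +kernel)
noncomputable abbrev RA : List (List ℕ) := C60
theorem satA : Sat io RA gA := sat124.subA _
theorem topA : cl gA (lw [0,1,2,3]) = ⊤ := cl_subA _
theorem modelA : IsModel 7 (finX 7) gA m2 vT := (finModel m2ok).subA _
theorem faithA : Faith GA 7 (finX 7) := (faith_fin 7).sub _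
theorem der125 : Der 7 (finX 7) (cl (finG m2ok) (lw [0,1,2,3])) (resN m2 [0,1,2,3]) := Der.letters (finModel m2ok) _
noncomputable def x126 : Net := (Net.cons (nat_lit 4) (nat_lit 8)
  (Net.cons (nat_lit 2) (nat_lit 34)
  (Net.cons (nat_lit 1) (nat_lit 4)
  (Net.cons (nat_lit 2) (nat_lit 2)
  (Net.cons (nat_lit 4) (nat_lit 8)
  Net.nil)))))
noncomputable def x126s : ℕ → Net := upd (resN m2 [0,1,2,3]) 4 x126
theorem der127 : Der 7 (finX 7) (cl (finG m2ok) (lw [0,1,2,3])) x126s := der125.ext (k := 3) (w := [1,3,0]) 4 (by decide +kernel)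
noncomputable def x128 : Net := (Net.cons (nat_lit 4) (nat_lit 4)
  (Net.cons (nat_lit 2) (nat_lit 50)
  (Net.cons (nat_lit 1) (nat_lit 64)
  (Net.cons (nat_lit 2) (nat_lit 32)
  Net.nil))))
noncomputable def x128s : ℕ → Net := upd x126s 5 x128
theorem der129 : Der 7 (finX 7) (cl (finG m2ok) (lw [0,1,2,3])) x128s := der127.ext (k := 3) (w := [3,1]) 5 (by decide +kernel)
noncomputable def x130 : Net := (Net.cons (nat_lit 4) (nat_lit 2)
  (Net.cons (nat_lit 1) (nat_lit 4)
  Net.nil))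
noncomputable def x130s : ℕ → Net := upd x128s 6 x130
theorem der131 : Der 7 (finX 7) (cl (finG m2ok) (lw [0,1,2,3])) x130s := der129.ext (k := 3) (w := [5,4,5,5,5,4,5]) 6 (by decide +kernel)
noncomputable def L132 : Lev := Lev.cons 1 4 [[4],[6]] Lev.nil
noncomputable def L133 : Lev := Lev.cons 6 6 [[5]] L132
noncomputable def L134 : Lev := Lev.cons 0 7 [[0],[1],[2],[3]] L133
theorem lc135 : Lev.chk 7 0 x130s vT 100 L134 = true := by decide +kernel
theorem bdA : Bound.{u} io RA [0,1,2,3] 168 := bd122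
theorem cardA : Nat.card GA = 168 := le_antisymm (bdA.{0}.fin sat124) (le_of_eq_of_le (by decide +kernel) (der131.card_ge lc135))
noncomputable def baseA : List ℕ := [0,6,1]
theorem basedA : Based 7 (finX 7) (⊤ : Subgroup GA) baseA := (der131.based lc135 (le_of_eq_of_le cardA (by decide +kernel))).sub
noncomputable def eqvA : List ℕ → List ℕ → Bool := eqBc m2 baseA
theorem heqA : ∀ u w, eqvA u w = true → wp gA u = wp gA w := basedA.eqv modelA.toIsPre
theorem hgeA : ∀ l, llen il ≤ l → gA l = 1 := fun l h => Subtype.ext (finG_eq_one m2ok (n := 4) (by decide +kernel) l (le_of_eq_of_le (by decide +kernel) h))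
theorem s0A : Sat io [] gA := satA.nil
noncomputable def cvA : List (List ℕ) := [[0],[2,0,3]]
theorem der136 : Der 7 (finX 7) (cl gA cvA) (fun _ => Net.nil) := Der.zero modelA.inj
noncomputable def ns137 : ℕ → Net := upd (fun _ => Net.nil) 0 (m2 0)
theorem der138 : Der 7 (finX 7) (cl gA cvA) ns137 := der136.add (wp_mem_cl (w := [0]) (by decide)) (rep_letter modelA 0) 0
noncomputable def x139 : Net := (Net.cons (nat_lit 4) (nat_lit 11)
  (Net.cons (nat_lit 1) (nat_lit 65)
  (Net.cons (nat_lit 2) (nat_lit 32)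
  (Net.cons (nat_lit 4) (nat_lit 12)
  Net.nil))))
noncomputable def ns140 : ℕ → Net := upd ns137 1 x139
theorem der141 : Der 7 (finX 7) (cl gA cvA) ns140 := der138.add (wp_mem_cl (w := [2,0,3]) (by decide)) (modelA.toIsPre.rep_word (k := 3) (w := [2,0,3]) (n := x139) (by decide +kernel)) 1
noncomputable def x142 : Net := (Net.cons (nat_lit 2) (nat_lit 18)
  (Net.cons (nat_lit 1) (nat_lit 4)
  (Net.cons (nat_lit 4) (nat_lit 2)
  Net.nil)))
noncomputable def x142s : ℕ → Net := upd ns140 2 x142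
theorem der143 : Der 7 (finX 7) (cl gA cvA) x142s := der141.ext (k := 3) (w := [1,0,0,0]) 2 (by decide +kernel)
noncomputable def x144 : Net := (Net.cons (nat_lit 4) (nat_lit 4)
  (Net.cons (nat_lit 1) (nat_lit 16)
  Net.nil))
noncomputable def x144s : ℕ → Net := upd x142s 3 x144
theorem der145 : Der 7 (finX 7) (cl gA cvA) x144s := der143.ext (k := 3) (w := [1,1,1,1,0,0]) 3 (by decide +kernel)
noncomputable def x146 : Net := (Net.cons (nat_lit 4) (nat_lit 6)
  (Net.cons (nat_lit 2) (nat_lit 18)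
  (Net.cons (nat_lit 1) (nat_lit 4)
  (Net.cons (nat_lit 2) (nat_lit 2)
  (Net.cons (nat_lit 4) (nat_lit 6)
  Net.nil)))))
noncomputable def x146s : ℕ → Net := upd x144s 4 x146
theorem der147 : Der 7 (finX 7) (cl gA cvA) x146s := der145.ext (k := 3) (w := [2,2,3,2,2]) 4 (by decide +kernel)
noncomputable def L148 : Lev := Lev.cons 2 4 [[3],[4]] Lev.nil
noncomputable def L149 : Lev := Lev.cons 1 6 [[2]] L148
noncomputable def L150 : Lev := Lev.cons 0 7 [[0],[1]] L149
theorem lc151 : Lev.chk 7 0 x146s vT 100 L150 = true := by decide +kernel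
theorem lb152 : 168 ≤ Nat.card (cl gA cvA) := le_of_eq_of_le (by decide +kernel) (der147.card_ge lc151)
theorem simpleA : IsSimpleGroup GA := modelA.simple faithA topA (ws := [[1,3,0],[3,1]]) (r := 300) (p0 := 0) (l := [(6,[0])]) (by decide +kernel) (p := 7) (by norm_num) cardA (by norm_num) (pow_one_of heqA (a := [0]) (by decide +kernel)) (ncl_top s0A (cs := [[],[2]]) (by decide +kernel) cardA lb152)
noncomputable def mA : List (List ℕ) := [[4,1,3],[2,6,1],[6,2,3],[6,2,3]]
noncomputable def fA : List (List (List ℕ)) := [[[3,2,4],[1,3,5],[1,6,4],[1,2,6],[5,2,4]],[[5,2,4],[1,2,7],[3,6,4]],[[5,2,4],[1,2,7],[5,2,4]],[[5,2,4],[1,2,7],[5,2,4]]]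
theorem isoA {F : Type u} [Field F] [Fintype F] (hF : Fintype.card F = 2) : Nonempty (GA ≃* Matrix.ProjectiveSpecialLinearGroup (Fin 3) F) := by
  haveI : CharP F 2 := charP_of_card (k := 1) Nat.prime_two hF
  have hs := semP (F := F) 2 (by norm_num)
  obtain ⟨g, hg⟩ := mrep_SL (n := 3) hs (ml := mA) (fs := fA) (by decide +kernel)
  have hc : Nat.card (Matrix.ProjectiveSpecialLinearGroup (Fin 3) F) = 168 := by
    have := S0243.result hF 3 (by norm_num)
    simp [Fin.prod_univ_succ] at this; omega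
  exact bdA.equivU satA (hg.psat (il := il) (Rl := RA) (by decide +kernel)) topA cardA simpleA hc (u := [0]) (w := []) (by decide +kernel) (ne_one_quot_center (v := [2]) (hg.nev (injP 2) (i := 0) (j := 0) (by decide +kernel)))
noncomputable def E153 : List (List ℕ) := []
noncomputable def E154 : List (List ℕ) := [0,0,0,0,0,0,0] :: E153
noncomputable def E155 : List (List ℕ) := [2,0,0,2,0,0,2,0,0] :: E154
noncomputable def t156v0 : ℕ := (nat_lit 0x25000025000000001c00001c00020000200000250001000023000025000300001c000025000300002500001c000300001d000023000200002300001b000100002000001d000300001a000020000300002000001a000200001b00001e000200001e000018000100001d000018000100001c000014000300001b000011000200001a000010000300000f000018000300001800000f0004000010000014000000000c00000c0003000010000014000100001400000c0000000009000009000200000f00001100020000110000090002000010000007000100000f000006000100000c000007000300000500000c000300000c000005000400000900000600040000060000090002000009000005000300000400000700030000070000040001000006000004000200000500000200010000040000020003000000000002000300000200000000010000000000000000000000000000)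
noncomputable def t156 : Tr := (Tr.leaf t156v0)
noncomputable def tt157v0 : ℕ := (nat_lit 0x1003000003002003002000003001001002000000001002000000000001000000000000000001000001000000000000000000000002000000000001000000000000000000000003000000000000000000000000000000000000000000000000000000000000000000000001000000000000000001000002000000001003000000001000000000000000000003001001000000000000000000000000000000000000000000000000000000001002000000000001000000000000000000000002000000000001000000000000000000000001000000000000000000000000000000000000000000000000000000000001000000000000000000000000000000000000)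
noncomputable def tt157 : Tr := (Tr.leaf tt157v0)
noncomputable def t156T : List (List ℕ) := [[2,2],[2,0,2,0,2,0,2,0],[3,1,1,1,3,0,3,0,2,1,2,0,0,0,2,1,1],[0,2,1,3,0,2,1,3,0,2,1,3,0,2,1,3]]
noncomputable def t156R : List (List ℕ × ℕ) := [([2,2],1),([0,2,0,2,0,2,0,2],4096),([1,1,1,1,1,1,1],0),([0,2,0,0,2,0,0,2,0],0),([3,1,1,3,1,1,3,1,1],0),([3,3],3),([1,1,1,3,0,0,2,0,0,0,2,1,2,1,3,0,3],50331648),([2,0,2,0,2,0,2,0],4096),([3,0,3,1,1,1,3,1,1,2,0,0,0,2,1,2,0],16777216),([1,3,1,1,3,1,1,3,1],0),([2,0,3,0,3,1,1,1,3,1,1,2,0,0,0,2,1],16777216),([1,3,0,2,1,3,0,2,1,3,0,2,1,3,0,2],206158430208),([2,1,2,0,3,0,3,1,1,1,3,1,1,2,0,0,0],16777216),([],0)]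
theorem t156Rok : TRot.{u} (2 ^ (1 + 1)) 4 io E155 t156T t156R := TRot.of (cs := [(1,0,[],[]),(1,1,[],[]),(0,0,[],[([],2)]),(0,0,[],[([1,3],1)]),(0,0,[],[([],0)]),(2,0,[],[]),(2,2,[0,0,0,2,1,1],[]),(1,1,[3],[]),(1,2,[2,1,2,0,0,0,2],[]),(0,0,[],[([0],0)]),(1,2,[1,2,0,0,0,2,1,1],[]),(2,3,[],[]),(1,2,[0,0,0,2,1,1],[]),(0,0,[],[])]) (by decide +kernel)
noncomputable def dg158p : List (List ℕ) := [[14],[0],[],[1,4],[],[],[],[],[1,14],[],[5,13,9,5,3,3,7,10,18],[6,20],[],[1,24],[2,26,11,6,2,4,8,14],[],[],[],[3,31,13,9,10,18,34],[7,34,36,31,22,19,11,6,2,2,2,4,10,24,29,15,12,22],[],[8,33,16,12,21,19,24,40],[4,40,42,33,28,26,11,8,14,28],[9,33,15,9,10,18,20,13,9,6,2,2,2,4,10,24,40],[],[1,48],[],[],[],[],[],[10,55,36,31,22,34,36,51,60],[],[1,64],[4,66,53,33,16,12,30,48,58],[],[11,68,65,53,43,41,29,32,43,41,29,16,12,30,37,54,70],[],[1,74],[2,72,68,66,53,47,56,74],[12,65,53,47,41,25,11,6,3,7,8,14,32,43,56,74],[13,74,80,66,53,43,56,77,80,69,59,49,31,13,14,28,40,56],[3,80,69,59,60,62,70,79]]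
theorem dg158 : TD.{u} (2 ^ (1 + 1)) 4 io E155 t156T [0,1] t156 (tt157.getW 48) 43 := TD.steps (i := 0) TD.zero t156Rok (prs := dg158p) (by decide +kernel)
noncomputable def E159 : List (List ℕ) := [[2,2,0,2,1,3,0,2,1,3,0,2,1,3,0,2,1,3],[2,0,2,0,2,0,2,0,0,2,1,3,0,2,1,3,0,2,1,3,0,2,1,3],[3,1,1,1,3,0,3,0,2,1,2,0,0,0,2,1,1],[0,2,1,3,0,2,1,3,0,2,1,3,0,2,1,3,0,2,1,3,0,2,1,3,0,2,1,3,0,2,1,3]]
theorem ck160 : lall2 (fun r o => band (outChk t156 (tt157.getW 48) (2 ^ (1 + 1)) 4 43 o) (eqnChk io [] r (sel t156T o.1) [])) E159 [([0,3],[19,19,19,22,42]),([1,3],[19,19,19,22,22,42]),([2],[22,22,41,42,42]),([3,3],[19,19,19,22,22,22,41])] = true := by decide +kernel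
noncomputable def E161 : List (List ℕ) := lapp E159 E155
theorem imp162 : Imp.{u} io E155 C5 := Imp.of_chk (pfs := [[([],3)]]) (by decide +kernel)
theorem ex163 : Ex (2 ^ (1 + 1)) gA io [] E153 := Ex.start s0A (by decide +kernel) hgeA
theorem rl165 : ∀ r ∈ [[0,0,0,0,0,0,0]], wp gA r = 1 := rels_of_eqv heqA (by decide +kernel)
theorem ex164 : Ex (2 ^ (1 + 1)) gA io [] E154 := ex163.norm (ol := [1,3,0,0]) (rl165 _ (List.mem_singleton_self _)) (by decide +kernel)
theorem rl167 : ∀ r ∈ [[2,0,0,2,0,0,2,0,0]], wp gA r = 1 := rels_of_eqv heqA (by decide +kernel)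
theorem ex166 : Ex (2 ^ (1 + 1)) gA io [] E155 := ex164.norm (ol := [0,0,1,3]) (rl167 _ (List.mem_singleton_self _)) (by decide +kernel)
theorem der169 : Der 7 (finX 7) (cl gA (lw [0,1])) (fun _ => Net.nil) := Der.zero modelA.inj
noncomputable def ns170 : ℕ → Net := upd (fun _ => Net.nil) 0 (m2 0)
theorem der171 : Der 7 (finX 7) (cl gA (lw [0,1])) ns170 := der169.add (wp_mem_cl (w := [0]) (by decide)) (rep_letter modelA 0) 0
noncomputable def ns172 : ℕ → Net := upd ns170 1 (m2 1)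
theorem der173 : Der 7 (finX 7) (cl gA (lw [0,1])) ns172 := der171.add (wp_mem_cl (w := [1]) (by decide)) (rep_letter modelA 1) 1
noncomputable def L174 : Lev := Lev.cons 0 7 [[0],[1]] Lev.nil
theorem lc175 : Lev.chk 7 0 ns172 vT 100 L174 = true := by decide +kernel
theorem lb176 : 7 ≤ Nat.card (cl gA (lw [0,1])) := le_of_eq_of_le (by decide +kernel) (der173.card_ge lc175)
theorem rl177 : ∀ r ∈ t156T, wp gA r = 1 := rels_of_eqv heqA (by decide +kernel)
theorem ui168 : UImp (2 ^ (1 + 1)) gA io [] E155 E159 := dg158.uimp (UGen.base (us := []) bd57 imp162 lb176 (by simp)) rl177 ck160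
theorem ex178 : Ex (2 ^ (1 + 1)) gA io [] E161 := ex166.step (UImp.add (UImp.of_imp Imp.refl) ui168)
noncomputable def E179 : List (List ℕ) := lapp [[0,2,1,3,0,2,1,3,0,2,1,3,0,2,1,3]] E161
theorem imp180 : Imp.{u} io E179 C60 := Imp.of_chk (pfs := [[([],13)],[([],0),([],3)],[([],0),([],5)],[([],11)],[([],7)]]) (by decide +kernel)
theorem der181 : Der 7 (finX 7) (cl gA (lw [0,1,2,3])) (fun _ => Net.nil) := Der.zero modelA.inj
noncomputable def ns182 : ℕ → Net := upd (fun _ => Net.nil) 0 (m2 0)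
theorem der183 : Der 7 (finX 7) (cl gA (lw [0,1,2,3])) ns182 := der181.add (wp_mem_cl (w := [0]) (by decide)) (rep_letter modelA 0) 0
noncomputable def ns184 : ℕ → Net := upd ns182 1 (m2 1)
theorem der185 : Der 7 (finX 7) (cl gA (lw [0,1,2,3])) ns184 := der183.add (wp_mem_cl (w := [1]) (by decide)) (rep_letter modelA 1) 1
noncomputable def ns186 : ℕ → Net := upd ns184 2 (m2 2)
theorem der187 : Der 7 (finX 7) (cl gA (lw [0,1,2,3])) ns186 := der185.add (wp_mem_cl (w := [2]) (by decide)) (rep_letter modelA 2) 2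
noncomputable def ns188 : ℕ → Net := upd ns186 3 (m2 3)
theorem der189 : Der 7 (finX 7) (cl gA (lw [0,1,2,3])) ns188 := der187.add (wp_mem_cl (w := [3]) (by decide)) (rep_letter modelA 3) 3
noncomputable def x190 : Net := (Net.cons (nat_lit 2) (nat_lit 3)
  (Net.cons (nat_lit 1) (nat_lit 17)
  (Net.cons (nat_lit 2) (nat_lit 2)
  (Net.cons (nat_lit 4) (nat_lit 2)
  Net.nil))))
noncomputable def x190s : ℕ → Net := upd ns188 4 x190
theorem der191 : Der 7 (finX 7) (cl gA (lw [0,1,2,3])) x190s := der189.ext (k := 3) (w := [0,0,0,2,0,0]) 4 (by decide +kernel)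
noncomputable def x192 : Net := (Net.cons (nat_lit 4) (nat_lit 9)
  (Net.cons (nat_lit 2) (nat_lit 32)
  (Net.cons (nat_lit 4) (nat_lit 8)
  Net.nil)))
noncomputable def x192s : ℕ → Net := upd x190s 5 x192
theorem der193 : Der 7 (finX 7) (cl gA (lw [0,1,2,3])) x192s := der191.ext (k := 3) (w := [4,2,4,4,2,4]) 5 (by decide +kernel)
noncomputable def L194 : Lev := Lev.cons 0 4 [[2],[3],[5]] Lev.nil
noncomputable def L195 : Lev := Lev.cons 1 6 [[4]] L194
noncomputable def L196 : Lev := Lev.cons 6 7 [[0],[1]] L195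
theorem lc197 : Lev.chk 7 0 x192s vT 100 L196 = true := by decide +kernel
theorem lb198 : 168 ≤ Nat.card (cl gA (lw [0,1,2,3])) := le_of_eq_of_le (by decide +kernel) (der193.card_ge lc197)
theorem rl199 : ∀ r ∈ [[0,2,1,3,0,2,1,3,0,2,1,3,0,2,1,3]], wp gA r = 1 := rels_of_eqv heqA (by decide +kernel)
theorem ug200 : UGen (2 ^ (1 + 1)) gA io [] E161 [0,1,2,3] [[0,2,1,3,0,2,1,3,0,2,1,3,0,2,1,3]] := (UGen.base (us := [[0,2,1,3,0,2,1,3,0,2,1,3,0,2,1,3]]) bd122 imp180 lb198 rl199)
theorem pm2 : PM GA 2 1 1 := PM.of ex178 ug200 rl199 (pfs := [[([],7)]]) (by decide +kernel) (coprime_index (n := 1) (B := 168) (cardA.trans (by norm_num)) lb198 (bd122 _ _ satA).2 (by norm_num) (by norm_num))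
noncomputable def m201n0 : Net := (Net.cons (nat_lit 24) (nat_lit 0x160080)
  (Net.cons (nat_lit 12) (nat_lit 0xa00000a00)
  (Net.cons (nat_lit 6) (nat_lit 0xe02c00e02c)
  (Net.cons (nat_lit 3) (nat_lit 0x1470c21470c2)
  (Net.cons (nat_lit 1) (nat_lit 0x48000048000)
  (Net.cons (nat_lit 1) (nat_lit 0x90482090482)
  (Net.cons (nat_lit 1) (nat_lit 0x9208009208)
  (Net.cons (nat_lit 3) (nat_lit 0x100002100002)
  (Net.cons (nat_lit 6) (nat_lit 0x8022008022)
  (Net.cons (nat_lit 12) (nat_lit 0x880000880)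
  Net.nil))))))))))
noncomputable def m201n1 : Net := (Net.cons (nat_lit 24) (nat_lit 0x20c020)
  (Net.cons (nat_lit 12) (nat_lit 0x880000880)
  (Net.cons (nat_lit 6) (nat_lit 0x19022019022)
  (Net.cons (nat_lit 3) (nat_lit 0xc71c20c71c2)
  (Net.cons (nat_lit 1) (nat_lit 0x1040001040)
  (Net.cons (nat_lit 1) (nat_lit 0x402482402482)
  (Net.cons (nat_lit 1) (nat_lit 0x209008209008)
  (Net.cons (nat_lit 3) (nat_lit 0x2102002102)
  (Net.cons (nat_lit 6) (nat_lit 0x1c02c01c02c)
  (Net.cons (nat_lit 12) (nat_lit 0xa00000a00)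
  Net.nil))))))))))
noncomputable def m201n2 : Net := (Net.cons (nat_lit 24) (nat_lit 0x7a74d)
  (Net.cons (nat_lit 12) (nat_lit 0x7c50007c5)
  (Net.cons (nat_lit 6) (nat_lit 0x1e03401e034)
  (Net.cons (nat_lit 3) (nat_lit 0x182080182080)
  (Net.cons (nat_lit 1) (nat_lit 0x8041008041)
  (Net.cons (nat_lit 1) (nat_lit 0x92092092092)
  (Net.cons (nat_lit 1) (nat_lit 0x41008041008)
  (Net.cons (nat_lit 3) (nat_lit 0x80182080182)
  (Net.cons (nat_lit 6) (nat_lit 0x3000e03000e)
  (Net.cons (nat_lit 12) (nat_lit 0x83a00083a)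
  Net.nil))))))))))
noncomputable def m201n3 : Net := (Net.cons (nat_lit 24) (nat_lit 0xf858b2)
  (Net.cons (nat_lit 12) (nat_lit 0x7c50007c5)
  (Net.cons (nat_lit 6) (nat_lit 0x1e03401e034)
  (Net.cons (nat_lit 3) (nat_lit 0x182080182080)
  (Net.cons (nat_lit 1) (nat_lit 0x8041008041)
  (Net.cons (nat_lit 1) (nat_lit 0x92092092092)
  (Net.cons (nat_lit 1) (nat_lit 0x41008041008)
  (Net.cons (nat_lit 3) (nat_lit 0x80182080182)
  (Net.cons (nat_lit 6) (nat_lit 0x3000e03000e)
  (Net.cons (nat_lit 12) (nat_lit 0x83a00083a)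
  Net.nil))))))))))
noncomputable def m201l : List Net := [m201n0,m201n1,m201n2,m201n3]
noncomputable abbrev m201 : ℕ → Net := lk Net.nil m201l
theorem m201ok : NetsOk 48 m201 vT := netsOk_of (by decide +kernel)
theorem m201s0 : Sat io [] (finG m201ok) := fin_sat_nil _ (k := 6) (n := 4) (by decide +kernel)
noncomputable def us202 : List (List ℕ) := [[0,2,1,3,0,2,1,3,0,2,1,3,0,2,1,3]]
theorem der203 : Der 48 (finX 48) (cl (finG m201ok) us202) (fun _ => Net.nil) := Der.zero (finModel m201ok).inj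
noncomputable def x204 : Net := (Net.cons (nat_lit 24) (nat_lit 0xffffff)
  Net.nil)
noncomputable def ns205 : ℕ → Net := upd (fun _ => Net.nil) 0 x204
theorem der206 : Der 48 (finX 48) (cl (finG m201ok) us202) ns205 := der203.add (wp_mem_cl (w := [0,2,1,3,0,2,1,3,0,2,1,3,0,2,1,3]) (by decide)) ((finModel m201ok).toIsPre.rep_word (k := 6) (w := [0,2,1,3,0,2,1,3,0,2,1,3,0,2,1,3]) (n := x204) (by decide +kernel)) 0
noncomputable def L207 : Lev := Lev.cons 0 2 [[0]] Lev.nil
theorem lc208 : Lev.chk 48 3 ns205 vT 100 L207 = true := by decide +kernel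
theorem lb209 : 2 ≤ Nat.card (cl (finG m201ok) us202) := le_of_eq_of_le (by decide +kernel) (der206.card_ge lc208)
theorem cv210 : ∀ r ∈ C60, wp (finG m201ok) r ∈ cl (finG m201ok) us202 := (mem_cl_of_eqv (eqv_of_faith (finModel m201ok) (faith_fin 48) 6) (sl := [[],[0],[0],[],[]]) (by decide +kernel))
theorem rl211 : ∀ r ∈ us202, wp gA r = 1 := rels_of_eqv heqA (by decide +kernel)
theorem cov : HasCov GA 2 := HasCov.of satA m201s0 bd122 (le_of_eq_of_le (by norm_num) cardA.ge) (top_of_card cardA lb198) (cs := [([0],[2],4)]) (us := us202) (by decide +kernel) (by decide +kernel) rl211 (comm_of_eqv' (eqv_of_faith (finModel m201ok) (faith_fin 48) 6) (by decide +kernel)) cv210 lb209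
theorem schur : HasCyclicSchurMultiplier GA 2 := hasCyc_of (a := 1) (b := 0) (pm2.mono (by norm_num)) ((PM.of_not_sq (p := 3) (by norm_num) (by rw [cardA]; norm_num)).mono (by norm_num)) (PM.ge5 cardA (fl := [2,2,2,3,7]) (l := []) (by simp) (by decide +kernel)) cov (by norm_num)

end Cfsg.Agent.H6.Cl.L32
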