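import Cfsg.Agent.H6.ClC3
set_option maxRecDepth 100000
set_option Elab.async false
namespace Cfsg.Agent.H6.Cl.U43
open Cfsg.Agent.H6
universe u

theorem cv477 : wp (finG m460ok) [0,0,0,0,0,0,0] ∈ cl (finG m460ok) us461 := mem_cl_of_eqv (eqv_of_faith (finModel m460ok) (faith_fin 7020) 13) (R := [[0,0,0,0,0,0,0]]) (sl := [[]]) (by decide +kernel) _ (List.mem_singleton_self _)
theorem cv478 : wp (finG m460ok) [2,2] ∈ cl (finG m460ok) us461 := mem_cl_of_eqv (eqv_of_faith (finModel m460ok) (faith_fin 7020) 13) (R := [[2,2]]) (sl := [[]]) (by decide +kernel) _ (List.mem_singleton_self _)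
theorem cv479 : wp (finG m460ok) [2,0,2,0,2,0,2,0] ∈ cl (finG m460ok) us461 := mem_cl_of_eqv (eqv_of_faith (finModel m460ok) (faith_fin 7020) 13) (R := [[2,0,2,0,2,0,2,0]]) (sl := [[]]) (by decide +kernel) _ (List.mem_singleton_self _)
theorem cv480 : wp (finG m460ok) [2,0,0,2,0,0,2,0,0] ∈ cl (finG m460ok) us461 := mem_cl_of_eqv (eqv_of_faith (finModel m460ok) (faith_fin 7020) 13) (R := [[2,0,0,2,0,0,2,0,0]]) (sl := [[]]) (by decide +kernel) _ (List.mem_singleton_self _)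
theorem cv481 : wp (finG m460ok) [3,1,1,1,3,0,3,0,2,1,2,0,0,0,2,1,1] ∈ cl (finG m460ok) us461 := mem_cl_of_eqv (eqv_of_faith (finModel m460ok) (faith_fin 7020) 13) (R := [[3,1,1,1,3,0,3,0,2,1,2,0,0,0,2,1,1]]) (sl := [[]]) (by decide +kernel) _ (List.mem_singleton_self _)
theorem cv482 : wp (finG m460ok) [4,4] ∈ cl (finG m460ok) us461 := mem_cl_of_eqv (eqv_of_faith (finModel m460ok) (faith_fin 7020) 13) (R := [[4,4]]) (sl := [[]]) (by decide +kernel) _ (List.mem_singleton_self _)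
theorem cv483 : wp (finG m460ok) [5,2,4,3] ∈ cl (finG m460ok) us461 := mem_cl_of_eqv (eqv_of_faith (finModel m460ok) (faith_fin 7020) 13) (R := [[5,2,4,3]]) (sl := [[]]) (by decide +kernel) _ (List.mem_singleton_self _)
theorem cv484 : wp (finG m460ok) [4,0,3,0,0,0,2,0,5,1,3,1,1,1,3,1] ∈ cl (finG m460ok) us461 := mem_cl_of_eqv (eqv_of_faith (finModel m460ok) (faith_fin 7020) 13) (R := [[4,0,3,0,0,0,2,0,5,1,3,1,1,1,3,1]]) (sl := [[]]) (by decide +kernel) _ (List.mem_singleton_self _)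
theorem cv485 : wp (finG m460ok) [5,1,3,0,3,1,2,0,4,1,1,1,3,1,3,0,0,3] ∈ cl (finG m460ok) us461 := mem_cl_of_eqv (eqv_of_faith (finModel m460ok) (faith_fin 7020) 13) (R := [[5,1,3,0,3,1,2,0,4,1,1,1,3,1,3,0,0,3]]) (sl := [[]]) (by decide +kernel) _ (List.mem_singleton_self _)
theorem cv486 : wp (finG m460ok) [5,1,5,1,2,4,0,4,0,3] ∈ cl (finG m460ok) us461 := mem_cl_of_eqv (eqv_of_faith (finModel m460ok) (faith_fin 7020) 13) (R := [[5,1,5,1,2,4,0,4,0,3]]) (sl := [[]]) (by decide +kernel) _ (List.mem_singleton_self _)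
theorem cv487 : wp (finG m460ok) [5,1,1,1,3,4,0,0,0,4,1,1,1,3,0,0,0] ∈ cl (finG m460ok) us461 := mem_cl_of_eqv (eqv_of_faith (finModel m460ok) (faith_fin 7020) 13) (R := [[5,1,1,1,3,4,0,0,0,4,1,1,1,3,0,0,0]]) (sl := [[]]) (by decide +kernel) _ (List.mem_singleton_self _)
theorem cv488 : wp (finG m460ok) [6,6] ∈ cl (finG m460ok) us461 := mem_cl_of_eqv (eqv_of_faith (finModel m460ok) (faith_fin 7020) 13) (R := [[6,6]]) (sl := [[]]) (by decide +kernel) _ (List.mem_singleton_self _)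
theorem cv489 : wp (finG m460ok) [6,0,0,6,0,0,6,0,0,6,0,0,6,0,0,6,0,0,6,0,0] ∈ cl (finG m460ok) us461 := mem_cl_of_eqv (eqv_of_faith (finModel m460ok) (faith_fin 7020) 13) (R := [[6,0,0,6,0,0,6,0,0,6,0,0,6,0,0,6,0,0,6,0,0]]) (sl := [[1,2]]) (by decide +kernel) _ (List.mem_singleton_self _)
theorem cv490 : wp (finG m460ok) [6,0,3,0,7,1,3,5,1,1,5,0] ∈ cl (finG m460ok) us461 := mem_cl_of_eqv (eqv_of_faith (finModel m460ok) (faith_fin 7020) 13) (R := [[6,0,3,0,7,1,3,5,1,1,5,0]]) (sl := [[2,2,2,2]]) (by decide +kernel) _ (List.mem_singleton_self _)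
theorem cv491 : wp (finG m460ok) [7,3,1,4,0,6,3,1,5,0] ∈ cl (finG m460ok) us461 := mem_cl_of_eqv (eqv_of_faith (finModel m460ok) (faith_fin 7020) 13) (R := [[7,3,1,4,0,6,3,1,5,0]]) (sl := [[1]]) (by decide +kernel) _ (List.mem_singleton_self _)
theorem cv492 : wp (finG m460ok) [7,5,1,5,0,6,4,2,6,1,1,3,5,0,0] ∈ cl (finG m460ok) us461 := mem_cl_of_eqv (eqv_of_faith (finModel m460ok) (faith_fin 7020) 13) (R := [[7,5,1,5,0,6,4,2,6,1,1,3,5,0,0]]) (sl := [[1,1]]) (by decide +kernel) _ (List.mem_singleton_self _)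
theorem cv493 : wp (finG m460ok) [7,5,6,3,0,0,4,0,7,4,6,0,0,3,0,0,5,1,3] ∈ cl (finG m460ok) us461 := mem_cl_of_eqv (eqv_of_faith (finModel m460ok) (faith_fin 7020) 13) (R := [[7,5,6,3,0,0,4,0,7,4,6,0,0,3,0,0,5,1,3]]) (sl := [[0,0]]) (by decide +kernel) _ (List.mem_singleton_self _)

end Cfsg.Agent.H6.Cl.U43
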