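import Cfsg.Agent.H6.ClC4
set_option maxRecDepth 100000
set_option Elab.async false
namespace Cfsg.Agent.H6.Cl.U43
open Cfsg.Agent.H6
universe u

theorem cv494 : ∀ r ∈ C195, wp (finG m460ok) r ∈ cl (finG m460ok) us461 := (List.forall_mem_cons.2 ⟨cv477, (List.forall_mem_cons.2 ⟨cv478, (List.forall_mem_cons.2 ⟨cv479, (List.forall_mem_cons.2 ⟨cv480, (List.forall_mem_cons.2 ⟨cv481, (List.forall_mem_cons.2 ⟨cv482, (List.forall_mem_cons.2 ⟨cv483, (List.forall_mem_cons.2 ⟨cv484, (List.forall_mem_cons.2 ⟨cv485, (List.forall_mem_cons.2 ⟨cv486, (List.forall_mem_cons.2 ⟨cv487, (List.forall_mem_cons.2 ⟨cv488, (List.forall_mem_cons.2 ⟨cv489, (List.forall_mem_cons.2 ⟨cv490, (List.forall_mem_cons.2 ⟨cv491, (List.forall_mem_cons.2 ⟨cv492, (List.forall_mem_cons.2 ⟨cv493, (by simp)⟩)⟩)⟩)⟩)⟩)⟩)⟩)⟩)⟩)⟩)⟩)⟩)⟩)⟩)⟩)⟩)⟩)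
theorem cv495 : finG m460ok 7 * wp (finG m460ok) [7,5,1,4,6,0,7,5,1,4,6,0,7,5,1,4,6,0,7,5,1,4,6,0,7,5,1,4,6,0,7,5,1,4,6,0,7,5,1,4,6,0] = wp (finG m460ok) [7,5,1,4,6,0,7,5,1,4,6,0,7,5,1,4,6,0,7,5,1,4,6,0,7,5,1,4,6,0,7,5,1,4,6,0,7,5,1,4,6,0] * finG m460ok 7 := comm_of_eqv' (eqv_of_faith (finModel m460ok) (faith_fin 7020) 13) (us := [[7,5,1,4,6,0,7,5,1,4,6,0,7,5,1,4,6,0,7,5,1,4,6,0,7,5,1,4,6,0,7,5,1,4,6,0,7,5,1,4,6,0]]) (kl := [7]) (by decide +kernel) _ (List.mem_singleton_self _) _ (List.mem_singleton_self _)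
theorem cv496 : finG m460ok 6 * wp (finG m460ok) [7,5,1,4,6,0,7,5,1,4,6,0,7,5,1,4,6,0,7,5,1,4,6,0,7,5,1,4,6,0,7,5,1,4,6,0,7,5,1,4,6,0] = wp (finG m460ok) [7,5,1,4,6,0,7,5,1,4,6,0,7,5,1,4,6,0,7,5,1,4,6,0,7,5,1,4,6,0,7,5,1,4,6,0,7,5,1,4,6,0] * finG m460ok 6 := comm_of_eqv' (eqv_of_faith (finModel m460ok) (faith_fin 7020) 13) (us := [[7,5,1,4,6,0,7,5,1,4,6,0,7,5,1,4,6,0,7,5,1,4,6,0,7,5,1,4,6,0,7,5,1,4,6,0,7,5,1,4,6,0]]) (kl := [6]) (by decide +kernel) _ (List.mem_singleton_self _) _ (List.mem_singleton_self _)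
theorem cv497 : finG m460ok 5 * wp (finG m460ok) [7,5,1,4,6,0,7,5,1,4,6,0,7,5,1,4,6,0,7,5,1,4,6,0,7,5,1,4,6,0,7,5,1,4,6,0,7,5,1,4,6,0] = wp (finG m460ok) [7,5,1,4,6,0,7,5,1,4,6,0,7,5,1,4,6,0,7,5,1,4,6,0,7,5,1,4,6,0,7,5,1,4,6,0,7,5,1,4,6,0] * finG m460ok 5 := comm_of_eqv' (eqv_of_faith (finModel m460ok) (faith_fin 7020) 13) (us := [[7,5,1,4,6,0,7,5,1,4,6,0,7,5,1,4,6,0,7,5,1,4,6,0,7,5,1,4,6,0,7,5,1,4,6,0,7,5,1,4,6,0]]) (kl := [5]) (by decide +kernel) _ (List.mem_singleton_self _) _ (List.mem_singleton_self _)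
theorem cv498 : finG m460ok 4 * wp (finG m460ok) [7,5,1,4,6,0,7,5,1,4,6,0,7,5,1,4,6,0,7,5,1,4,6,0,7,5,1,4,6,0,7,5,1,4,6,0,7,5,1,4,6,0] = wp (finG m460ok) [7,5,1,4,6,0,7,5,1,4,6,0,7,5,1,4,6,0,7,5,1,4,6,0,7,5,1,4,6,0,7,5,1,4,6,0,7,5,1,4,6,0] * finG m460ok 4 := comm_of_eqv' (eqv_of_faith (finModel m460ok) (faith_fin 7020) 13) (us := [[7,5,1,4,6,0,7,5,1,4,6,0,7,5,1,4,6,0,7,5,1,4,6,0,7,5,1,4,6,0,7,5,1,4,6,0,7,5,1,4,6,0]]) (kl := [4]) (by decide +kernel) _ (List.mem_singleton_self _) _ (List.mem_singleton_self _)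
theorem cv499 : finG m460ok 3 * wp (finG m460ok) [7,5,1,4,6,0,7,5,1,4,6,0,7,5,1,4,6,0,7,5,1,4,6,0,7,5,1,4,6,0,7,5,1,4,6,0,7,5,1,4,6,0] = wp (finG m460ok) [7,5,1,4,6,0,7,5,1,4,6,0,7,5,1,4,6,0,7,5,1,4,6,0,7,5,1,4,6,0,7,5,1,4,6,0,7,5,1,4,6,0] * finG m460ok 3 := comm_of_eqv' (eqv_of_faith (finModel m460ok) (faith_fin 7020) 13) (us := [[7,5,1,4,6,0,7,5,1,4,6,0,7,5,1,4,6,0,7,5,1,4,6,0,7,5,1,4,6,0,7,5,1,4,6,0,7,5,1,4,6,0]]) (kl := [3]) (by decide +kernel) _ (List.mem_singleton_self _) _ (List.mem_singleton_self _)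
theorem cv500 : finG m460ok 2 * wp (finG m460ok) [7,5,1,4,6,0,7,5,1,4,6,0,7,5,1,4,6,0,7,5,1,4,6,0,7,5,1,4,6,0,7,5,1,4,6,0,7,5,1,4,6,0] = wp (finG m460ok) [7,5,1,4,6,0,7,5,1,4,6,0,7,5,1,4,6,0,7,5,1,4,6,0,7,5,1,4,6,0,7,5,1,4,6,0,7,5,1,4,6,0] * finG m460ok 2 := comm_of_eqv' (eqv_of_faith (finModel m460ok) (faith_fin 7020) 13) (us := [[7,5,1,4,6,0,7,5,1,4,6,0,7,5,1,4,6,0,7,5,1,4,6,0,7,5,1,4,6,0,7,5,1,4,6,0,7,5,1,4,6,0]]) (kl := [2]) (by decide +kernel) _ (List.mem_singleton_self _) _ (List.mem_singleton_self _)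
theorem cv501 : finG m460ok 1 * wp (finG m460ok) [7,5,1,4,6,0,7,5,1,4,6,0,7,5,1,4,6,0,7,5,1,4,6,0,7,5,1,4,6,0,7,5,1,4,6,0,7,5,1,4,6,0] = wp (finG m460ok) [7,5,1,4,6,0,7,5,1,4,6,0,7,5,1,4,6,0,7,5,1,4,6,0,7,5,1,4,6,0,7,5,1,4,6,0,7,5,1,4,6,0] * finG m460ok 1 := comm_of_eqv' (eqv_of_faith (finModel m460ok) (faith_fin 7020) 13) (us := [[7,5,1,4,6,0,7,5,1,4,6,0,7,5,1,4,6,0,7,5,1,4,6,0,7,5,1,4,6,0,7,5,1,4,6,0,7,5,1,4,6,0]]) (kl := [1]) (by decide +kernel) _ (List.mem_singleton_self _) _ (List.mem_singleton_self _)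
theorem cv502 : finG m460ok 0 * wp (finG m460ok) [7,5,1,4,6,0,7,5,1,4,6,0,7,5,1,4,6,0,7,5,1,4,6,0,7,5,1,4,6,0,7,5,1,4,6,0,7,5,1,4,6,0] = wp (finG m460ok) [7,5,1,4,6,0,7,5,1,4,6,0,7,5,1,4,6,0,7,5,1,4,6,0,7,5,1,4,6,0,7,5,1,4,6,0,7,5,1,4,6,0] * finG m460ok 0 := comm_of_eqv' (eqv_of_faith (finModel m460ok) (faith_fin 7020) 13) (us := [[7,5,1,4,6,0,7,5,1,4,6,0,7,5,1,4,6,0,7,5,1,4,6,0,7,5,1,4,6,0,7,5,1,4,6,0,7,5,1,4,6,0]]) (kl := [0]) (by decide +kernel) _ (List.mem_singleton_self _) _ (List.mem_singleton_self _)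
theorem cv503 : finG m460ok 7 * wp (finG m460ok) [5,0,6,1,1,4,0,7,5,0,6,1,1,4,0,7,5,0,6,1,1,4,0,7,5,0,6,1,1,4,0,7] = wp (finG m460ok) [5,0,6,1,1,4,0,7,5,0,6,1,1,4,0,7,5,0,6,1,1,4,0,7,5,0,6,1,1,4,0,7] * finG m460ok 7 := comm_of_eqv' (eqv_of_faith (finModel m460ok) (faith_fin 7020) 13) (us := [[5,0,6,1,1,4,0,7,5,0,6,1,1,4,0,7,5,0,6,1,1,4,0,7,5,0,6,1,1,4,0,7]]) (kl := [7]) (by decide +kernel) _ (List.mem_singleton_self _) _ (List.mem_singleton_self _)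
theorem cv504 : finG m460ok 6 * wp (finG m460ok) [5,0,6,1,1,4,0,7,5,0,6,1,1,4,0,7,5,0,6,1,1,4,0,7,5,0,6,1,1,4,0,7] = wp (finG m460ok) [5,0,6,1,1,4,0,7,5,0,6,1,1,4,0,7,5,0,6,1,1,4,0,7,5,0,6,1,1,4,0,7] * finG m460ok 6 := comm_of_eqv' (eqv_of_faith (finModel m460ok) (faith_fin 7020) 13) (us := [[5,0,6,1,1,4,0,7,5,0,6,1,1,4,0,7,5,0,6,1,1,4,0,7,5,0,6,1,1,4,0,7]]) (kl := [6]) (by decide +kernel) _ (List.mem_singleton_self _) _ (List.mem_singleton_self _)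
theorem cv505 : finG m460ok 5 * wp (finG m460ok) [5,0,6,1,1,4,0,7,5,0,6,1,1,4,0,7,5,0,6,1,1,4,0,7,5,0,6,1,1,4,0,7] = wp (finG m460ok) [5,0,6,1,1,4,0,7,5,0,6,1,1,4,0,7,5,0,6,1,1,4,0,7,5,0,6,1,1,4,0,7] * finG m460ok 5 := comm_of_eqv' (eqv_of_faith (finModel m460ok) (faith_fin 7020) 13) (us := [[5,0,6,1,1,4,0,7,5,0,6,1,1,4,0,7,5,0,6,1,1,4,0,7,5,0,6,1,1,4,0,7]]) (kl := [5]) (by decide +kernel) _ (List.mem_singleton_self _) _ (List.mem_singleton_self _)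
theorem cv506 : finG m460ok 4 * wp (finG m460ok) [5,0,6,1,1,4,0,7,5,0,6,1,1,4,0,7,5,0,6,1,1,4,0,7,5,0,6,1,1,4,0,7] = wp (finG m460ok) [5,0,6,1,1,4,0,7,5,0,6,1,1,4,0,7,5,0,6,1,1,4,0,7,5,0,6,1,1,4,0,7] * finG m460ok 4 := comm_of_eqv' (eqv_of_faith (finModel m460ok) (faith_fin 7020) 13) (us := [[5,0,6,1,1,4,0,7,5,0,6,1,1,4,0,7,5,0,6,1,1,4,0,7,5,0,6,1,1,4,0,7]]) (kl := [4]) (by decide +kernel) _ (List.mem_singleton_self _) _ (List.mem_singleton_self _)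
theorem cv507 : finG m460ok 3 * wp (finG m460ok) [5,0,6,1,1,4,0,7,5,0,6,1,1,4,0,7,5,0,6,1,1,4,0,7,5,0,6,1,1,4,0,7] = wp (finG m460ok) [5,0,6,1,1,4,0,7,5,0,6,1,1,4,0,7,5,0,6,1,1,4,0,7,5,0,6,1,1,4,0,7] * finG m460ok 3 := comm_of_eqv' (eqv_of_faith (finModel m460ok) (faith_fin 7020) 13) (us := [[5,0,6,1,1,4,0,7,5,0,6,1,1,4,0,7,5,0,6,1,1,4,0,7,5,0,6,1,1,4,0,7]]) (kl := [3]) (by decide +kernel) _ (List.mem_singleton_self _) _ (List.mem_singleton_self _)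
theorem cv508 : finG m460ok 2 * wp (finG m460ok) [5,0,6,1,1,4,0,7,5,0,6,1,1,4,0,7,5,0,6,1,1,4,0,7,5,0,6,1,1,4,0,7] = wp (finG m460ok) [5,0,6,1,1,4,0,7,5,0,6,1,1,4,0,7,5,0,6,1,1,4,0,7,5,0,6,1,1,4,0,7] * finG m460ok 2 := comm_of_eqv' (eqv_of_faith (finModel m460ok) (faith_fin 7020) 13) (us := [[5,0,6,1,1,4,0,7,5,0,6,1,1,4,0,7,5,0,6,1,1,4,0,7,5,0,6,1,1,4,0,7]]) (kl := [2]) (by decide +kernel) _ (List.mem_singleton_self _) _ (List.mem_singleton_self _)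
theorem cv509 : finG m460ok 1 * wp (finG m460ok) [5,0,6,1,1,4,0,7,5,0,6,1,1,4,0,7,5,0,6,1,1,4,0,7,5,0,6,1,1,4,0,7] = wp (finG m460ok) [5,0,6,1,1,4,0,7,5,0,6,1,1,4,0,7,5,0,6,1,1,4,0,7,5,0,6,1,1,4,0,7] * finG m460ok 1 := comm_of_eqv' (eqv_of_faith (finModel m460ok) (faith_fin 7020) 13) (us := [[5,0,6,1,1,4,0,7,5,0,6,1,1,4,0,7,5,0,6,1,1,4,0,7,5,0,6,1,1,4,0,7]]) (kl := [1]) (by decide +kernel) _ (List.mem_singleton_self _) _ (List.mem_singleton_self _)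
theorem cv510 : finG m460ok 0 * wp (finG m460ok) [5,0,6,1,1,4,0,7,5,0,6,1,1,4,0,7,5,0,6,1,1,4,0,7,5,0,6,1,1,4,0,7] = wp (finG m460ok) [5,0,6,1,1,4,0,7,5,0,6,1,1,4,0,7,5,0,6,1,1,4,0,7,5,0,6,1,1,4,0,7] * finG m460ok 0 := comm_of_eqv' (eqv_of_faith (finModel m460ok) (faith_fin 7020) 13) (us := [[5,0,6,1,1,4,0,7,5,0,6,1,1,4,0,7,5,0,6,1,1,4,0,7,5,0,6,1,1,4,0,7]]) (kl := [0]) (by decide +kernel) _ (List.mem_singleton_self _) _ (List.mem_singleton_self _)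
theorem cv511 : finG m460ok 7 * wp (finG m460ok) [0,7,2,0,6,1,1,3,0,7,2,0,6,1,1,3,0,7,2,0,6,1,1,3] = wp (finG m460ok) [0,7,2,0,6,1,1,3,0,7,2,0,6,1,1,3,0,7,2,0,6,1,1,3] * finG m460ok 7 := comm_of_eqv' (eqv_of_faith (finModel m460ok) (faith_fin 7020) 13) (us := [[0,7,2,0,6,1,1,3,0,7,2,0,6,1,1,3,0,7,2,0,6,1,1,3]]) (kl := [7]) (by decide +kernel) _ (List.mem_singleton_self _) _ (List.mem_singleton_self _)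
theorem cv512 : finG m460ok 6 * wp (finG m460ok) [0,7,2,0,6,1,1,3,0,7,2,0,6,1,1,3,0,7,2,0,6,1,1,3] = wp (finG m460ok) [0,7,2,0,6,1,1,3,0,7,2,0,6,1,1,3,0,7,2,0,6,1,1,3] * finG m460ok 6 := comm_of_eqv' (eqv_of_faith (finModel m460ok) (faith_fin 7020) 13) (us := [[0,7,2,0,6,1,1,3,0,7,2,0,6,1,1,3,0,7,2,0,6,1,1,3]]) (kl := [6]) (by decide +kernel) _ (List.mem_singleton_self _) _ (List.mem_singleton_self _)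
theorem cv513 : finG m460ok 5 * wp (finG m460ok) [0,7,2,0,6,1,1,3,0,7,2,0,6,1,1,3,0,7,2,0,6,1,1,3] = wp (finG m460ok) [0,7,2,0,6,1,1,3,0,7,2,0,6,1,1,3,0,7,2,0,6,1,1,3] * finG m460ok 5 := comm_of_eqv' (eqv_of_faith (finModel m460ok) (faith_fin 7020) 13) (us := [[0,7,2,0,6,1,1,3,0,7,2,0,6,1,1,3,0,7,2,0,6,1,1,3]]) (kl := [5]) (by decide +kernel) _ (List.mem_singleton_self _) _ (List.mem_singleton_self _)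
theorem cv514 : finG m460ok 4 * wp (finG m460ok) [0,7,2,0,6,1,1,3,0,7,2,0,6,1,1,3,0,7,2,0,6,1,1,3] = wp (finG m460ok) [0,7,2,0,6,1,1,3,0,7,2,0,6,1,1,3,0,7,2,0,6,1,1,3] * finG m460ok 4 := comm_of_eqv' (eqv_of_faith (finModel m460ok) (faith_fin 7020) 13) (us := [[0,7,2,0,6,1,1,3,0,7,2,0,6,1,1,3,0,7,2,0,6,1,1,3]]) (kl := [4]) (by decide +kernel) _ (List.mem_singleton_self _) _ (List.mem_singleton_self _)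
theorem cv515 : finG m460ok 3 * wp (finG m460ok) [0,7,2,0,6,1,1,3,0,7,2,0,6,1,1,3,0,7,2,0,6,1,1,3] = wp (finG m460ok) [0,7,2,0,6,1,1,3,0,7,2,0,6,1,1,3,0,7,2,0,6,1,1,3] * finG m460ok 3 := comm_of_eqv' (eqv_of_faith (finModel m460ok) (faith_fin 7020) 13) (us := [[0,7,2,0,6,1,1,3,0,7,2,0,6,1,1,3,0,7,2,0,6,1,1,3]]) (kl := [3]) (by decide +kernel) _ (List.mem_singleton_self _) _ (List.mem_singleton_self _)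
theorem cv516 : finG m460ok 2 * wp (finG m460ok) [0,7,2,0,6,1,1,3,0,7,2,0,6,1,1,3,0,7,2,0,6,1,1,3] = wp (finG m460ok) [0,7,2,0,6,1,1,3,0,7,2,0,6,1,1,3,0,7,2,0,6,1,1,3] * finG m460ok 2 := comm_of_eqv' (eqv_of_faith (finModel m460ok) (faith_fin 7020) 13) (us := [[0,7,2,0,6,1,1,3,0,7,2,0,6,1,1,3,0,7,2,0,6,1,1,3]]) (kl := [2]) (by decide +kernel) _ (List.mem_singleton_self _) _ (List.mem_singleton_self _)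
theorem cv517 : finG m460ok 1 * wp (finG m460ok) [0,7,2,0,6,1,1,3,0,7,2,0,6,1,1,3,0,7,2,0,6,1,1,3] = wp (finG m460ok) [0,7,2,0,6,1,1,3,0,7,2,0,6,1,1,3,0,7,2,0,6,1,1,3] * finG m460ok 1 := comm_of_eqv' (eqv_of_faith (finModel m460ok) (faith_fin 7020) 13) (us := [[0,7,2,0,6,1,1,3,0,7,2,0,6,1,1,3,0,7,2,0,6,1,1,3]]) (kl := [1]) (by decide +kernel) _ (List.mem_singleton_self _) _ (List.mem_singleton_self _)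
theorem cv518 : finG m460ok 0 * wp (finG m460ok) [0,7,2,0,6,1,1,3,0,7,2,0,6,1,1,3,0,7,2,0,6,1,1,3] = wp (finG m460ok) [0,7,2,0,6,1,1,3,0,7,2,0,6,1,1,3,0,7,2,0,6,1,1,3] * finG m460ok 0 := comm_of_eqv' (eqv_of_faith (finModel m460ok) (faith_fin 7020) 13) (us := [[0,7,2,0,6,1,1,3,0,7,2,0,6,1,1,3,0,7,2,0,6,1,1,3]]) (kl := [0]) (by decide +kernel) _ (List.mem_singleton_self _) _ (List.mem_singleton_self _)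
theorem rl519 : ∀ r ∈ us461, wp gU r = 1 := rels_of_eqv heqU (by decide +kernel)
theorem cov : HasCov GU 36 := HasCov.of satU m460s0 bd261 (le_of_eq_of_le (by norm_num) cardU.ge) (top_of_card cardU lb416) (cs := [([0,7],[2,0],3),([5,0],[6,1],4),([7,5],[1],7)]) (us := us461) (by decide +kernel) (by decide +kernel) rl519 (List.forall_mem_cons.2 ⟨(List.forall_mem_cons.2 ⟨cv518, (List.forall_mem_cons.2 ⟨cv517, (List.forall_mem_cons.2 ⟨cv516, (List.forall_mem_cons.2 ⟨cv515, (List.forall_mem_cons.2 ⟨cv514, (List.forall_mem_cons.2 ⟨cv513, (List.forall_mem_cons.2 ⟨cv512, (List.forall_mem_cons.2 ⟨cv511, (by simp)⟩)⟩)⟩)⟩)⟩)⟩)⟩)⟩), (List.forall_mem_cons.2 ⟨(List.forall_mem_cons.2 ⟨cv510, (List.forall_mem_cons.2 ⟨cv509, (List.forall_mem_cons.2 ⟨cv508, (List.forall_mem_cons.2 ⟨cv507, (List.forall_mem_cons.2 ⟨cv506,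 (List.forall_mem_cons.2 ⟨cv505, (List.forall_mem_cons.2 ⟨cv504, (List.forall_mem_cons.2 ⟨cv503, (by simp)⟩)⟩)⟩)⟩)⟩)⟩)⟩)⟩), (List.forall_mem_cons.2 ⟨(List.forall_mem_cons.2 ⟨cv502, (List.forall_mem_cons.2 ⟨cv501, (List.forall_mem_cons.2 ⟨cv500, (List.forall_mem_cons.2 ⟨cv499, (List.forall_mem_cons.2 ⟨cv498, (List.forall_mem_cons.2 ⟨cv497, (List.forall_mem_cons.2 ⟨cv496, (List.forall_mem_cons.2 ⟨cv495, (by simp)⟩)⟩)⟩)⟩)⟩)⟩)⟩)⟩), (by simp)⟩)⟩)⟩) cv494 lb476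
theorem schur : HasSchurMultiplier GU (Multiplicative (ZMod 4 × ZMod 3 × ZMod 3)) := hasSM_of covAll_433 (pm2.mono (by norm_num)) (pm3.mono (by norm_num)) (PM.ge5 cardU (fl := [2,2,2,2,2,2,2,3,3,3,3,3,3,5,7]) (l := []) (by simp) (by decide +kernel)) cov (by simp)

end Cfsg.Agent.H6.Cl.U43
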