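import Cfsg.Agent.H6.Sch7
import Cfsg.Agent.S0245
import Cfsg.Agent.S0246
set_option maxRecDepth 100000
set_option Elab.async false
namespace Cfsg.Agent.H6.Cl.S62
open Cfsg.Agent.H6
universe u

noncomputable def il : List ℕ := [1,0,3,2,5,4,7,6]
noncomputable abbrev io : ℕ → ℕ := iota il
noncomputable def C1 : List (List ℕ) := []
noncomputable def m2n0 : Net := (Net.cons (nat_lit 32) (nat_lit 0x354f825d)
  (Net.cons (nat_lit 16) (nat_lit 0x263e0000aa9d)
  (Net.cons (nat_lit 8) (nat_lit 0x38004400f600a9)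
  (Net.cons (nat_lit 4) (nat_lit 0xb0c050800020805)
  (Net.cons (nat_lit 2) (nat_lit 0x3301311332310130)
  (Net.cons (nat_lit 1) (nat_lit 0x1404441511414400)
  (Net.cons (nat_lit 2) (nat_lit 0x202022020002000)
  (Net.cons (nat_lit 4) (nat_lit 0xe02040608060a04)
  (Net.cons (nat_lit 8) (nat_lit 0x7200ae009c006c)
  (Net.cons (nat_lit 16) (nat_lit 0x4eb800003388)
  (Net.cons (nat_lit 32) (nat_lit 0x40f138c2)
  Net.nil)))))))))))
noncomputable def m2n1 : Net := (Net.cons (nat_lit 32) (nat_lit 0xbe0ec73d)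
  (Net.cons (nat_lit 16) (nat_lit 0xacfc00009a1a)
  (Net.cons (nat_lit 8) (nat_lit 0xca003800a100bb)
  (Net.cons (nat_lit 4) (nat_lit 0x80b04050d020004)
  (Net.cons (nat_lit 2) (nat_lit 0x333302133110323)
  (Net.cons (nat_lit 1) (nat_lit 0x4041510001511441)
  (Net.cons (nat_lit 2) (nat_lit 0x22020002020020)
  (Net.cons (nat_lit 4) (nat_lit 0x808060402080c04)
  (Net.cons (nat_lit 8) (nat_lit 0x6a00e0005400b4)
  (Net.cons (nat_lit 16) (nat_lit 0xf5100000ff2a)
  (Net.cons (nat_lit 32) (nat_lit 0xcab079a2)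
  Net.nil)))))))))))
noncomputable def m2n2 : Net := (Net.cons (nat_lit 32) (nat_lit 0xedf00920)
  (Net.cons (nat_lit 16) (nat_lit 0x2231000051c2)
  (Net.cons (nat_lit 8) (nat_lit 0xec00ec0076009c)
  (Net.cons (nat_lit 4) (nat_lit 0x6060a0c0c070804)
  (Net.cons (nat_lit 2) (nat_lit 0x3003020330222002)
  (Net.cons (nat_lit 1) (nat_lit 0x15000551440540)
  (Net.cons (nat_lit 2) (nat_lit 0x220000)
  (Net.cons (nat_lit 4) (nat_lit 0x40e08040c000804)
  (Net.cons (nat_lit 8) (nat_lit 0xec00e800520008)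
  (Net.cons (nat_lit 16) (nat_lit 0xa89000005182)
  (Net.cons (nat_lit 32) (nat_lit 0xedf00920)
  Net.nil)))))))))))
noncomputable def m2n3 : Net := (Net.cons (nat_lit 32) (nat_lit 0xedf00920)
  (Net.cons (nat_lit 16) (nat_lit 0x2231000051c2)
  (Net.cons (nat_lit 8) (nat_lit 0xec00ec0076009c)
  (Net.cons (nat_lit 4) (nat_lit 0x6060a0c0c070804)
  (Net.cons (nat_lit 2) (nat_lit 0x3003020330222002)
  (Net.cons (nat_lit 1) (nat_lit 0x15000551440540)
  (Net.cons (nat_lit 2) (nat_lit 0x220000)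
  (Net.cons (nat_lit 4) (nat_lit 0x40e08040c000804)
  (Net.cons (nat_lit 8) (nat_lit 0xec00e800520008)
  (Net.cons (nat_lit 16) (nat_lit 0xa89000005182)
  (Net.cons (nat_lit 32) (nat_lit 0xedf00920)
  Net.nil)))))))))))
noncomputable def m2n4 : Net := (Net.cons (nat_lit 32) (nat_lit 0x44211060)
  (Net.cons (nat_lit 16) (nat_lit 0xd9000000d004)
  (Net.cons (nat_lit 8) (nat_lit 0x50001800da00d8)
  (Net.cons (nat_lit 4) (nat_lit 0x20500030d000408)
  (Net.cons (nat_lit 2) (nat_lit 0x3000221200032122)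
  (Net.cons (nat_lit 1) (nat_lit 0x5100445544450004)
  (Net.cons (nat_lit 2) (nat_lit 0x220000000002)
  (Net.cons (nat_lit 4) (nat_lit 0x200000c00000c00)
  (Net.cons (nat_lit 8) (nat_lit 0x50001800da0060)
  (Net.cons (nat_lit 16) (nat_lit 0xd9000000d004)
  (Net.cons (nat_lit 32) (nat_lit 0x44011060)
  Net.nil)))))))))))
noncomputable def m2n5 : Net := (Net.cons (nat_lit 32) (nat_lit 0x44211060)
  (Net.cons (nat_lit 16) (nat_lit 0xd9000000d004)
  (Net.cons (nat_lit 8) (nat_lit 0x50001800da00d8)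
  (Net.cons (nat_lit 4) (nat_lit 0x20500030d000408)
  (Net.cons (nat_lit 2) (nat_lit 0x3000221200032122)
  (Net.cons (nat_lit 1) (nat_lit 0x5100445544450004)
  (Net.cons (nat_lit 2) (nat_lit 0x220000000002)
  (Net.cons (nat_lit 4) (nat_lit 0x200000c00000c00)
  (Net.cons (nat_lit 8) (nat_lit 0x50001800da0060)
  (Net.cons (nat_lit 16) (nat_lit 0xd9000000d004)
  (Net.cons (nat_lit 32) (nat_lit 0x44011060)
  Net.nil)))))))))))
noncomputable def m2n6 : Net := (Net.cons (nat_lit 32) (nat_lit 0x54a4a338)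
  (Net.cons (nat_lit 16) (nat_lit 0x1100004112)
  (Net.cons (nat_lit 8) (nat_lit 0xb10068004a00c2)
  (Net.cons (nat_lit 4) (nat_lit 0x7010e0d040f0e08)
  (Net.cons (nat_lit 2) (nat_lit 0x1000101310331202)
  (Net.cons (nat_lit 1) (nat_lit 0x4401104101550150)
  (Net.cons (nat_lit 2) (nat_lit 0x202200000200)
  (Net.cons (nat_lit 4) (nat_lit 0xc0a04000c08)
  (Net.cons (nat_lit 8) (nat_lit 0xa20040004a00c2)
  (Net.cons (nat_lit 16) (nat_lit 0x5eb200004112)
  (Net.cons (nat_lit 32) (nat_lit 0x54a4a338)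
  Net.nil)))))))))))
noncomputable def m2n7 : Net := (Net.cons (nat_lit 32) (nat_lit 0x54a4a338)
  (Net.cons (nat_lit 16) (nat_lit 0x1100004112)
  (Net.cons (nat_lit 8) (nat_lit 0xb10068004a00c2)
  (Net.cons (nat_lit 4) (nat_lit 0x7010e0d040f0e08)
  (Net.cons (nat_lit 2) (nat_lit 0x1000101310331202)
  (Net.cons (nat_lit 1) (nat_lit 0x4401104101550150)
  (Net.cons (nat_lit 2) (nat_lit 0x202200000200)
  (Net.cons (nat_lit 4) (nat_lit 0xc0a04000c08)
  (Net.cons (nat_lit 8) (nat_lit 0xa20040004a00c2)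
  (Net.cons (nat_lit 16) (nat_lit 0x5eb200004112)
  (Net.cons (nat_lit 32) (nat_lit 0x54a4a338)
  Net.nil)))))))))))
noncomputable def m2l : List Net := [m2n0,m2n1,m2n2,m2n3,m2n4,m2n5,m2n6,m2n7]
noncomputable abbrev m2 : ℕ → Net := lk Net.nil m2l
theorem m2ok : NetsOk 63 m2 vT := netsOk_of (by decide +kernel)
theorem m2s0 : Sat io [] (finG m2ok) := fin_sat_nil _ (k := 6) (n := 8) (by decide +kernel)
noncomputable def m3n0 : Net := (Net.cons (nat_lit 4) (nat_lit 12)
  (Net.cons (nat_lit 2) (nat_lit 49)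
  (Net.cons (nat_lit 1) (nat_lit 1)
  (Net.cons (nat_lit 4) (nat_lit 10)
  Net.nil))))
noncomputable def m3n1 : Net := (Net.cons (nat_lit 4) (nat_lit 10)
  (Net.cons (nat_lit 2) (nat_lit 51)
  (Net.cons (nat_lit 1) (nat_lit 4)
  (Net.cons (nat_lit 2) (nat_lit 2)
  (Net.cons (nat_lit 4) (nat_lit 12)
  Net.nil)))))
noncomputable def m3l : List Net := [m3n0,m3n1]
noncomputable abbrev m3 : ℕ → Net := lk Net.nil m3l
theorem m3ok : NetsOk 7 m3 vT := netsOk_of (by decide +kernel)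
theorem m3s0 : Sat io [] (finG m3ok) := fin_sat_nil _ (k := 3) (n := 8) (by decide +kernel)
noncomputable def r0 : List ℕ := [0,0,0,0,0,0,0]
noncomputable def m4n0 : Net := (Net.cons (nat_lit 4) (nat_lit 12)
  (Net.cons (nat_lit 2) (nat_lit 49)
  (Net.cons (nat_lit 1) (nat_lit 1)
  (Net.cons (nat_lit 4) (nat_lit 10)
  Net.nil))))
noncomputable def m4n1 : Net := (Net.cons (nat_lit 4) (nat_lit 10)
  (Net.cons (nat_lit 2) (nat_lit 51)
  (Net.cons (nat_lit 1) (nat_lit 4)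
  (Net.cons (nat_lit 2) (nat_lit 2)
  (Net.cons (nat_lit 4) (nat_lit 12)
  Net.nil)))))
noncomputable def m4l : List Net := [m4n0,m4n1]
noncomputable abbrev m4 : ℕ → Net := lk Net.nil m4l
theorem m4ok : NetsOk 7 m4 vT := netsOk_of (by decide +kernel)
theorem m4s0 : Sat io [] (finG m4ok) := fin_sat_nil _ (k := 3) (n := 8) (by decide +kernel)
noncomputable def C5 : List (List ℕ) := [r0]
theorem cl6 : Clo.{u} io C5 [] 7 m4 1 (mkB []) := Clo.start (by decide +kernel)
theorem imp7 : Imp.{u} io C5 C1 := Imp.of_chk (pfs := []) (by decide +kernel)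
theorem ix8 : Idx.{u} io C5 [] [] 1 := (Idx.triv (Bound.nil) (by norm_num)).of_imp imp7
noncomputable def lk9 : List (List ℕ × List ℕ × Pf) := []
noncomputable def O10 : ℕ := (nat_lit 2)
noncomputable def M11 : ℕ := (nat_lit 3)
noncomputable def b12 : ℕ := (nat_lit 1)
theorem cl13 : Clo.{u} io C5 [] 7 m4 M11 (mkB [(0,b12)]) := cl6.new (k := 0) (b := 0) (q := 0) (p := 1) (r := 200) (n := 1) (O := O10) (by decide +kernel) (lks := lk9) (by decide +kernel) (gens_of_lall2 (m := []) (by decide +kernel)) ix8 (by decide +kernel)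
noncomputable def b14 : ℕ := (nat_lit 2)
theorem cl15 : Clo.{u} io C5 [] 7 m4 M11 (mkB [(0,b12),(1,b14)]) := cl13.ops (os := [Op.inv 0]) (by decide +kernel) (by decide +kernel)
theorem ix16 : Idx.{u} io C5 [] [] 1 := (Idx.triv (Bound.nil) (by norm_num)).of_imp imp7
noncomputable def lk17 : List (List ℕ × List ℕ × Pf) := []
noncomputable def O18 : ℕ := (nat_lit 8)
noncomputable def M19 : ℕ := (nat_lit 11)
noncomputable def b20 : ℕ := (nat_lit 3)
theorem cl21 : Clo.{u} io C5 [] 7 m4 M19 (mkB [(0,b20),(1,b14)]) := cl15.new (k := 0) (b := 0) (q := 1) (p := 3) (r := 200) (n := 1) (O := O18) (by decide +kernel) (lks := lk17) (by decide +kernel) (gens_of_lall2 (m := []) (by decide +kernel)) ix16 (by decide +kernel)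
noncomputable def b22 : ℕ := (nat_lit 10)
theorem cl23 : Clo.{u} io C5 [] 7 m4 M19 (mkB [(0,b20),(1,b22)]) := cl21.ops (os := [Op.inv 0]) (by decide +kernel) (by decide +kernel)
theorem ix24 : Idx.{u} io C5 [] [] 1 := (Idx.triv (Bound.nil) (by norm_num)).of_imp imp7
noncomputable def lk25 : List (List ℕ × List ℕ × Pf) := []
noncomputable def O26 : ℕ := (nat_lit 32)
noncomputable def M27 : ℕ := (nat_lit 43)
noncomputable def b28 : ℕ := (nat_lit 11)
theorem cl29 : Clo.{u} io C5 [] 7 m4 M27 (mkB [(0,b28),(1,b22)]) := cl23.new (k := 0) (b := 0) (q := 3) (p := 5) (r := 200) (n := 1) (O := O26) (by decide +kernel) (lks := lk25) (by decide +kernel) (gens_of_lall2 (m := []) (by decide +kernel)) ix24 (by decide +kernel)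
noncomputable def b30 : ℕ := (nat_lit 42)
theorem cl31 : Clo.{u} io C5 [] 7 m4 M27 (mkB [(0,b28),(1,b30)]) := cl29.ops (os := [Op.inv 0]) (by decide +kernel) (by decide +kernel)
theorem ix32 : Idx.{u} io C5 [] [] 1 := (Idx.triv (Bound.nil) (by norm_num)).of_imp imp7
noncomputable def lk33 : List (List ℕ × List ℕ × Pf) := []
noncomputable def O34 : ℕ := (nat_lit 64)
noncomputable def M35 : ℕ := (nat_lit 107)
noncomputable def b36 : ℕ := (nat_lit 43)
theorem cl37 : Clo.{u} io C5 [] 7 m4 M35 (mkB [(0,b36),(1,b30)]) := cl31.new (k := 0) (b := 0) (q := 5) (p := 6) (r := 200) (n := 1) (O := O34) (by decide +kernel) (lks := lk33) (by decide +kernel) (gens_of_lall2 (m := []) (by decide +kernel)) ix32 (by decide +kernel)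
noncomputable def b38 : ℕ := (nat_lit 106)
theorem cl39 : Clo.{u} io C5 [] 7 m4 M35 (mkB [(0,b36),(1,b38)]) := cl37.ops (os := [Op.inv 0]) (by decide +kernel) (by decide +kernel)
theorem ix40 : Idx.{u} io C5 [] [] 1 := (Idx.triv (Bound.nil) (by norm_num)).of_imp imp7
noncomputable def lk41 : List (List ℕ × List ℕ × Pf) := []
noncomputable def O42 : ℕ := (nat_lit 16)
noncomputable def M43 : ℕ := (nat_lit 123)
noncomputable def b44 : ℕ := (nat_lit 107)
theorem cl45 : Clo.{u} io C5 [] 7 m4 M43 (mkB [(0,b44),(1,b38)]) := cl39.new (k := 0) (b := 0) (q := 6) (p := 4) (r := 200) (n := 1) (O := O42) (by decide +kernel) (lks := lk41) (by decide +kernel) (gens_of_lall2 (m := []) (by decide +kernel)) ix40 (by decide +kernel)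
noncomputable def b46 : ℕ := (nat_lit 122)
theorem cl47 : Clo.{u} io C5 [] 7 m4 M43 (mkB [(0,b44),(1,b46)]) := cl45.ops (os := [Op.inv 0]) (by decide +kernel) (by decide +kernel)
theorem ix48 : Idx.{u} io C5 [] [] 1 := (Idx.triv (Bound.nil) (by norm_num)).of_imp imp7
noncomputable def lk49 : List (List ℕ × List ℕ × Pf) := []
noncomputable def O50 : ℕ := (nat_lit 4)
noncomputable def M51 : ℕ := (nat_lit 127)
noncomputable def b52 : ℕ := (nat_lit 123)
theorem cl53 : Clo.{u} io C5 [] 7 m4 M51 (mkB [(0,b52),(1,b46)]) := cl47.new (k := 0) (b := 0) (q := 4) (p := 2) (r := 200) (n := 1) (O := O50) (by decide +kernel) (lks := lk49) (by decide +kernel) (gens_of_lall2 (m := []) (by decide +kernel)) ix48 (by decide +kernel)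
noncomputable def b54 : ℕ := (nat_lit 127)
noncomputable def b55 : ℕ := (nat_lit 127)
theorem cl56 : Clo.{u} io C5 [] 7 m4 M51 (mkB [(0,b54),(1,b55)]) := cl53.ops (os := [Op.inv 0,Op.rel 0 [] 1 [1,1,1,1,1] [([],1)],Op.inv 0]) (by decide +kernel) (by decide +kernel)
theorem sat58 : Sat io C5 (finG m4ok) := m4s0.fin (k := 3) (by decide +kernel)
theorem bd57 : Bound.{u} io C5 [0,1] 7 := cl56.bound (by decide +kernel) sat58 ((Bound.nil).of_imp imp7)
noncomputable def m59n0 : Net := (Net.cons (nat_lit 4) (nat_lit 4)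
  (Net.cons (nat_lit 2) (nat_lit 49)
  (Net.cons (nat_lit 1) (nat_lit 65)
  (Net.cons (nat_lit 2) (nat_lit 34)
  Net.nil))))
noncomputable def m59n1 : Net := (Net.cons (nat_lit 2) (nat_lit 17)
  (Net.cons (nat_lit 1) (nat_lit 20)
  (Net.cons (nat_lit 2) (nat_lit 2)
  (Net.cons (nat_lit 4) (nat_lit 4)
  Net.nil))))
noncomputable def m59n2 : Net := (Net.cons (nat_lit 4) (nat_lit 4)
  (Net.cons (nat_lit 2) (nat_lit 32)
  (Net.cons (nat_lit 1) (nat_lit 68)
  (Net.cons (nat_lit 2) (nat_lit 32)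
  (Net.cons (nat_lit 4) (nat_lit 4)
  Net.nil)))))
noncomputable def m59n3 : Net := (Net.cons (nat_lit 4) (nat_lit 4)
  (Net.cons (nat_lit 2) (nat_lit 32)
  (Net.cons (nat_lit 1) (nat_lit 68)
  (Net.cons (nat_lit 2) (nat_lit 32)
  (Net.cons (nat_lit 4) (nat_lit 4)
  Net.nil)))))
noncomputable def m59l : List Net := [m59n0,m59n1,m59n2,m59n3]
noncomputable abbrev m59 : ℕ → Net := lk Net.nil m59l
theorem m59ok : NetsOk 7 m59 vT := netsOk_of (by decide +kernel)
theorem m59s0 : Sat io [] (finG m59ok) := fin_sat_nil _ (k := 3) (n := 8) (by decide +kernel)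
noncomputable def r1 : List ℕ := [2,2]
noncomputable def r2 : List ℕ := [2,0,2,0,2,0,2,0]
noncomputable def r3 : List ℕ := [2,0,0,2,0,0,2,0,0]
noncomputable def r4 : List ℕ := [3,1,1,1,3,0,3,0,2,1,2,0,0,0,2,1,1]
noncomputable def m60n0 : Net := (Net.cons (nat_lit 12) (nat_lit 2560)
  (Net.cons (nat_lit 6) (nat_lit 57388)
  (Net.cons (nat_lit 3) (nat_lit 0x1470c2)
  (Net.cons (nat_lit 1) (nat_lit 0x48000)
  (Net.cons (nat_lit 1) (nat_lit 0x90482)
  (Net.cons (nat_lit 1) (nat_lit 37384)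
  (Net.cons (nat_lit 3) (nat_lit 0x100002)
  (Net.cons (nat_lit 6) (nat_lit 32802)
  (Net.cons (nat_lit 12) (nat_lit 2176)
  Net.nil)))))))))
noncomputable def m60n1 : Net := (Net.cons (nat_lit 12) (nat_lit 2176)
  (Net.cons (nat_lit 6) (nat_lit 0x19022)
  (Net.cons (nat_lit 3) (nat_lit 0xc71c2)
  (Net.cons (nat_lit 1) (nat_lit 4160)
  (Net.cons (nat_lit 1) (nat_lit 0x402482)
  (Net.cons (nat_lit 1) (nat_lit 0x209008)
  (Net.cons (nat_lit 3) (nat_lit 8450)
  (Net.cons (nat_lit 6) (nat_lit 0x1c02c)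
  (Net.cons (nat_lit 12) (nat_lit 2560)
  Net.nil)))))))))
noncomputable def m60n2 : Net := (Net.cons (nat_lit 12) (nat_lit 1989)
  (Net.cons (nat_lit 6) (nat_lit 0x1e034)
  (Net.cons (nat_lit 3) (nat_lit 0x182080)
  (Net.cons (nat_lit 1) (nat_lit 32833)
  (Net.cons (nat_lit 1) (nat_lit 0x92092)
  (Net.cons (nat_lit 1) (nat_lit 0x41008)
  (Net.cons (nat_lit 3) (nat_lit 0x80182)
  (Net.cons (nat_lit 6) (nat_lit 0x3000e)
  (Net.cons (nat_lit 12) (nat_lit 2106)
  Net.nil)))))))))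
noncomputable def m60n3 : Net := (Net.cons (nat_lit 12) (nat_lit 1989)
  (Net.cons (nat_lit 6) (nat_lit 0x1e034)
  (Net.cons (nat_lit 3) (nat_lit 0x182080)
  (Net.cons (nat_lit 1) (nat_lit 32833)
  (Net.cons (nat_lit 1) (nat_lit 0x92092)
  (Net.cons (nat_lit 1) (nat_lit 0x41008)
  (Net.cons (nat_lit 3) (nat_lit 0x80182)
  (Net.cons (nat_lit 6) (nat_lit 0x3000e)
  (Net.cons (nat_lit 12) (nat_lit 2106)
  Net.nil)))))))))
noncomputable def m60l : List Net := [m60n0,m60n1,m60n2,m60n3]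
noncomputable abbrev m60 : ℕ → Net := lk Net.nil m60l
theorem m60ok : NetsOk 24 m60 vT := netsOk_of (by decide +kernel)
theorem m60s0 : Sat io [] (finG m60ok) := fin_sat_nil _ (k := 5) (n := 8) (by decide +kernel)
noncomputable def C61 : List (List ℕ) := [r0,r1,r2,r3,r4]
theorem cl62 : Clo.{u} io C61 [0,1] 24 m60 1 (mkB []) := Clo.start (by decide +kernel)
theorem imp63 : Imp.{u} io C61 C5 := Imp.of_chk (pfs := [[([],1)]]) (by decide +kernel)
theorem ix64 : Idx.{u} io C61 [0,1] [] 7 := (Idx.triv bd57 (by norm_num)).of_imp imp63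
noncomputable def lk65 : List (List ℕ × List ℕ × Pf) := []
noncomputable def O66 : ℕ := (nat_lit 1374)
noncomputable def M67 : ℕ := (nat_lit 1375)
noncomputable def b68 : ℕ := (nat_lit 1)
theorem cl69 : Clo.{u} io C61 [0,1] 24 m60 M67 (mkB [(2,b68)]) := cl62.new (k := 2) (b := 2) (q := 0) (p := 1) (r := 200) (n := 7) (O := O66) (by decide +kernel) (lks := lk65) (by decide +kernel) (gens_of_lall2 (m := []) (by decide +kernel)) ix64 (by decide +kernel)
noncomputable def b70 : ℕ := (nat_lit 83)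
noncomputable def b71 : ℕ := (nat_lit 83)
theorem cl72 : Clo.{u} io C61 [0,1] 24 m60 M67 (mkB [(2,b70),(3,b71)]) := cl69.ops (os := [Op.inv 2,Op.rel 2 [] 3 [] [([],3)],Op.inv 2,Op.rel 2 [0,0] 3 [1,1,3,1,1] [([3],7)],Op.inv 2,Op.rel 2 [] 3 [] [([],3)],Op.inv 2]) (by decide +kernel) (by decide +kernel)
theorem ix73 : Idx.{u} io C61 [0,1] [] 7 := (Idx.triv bd57 (by norm_num)).of_imp imp63
noncomputable def lk74 : List (List ℕ × List ℕ × Pf) := []
noncomputable def O75 : ℕ := (nat_lit 0x4aaa0)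
noncomputable def M76 : ℕ := (nat_lit 0x4afff)
noncomputable def b77 : ℕ := (nat_lit 87)
theorem cl78 : Clo.{u} io C61 [0,1] 24 m60 M76 (mkB [(2,b77),(3,b71)]) := cl72.new (k := 2) (b := 2) (q := 2) (p := 5) (r := 200) (n := 7) (O := O75) (by decide +kernel) (lks := lk74) (by decide +kernel) (gens_of_lall2 (m := []) (by decide +kernel)) ix73 (by decide +kernel)
noncomputable def b79 : ℕ := (nat_lit 2815)
noncomputable def b80 : ℕ := (nat_lit 2815)
theorem cl81 : Clo.{u} io C61 [0,1] 24 m60 M76 (mkB [(2,b79),(3,b80)]) := cl78.ops (os := [Op.inv 2,Op.rel 2 [] 3 [] [([],3)],Op.inv 2,Op.rel 2 [0] 3 [1,3,1,3,1] [([3],5)],Op.inv 2,Op.rel 2 [] 3 [] [([],3)],Op.inv 2,Op.rel 2 [0] 3 [1,3,1,3,1] [([3],5)],Op.inv 2,Op.rel 2 [] 3 [] [([],3)],Op.inv 2]) (by decide +kernel) (by decide +kernel)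
theorem der83 : Der 7 (finX 7) (cl (finG m3ok) [[1,1]]) (fun _ => Net.nil) := Der.zero (finModel m3ok).inj
noncomputable def x84 : Net := (Net.cons (nat_lit 4) (nat_lit 13)
  (Net.cons (nat_lit 2) (nat_lit 16)
  (Net.cons (nat_lit 1) (nat_lit 80)
  (Net.cons (nat_lit 4) (nat_lit 10)
  Net.nil))))
noncomputable def ns85 : ℕ → Net := upd (fun _ => Net.nil) 0 x84
theorem der86 : Der 7 (finX 7) (cl (finG m3ok) [[1,1]]) ns85 := der83.add (wp_mem_cl (w := [1,1]) (by decide)) ((finModel m3ok).toIsPre.rep_word (k := 3) (w := [1,1]) (n := x84) (by decide +kernel)) 0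
noncomputable def L87 : Lev := Lev.cons 0 7 [[0]] Lev.nil
theorem lc88 : Lev.chk 7 0 ns85 vT 100 L87 = true := by decide +kernel
theorem lb89 : 7 ≤ Nat.card (cl (finG m3ok) [[1,1]]) := le_of_eq_of_le (by decide +kernel) (der86.card_ge lc88)
theorem sat90 : Sat io C5 (finG m3ok) := m3s0.fin (k := 3) (by decide +kernel)
theorem ix82 : Idx.{u} io C61 [0,1] [[1,1]] 1 := (Idx.of bd57 sat90 (by decide +kernel) lb89 (by decide +kernel)).of_imp imp63
noncomputable def lk91 : List (List ℕ × List ℕ × Pf) := [([1,1],[1,1,1,3,0,3,1,2,1,2,0,0,0],[([3,1,1,1,3,0,3,1,2,1,2,0,0,0,2],9)])]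
noncomputable def O92 : ℕ := (nat_lit 0x800000)
noncomputable def M93 : ℕ := (nat_lit 0x84afff)
noncomputable def b94 : ℕ := (nat_lit 0x40aff)
theorem cl95 : Clo.{u} io C61 [0,1] 24 m60 M93 (mkB [(2,b79),(3,b94)]) := cl81.new (k := 2) (b := 3) (q := 18) (p := 23) (r := 200) (n := 1) (O := O92) (by decide +kernel) (lks := lk91) (by decide +kernel) (gens_of_lall2 (m := [[0]]) (by decide +kernel)) ix82 (by decide +kernel)
noncomputable def b96 : ℕ := (nat_lit 0x840aff)
noncomputable def b97 : ℕ := (nat_lit 0x840aff)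
theorem cl98 : Clo.{u} io C61 [0,1] 24 m60 M93 (mkB [(2,b96),(3,b97)]) := cl95.ops (os := [Op.inv 3,Op.rel 2 [] 3 [] [([],3)],Op.inv 2]) (by decide +kernel) (by decide +kernel)
theorem ix99 : Idx.{u} io C61 [0,1] [] 7 := (Idx.triv bd57 (by norm_num)).of_imp imp63
noncomputable def lk100 : List (List ℕ × List ℕ × Pf) := []
noncomputable def O101 : ℕ := (nat_lit 0x3b5000)
noncomputable def M102 : ℕ := (nat_lit 0xbfffff)
noncomputable def b103 : ℕ := (nat_lit 0x842aff)
theorem cl104 : Clo.{u} io C61 [0,1] 24 m60 M102 (mkB [(2,b103),(3,b97)]) := cl98.new (k := 2) (b := 2) (q := 13) (p := 19) (r := 200) (n := 7) (O := O101) (by decide +kernel) (lks := lk100) (by decide +kernel) (gens_of_lall2 (m := []) (by decide +kernel)) ix99 (by decide +kernel)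
noncomputable def b105 : ℕ := (nat_lit 0xbdffff)
noncomputable def b106 : ℕ := (nat_lit 0xbdffff)
theorem cl107 : Clo.{u} io C61 [0,1] 24 m60 M102 (mkB [(2,b105),(3,b106)]) := cl104.ops (os := [Op.inv 2,Op.rel 2 [] 3 [] [([],3)],Op.inv 2,Op.rel 2 [0] 3 [1,3,1,3,1] [([3],5)],Op.inv 2,Op.rel 2 [] 3 [] [([],3)],Op.inv 2,Op.rel 2 [0] 3 [1,3,1,3,1] [([3],5)],Op.inv 2,Op.rel 2 [] 3 [] [([],3)],Op.inv 2,Op.rel 2 [0,0] 3 [1,1,3,1,1] [([3],7)],Op.inv 2,Op.rel 2 [] 3 [] [([],3)],Op.inv 2]) (by decide +kernel) (by decide +kernel)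
theorem der109 : Der 7 (finX 7) (cl (finG m3ok) [[0]]) (fun _ => Net.nil) := Der.zero (finModel m3ok).inj
noncomputable def ns110 : ℕ → Net := upd (fun _ => Net.nil) 0 (m3 0)
theorem der111 : Der 7 (finX 7) (cl (finG m3ok) [[0]]) ns110 := der109.add (wp_mem_cl (w := [0]) (by decide)) (rep_letter (finModel m3ok) 0) 0
noncomputable def L112 : Lev := Lev.cons 0 7 [[0]] Lev.nil
theorem lc113 : Lev.chk 7 0 ns110 vT 100 L112 = true := by decide +kernel
theorem lb114 : 7 ≤ Nat.card (cl (finG m3ok) [[0]]) := le_of_eq_of_le (by decide +kernel) (der111.card_ge lc113)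
theorem ix108 : Idx.{u} io C61 [0,1] [[0]] 1 := (Idx.of bd57 sat90 (by decide +kernel) lb114 (by decide +kernel)).of_imp imp63
noncomputable def lk115 : List (List ℕ × List ℕ × Pf) := [([0],[1,2,0,0,0,2,0,0,3,1,1,1,3,0],[([2,1,2,0,0,0,2],9)])]
noncomputable def O116 : ℕ := (nat_lit 0x400000)
noncomputable def M117 : ℕ := (nat_lit 0xffffff)
noncomputable def b118 : ℕ := (nat_lit 0xbfffff)
theorem cl119 : Clo.{u} io C61 [0,1] 24 m60 M117 (mkB [(2,b118),(3,b106)]) := cl107.new (k := 2) (b := 2) (q := 17) (p := 22) (r := 200) (n := 1) (O := O116) (by decide +kernel) (lks := lk115) (by decide +kernel) (gens_of_lall2 (m := [[0]]) (by decide +kernel)) ix108 (by decide +kernel)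
noncomputable def b120 : ℕ := (nat_lit 0xffffff)
noncomputable def b121 : ℕ := (nat_lit 0xffffff)
theorem cl122 : Clo.{u} io C61 [0,1] 24 m60 M117 (mkB [(2,b120),(3,b121)]) := cl119.ops (os := [Op.inv 2,Op.rel 2 [] 3 [] [([],3)],Op.inv 2]) (by decide +kernel) (by decide +kernel)
theorem sat124 : Sat io C61 (finG m60ok) := m60s0.fin (k := 5) (by decide +kernel)
theorem bd123 : Bound.{u} io C61 [0,1,2,3] 168 := cl122.bound (by decide +kernel) sat124 (bd57.of_imp imp63)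
noncomputable def m125n0 : Net := (Net.cons (nat_lit 32) (nat_lit 0x7cd78ca1)
  (Net.cons (nat_lit 16) (nat_lit 0x522f0000f865)
  (Net.cons (nat_lit 8) (nat_lit 0x9500e2004c00e0)
  (Net.cons (nat_lit 4) (nat_lit 0x304060d070a0205)
  (Net.cons (nat_lit 2) (nat_lit 0x3022120321102210)
  (Net.cons (nat_lit 1) (nat_lit 0x1444045444145101)
  (Net.cons (nat_lit 2) (nat_lit 0x2220000022220202)
  (Net.cons (nat_lit 4) (nat_lit 0x400020600040400)
  (Net.cons (nat_lit 8) (nat_lit 0xae00380020007c)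
  (Net.cons (nat_lit 16) (nat_lit 0x39e4000055f4)
  (Net.cons (nat_lit 32) (nat_lit 0x65a2e254)
  Net.nil)))))))))))
noncomputable def m125n1 : Net := (Net.cons (nat_lit 32) (nat_lit 0x9e5d1d2a)
  (Net.cons (nat_lit 16) (nat_lit 0xae5900003b62)
  (Net.cons (nat_lit 8) (nat_lit 0x6c0026001900d0)
  (Net.cons (nat_lit 4) (nat_lit 0x50d0f0a080d0c08)
  (Net.cons (nat_lit 2) (nat_lit 0x1333320020013013)
  (Net.cons (nat_lit 1) (nat_lit 0x5114041440451444)
  (Net.cons (nat_lit 2) (nat_lit 0x222022200000222)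
  (Net.cons (nat_lit 4) (nat_lit 0xa0808040c0a0408)
  (Net.cons (nat_lit 8) (nat_lit 0xe4005c00020038)
  (Net.cons (nat_lit 16) (nat_lit 0x31000001220)
  (Net.cons (nat_lit 32) (nat_lit 0xc328335c)
  Net.nil)))))))))))
noncomputable def m125n2 : Net := (Net.cons (nat_lit 32) (nat_lit 0x20cf6a80)
  (Net.cons (nat_lit 16) (nat_lit 0x2fb200005318)
  (Net.cons (nat_lit 8) (nat_lit 0xc200ad006c009c)
  (Net.cons (nat_lit 4) (nat_lit 0x504000002000a04)
  (Net.cons (nat_lit 2) (nat_lit 0x2010020002233010)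
  (Net.cons (nat_lit 1) (nat_lit 0x401401041401140)
  (Net.cons (nat_lit 2) (nat_lit 0x2202000)
  (Net.cons (nat_lit 4) (nat_lit 0x404000000000608)
  (Net.cons (nat_lit 8) (nat_lit 0xc200a8006c0040)
  (Net.cons (nat_lit 16) (nat_lit 0x2f9000005318)
  (Net.cons (nat_lit 32) (nat_lit 0x20cf6a80)
  Net.nil)))))))))))
noncomputable def m125n3 : Net := (Net.cons (nat_lit 32) (nat_lit 0x20cf6a80)
  (Net.cons (nat_lit 16) (nat_lit 0x2fb200005318)
  (Net.cons (nat_lit 8) (nat_lit 0xc200ad006c009c)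
  (Net.cons (nat_lit 4) (nat_lit 0x504000002000a04)
  (Net.cons (nat_lit 2) (nat_lit 0x2010020002233010)
  (Net.cons (nat_lit 1) (nat_lit 0x401401041401140)
  (Net.cons (nat_lit 2) (nat_lit 0x2202000)
  (Net.cons (nat_lit 4) (nat_lit 0x404000000000608)
  (Net.cons (nat_lit 8) (nat_lit 0xc200a8006c0040)
  (Net.cons (nat_lit 16) (nat_lit 0x2f9000005318)
  (Net.cons (nat_lit 32) (nat_lit 0x20cf6a80)
  Net.nil)))))))))))
noncomputable def m125n4 : Net := (Net.cons (nat_lit 32) (nat_lit 0xd1af8900)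
  (Net.cons (nat_lit 16) (nat_lit 0xcd520000cc00)
  (Net.cons (nat_lit 8) (nat_lit 0x83004400700028)
  (Net.cons (nat_lit 4) (nat_lit 0x804020902010006)
  (Net.cons (nat_lit 2) (nat_lit 0x2010000222000302)
  (Net.cons (nat_lit 1) (nat_lit 0x4004011101001054)
  (Net.cons (nat_lit 2) (nat_lit 0x2000002002000002)
  (Net.cons (nat_lit 4) (nat_lit 0x4020202000006)
  (Net.cons (nat_lit 8) (nat_lit 0x80000000100028)
  (Net.cons (nat_lit 16) (nat_lit 0x4d520000cc00)
  (Net.cons (nat_lit 32) (nat_lit 0xd1af8900)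
  Net.nil)))))))))))
noncomputable def m125n5 : Net := (Net.cons (nat_lit 32) (nat_lit 0xd1af8900)
  (Net.cons (nat_lit 16) (nat_lit 0xcd520000cc00)
  (Net.cons (nat_lit 8) (nat_lit 0x83004400700028)
  (Net.cons (nat_lit 4) (nat_lit 0x804020902010006)
  (Net.cons (nat_lit 2) (nat_lit 0x2010000222000302)
  (Net.cons (nat_lit 1) (nat_lit 0x4004011101001054)
  (Net.cons (nat_lit 2) (nat_lit 0x2000002002000002)
  (Net.cons (nat_lit 4) (nat_lit 0x4020202000006)
  (Net.cons (nat_lit 8) (nat_lit 0x80000000100028)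
  (Net.cons (nat_lit 16) (nat_lit 0x4d520000cc00)
  (Net.cons (nat_lit 32) (nat_lit 0xd1af8900)
  Net.nil)))))))))))
noncomputable def m125l : List Net := [m125n0,m125n1,m125n2,m125n3,m125n4,m125n5]
noncomputable abbrev m125 : ℕ → Net := lk Net.nil m125l
theorem m125ok : NetsOk 63 m125 vT := netsOk_of (by decide +kernel)
theorem m125s0 : Sat io [] (finG m125ok) := fin_sat_nil _ (k := 6) (n := 8) (by decide +kernel)
noncomputable def r5 : List ℕ := [4,4]
noncomputable def r6 : List ℕ := [5,2,4,3]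
noncomputable def r7 : List ℕ := [4,0,3,0,0,0,2,0,5,1,3,1,1,1,3,1]
noncomputable def r8 : List ℕ := [5,1,3,0,3,1,2,0,4,1,1,1,3,1,3,0,0,3]
noncomputable def r9 : List ℕ := [5,1,5,0,2,4,0,4,1,3]
noncomputable def r10 : List ℕ := [5,1,5,1,4,0,4,0,4,1,3,0]
noncomputable def m126n0 : Net := (Net.cons (nat_lit 20) (nat_lit 78854)
  (Net.cons (nat_lit 10) (nat_lit 0x2cc00218)
  (Net.cons (nat_lit 5) (nat_lit 0x540905c18)
  (Net.cons (nat_lit 1) (nat_lit 0x800000420)
  (Net.cons (nat_lit 1) (nat_lit 0x5280010840)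
  (Net.cons (nat_lit 1) (nat_lit 0x290a429084)
  (Net.cons (nat_lit 1) (nat_lit 0x528425214a)
  (Net.cons (nat_lit 1) (nat_lit 0x80a528404)
  (Net.cons (nat_lit 5) (nat_lit 0x480005810)
  (Net.cons (nat_lit 10) (nat_lit 0x292000bc)
  (Net.cons (nat_lit 20) (nat_lit 72058)
  Net.nil)))))))))))
noncomputable def m126n1 : Net := (Net.cons (nat_lit 20) (nat_lit 72058)
  (Net.cons (nat_lit 10) (nat_lit 0x292000bc)
  (Net.cons (nat_lit 5) (nat_lit 0x140b02412)
  (Net.cons (nat_lit 1) (nat_lit 0x40001000)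
  (Net.cons (nat_lit 1) (nat_lit 0x5280042900)
  (Net.cons (nat_lit 1) (nat_lit 0x214a529484)
  (Net.cons (nat_lit 1) (nat_lit 0x528421084a)
  (Net.cons (nat_lit 1) (nat_lit 0x485090a4)
  (Net.cons (nat_lit 5) (nat_lit 0x80202010)
  (Net.cons (nat_lit 10) (nat_lit 0x2cc00218)
  (Net.cons (nat_lit 20) (nat_lit 78854)
  Net.nil)))))))))))
noncomputable def m126n2 : Net := (Net.cons (nat_lit 20) (nat_lit 0x83600)
  (Net.cons (nat_lit 10) (nat_lit 0x5800158)
  (Net.cons (nat_lit 5) (nat_lit 0x8100300c)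
  (Net.cons (nat_lit 1) (nat_lit 0x40000000)
  (Net.cons (nat_lit 1) (nat_lit 0x5280002800)
  (Net.cons (nat_lit 1) (nat_lit 0x214a401420)
  (Net.cons (nat_lit 1) (nat_lit 0x5284a02840)
  (Net.cons (nat_lit 1) (nat_lit 0x4a408024)
  (Net.cons (nat_lit 5) (nat_lit 0x8100100c)
  (Net.cons (nat_lit 10) (nat_lit 0x5800158)
  (Net.cons (nat_lit 20) (nat_lit 0x83600)
  Net.nil)))))))))))
noncomputable def m126n3 : Net := (Net.cons (nat_lit 20) (nat_lit 0x83600)
  (Net.cons (nat_lit 10) (nat_lit 0x5800158)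
  (Net.cons (nat_lit 5) (nat_lit 0x8100300c)
  (Net.cons (nat_lit 1) (nat_lit 0x40000000)
  (Net.cons (nat_lit 1) (nat_lit 0x5280002800)
  (Net.cons (nat_lit 1) (nat_lit 0x214a401420)
  (Net.cons (nat_lit 1) (nat_lit 0x5284a02840)
  (Net.cons (nat_lit 1) (nat_lit 0x4a408024)
  (Net.cons (nat_lit 5) (nat_lit 0x8100100c)
  (Net.cons (nat_lit 10) (nat_lit 0x5800158)
  (Net.cons (nat_lit 20) (nat_lit 0x83600)
  Net.nil)))))))))))
noncomputable def m126n4 : Net := (Net.cons (nat_lit 20) (nat_lit 43816)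
  (Net.cons (nat_lit 10) (nat_lit 0x26800210)
  (Net.cons (nat_lit 5) (nat_lit 0x480402014)
  (Net.cons (nat_lit 1) (nat_lit 64)
  (Net.cons (nat_lit 1) (nat_lit 0x4010a4)
  (Net.cons (nat_lit 1) (nat_lit 0x200242848)
  (Net.cons (nat_lit 1) (nat_lit 0x84010a5)
  (Net.cons (nat_lit 5) (nat_lit 0x400402014)
  (Net.cons (nat_lit 10) (nat_lit 0x24800210)
  (Net.cons (nat_lit 20) (nat_lit 43816)
  Net.nil))))))))))
noncomputable def m126n5 : Net := (Net.cons (nat_lit 20) (nat_lit 43816)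
  (Net.cons (nat_lit 10) (nat_lit 0x26800210)
  (Net.cons (nat_lit 5) (nat_lit 0x480402014)
  (Net.cons (nat_lit 1) (nat_lit 64)
  (Net.cons (nat_lit 1) (nat_lit 0x4010a4)
  (Net.cons (nat_lit 1) (nat_lit 0x200242848)
  (Net.cons (nat_lit 1) (nat_lit 0x84010a5)
  (Net.cons (nat_lit 5) (nat_lit 0x400402014)
  (Net.cons (nat_lit 10) (nat_lit 0x24800210)
  (Net.cons (nat_lit 20) (nat_lit 43816)
  Net.nil))))))))))
noncomputable def m126l : List Net := [m126n0,m126n1,m126n2,m126n3,m126n4,m126n5]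
noncomputable abbrev m126 : ℕ → Net := lk Net.nil m126l
theorem m126ok : NetsOk 36 m126 vT := netsOk_of (by decide +kernel)
theorem m126s0 : Sat io [] (finG m126ok) := fin_sat_nil _ (k := 6) (n := 8) (by decide +kernel)
noncomputable def C127 : List (List ℕ) := [r0,r1,r2,r3,r4,r5,r6,r7,r8,r9,r10]
theorem cl128 : Clo.{u} io C127 [0,1,2,3] 36 m126 1 (mkB []) := Clo.start (by decide +kernel)
theorem imp129 : Imp.{u} io C127 C61 := Imp.of_chk (pfs := [[([],1)],[([],3)],[([],5)],[([],7)],[([],9)]]) (by decide +kernel)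
theorem der131 : Der 7 (finX 7) (cl (finG m59ok) [[2],[1,3,1,1,1,3,1],[1,3,0,3,1,2,0]]) (fun _ => Net.nil) := Der.zero (finModel m59ok).inj
noncomputable def ns132 : ℕ → Net := upd (fun _ => Net.nil) 0 (m59 2)
theorem der133 : Der 7 (finX 7) (cl (finG m59ok) [[2],[1,3,1,1,1,3,1],[1,3,0,3,1,2,0]]) ns132 := der131.add (wp_mem_cl (w := [2]) (by decide)) (rep_letter (finModel m59ok) 2) 0
noncomputable def x134 : Net := (Net.cons (nat_lit 4) (nat_lit 6)
  (Net.cons (nat_lit 1) (nat_lit 20)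
  (Net.cons (nat_lit 2) (nat_lit 2)
  (Net.cons (nat_lit 4) (nat_lit 2)
  Net.nil))))
noncomputable def ns135 : ℕ → Net := upd ns132 1 x134
theorem der136 : Der 7 (finX 7) (cl (finG m59ok) [[2],[1,3,1,1,1,3,1],[1,3,0,3,1,2,0]]) ns135 := der133.add (wp_mem_cl (w := [1,3,1,1,1,3,1]) (by decide)) ((finModel m59ok).toIsPre.rep_word (k := 3) (w := [1,3,1,1,1,3,1]) (n := x134) (by decide +kernel)) 1
noncomputable def x137 : Net := (Net.cons (nat_lit 4) (nat_lit 2)
  (Net.cons (nat_lit 2) (nat_lit 2)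
  (Net.cons (nat_lit 1) (nat_lit 20)
  (Net.cons (nat_lit 2) (nat_lit 2)
  (Net.cons (nat_lit 4) (nat_lit 2)
  Net.nil)))))
noncomputable def ns138 : ℕ → Net := upd ns135 2 x137
theorem der139 : Der 7 (finX 7) (cl (finG m59ok) [[2],[1,3,1,1,1,3,1],[1,3,0,3,1,2,0]]) ns138 := der136.add (wp_mem_cl (w := [1,3,0,3,1,2,0]) (by decide)) ((finModel m59ok).toIsPre.rep_word (k := 3) (w := [1,3,0,3,1,2,0]) (n := x137) (by decide +kernel)) 2
noncomputable def L140 : Lev := Lev.cons 1 2 [[2]] Lev.nil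
noncomputable def L141 : Lev := Lev.cons 3 4 [[0],[1]] L140
theorem lc142 : Lev.chk 7 0 ns138 vT 100 L141 = true := by decide +kernel
theorem lb143 : 8 ≤ Nat.card (cl (finG m59ok) [[2],[1,3,1,1,1,3,1],[1,3,0,3,1,2,0]]) := le_of_eq_of_le (by decide +kernel) (der139.card_ge lc142)
theorem sat144 : Sat io C61 (finG m59ok) := m59s0.fin (k := 3) (by decide +kernel)
theorem ix130 : Idx.{u} io C127 [0,1,2,3] [[2],[1,3,1,1,1,3,1],[1,3,0,3,1,2,0]] 21 := (Idx.of bd123 sat144 (by decide +kernel) lb143 (by decide +kernel)).of_imp imp129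
noncomputable def lk145 : List (List ℕ × List ℕ × Pf) := [([2],[2],[([4],13)]),([1,3,1,1,1,3,1],[1,3,1,1,1,2,1],[([4,1,3,1,1,1,2,1,5],15)]),([1,3,0,3,1,2,0],[2,1,1,2,0,2,0,0,0],[([4],17)])]
noncomputable def O146 : ℕ := (nat_lit 0xc53366dbe)
noncomputable def M147 : ℕ := (nat_lit 0xc53366dbf)
noncomputable def b148 : ℕ := (nat_lit 1)
theorem cl149 : Clo.{u} io C127 [0,1,2,3] 36 m126 M147 (mkB [(4,b148)]) := cl128.new (k := 3) (b := 4) (q := 0) (p := 1) (r := 200) (n := 21) (O := O146) (by decide +kernel) (lks := lk145) (by decide +kernel) (gens_of_lall2 (m := [[0],[1],[2]]) (by decide +kernel)) ix130 (by decide +kernel)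
noncomputable def b150 : ℕ := (nat_lit 3)
noncomputable def b151 : ℕ := (nat_lit 3)
theorem cl152 : Clo.{u} io C127 [0,1,2,3] 36 m126 M147 (mkB [(4,b150),(5,b151)]) := cl149.ops (os := [Op.inv 4,Op.rel 4 [] 5 [] [([],11)],Op.inv 4]) (by decide +kernel) (by decide +kernel)
theorem der154 : Der 7 (finX 7) (cl (finG m59ok) [[0,2],[1,3,0,3,1,2,0,0,2,0,0,0,2,0]]) (fun _ => Net.nil) := Der.zero (finModel m59ok).inj
noncomputable def x155 : Net := (Net.cons (nat_lit 4) (nat_lit 12)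
  (Net.cons (nat_lit 2) (nat_lit 48)
  (Net.cons (nat_lit 1) (nat_lit 1)
  (Net.cons (nat_lit 4) (nat_lit 14)
  Net.nil))))
noncomputable def ns156 : ℕ → Net := upd (fun _ => Net.nil) 0 x155
theorem der157 : Der 7 (finX 7) (cl (finG m59ok) [[0,2],[1,3,0,3,1,2,0,0,2,0,0,0,2,0]]) ns156 := der154.add (wp_mem_cl (w := [0,2]) (by decide)) ((finModel m59ok).toIsPre.rep_word (k := 3) (w := [0,2]) (n := x155) (by decide +kernel)) 0
noncomputable def x158 : Net := (Net.cons (nat_lit 4) (nat_lit 12)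
  (Net.cons (nat_lit 2) (nat_lit 32)
  (Net.cons (nat_lit 4) (nat_lit 8)
  Net.nil)))
noncomputable def ns159 : ℕ → Net := upd ns156 1 x158
theorem der160 : Der 7 (finX 7) (cl (finG m59ok) [[0,2],[1,3,0,3,1,2,0,0,2,0,0,0,2,0]]) ns159 := der157.add (wp_mem_cl (w := [1,3,0,3,1,2,0,0,2,0,0,0,2,0]) (by decide)) ((finModel m59ok).toIsPre.rep_word (k := 3) (w := [1,3,0,3,1,2,0,0,2,0,0,0,2,0]) (n := x158) (by decide +kernel)) 1
noncomputable def x161 : Net := (Net.cons (nat_lit 4) (nat_lit 2)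
  (Net.cons (nat_lit 2) (nat_lit 18)
  (Net.cons (nat_lit 4) (nat_lit 4)
  Net.nil)))
noncomputable def x161s : ℕ → Net := upd ns159 2 x161
theorem der162 : Der 7 (finX 7) (cl (finG m59ok) [[0,2],[1,3,0,3,1,2,0,0,2,0,0,0,2,0]]) x161s := der160.ext (k := 3) (w := [0,0,1,0,0,0]) 2 (by decide +kernel)
noncomputable def L163 : Lev := Lev.cons 2 2 [[1]] Lev.nil
noncomputable def L164 : Lev := Lev.cons 1 3 [[2]] L163
noncomputable def L165 : Lev := Lev.cons 0 4 [[0]] L164
theorem lc166 : Lev.chk 7 0 x161s vT 100 L165 = true := by decide +kernel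
theorem lb167 : 24 ≤ Nat.card (cl (finG m59ok) [[0,2],[1,3,0,3,1,2,0,0,2,0,0,0,2,0]]) := le_of_eq_of_le (by decide +kernel) (der162.card_ge lc166)
theorem ix153 : Idx.{u} io C127 [0,1,2,3] [[0,2],[1,3,0,3,1,2,0,0,2,0,0,0,2,0]] 7 := (Idx.of bd123 sat144 (by decide +kernel) lb167 (by decide +kernel)).of_imp imp129
noncomputable def lk168 : List (List ℕ × List ℕ × Pf) := [([0,2],[0,4,2,0,5,1],[([4,0,4],19)]),([1,3,0,3,1,2,0],[2,1,1,2,0,2,0,0,0],[([4],17)]),([0,2,0,0,0,2,0],[0,3,0,0,0,2,0],[([],14)])]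
noncomputable def O169 : ℕ := (nat_lit 0x1a0098040)
noncomputable def M170 : ℕ := (nat_lit 0xdf33fedff)
noncomputable def b171 : ℕ := (nat_lit 7)
theorem cl172 : Clo.{u} io C127 [0,1,2,3] 36 m126 M170 (mkB [(4,b171),(5,b151)]) := cl152.new (k := 3) (b := 4) (q := 2) (p := 6) (r := 200) (n := 7) (O := O169) (by decide +kernel) (lks := lk168) (by decide +kernel) (gens_of_lall2 (m := [[0],[1,2]]) (by decide +kernel)) ix153 (by decide +kernel)
noncomputable def b173 : ℕ := (nat_lit 0xdd33fe4e7)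
noncomputable def b174 : ℕ := (nat_lit 0xdd33fe4e7)
theorem cl175 : Clo.{u} io C127 [0,1,2,3] 36 m126 M170 (mkB [(4,b173),(5,b174)]) := cl172.ops (os := [Op.ext 4 2 [([2],[2],[([4],13)]),([3],[3],[([4,3],12)]),([1,3,1,1,1,3,1],[1,3,1,1,1,2,1],[([4,1,3,1,1,1,2,1,5],15)]),([0,2,0,0,0,2,0],[0,3,0,0,0,2,0],[([],14)]),([1,3,0,3,1,2,0],[2,1,1,2,0,2,0,0,0],[([4],17)]),([1,3,0,2,1,2,0],[1,1,1,3,1,3,0,0,3],[([4,1,1,1,3,1,3,0,0,3],16)])],Op.inv 4,Op.rel 4 [] 5 [] [([],11)],Op.inv 4,Op.rel 5 [1,3,0] 5 [1,5,1,5,0,4,0] [([5,1,5,1,5,0,4,0,4],21)],Op.ext 5 2 [([3],[3],[([5,3,4],13)]),([2],[2],[([],12)]),([0,3,0,0,0,2,0],[0,2,0,0,0,2,0],[([5],15)]),([1,3,1,1,1,2,1],[1,3,1,1,1,3,1],[([5,1,3,1,1,1,3,1],14)]),([1,1,1,3,1,3,0,0,3],[1,3,0,2,1,2,0],[([5,1,3,0,2,1,2,0,4],17)]),([2,1,1,2,0,2,0,0,0],[1,3,0,3,1,2,0],[([],16)])],Op.inv 5,Op.rel 5 [2,0] 5 [1,5,0,2,4,0] [([],18)],Op.ext 5 2 [([3],[3],[([5,3,4],13)]),([2],[2],[([],12)]),([0,3,0,0,0,2,0],[0,2,0,0,0,2,0],[([5],15)]),([1,3,1,1,1,2,1],[1,3,1,1,1,3,1],[([5,1,3,1,1,1,3,1],14)]),([1,1,1,3,1,3,0,0,3],[1,3,0,2,1,2,0],[([5,1,3,0,2,1,2,0,4],17)]),([2,1,1,2,0,2,0,0,0],[1,3,0,3,1,2,0],[([],16)])],Op.inv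 5,Op.rel 5 [1,3] 5 [1,5,3,1,4,0] [([5,1,5,3,1,4,0,4],19)],Op.ext 5 2 [([3],[3],[([5,3,4],13)]),([2],[2],[([],12)]),([0,3,0,0,0,2,0],[0,2,0,0,0,2,0],[([5],15)]),([1,3,1,1,1,2,1],[1,3,1,1,1,3,1],[([5,1,3,1,1,1,3,1],14)]),([1,1,1,3,1,3,0,0,3],[1,3,0,2,1,2,0],[([5,1,3,0,2,1,2,0,4],17)]),([2,1,1,2,0,2,0,0,0],[1,3,0,3,1,2,0],[([],16)])],Op.inv 5,Op.rel 5 [2,0] 5 [1,5,0,2,4,0] [([],18)],Op.inv 5]) (by decide +kernel) (by decide +kernel)
theorem der177 : Der 7 (finX 7) (cl (finG m59ok) [[1,3,0,3,1,2,0],[1,2]]) (fun _ => Net.nil) := Der.zero (finModel m59ok).inj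
noncomputable def x178 : Net := (Net.cons (nat_lit 4) (nat_lit 2)
  (Net.cons (nat_lit 2) (nat_lit 2)
  (Net.cons (nat_lit 1) (nat_lit 20)
  (Net.cons (nat_lit 2) (nat_lit 2)
  (Net.cons (nat_lit 4) (nat_lit 2)
  Net.nil)))))
noncomputable def ns179 : ℕ → Net := upd (fun _ => Net.nil) 0 x178
theorem der180 : Der 7 (finX 7) (cl (finG m59ok) [[1,3,0,3,1,2,0],[1,2]]) ns179 := der177.add (wp_mem_cl (w := [1,3,0,3,1,2,0]) (by decide)) ((finModel m59ok).toIsPre.rep_word (k := 3) (w := [1,3,0,3,1,2,0]) (n := x178) (by decide +kernel)) 0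
noncomputable def x181 : Net := (Net.cons (nat_lit 2) (nat_lit 3)
  (Net.cons (nat_lit 1) (nat_lit 20)
  (Net.cons (nat_lit 2) (nat_lit 2)
  (Net.cons (nat_lit 4) (nat_lit 4)
  Net.nil))))
noncomputable def ns182 : ℕ → Net := upd ns179 1 x181
theorem der183 : Der 7 (finX 7) (cl (finG m59ok) [[1,3,0,3,1,2,0],[1,2]]) ns182 := der180.add (wp_mem_cl (w := [1,2]) (by decide)) ((finModel m59ok).toIsPre.rep_word (k := 3) (w := [1,2]) (n := x181) (by decide +kernel)) 1
noncomputable def x184 : Net := (Net.cons (nat_lit 4) (nat_lit 6)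
  (Net.cons (nat_lit 2) (nat_lit 16)
  (Net.cons (nat_lit 4) (nat_lit 4)
  Net.nil)))
noncomputable def x184s : ℕ → Net := upd ns182 2 x184
theorem der185 : Der 7 (finX 7) (cl (finG m59ok) [[1,3,0,3,1,2,0],[1,2]]) x184s := der183.ext (k := 3) (w := [1,1,0,1,1]) 2 (by decide +kernel)
noncomputable def L186 : Lev := Lev.cons 1 4 [[0],[2]] Lev.nil
noncomputable def L187 : Lev := Lev.cons 0 6 [[1]] L186
theorem lc188 : Lev.chk 7 0 x184s vT 100 L187 = true := by decide +kernel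
theorem lb189 : 24 ≤ Nat.card (cl (finG m59ok) [[1,3,0,3,1,2,0],[1,2]]) := le_of_eq_of_le (by decide +kernel) (der185.card_ge lc188)
theorem ix176 : Idx.{u} io C127 [0,1,2,3] [[1,3,0,3,1,2,0],[1,2]] 7 := (Idx.of bd123 sat144 (by decide +kernel) lb189 (by decide +kernel)).of_imp imp129
noncomputable def lk190 : List (List ℕ × List ℕ × Pf) := [([1,3,0,3,1,2,0],[2,1,1,2,0,2,0,0,0],[([4],17)]),([1],[0,4,1,2,0,5,1,5,1],[([4,0,4],21)]),([2],[2],[([4],13)])]
noncomputable def O191 : ℕ := (nat_lit 0x20cc01200)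
noncomputable def M192 : ℕ := (nat_lit 0xfffffffff)
noncomputable def b193 : ℕ := (nat_lit 0xdd33fe4ef)
theorem cl194 : Clo.{u} io C127 [0,1,2,3] 36 m126 M192 (mkB [(4,b193),(5,b174)]) := cl175.new (k := 3) (b := 4) (q := 3) (p := 9) (r := 200) (n := 7) (O := O191) (by decide +kernel) (lks := lk190) (by decide +kernel) (gens_of_lall2 (m := [[0],[1,2]]) (by decide +kernel)) ix176 (by decide +kernel)
noncomputable def b195 : ℕ := (nat_lit 0xfffffffff)
noncomputable def b196 : ℕ := (nat_lit 0xfffffffff)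
theorem cl197 : Clo.{u} io C127 [0,1,2,3] 36 m126 M192 (mkB [(4,b195),(5,b196)]) := cl194.ops (os := [Op.ext 4 2 [([2],[2],[([4],13)]),([3],[3],[([4,3],12)]),([1,3,1,1,1,3,1],[1,3,1,1,1,2,1],[([4,1,3,1,1,1,2,1,5],15)]),([0,2,0,0,0,2,0],[0,3,0,0,0,2,0],[([],14)]),([1,3,0,3,1,2,0],[2,1,1,2,0,2,0,0,0],[([4],17)]),([1,3,0,2,1,2,0],[1,1,1,3,1,3,0,0,3],[([4,1,1,1,3,1,3,0,0,3],16)])],Op.inv 4,Op.rel 4 [] 5 [] [([],11)],Op.inv 4,Op.rel 5 [1,3] 5 [1,5,3,1,4,0] [([5,1,5,3,1,4,0,4],19)],Op.ext 5 2 [([3],[3],[([5,3,4],13)]),([2],[2],[([],12)]),([0,3,0,0,0,2,0],[0,2,0,0,0,2,0],[([5],15)]),([1,3,1,1,1,2,1],[1,3,1,1,1,3,1],[([5,1,3,1,1,1,3,1],14)]),([1,1,1,3,1,3,0,0,3],[1,3,0,2,1,2,0],[([5,1,3,0,2,1,2,0,4],17)]),([2,1,1,2,0,2,0,0,0],[1,3,0,3,1,2,0],[([],16)])],Op.inv 5,Op.rel 4 [] 5 [] [([],11)],Op.inv 4]) (by decide +kernel) (by decide +kernel)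
theorem sat199 : Sat io C127 (finG m126ok) := m126s0.fin (k := 6) (by decide +kernel)
theorem bd198 : Bound.{u} io C127 [0,1,2,3,4,5] 6048 := cl197.bound (by decide +kernel) sat199 (bd123.of_imp imp129)
noncomputable def r11 : List ℕ := [6,6]
noncomputable def r12 : List ℕ := [7,2,6,3]
noncomputable def r13 : List ℕ := [7,4,6,3,5]
noncomputable def r14 : List ℕ := [7,1,3,0,6,0,0,3,0,3,1]
noncomputable def r15 : List ℕ := [6,0,0,2,1,1,7,1,1,3,0,0,0,3]
noncomputable def r16 : List ℕ := [7,0,0,7,0,6,1,3,1,3,0]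
noncomputable def m200n0 : Net := (Net.cons (nat_lit 128) (nat_lit 0xffa6ed757bb6fbc49d3aff6e1c04ea00)
  (Net.cons (nat_lit 64) (nat_lit 0xe461fffd02c9ec0500000000000000009dc014208a0ddb44)
  (Net.cons (nat_lit 32) (nat_lit 0x376c9dec0000000029c907c7000000007872ead3000000002bafa43c)
  (Net.cons (nat_lit 16) (nat_lit 0x8c57000063d300002efa0000f1f0000075c60000b3a10000a7d60000e65a)
  (Net.cons (nat_lit 8) (nat_lit 0x27002500ac00f0003b0096009e00f600d000fb00590081006d00e400be0090)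
  (Net.cons (nat_lit 4) (nat_lit 0xa03080406080f040f020b060006030200090108090c01090c040c0b000e0e08)
  (Net.cons (nat_lit 2) (nat_lit 0x3320200231211202320132210230201122111012013022332133011002031130)
  (Net.cons (nat_lit 1) (nat_lit 0x4555050141154404515104014154041451114151104014154415145100014154)
  (Net.cons (nat_lit 2) (nat_lit 0x200002000020202002200022002020200200020202220220000020200)
  (Net.cons (nat_lit 4) (nat_lit 0x40c0806080a040004020a08000000040002000e040408020c0a08000c0c06)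
  (Net.cons (nat_lit 8) (nat_lit 0xae000a00dc00f40024002c00b200d800f00028004c0048008200a600880040)
  (Net.cons (nat_lit 16) (nat_lit 0xf7fc0000d11600003b50000024660000c8ae0000a17c0000cea40000040a)
  (Net.cons (nat_lit 32) (nat_lit 0x47283166000000009dfd081e000000006c729e88000000000b9b3564)
  (Net.cons (nat_lit 64) (nat_lit 0x5c673a5e6e3f91a600000000000000009dd0104482952582)
  (Net.cons (nat_lit 128) (nat_lit 0xffa6affe97c76eba538998666d366530)
  Net.nil)))))))))))))))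
noncomputable def m200n1 : Net := (Net.cons (nat_lit 128) (nat_lit 0xffa6affe97c76eba538998666d366530)
  (Net.cons (nat_lit 64) (nat_lit 0x819d7cac475a6e4e00000000000000009dd0104482952582)
  (Net.cons (nat_lit 32) (nat_lit 0xb11e6e610000000050f4211c00000000ce3d5313000000000b9b3564)
  (Net.cons (nat_lit 16) (nat_lit 0x74b7000042aa0000809000003fdd00004c230000d8b20000cfa400003ab6)
  (Net.cons (nat_lit 8) (nat_lit 0xd400f7002000660060000c009d00c60096005500e000b2006900a6009c00f6)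
  (Net.cons (nat_lit 4) (nat_lit 0xb080d00060407000d000f040d080c0e06090604050e000a0c0e0a07000e0400)
  (Net.cons (nat_lit 2) (nat_lit 0x2230230223200331032211021112220231121233022320120331210220310302)
  (Net.cons (nat_lit 1) (nat_lit 0x440114514014414405455451511414154510411411411414541111514140440)
  (Net.cons (nat_lit 2) (nat_lit 0x200002020002220000200202022000000000002220220220000020022200200)
  (Net.cons (nat_lit 4) (nat_lit 0x80002000a0804040200020c0a0804060604080804080c04060c040a0c0600)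
  (Net.cons (nat_lit 8) (nat_lit 0xd80018002c00b00012001e00e2000800c6002400e000aa000200e400ac00c0)
  (Net.cons (nat_lit 16) (nat_lit 0xe2a00000f136000067a400000414000044c6000045720000a7960000f8e4)
  (Net.cons (nat_lit 32) (nat_lit 0xbe0f6a6200000000fbd4864400000000df7d2f84000000002bafa43c)
  (Net.cons (nat_lit 64) (nat_lit 0xa3b9d48bd557111200000000000000009dc014208a0ddb44)
  (Net.cons (nat_lit 128) (nat_lit 0xffa6ed757bb6fbc49d3aff6e1c04ea00)
  Net.nil)))))))))))))))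
noncomputable def m200n2 : Net := (Net.cons (nat_lit 128) (nat_lit 0x848004068000c200410000c000000040)
  (Net.cons (nat_lit 64) (nat_lit 0xc0aa66dd8c1d00020000000000000000220106aee0000000)
  (Net.cons (nat_lit 32) (nat_lit 0x40bb9c500000000000782904000000002318ff6000000000b4454140)
  (Net.cons (nat_lit 16) (nat_lit 0x84830000b4dc0000bedc0000c20c000000010000462e0000c3310000cd00)
  (Net.cons (nat_lit 8) (nat_lit 0xa00060000400b6000000b4008c00a8005a009600d800c000800024000e0002)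
  (Net.cons (nat_lit 4) (nat_lit 0x4080004020a0e04080609000e0a060e080800080d0f0807060c0000060a010a)
  (Net.cons (nat_lit 2) (nat_lit 0x2020333023020003212020033001102220202220022100330130000222200000)
  (Net.cons (nat_lit 1) (nat_lit 0x4011555540144155001511105450004110104114405541144004400441040010)
  (Net.cons (nat_lit 2) (nat_lit 0x2020000020022000002002000000000220200222000000000000000202020000)
  (Net.cons (nat_lit 4) (nat_lit 0x408000402020e04080602000e0a040e0808060e0c000808040c000006000002)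
  (Net.cons (nat_lit 8) (nat_lit 0x200060004400f6000000b4008c00a80000007000d800c00080000400880002)
  (Net.cons (nat_lit 16) (nat_lit 0x84800000f69c00003ed80000c20c000000000000462e0000c33000008d00)
  (Net.cons (nat_lit 32) (nat_lit 0x409b98500000000000782904000000000318ff6000000000a4454100)
  (Net.cons (nat_lit 64) (nat_lit 0xc0aa6edd8c1900000000000000000000220106aee0000000)
  (Net.cons (nat_lit 128) (nat_lit 0x848004068000c200410000c000000040)
  Net.nil)))))))))))))))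
noncomputable def m200n3 : Net := (Net.cons (nat_lit 128) (nat_lit 0x848004068000c200410000c000000040)
  (Net.cons (nat_lit 64) (nat_lit 0xc0aa66dd8c1d00020000000000000000220106aee0000000)
  (Net.cons (nat_lit 32) (nat_lit 0x40bb9c500000000000782904000000002318ff6000000000b4454140)
  (Net.cons (nat_lit 16) (nat_lit 0x84830000b4dc0000bedc0000c20c000000010000462e0000c3310000cd00)
  (Net.cons (nat_lit 8) (nat_lit 0xa00060000400b6000000b4008c00a8005a009600d800c000800024000e0002)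
  (Net.cons (nat_lit 4) (nat_lit 0x4080004020a0e04080609000e0a060e080800080d0f0807060c0000060a010a)
  (Net.cons (nat_lit 2) (nat_lit 0x2020333023020003212020033001102220202220022100330130000222200000)
  (Net.cons (nat_lit 1) (nat_lit 0x4011555540144155001511105450004110104114405541144004400441040010)
  (Net.cons (nat_lit 2) (nat_lit 0x2020000020022000002002000000000220200222000000000000000202020000)
  (Net.cons (nat_lit 4) (nat_lit 0x408000402020e04080602000e0a040e0808060e0c000808040c000006000002)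
  (Net.cons (nat_lit 8) (nat_lit 0x200060004400f6000000b4008c00a80000007000d800c00080000400880002)
  (Net.cons (nat_lit 16) (nat_lit 0x84800000f69c00003ed80000c20c000000000000462e0000c33000008d00)
  (Net.cons (nat_lit 32) (nat_lit 0x409b98500000000000782904000000000318ff6000000000a4454100)
  (Net.cons (nat_lit 64) (nat_lit 0xc0aa6edd8c1900000000000000000000220106aee0000000)
  (Net.cons (nat_lit 128) (nat_lit 0x848004068000c200410000c000000040)
  Net.nil)))))))))))))))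
noncomputable def m200n4 : Net := (Net.cons (nat_lit 128) (nat_lit 0xabd5005c191cc2244042241b00010000)
  (Net.cons (nat_lit 64) (nat_lit 0x89d65401ab785208000000000000000052629cb780500004)
  (Net.cons (nat_lit 32) (nat_lit 0xf2d01d200000000059a10d5000000000ff2ded58000000001405051a)
  (Net.cons (nat_lit 16) (nat_lit 0x1c180000ab60000089620000ed380000fb66000086340000b0610000900a)
  (Net.cons (nat_lit 8) (nat_lit 0x20008000ca0044005000300040005600d4003300800068008000580000004a)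
  (Net.cons (nat_lit 4) (nat_lit 0x60a0806040a000e080c030c0c080e040e070802000c080c080e04000e08000c)
  (Net.cons (nat_lit 2) (nat_lit 0x2130021002200001300000200311031301111113101000223022121002203230)
  (Net.cons (nat_lit 1) (nat_lit 0x4001410100051100011104001500100540414114001451145400010051115144)
  (Net.cons (nat_lit 2) (nat_lit 0x2000020000000000000000000000000000222022000000220000020002200220)
  (Net.cons (nat_lit 4) (nat_lit 0x60a0806000a0004080000080c000e040c080208000c080c080004000e08000c)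
  (Net.cons (nat_lit 8) (nat_lit 0x20008000c00040005000300040005600d400cc008000680080005800000048)
  (Net.cons (nat_lit 16) (nat_lit 0xc180000abe0000009620000e5980000fb66000082340000b0600000900a)
  (Net.cons (nat_lit 32) (nat_lit 0x72d01d200000000059a10d5000000000af2ded58000000001405051a)
  (Net.cons (nat_lit 64) (nat_lit 0x89565401ab785280000000000000000052629ca780500020)
  (Net.cons (nat_lit 128) (nat_lit 0xabd5005c191cc2244042241b00010000)
  Net.nil)))))))))))))))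
noncomputable def m200n5 : Net := (Net.cons (nat_lit 128) (nat_lit 0xabd5005c191cc2244042241b00010000)
  (Net.cons (nat_lit 64) (nat_lit 0x89d65401ab785208000000000000000052629cb780500004)
  (Net.cons (nat_lit 32) (nat_lit 0xf2d01d200000000059a10d5000000000ff2ded58000000001405051a)
  (Net.cons (nat_lit 16) (nat_lit 0x1c180000ab60000089620000ed380000fb66000086340000b0610000900a)
  (Net.cons (nat_lit 8) (nat_lit 0x20008000ca0044005000300040005600d4003300800068008000580000004a)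
  (Net.cons (nat_lit 4) (nat_lit 0x60a0806040a000e080c030c0c080e040e070802000c080c080e04000e08000c)
  (Net.cons (nat_lit 2) (nat_lit 0x2130021002200001300000200311031301111113101000223022121002203230)
  (Net.cons (nat_lit 1) (nat_lit 0x4001410100051100011104001500100540414114001451145400010051115144)
  (Net.cons (nat_lit 2) (nat_lit 0x2000020000000000000000000000000000222022000000220000020002200220)
  (Net.cons (nat_lit 4) (nat_lit 0x60a0806000a0004080000080c000e040c080208000c080c080004000e08000c)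
  (Net.cons (nat_lit 8) (nat_lit 0x20008000c00040005000300040005600d400cc008000680080005800000048)
  (Net.cons (nat_lit 16) (nat_lit 0xc180000abe0000009620000e5980000fb66000082340000b0600000900a)
  (Net.cons (nat_lit 32) (nat_lit 0x72d01d200000000059a10d5000000000af2ded58000000001405051a)
  (Net.cons (nat_lit 64) (nat_lit 0x89565401ab785280000000000000000052629ca780500020)
  (Net.cons (nat_lit 128) (nat_lit 0xabd5005c191cc2244042241b00010000)
  Net.nil)))))))))))))))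
noncomputable def m200n6 : Net := (Net.cons (nat_lit 128) (nat_lit 0xc2400019184002102002020080081000)
  (Net.cons (nat_lit 64) (nat_lit 0xa6be48098037280000000000000000000711277344402820)
  (Net.cons (nat_lit 32) (nat_lit 0xf47be0580000000084402e80000000000b68eb6800000000bf59a080)
  (Net.cons (nat_lit 16) (nat_lit 0xa1020000e9aa000005440000be8000004d86000022c20000774c0000a488)
  (Net.cons (nat_lit 8) (nat_lit 0x8c008000b00004000800b20028001400d300a0001200c000f0000000940030)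
  (Net.cons (nat_lit 4) (nat_lit 0x9040006020b070c000e040a000808010804040a040e0f060a0a0409000c0c)
  (Net.cons (nat_lit 2) (nat_lit 0x302003230200012100032202300012031331223312232310123022300222100)
  (Net.cons (nat_lit 1) (nat_lit 0x5500005051440455050401050554001015540010500101144000444004040011)
  (Net.cons (nat_lit 2) (nat_lit 0x20000000002000000002020020020000202200000202000020000)
  (Net.cons (nat_lit 4) (nat_lit 0x80000060c08080c000e040a0000080c0804040a000e000400040408000c00)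
  (Net.cons (nat_lit 8) (nat_lit 0x8c008000b00004000800b20028001400d40080001200c000e0000000940030)
  (Net.cons (nat_lit 16) (nat_lit 0xa1020000a1aa000005440000be8000004d86000002c20000774c0000a488)
  (Net.cons (nat_lit 32) (nat_lit 0xf47be0580000000084402e80000000000b68eb6800000000a759a080)
  (Net.cons (nat_lit 64) (nat_lit 0xa6be48098037280000000000000000000711277344402820)
  (Net.cons (nat_lit 128) (nat_lit 0xc2400019184002102002020080081000)
  Net.nil)))))))))))))))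
noncomputable def m200n7 : Net := (Net.cons (nat_lit 128) (nat_lit 0xc2400019184002102002020080081000)
  (Net.cons (nat_lit 64) (nat_lit 0xa6be48098037280000000000000000000711277344402820)
  (Net.cons (nat_lit 32) (nat_lit 0xf47be0580000000084402e80000000000b68eb6800000000bf59a080)
  (Net.cons (nat_lit 16) (nat_lit 0xa1020000e9aa000005440000be8000004d86000022c20000774c0000a488)
  (Net.cons (nat_lit 8) (nat_lit 0x8c008000b00004000800b20028001400d300a0001200c000f0000000940030)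
  (Net.cons (nat_lit 4) (nat_lit 0x9040006020b070c000e040a000808010804040a040e0f060a0a0409000c0c)
  (Net.cons (nat_lit 2) (nat_lit 0x302003230200012100032202300012031331223312232310123022300222100)
  (Net.cons (nat_lit 1) (nat_lit 0x5500005051440455050401050554001015540010500101144000444004040011)
  (Net.cons (nat_lit 2) (nat_lit 0x20000000002000000002020020020000202200000202000020000)
  (Net.cons (nat_lit 4) (nat_lit 0x80000060c08080c000e040a0000080c0804040a000e000400040408000c00)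
  (Net.cons (nat_lit 8) (nat_lit 0x8c008000b00004000800b20028001400d40080001200c000e0000000940030)
  (Net.cons (nat_lit 16) (nat_lit 0xa1020000a1aa000005440000be8000004d86000002c20000774c0000a488)
  (Net.cons (nat_lit 32) (nat_lit 0xf47be0580000000084402e80000000000b68eb6800000000a759a080)
  (Net.cons (nat_lit 64) (nat_lit 0xa6be48098037280000000000000000000711277344402820)
  (Net.cons (nat_lit 128) (nat_lit 0xc2400019184002102002020080081000)
  Net.nil)))))))))))))))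
noncomputable def m200l : List Net := [m200n0,m200n1,m200n2,m200n3,m200n4,m200n5,m200n6,m200n7]
noncomputable abbrev m200 : ℕ → Net := lk Net.nil m200l
theorem m200ok : NetsOk 240 m200 vT := netsOk_of (by decide +kernel)
theorem m200s0 : Sat io [] (finG m200ok) := fin_sat_nil _ (k := 8) (n := 8) (by decide +kernel)
noncomputable def C201 : List (List ℕ) := [r0,r1,r2,r3,r4,r5,r6,r7,r8,r9,r10,r11,r12,r13,r14,r15,r16]
theorem cl202 : Clo.{u} io C201 [0,1,2,3,4,5] 240 m200 1 (mkB []) := Clo.start (by decide +kernel)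
theorem imp203 : Imp.{u} io C201 C127 := Imp.of_chk (pfs := [[([],1)],[([],3)],[([],5)],[([],7)],[([],9)],[([],11)],[([],13)],[([],15)],[([],17)],[([],19)],[([],21)]]) (by decide +kernel)
theorem der205 : Der 63 (finX 63) (cl (finG m125ok) [[2],[4],[1,3,0],[1,1,3,0,0,0,3]]) (fun _ => Net.nil) := Der.zero (finModel m125ok).inj
noncomputable def ns206 : ℕ → Net := upd (fun _ => Net.nil) 0 (m125 2)
theorem der207 : Der 63 (finX 63) (cl (finG m125ok) [[2],[4],[1,3,0],[1,1,3,0,0,0,3]]) ns206 := der205.add (wp_mem_cl (w := [2]) (by decide)) (rep_letter (finModel m125ok) 2) 0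
noncomputable def ns208 : ℕ → Net := upd ns206 1 (m125 4)
theorem der209 : Der 63 (finX 63) (cl (finG m125ok) [[2],[4],[1,3,0],[1,1,3,0,0,0,3]]) ns208 := der207.add (wp_mem_cl (w := [4]) (by decide)) (rep_letter (finModel m125ok) 4) 1
noncomputable def x210 : Net := (Net.cons (nat_lit 32) (nat_lit 0x64279720)
  (Net.cons (nat_lit 16) (nat_lit 0x7c840000c400)
  (Net.cons (nat_lit 8) (nat_lit 0x60006100680070)
  (Net.cons (nat_lit 4) (nat_lit 0xc000e03020c0300)
  (Net.cons (nat_lit 2) (nat_lit 0x2220203100000032)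
  (Net.cons (nat_lit 1) (nat_lit 0x404414105100050)
  (Net.cons (nat_lit 2) (nat_lit 0x200202000000000)
  (Net.cons (nat_lit 4) (nat_lit 0xc00060402000000)
  (Net.cons (nat_lit 8) (nat_lit 0x6000c000e80070)
  (Net.cons (nat_lit 16) (nat_lit 0x6c840000c400)
  (Net.cons (nat_lit 32) (nat_lit 0x6ca41720)
  Net.nil)))))))))))
noncomputable def ns211 : ℕ → Net := upd ns208 2 x210
theorem der212 : Der 63 (finX 63) (cl (finG m125ok) [[2],[4],[1,3,0],[1,1,3,0,0,0,3]]) ns211 := der209.add (wp_mem_cl (w := [1,3,0]) (by decide)) ((finModel m125ok).toIsPre.rep_word (k := 6) (w := [1,3,0]) (n := x210) (by decide +kernel)) 2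
noncomputable def x213 : Net := (Net.cons (nat_lit 32) (nat_lit 0x8d1c0400)
  (Net.cons (nat_lit 16) (nat_lit 0xa6a000008290)
  (Net.cons (nat_lit 8) (nat_lit 0xc0002000000000)
  (Net.cons (nat_lit 4) (nat_lit 0x805060003000806)
  (Net.cons (nat_lit 2) (nat_lit 0x13300211133222)
  (Net.cons (nat_lit 1) (nat_lit 0x514044441005444)
  (Net.cons (nat_lit 2) (nat_lit 0x2000222000222)
  (Net.cons (nat_lit 4) (nat_lit 0x80206000c000800)
  (Net.cons (nat_lit 8) (nat_lit 0xc0000000000000)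
  (Net.cons (nat_lit 16) (nat_lit 0xa6a000008210)
  (Net.cons (nat_lit 32) (nat_lit 0x8d1c0400)
  Net.nil)))))))))))
noncomputable def ns214 : ℕ → Net := upd ns211 3 x213
theorem der215 : Der 63 (finX 63) (cl (finG m125ok) [[2],[4],[1,3,0],[1,1,3,0,0,0,3]]) ns214 := der212.add (wp_mem_cl (w := [1,1,3,0,0,0,3]) (by decide)) ((finModel m125ok).toIsPre.rep_word (k := 6) (w := [1,1,3,0,0,0,3]) (n := x213) (by decide +kernel)) 3
noncomputable def L216 : Lev := Lev.cons 2 4 [[0],[1]] Lev.nil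
noncomputable def L217 : Lev := Lev.cons 59 24 [[2],[3]] L216
theorem lc218 : Lev.chk 63 3 ns214 vT 100 L217 = true := by decide +kernel
theorem lb219 : 96 ≤ Nat.card (cl (finG m125ok) [[2],[4],[1,3,0],[1,1,3,0,0,0,3]]) := le_of_eq_of_le (by decide +kernel) (der215.card_ge lc218)
theorem sat220 : Sat io C127 (finG m125ok) := m125s0.fin (k := 6) (by decide +kernel)
theorem ix204 : Idx.{u} io C201 [0,1,2,3,4,5] [[2],[4],[1,3,0],[1,1,3,0,0,0,3]] 63 := (Idx.of bd198 sat220 (by decide +kernel) lb219 (by decide +kernel)).of_imp imp203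
noncomputable def lk221 : List (List ℕ × List ℕ × Pf) := [([2],[2],[([6],25)]),([4],[4,2],[([6],27)]),([1,3,0],[0,2,1,2,1,1],[([6],29)]),([1,1,3,0,0,0,3],[0,0,3,1,1],[([6,0,0,3,1,1,7],31)])]
noncomputable def O222 : ℕ := (nat_lit 0x2100404150adb6f46d7bffbffffe)
noncomputable def M223 : ℕ := (nat_lit 0x2100404150adb6f46d7bffbfffff)
noncomputable def b224 : ℕ := (nat_lit 1)
theorem cl225 : Clo.{u} io C201 [0,1,2,3,4,5] 240 m200 M223 (mkB [(6,b224)]) := cl202.new (k := 5) (b := 6) (q := 0) (p := 1) (r := 200) (n := 63) (O := O222) (by decide +kernel) (lks := lk221) (by decide +kernel) (gens_of_lall2 (m := [[0],[1],[2],[3]]) (by decide +kernel)) ix204 (by decide +kernel)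
noncomputable def b226 : ℕ := (nat_lit 0x200040400000904040001302f7ff)
noncomputable def b227 : ℕ := (nat_lit 0x200040400000904040001302f7ff)
theorem cl228 : Clo.{u} io C201 [0,1,2,3,4,5] 240 m200 M223 (mkB [(6,b226),(7,b227)]) := cl225.ops (os := [Op.inv 6,Op.rel 6 [] 7 [] [([],23)],Op.inv 6,Op.rel 7 [1,3,1,3,0] 7 [1,6,1,1] [([7,1,6,1,1,6],33)],Op.ext 7 3 [([3],[3],[([7,3,6],25)]),([2],[2],[([],24)]),([3,5],[5],[([7,5,6],27)]),([4,2],[4],[([],26)]),([0,0,3,0,3,1],[1,2,0],[([7,1,2,0,6],29)]),([0,2,1,2,1,1],[1,3,0],[([],28)]),([0,0,2,1,1],[2,1,1,1,2,0,0],[([7],31)]),([0,0,3,1,1],[1,1,3,0,0,0,3],[([7,1,1,3,0,0,0,3],30)])],Op.inv 7]) (by decide +kernel) (by decide +kernel)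
theorem der230 : Der 63 (finX 63) (cl (finG m125ok) [[2],[1,1,3,0,0,0,3],[1,2,0,0,3,1,1,3,0],[5,1,2,0,4]]) (fun _ => Net.nil) := Der.zero (finModel m125ok).inj
noncomputable def ns231 : ℕ → Net := upd (fun _ => Net.nil) 0 (m125 2)
theorem der232 : Der 63 (finX 63) (cl (finG m125ok) [[2],[1,1,3,0,0,0,3],[1,2,0,0,3,1,1,3,0],[5,1,2,0,4]]) ns231 := der230.add (wp_mem_cl (w := [2]) (by decide)) (rep_letter (finModel m125ok) 2) 0
noncomputable def x233 : Net := (Net.cons (nat_lit 32) (nat_lit 0x8d1c0400)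
  (Net.cons (nat_lit 16) (nat_lit 0xa6a000008290)
  (Net.cons (nat_lit 8) (nat_lit 0xc0002000000000)
  (Net.cons (nat_lit 4) (nat_lit 0x805060003000806)
  (Net.cons (nat_lit 2) (nat_lit 0x13300211133222)
  (Net.cons (nat_lit 1) (nat_lit 0x514044441005444)
  (Net.cons (nat_lit 2) (nat_lit 0x2000222000222)
  (Net.cons (nat_lit 4) (nat_lit 0x80206000c000800)
  (Net.cons (nat_lit 8) (nat_lit 0xc0000000000000)
  (Net.cons (nat_lit 16) (nat_lit 0xa6a000008210)
  (Net.cons (nat_lit 32) (nat_lit 0x8d1c0400)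
  Net.nil)))))))))))
noncomputable def ns234 : ℕ → Net := upd ns231 1 x233
theorem der235 : Der 63 (finX 63) (cl (finG m125ok) [[2],[1,1,3,0,0,0,3],[1,2,0,0,3,1,1,3,0],[5,1,2,0,4]]) ns234 := der232.add (wp_mem_cl (w := [1,1,3,0,0,0,3]) (by decide)) ((finModel m125ok).toIsPre.rep_word (k := 6) (w := [1,1,3,0,0,0,3]) (n := x233) (by decide +kernel)) 1
noncomputable def x236 : Net := (Net.cons (nat_lit 32) (nat_lit 0x541f5810)
  (Net.cons (nat_lit 16) (nat_lit 0x10f800000a70)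
  (Net.cons (nat_lit 8) (nat_lit 0x2400d800260069)
  (Net.cons (nat_lit 4) (nat_lit 0x2020602020208)
  (Net.cons (nat_lit 2) (nat_lit 0x120030102322000)
  (Net.cons (nat_lit 1) (nat_lit 0x1044451004511010)
  (Net.cons (nat_lit 2) (nat_lit 0x2000002022000)
  (Net.cons (nat_lit 4) (nat_lit 0xc020604040000)
  (Net.cons (nat_lit 8) (nat_lit 0x2400d800400028)
  (Net.cons (nat_lit 16) (nat_lit 0x10e800000a70)
  (Net.cons (nat_lit 32) (nat_lit 0x541f5010)
  Net.nil)))))))))))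
noncomputable def ns237 : ℕ → Net := upd ns234 2 x236
theorem der238 : Der 63 (finX 63) (cl (finG m125ok) [[2],[1,1,3,0,0,0,3],[1,2,0,0,3,1,1,3,0],[5,1,2,0,4]]) ns237 := der235.add (wp_mem_cl (w := [1,2,0,0,3,1,1,3,0]) (by decide)) ((finModel m125ok).toIsPre.rep_word (k := 6) (w := [1,2,0,0,3,1,1,3,0]) (n := x236) (by decide +kernel)) 2
noncomputable def x239 : Net := (Net.cons (nat_lit 32) (nat_lit 0xe9c55100)
  (Net.cons (nat_lit 16) (nat_lit 0x77dd00004d28)
  (Net.cons (nat_lit 8) (nat_lit 0x51000b00980076)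
  (Net.cons (nat_lit 4) (nat_lit 0xe010d0602060706)
  (Net.cons (nat_lit 2) (nat_lit 0x22020032003010)
  (Net.cons (nat_lit 1) (nat_lit 0x1000441001014110)
  (Net.cons (nat_lit 2) (nat_lit 0x20002002000)
  (Net.cons (nat_lit 4) (nat_lit 0x2000c0202020406)
  (Net.cons (nat_lit 8) (nat_lit 0x50000a00980020)
  (Net.cons (nat_lit 16) (nat_lit 0x44cc00004528)
  (Net.cons (nat_lit 32) (nat_lit 0xe9815100)
  Net.nil)))))))))))
noncomputable def ns240 : ℕ → Net := upd ns237 3 x239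
theorem der241 : Der 63 (finX 63) (cl (finG m125ok) [[2],[1,1,3,0,0,0,3],[1,2,0,0,3,1,1,3,0],[5,1,2,0,4]]) ns240 := der238.add (wp_mem_cl (w := [5,1,2,0,4]) (by decide)) ((finModel m125ok).toIsPre.rep_word (k := 6) (w := [5,1,2,0,4]) (n := x239) (by decide +kernel)) 3
noncomputable def x242 : Net := (Net.cons (nat_lit 32) (nat_lit 0xd50af410)
  (Net.cons (nat_lit 16) (nat_lit 0xf2d000006b00)
  (Net.cons (nat_lit 8) (nat_lit 0xb400a600660008)
  (Net.cons (nat_lit 4) (nat_lit 0x80c0f0800020e)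
  (Net.cons (nat_lit 2) (nat_lit 0x2003320202101020)
  (Net.cons (nat_lit 1) (nat_lit 0x500044444050110)
  (Net.cons (nat_lit 2) (nat_lit 0x22002000020)
  (Net.cons (nat_lit 4) (nat_lit 0x80c0008000208)
  (Net.cons (nat_lit 8) (nat_lit 0xa400a600460008)
  (Net.cons (nat_lit 16) (nat_lit 0xf2d000006b00)
  (Net.cons (nat_lit 32) (nat_lit 0xd50af410)
  Net.nil)))))))))))
noncomputable def x242s : ℕ → Net := upd ns240 4 x242
theorem der243 : Der 63 (finX 63) (cl (finG m125ok) [[2],[1,1,3,0,0,0,3],[1,2,0,0,3,1,1,3,0],[5,1,2,0,4]]) x242s := der241.ext (k := 6) (w := [0,1,2,0,2,0,2,1]) 4 (by decide +kernel)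
noncomputable def L244 : Lev := Lev.cons 1 4 [[3],[4]] Lev.nil
noncomputable def L245 : Lev := Lev.cons 7 24 [[0],[1],[2]] L244
theorem lc246 : Lev.chk 63 3 x242s vT 100 L245 = true := by decide +kernel
theorem lb247 : 96 ≤ Nat.card (cl (finG m125ok) [[2],[1,1,3,0,0,0,3],[1,2,0,0,3,1,1,3,0],[5,1,2,0,4]]) := le_of_eq_of_le (by decide +kernel) (der243.card_ge lc246)
theorem ix229 : Idx.{u} io C201 [0,1,2,3,4,5] [[2],[1,1,3,0,0,0,3],[1,2,0,0,3,1,1,3,0],[5,1,2,0,4]] 63 := (Idx.of bd198 sat220 (by decide +kernel) lb247 (by decide +kernel)).of_imp imp203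
noncomputable def lk248 : List (List ℕ × List ℕ × Pf) := [([2],[2],[([6],25)]),([1,1,3,0,0,0,3],[0,0,3,1,1],[([6,0,0,3,1,1,7],31)]),([1,2,0],[0,0,3,0,3,1],[([6,0,0,3,0,3,1],28)]),([0],[1,1,6,1,2,0,2,0],[([6,1,1,6],33)]),([3],[3],[([6,3],24)]),([1],[1,3,1,3,0,7,0,0],[([6,1,3,1,3,0],32)]),([1,3,0],[0,2,1,2,1,1],[([6],29)]),([5],[3,5],[([6,3,5],26)]),([4],[4,2],[([6],27)])]
noncomputable def O249 : ℕ := (nat_lit 0x7ffffc1739e8cfc040098c181780002010841c0000000800100000000000)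
noncomputable def M250 : ℕ := (nat_lit 0x7ffffc1739e8cfc040098c181780002031845c4150adbef47d7bffbfffff)
noncomputable def b251 : ℕ := (nat_lit 0x200040400000904040001312f7ff)
theorem cl252 : Clo.{u} io C201 [0,1,2,3,4,5] 240 m200 M250 (mkB [(6,b251),(7,b227)]) := cl228.new (k := 5) (b := 6) (q := 20) (p := 44) (r := 200) (n := 63) (O := O249) (by decide +kernel) (lks := lk248) (by decide +kernel) (gens_of_lall2 (m := [[0],[1],[2,3,4,5,6],[7,2,8]]) (by decide +kernel)) ix229 (by decide +kernel)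
noncomputable def b253 : ℕ := (nat_lit 0x5ab4f4070160418000010000008000203080444000809c5058001b12f7ff)
noncomputable def b254 : ℕ := (nat_lit 0x5ab4f4070160418000010000008000203080444000809c5058001b12f7ff)
theorem cl255 : Clo.{u} io C201 [0,1,2,3,4,5] 240 m200 M250 (mkB [(6,b253),(7,b254)]) := cl252.ops (os := [Op.ext 6 3 [([2],[2],[([6],25)]),([3],[3],[([6,3],24)]),([4],[4,2],[([6],27)]),([5],[3,5],[([6,3,5],26)]),([1,1,3,0,0,0,3],[0,0,3,1,1],[([6,0,0,3,1,1,7],31)]),([2,1,1,1,2,0,0],[0,0,2,1,1],[([],30)]),([1,3,0],[0,2,1,2,1,1],[([6],29)]),([1,2,0],[0,0,3,0,3,1],[([6,0,0,3,0,3,1],28)])],Op.inv 6,Op.rel 6 [] 7 [] [([],23)],Op.inv 6,Op.rel 7 [1,3,1,3,0] 7 [1,6,1,1] [([7,1,6,1,1,6],33)],Op.ext 7 3 [([3],[3],[([7,3,6],25)]),([2],[2],[([],24)]),([3,5],[5],[([7,5,6],27)]),([4,2],[4],[([],26)]),([0,0,3,0,3,1],[1,2,0],[([7,1,2,0,6],29)]),([0,2,1,2,1,1],[1,3,0],[([],28)]),([0,0,2,1,1],[2,1,1,1,2,0,0],[([7],31)]),([0,0,3,1,1],[1,1,3,0,0,0,3],[([7,1,1,3,0,0,0,3],30)])],Op.inv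 7]) (by decide +kernel) (by decide +kernel)
theorem der257 : Der 63 (finX 63) (cl (finG m125ok) [[2],[4],[1,3,0],[0]]) (fun _ => Net.nil) := Der.zero (finModel m125ok).inj
noncomputable def ns258 : ℕ → Net := upd (fun _ => Net.nil) 0 (m125 2)
theorem der259 : Der 63 (finX 63) (cl (finG m125ok) [[2],[4],[1,3,0],[0]]) ns258 := der257.add (wp_mem_cl (w := [2]) (by decide)) (rep_letter (finModel m125ok) 2) 0
noncomputable def ns260 : ℕ → Net := upd ns258 1 (m125 4)
theorem der261 : Der 63 (finX 63) (cl (finG m125ok) [[2],[4],[1,3,0],[0]]) ns260 := der259.add (wp_mem_cl (w := [4]) (by decide)) (rep_letter (finModel m125ok) 4) 1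
noncomputable def x262 : Net := (Net.cons (nat_lit 32) (nat_lit 0x64279720)
  (Net.cons (nat_lit 16) (nat_lit 0x7c840000c400)
  (Net.cons (nat_lit 8) (nat_lit 0x60006100680070)
  (Net.cons (nat_lit 4) (nat_lit 0xc000e03020c0300)
  (Net.cons (nat_lit 2) (nat_lit 0x2220203100000032)
  (Net.cons (nat_lit 1) (nat_lit 0x404414105100050)
  (Net.cons (nat_lit 2) (nat_lit 0x200202000000000)
  (Net.cons (nat_lit 4) (nat_lit 0xc00060402000000)
  (Net.cons (nat_lit 8) (nat_lit 0x6000c000e80070)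
  (Net.cons (nat_lit 16) (nat_lit 0x6c840000c400)
  (Net.cons (nat_lit 32) (nat_lit 0x6ca41720)
  Net.nil)))))))))))
noncomputable def ns263 : ℕ → Net := upd ns260 2 x262
theorem der264 : Der 63 (finX 63) (cl (finG m125ok) [[2],[4],[1,3,0],[0]]) ns263 := der261.add (wp_mem_cl (w := [1,3,0]) (by decide)) ((finModel m125ok).toIsPre.rep_word (k := 6) (w := [1,3,0]) (n := x262) (by decide +kernel)) 2
noncomputable def ns265 : ℕ → Net := upd ns263 3 (m125 0)
theorem der266 : Der 63 (finX 63) (cl (finG m125ok) [[2],[4],[1,3,0],[0]]) ns265 := der264.add (wp_mem_cl (w := [0]) (by decide)) (rep_letter (finModel m125ok) 0) 3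
noncomputable def x267 : Net := (Net.cons (nat_lit 32) (nat_lit 0xdcb36812)
  (Net.cons (nat_lit 16) (nat_lit 0x4212000033d2)
  (Net.cons (nat_lit 8) (nat_lit 0x3700a4004600d0)
  (Net.cons (nat_lit 4) (nat_lit 0xc0f0902010e0202)
  (Net.cons (nat_lit 2) (nat_lit 0x122230212033110)
  (Net.cons (nat_lit 1) (nat_lit 0x4141115410114114)
  (Net.cons (nat_lit 2) (nat_lit 0x2200000222222)
  (Net.cons (nat_lit 4) (nat_lit 0x40e0c00020a0402)
  (Net.cons (nat_lit 8) (nat_lit 0x8c000600520010)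
  (Net.cons (nat_lit 16) (nat_lit 0x878c00003142)
  (Net.cons (nat_lit 32) (nat_lit 0x850fdf80)
  Net.nil)))))))))))
noncomputable def x267s : ℕ → Net := upd ns265 4 x267
theorem der268 : Der 63 (finX 63) (cl (finG m125ok) [[2],[4],[1,3,0],[0]]) x267s := der266.ext (k := 6) (w := [3,0,3,1,2,2,1,0,2,3]) 4 (by decide +kernel)
noncomputable def L269 : Lev := Lev.cons 2 4 [[0],[1]] Lev.nil
noncomputable def L270 : Lev := Lev.cons 62 24 [[2],[4]] L269
noncomputable def L271 : Lev := Lev.cons 0 63 [[3]] L270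
theorem lc272 : Lev.chk 63 3 x267s vT 100 L271 = true := by decide +kernel
theorem lb273 : 6048 ≤ Nat.card (cl (finG m125ok) [[2],[4],[1,3,0],[0]]) := le_of_eq_of_le (by decide +kernel) (der268.card_ge lc272)
theorem ix256 : Idx.{u} io C201 [0,1,2,3,4,5] [[2],[4],[1,3,0],[0]] 1 := (Idx.of bd198 sat220 (by decide +kernel) lb273 (by decide +kernel)).of_imp imp203
noncomputable def lk274 : List (List ℕ × List ℕ × Pf) := [([2],[2],[([6],25)]),([4],[4,2],[([6],27)]),([1,3,0],[0,2,1,2,1,1],[([6],29)]),([0],[1,1,6,1,2,0,2,0],[([6,1,1,6],33)])]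
noncomputable def O275 : ℕ := (nat_lit 0x800000000000000000000000000000000000000000000000000000000000)
noncomputable def M276 : ℕ := (nat_lit 0xfffffc1739e8cfc040098c181780002031845c4150adbef47d7bffbfffff)
noncomputable def b277 : ℕ := (nat_lit 0x7ab4f4070160418000010000008000203080444000809c5058001b12f7ff)
theorem cl278 : Clo.{u} io C201 [0,1,2,3,4,5] 240 m200 M276 (mkB [(6,b277),(7,b254)]) := cl255.new (k := 5) (b := 6) (q := 237) (p := 239) (r := 200) (n := 1) (O := O275) (by decide +kernel) (lks := lk274) (by decide +kernel) (gens_of_lall2 (m := [[0],[1],[2],[3]]) (by decide +kernel)) ix256 (by decide +kernel)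
noncomputable def b279 : ℕ := (nat_lit 0xfab4f4070160418000010000008000203080444000809c5058001b12f7ff)
noncomputable def b280 : ℕ := (nat_lit 0xfab4f4070160418000010000008000203080444000809c5058001b12f7ff)
theorem cl281 : Clo.{u} io C201 [0,1,2,3,4,5] 240 m200 M276 (mkB [(6,b279),(7,b280)]) := cl278.ops (os := [Op.inv 6,Op.rel 6 [] 7 [] [([],23)],Op.inv 6]) (by decide +kernel) (by decide +kernel)
theorem der283 : Der 63 (finX 63) (cl (finG m125ok) [[3,1,3,0,2],[1,1,2,1,1,1,2,0,0,2,1,3,0],[2,1,1,1,2,0,0,5,1,5,1,3,4,1,4,1,1,3,0,0,0,3,0],[1,1,1,2,0,5,1,3,1,3,0,0,0,3]]) (fun _ => Net.nil) := Der.zero (finModel m125ok).inj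
noncomputable def x284 : Net := (Net.cons (nat_lit 32) (nat_lit 0xdd339490)
  (Net.cons (nat_lit 16) (nat_lit 0x8d020000f412)
  (Net.cons (nat_lit 8) (nat_lit 0x8200aa007a0050)
  (Net.cons (nat_lit 4) (nat_lit 0x5080700010c070a)
  (Net.cons (nat_lit 2) (nat_lit 0x300100200003022)
  (Net.cons (nat_lit 1) (nat_lit 0x104500005544040)
  (Net.cons (nat_lit 2) (nat_lit 8192)
  (Net.cons (nat_lit 4) (nat_lit 0x80a0800000600)
  (Net.cons (nat_lit 8) (nat_lit 0x2001000fa0042)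
  (Net.cons (nat_lit 16) (nat_lit 0xd0000000f500)
  (Net.cons (nat_lit 32) (nat_lit 0x89941600)
  Net.nil)))))))))))
noncomputable def ns285 : ℕ → Net := upd (fun _ => Net.nil) 0 x284
theorem der286 : Der 63 (finX 63) (cl (finG m125ok) [[3,1,3,0,2],[1,1,2,1,1,1,2,0,0,2,1,3,0],[2,1,1,1,2,0,0,5,1,5,1,3,4,1,4,1,1,3,0,0,0,3,0],[1,1,1,2,0,5,1,3,1,3,0,0,0,3]]) ns285 := der283.add (wp_mem_cl (w := [3,1,3,0,2]) (by decide)) ((finModel m125ok).toIsPre.rep_word (k := 6) (w := [3,1,3,0,2]) (n := x284) (by decide +kernel)) 0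
noncomputable def x287 : Net := (Net.cons (nat_lit 32) (nat_lit 0x661bc548)
  (Net.cons (nat_lit 16) (nat_lit 0xf88600004f10)
  (Net.cons (nat_lit 8) (nat_lit 0x9a0068005e0048)
  (Net.cons (nat_lit 4) (nat_lit 0xc000604060c0e0a)
  (Net.cons (nat_lit 2) (nat_lit 0x23012010300210)
  (Net.cons (nat_lit 1) (nat_lit 0x1110104501004401)
  (Net.cons (nat_lit 2) (nat_lit 0x20002000002000)
  (Net.cons (nat_lit 4) (nat_lit 0x604060c0002)
  (Net.cons (nat_lit 8) (nat_lit 0x9a006800080048)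
  (Net.cons (nat_lit 16) (nat_lit 0xf88600004f10)
  (Net.cons (nat_lit 32) (nat_lit 0x661bc548)
  Net.nil)))))))))))
noncomputable def ns288 : ℕ → Net := upd ns285 1 x287
theorem der289 : Der 63 (finX 63) (cl (finG m125ok) [[3,1,3,0,2],[1,1,2,1,1,1,2,0,0,2,1,3,0],[2,1,1,1,2,0,0,5,1,5,1,3,4,1,4,1,1,3,0,0,0,3,0],[1,1,1,2,0,5,1,3,1,3,0,0,0,3]]) ns288 := der286.add (wp_mem_cl (w := [1,1,2,1,1,1,2,0,0,2,1,3,0]) (by decide)) ((finModel m125ok).toIsPre.rep_word (k := 6) (w := [1,1,2,1,1,1,2,0,0,2,1,3,0]) (n := x287) (by decide +kernel)) 1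
noncomputable def x290 : Net := (Net.cons (nat_lit 32) (nat_lit 0xaba009e6)
  (Net.cons (nat_lit 16) (nat_lit 0x7970000046b7)
  (Net.cons (nat_lit 8) (nat_lit 0x130055001e0019)
  (Net.cons (nat_lit 4) (nat_lit 0x7020904010c0b09)
  (Net.cons (nat_lit 2) (nat_lit 0x3231222211220132)
  (Net.cons (nat_lit 1) (nat_lit 0x4515151404404050)
  (Net.cons (nat_lit 2) (nat_lit 0x2020202002202000)
  (Net.cons (nat_lit 4) (nat_lit 0x80e040e04080e08)
  (Net.cons (nat_lit 8) (nat_lit 0x80000c00380006)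
  (Net.cons (nat_lit 16) (nat_lit 0x1d28000007a0)
  (Net.cons (nat_lit 32) (nat_lit 0x85964d16)
  Net.nil)))))))))))
noncomputable def ns291 : ℕ → Net := upd ns288 2 x290
theorem der292 : Der 63 (finX 63) (cl (finG m125ok) [[3,1,3,0,2],[1,1,2,1,1,1,2,0,0,2,1,3,0],[2,1,1,1,2,0,0,5,1,5,1,3,4,1,4,1,1,3,0,0,0,3,0],[1,1,1,2,0,5,1,3,1,3,0,0,0,3]]) ns291 := der289.add (wp_mem_cl (w := [2,1,1,1,2,0,0,5,1,5,1,3,4,1,4,1,1,3,0,0,0,3,0]) (by decide)) ((finModel m125ok).toIsPre.rep_word (k := 6) (w := [2,1,1,1,2,0,0,5,1,5,1,3,4,1,4,1,1,3,0,0,0,3,0]) (n := x290) (by decide +kernel)) 2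
noncomputable def x293 : Net := (Net.cons (nat_lit 32) (nat_lit 0xe67b2b5c)
  (Net.cons (nat_lit 16) (nat_lit 0xd36d00008480)
  (Net.cons (nat_lit 8) (nat_lit 0xe700ea00a8000d)
  (Net.cons (nat_lit 4) (nat_lit 0x400080d060f0a03)
  (Net.cons (nat_lit 2) (nat_lit 0x1023211011001200)
  (Net.cons (nat_lit 1) (nat_lit 0x111141145414451)
  (Net.cons (nat_lit 2) (nat_lit 0x2000200020200)
  (Net.cons (nat_lit 4) (nat_lit 0x40c04020a0e08)
  (Net.cons (nat_lit 8) (nat_lit 0x48007000300038)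
  (Net.cons (nat_lit 16) (nat_lit 0x983a0000b8c2)
  (Net.cons (nat_lit 32) (nat_lit 0xb5884d00)
  Net.nil)))))))))))
noncomputable def ns294 : ℕ → Net := upd ns291 3 x293
theorem der295 : Der 63 (finX 63) (cl (finG m125ok) [[3,1,3,0,2],[1,1,2,1,1,1,2,0,0,2,1,3,0],[2,1,1,1,2,0,0,5,1,5,1,3,4,1,4,1,1,3,0,0,0,3,0],[1,1,1,2,0,5,1,3,1,3,0,0,0,3]]) ns294 := der292.add (wp_mem_cl (w := [1,1,1,2,0,5,1,3,1,3,0,0,0,3]) (by decide)) ((finModel m125ok).toIsPre.rep_word (k := 6) (w := [1,1,1,2,0,5,1,3,1,3,0,0,0,3]) (n := x293) (by decide +kernel)) 3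
noncomputable def L296 : Lev := Lev.cons 0 2 [[1]] Lev.nil
noncomputable def L297 : Lev := Lev.cons 1 27 [[0],[2],[3]] L296
theorem lc298 : Lev.chk 63 3 ns294 vT 100 L297 = true := by decide +kernel
theorem lb299 : 54 ≤ Nat.card (cl (finG m125ok) [[3,1,3,0,2],[1,1,2,1,1,1,2,0,0,2,1,3,0],[2,1,1,1,2,0,0,5,1,5,1,3,4,1,4,1,1,3,0,0,0,3,0],[1,1,1,2,0,5,1,3,1,3,0,0,0,3]]) := le_of_eq_of_le (by decide +kernel) (der295.card_ge lc298)
theorem ix282 : Idx.{u} io C201 [0,1,2,3,4,5] [[3,1,3,0,2],[1,1,2,1,1,1,2,0,0,2,1,3,0],[2,1,1,1,2,0,0,5,1,5,1,3,4,1,4,1,1,3,0,0,0,3,0],[1,1,1,2,0,5,1,3,1,3,0,0,0,3]] 112 := (Idx.of bd198 sat220 (by decide +kernel) lb299 (by decide +kernel)).of_imp imp203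
noncomputable def lk300 : List (List ℕ × List ℕ × Pf) := [([3],[3],[([6,3],24)]),([1,3,0],[0,2,1,2,1,1],[([6],29)]),([2],[2],[([6],25)]),([1],[1,3,1,3,0,7,0,0],[([6,1,3,1,3,0],32)]),([2,1,1,1,2,0,0],[0,0,2,1,1],[([],30)]),([5],[3,5],[([6,3,5],26)]),([4],[4,2],[([6],27)]),([1,1,3,0,0,0,3],[0,0,3,1,1],[([6,0,0,3,1,1,7],31)]),([0],[1,1,6,1,2,0,2,0],[([6,1,1,6],33)])]
noncomputable def O301 : ℕ := (nat_lit 0x3e8c617303fbff673e7e87fffdfce7ba3beaf52410b828400400000)
noncomputable def M302 : ℕ := (nat_lit 0xffffffffffffffffffffffffffffffffffffffffffffffffffffffffffff)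
noncomputable def b303 : ℕ := (nat_lit 0xfab4f4070160418000010000008000203080444000809c5058001b12ffff)
theorem cl304 : Clo.{u} io C201 [0,1,2,3,4,5] 240 m200 M302 (mkB [(6,b303),(7,b280)]) := cl281.new (k := 5) (b := 6) (q := 11) (p := 22) (r := 200) (n := 112) (O := O301) (by decide +kernel) (lks := lk300) (by decide +kernel) (gens_of_lall2 (m := [[0,1,2],[3,3,4,2,1],[4,5,3,5,3,0,6,3,6,7,8],[0,4,3,5,1,7]]) (by decide +kernel)) ix282 (by decide +kernel)
noncomputable def b305 : ℕ := (nat_lit 0xffffffffffffffffffffffffffffffffffffffffffffffffffffffffffff)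
noncomputable def b306 : ℕ := (nat_lit 0xffffffffffffffffffffffffffffffffffffffffffffffffffffffffffff)
theorem cl307 : Clo.{u} io C201 [0,1,2,3,4,5] 240 m200 M302 (mkB [(6,b305),(7,b306)]) := cl304.ops (os := [Op.ext 6 3 [([2],[2],[([6],25)]),([3],[3],[([6,3],24)]),([4],[4,2],[([6],27)]),([5],[3,5],[([6,3,5],26)]),([1,1,3,0,0,0,3],[0,0,3,1,1],[([6,0,0,3,1,1,7],31)]),([2,1,1,1,2,0,0],[0,0,2,1,1],[([],30)]),([1,3,0],[0,2,1,2,1,1],[([6],29)]),([1,2,0],[0,0,3,0,3,1],[([6,0,0,3,0,3,1],28)])],Op.inv 6,Op.rel 6 [] 7 [] [([],23)],Op.inv 6,Op.rel 7 [1,3,1,3,0] 7 [1,6,1,1] [([7,1,6,1,1,6],33)],Op.ext 7 3 [([3],[3],[([7,3,6],25)]),([2],[2],[([],24)]),([3,5],[5],[([7,5,6],27)]),([4,2],[4],[([],26)]),([0,0,3,0,3,1],[1,2,0],[([7,1,2,0,6],29)]),([0,2,1,2,1,1],[1,3,0],[([],28)]),([0,0,2,1,1],[2,1,1,1,2,0,0],[([7],31)]),([0,0,3,1,1],[1,1,3,0,0,0,3],[([7,1,1,3,0,0,0,3],30)])],Op.inv 7,Op.rel 7 [1,3,1,3,0] 7 [1,6,1,1] [([7,1,6,1,1,6],33)],Op.ext 7 2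 [([3],[3],[([7,3,6],25)]),([2],[2],[([],24)]),([3,5],[5],[([7,5,6],27)]),([4,2],[4],[([],26)]),([0,0,3,0,3,1],[1,2,0],[([7,1,2,0,6],29)]),([0,2,1,2,1,1],[1,3,0],[([],28)]),([0,0,2,1,1],[2,1,1,1,2,0,0],[([7],31)]),([0,0,3,1,1],[1,1,3,0,0,0,3],[([7,1,1,3,0,0,0,3],30)])],Op.inv 7]) (by decide +kernel) (by decide +kernel)
theorem sat309 : Sat io C201 (finG m200ok) := m200s0.fin (k := 8) (by decide +kernel)
theorem bd308 : Bound.{u} io C201 [0,1,2,3,4,5,6,7] 1451520 := cl307.bound (by decide +kernel) sat309 (bd198.of_imp imp203)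
abbrev GS : Type := ↥(cl (finG m2ok) (lw [0,1,2,3,4,5,6,7]))
theorem allS : ∀ l, finG m2ok l ∈ (cl (finG m2ok) (lw [0,1,2,3,4,5,6,7])) := finG_mem_all _ (by decide +kernel)
noncomputable def gS : ℕ → GS := subA _ _ allS
theorem sat310 : Sat io C201 (finG m2ok) := m2s0.fin (k := 6) (by decide +kernel)
noncomputable abbrev RS : List (List ℕ) := C201
theorem satS : Sat io RS gS := sat310.subA _
theorem topS : cl gS (lw [0,1,2,3,4,5,6,7]) = ⊤ := cl_subA _
theorem modelS : IsModel 63 (finX 63) gS m2 vT := (finModel m2ok).subA _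
theorem faithS : Faith GS 63 (finX 63) := (faith_fin 63).sub _
theorem der311 : Der 63 (finX 63) (cl (finG m2ok) (lw [0,1,2,3,4,5,6,7])) (resN m2 [0,1,2,3,4,5,6,7]) := Der.letters (finModel m2ok) _
noncomputable def x312 : Net := (Net.cons (nat_lit 32) (nat_lit 0x47d97b20)
  (Net.cons (nat_lit 16) (nat_lit 0x787600006d44)
  (Net.cons (nat_lit 8) (nat_lit 0x61000b00830098)
  (Net.cons (nat_lit 4) (nat_lit 0xf0e010e0a0d0c08)
  (Net.cons (nat_lit 2) (nat_lit 0x2033322112132130)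
  (Net.cons (nat_lit 1) (nat_lit 0x5100104544414050)
  (Net.cons (nat_lit 2) (nat_lit 0x202020200000)
  (Net.cons (nat_lit 4) (nat_lit 0xc000a080600020c)
  (Net.cons (nat_lit 8) (nat_lit 0x1a000400140066)
  (Net.cons (nat_lit 16) (nat_lit 0x67d400001aea)
  (Net.cons (nat_lit 32) (nat_lit 0x29a384c0)
  Net.nil)))))))))))
noncomputable def x312s : ℕ → Net := upd (resN m2 [0,1,2,3,4,5,6,7]) 8 x312
theorem der313 : Der 63 (finX 63) (cl (finG m2ok) (lw [0,1,2,3,4,5,6,7])) x312s := der311.ext (k := 6) (w := [1,1,6,1,3,0,4,0]) 8 (by decide +kernel)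
noncomputable def x314 : Net := (Net.cons (nat_lit 32) (nat_lit 0x976f792c)
  (Net.cons (nat_lit 16) (nat_lit 0xd7b400005bb0)
  (Net.cons (nat_lit 8) (nat_lit 0x56001c00580008)
  (Net.cons (nat_lit 4) (nat_lit 0xb030e0a060d050c)
  (Net.cons (nat_lit 2) (nat_lit 0x2030312130103020)
  (Net.cons (nat_lit 1) (nat_lit 0x1550411441554014)
  (Net.cons (nat_lit 2) (nat_lit 0x22020000002)
  (Net.cons (nat_lit 4) (nat_lit 0x80004080804)
  (Net.cons (nat_lit 8) (nat_lit 0x520084001e0044)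
  (Net.cons (nat_lit 16) (nat_lit 0x982400000322)
  (Net.cons (nat_lit 32) (nat_lit 0xb461e630)
  Net.nil)))))))))))
noncomputable def x314s : ℕ → Net := upd x312s 9 x314
theorem der315 : Der 63 (finX 63) (cl (finG m2ok) (lw [0,1,2,3,4,5,6,7])) x314s := der313.ext (k := 6) (w := [0,2,0,6,2,6,0,0]) 9 (by decide +kernel)
noncomputable def x316 : Net := (Net.cons (nat_lit 32) (nat_lit 0x1f678b7c)
  (Net.cons (nat_lit 16) (nat_lit 0xb57000000be)
  (Net.cons (nat_lit 8) (nat_lit 0xc6004200b40022)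
  (Net.cons (nat_lit 4) (nat_lit 0x8090d0808050404)
  (Net.cons (nat_lit 2) (nat_lit 0x3020003220201312)
  (Net.cons (nat_lit 1) (nat_lit 0x450500154510540)
  (Net.cons (nat_lit 2) (nat_lit 0x200000002020000)
  (Net.cons (nat_lit 4) (nat_lit 0x6080202000e040a)
  (Net.cons (nat_lit 8) (nat_lit 0x9400ea00000082)
  (Net.cons (nat_lit 16) (nat_lit 0x601400007390)
  (Net.cons (nat_lit 32) (nat_lit 0x36ed36c)
  Net.nil)))))))))))
noncomputable def x316s : ℕ → Net := upd x314s 10 x316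
theorem der317 : Der 63 (finX 63) (cl (finG m2ok) (lw [0,1,2,3,4,5,6,7])) x316s := der315.ext (k := 6) (w := [8,9,4,5,8,4,2]) 10 (by decide +kernel)
noncomputable def x318 : Net := (Net.cons (nat_lit 32) (nat_lit 0xcfddb58)
  (Net.cons (nat_lit 16) (nat_lit 0x354900004aa4)
  (Net.cons (nat_lit 8) (nat_lit 0x34003600ec00aa)
  (Net.cons (nat_lit 4) (nat_lit 0x801070b0a0a040a)
  (Net.cons (nat_lit 2) (nat_lit 0x11120323021112)
  (Net.cons (nat_lit 1) (nat_lit 0x5041041111450410)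
  (Net.cons (nat_lit 2) (nat_lit 0x2020002000200)
  (Net.cons (nat_lit 4) (nat_lit 0x802000c00000404)
  (Net.cons (nat_lit 8) (nat_lit 0x6c003400600002)
  (Net.cons (nat_lit 16) (nat_lit 0x37f80000a420)
  (Net.cons (nat_lit 32) (nat_lit 0x126ecf40)
  Net.nil)))))))))))
noncomputable def x318s : ℕ → Net := upd x316s 11 x318
theorem der319 : Der 63 (finX 63) (cl (finG m2ok) (lw [0,1,2,3,4,5,6,7])) x318s := der317.ext (k := 6) (w := [10,6,10,6,6,6,10]) 11 (by decide +kernel)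
noncomputable def x320 : Net := (Net.cons (nat_lit 32) (nat_lit 0xb9e44b42)
  (Net.cons (nat_lit 16) (nat_lit 0x5a8f00007158)
  (Net.cons (nat_lit 8) (nat_lit 0x8e0086001400b2)
  (Net.cons (nat_lit 4) (nat_lit 0xd0f0e05030e0906)
  (Net.cons (nat_lit 2) (nat_lit 0x2113201230330210)
  (Net.cons (nat_lit 1) (nat_lit 0x1101144144154100)
  (Net.cons (nat_lit 2) (nat_lit 0x2002222200000)
  (Net.cons (nat_lit 4) (nat_lit 0x8060002080a04)
  (Net.cons (nat_lit 8) (nat_lit 0x38003c003a00b4)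
  (Net.cons (nat_lit 16) (nat_lit 0xa8860000274a)
  (Net.cons (nat_lit 32) (nat_lit 0x8ee62f20)
  Net.nil)))))))))))
noncomputable def x320s : ℕ → Net := upd x318s 12 x320
theorem der321 : Der 63 (finX 63) (cl (finG m2ok) (lw [0,1,2,3,4,5,6,7])) x320s := der319.ext (k := 6) (w := [10,10,6,10,10,6,10,10]) 12 (by decide +kernel)
noncomputable def x322 : Net := (Net.cons (nat_lit 32) (nat_lit 0x24b02440)
  (Net.cons (nat_lit 16) (nat_lit 0x405000002cc0)
  (Net.cons (nat_lit 8) (nat_lit 0x70001400800068)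
  (Net.cons (nat_lit 4) (nat_lit 0xc040208080600)
  (Net.cons (nat_lit 2) (nat_lit 0x1030120000220030)
  (Net.cons (nat_lit 1) (nat_lit 0x50011004410004)
  (Net.cons (nat_lit 2) (nat_lit 0x20000220000)
  (Net.cons (nat_lit 4) (nat_lit 0xc040208080000)
  (Net.cons (nat_lit 8) (nat_lit 0x70001400800068)
  (Net.cons (nat_lit 16) (nat_lit 0x5000002cc0)
  (Net.cons (nat_lit 32) (nat_lit 0x24b00440)
  Net.nil)))))))))))
noncomputable def x322s : ℕ → Net := upd x320s 13 x322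
theorem der323 : Der 63 (finX 63) (cl (finG m2ok) (lw [0,1,2,3,4,5,6,7])) x322s := der321.ext (k := 6) (w := [6,11]) 13 (by decide +kernel)
noncomputable def x324 : Net := (Net.cons (nat_lit 32) (nat_lit 0x80408000)
  (Net.cons (nat_lit 16) (nat_lit 0x118800006020)
  (Net.cons (nat_lit 8) (nat_lit 0xe0004000000050)
  (Net.cons (nat_lit 4) (nat_lit 0xc0a040000020404)
  (Net.cons (nat_lit 2) (nat_lit 0x2012020200202030)
  (Net.cons (nat_lit 1) (nat_lit 0x1401040110100000)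
  (Net.cons (nat_lit 2) (nat_lit 0x2002020200200000)
  (Net.cons (nat_lit 4) (nat_lit 0xc08040000000004)
  (Net.cons (nat_lit 8) (nat_lit 0xe0004000000050)
  (Net.cons (nat_lit 16) (nat_lit 0x108800002020)
  (Net.cons (nat_lit 32) (nat_lit 0x80408000)
  Net.nil)))))))))))
noncomputable def x324s : ℕ → Net := upd x322s 14 x324
theorem der325 : Der 63 (finX 63) (cl (finG m2ok) (lw [0,1,2,3,4,5,6,7])) x324s := der323.ext (k := 6) (w := [6,12]) 14 (by decide +kernel)
noncomputable def L326 : Lev := Lev.cons 2 2 [[14]] Lev.nil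
noncomputable def L327 : Lev := Lev.cons 27 3 [[13]] L326
noncomputable def L328 : Lev := Lev.cons 1 8 [[6],[7],[11],[12]] L327
noncomputable def L329 : Lev := Lev.cons 11 15 [[10]] L328
noncomputable def L330 : Lev := Lev.cons 18 32 [[2],[3],[4],[5],[8],[9]] L329
noncomputable def L331 : Lev := Lev.cons 0 63 [[0],[1]] L330
theorem lc332 : Lev.chk 63 3 x324s vT 100 L331 = true := by decide +kernel
theorem bdS : Bound.{u} io RS [0,1,2,3,4,5,6,7] 1451520 := bd308
theorem cardS : Nat.card GS = 1451520 := le_antisymm (bdS.{0}.fin sat310) (le_of_eq_of_le (by decide +kernel) (der325.card_ge lc332))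
noncomputable def baseS : List ℕ := [0,18,11,1,27,2]
theorem basedS : Based 63 (finX 63) (⊤ : Subgroup GS) baseS := (der325.based lc332 (le_of_eq_of_le cardS (by decide +kernel))).sub
noncomputable def eqvS : List ℕ → List ℕ → Bool := eqBc m2 baseS
theorem heqS : ∀ u w, eqvS u w = true → wp gS u = wp gS w := basedS.eqv modelS.toIsPre
theorem hgeS : ∀ l, llen il ≤ l → gS l = 1 := fun l h => Subtype.ext (finG_eq_one m2ok (n := 8) (by decide +kernel) l (le_of_eq_of_le (by decide +kernel) h))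
theorem s0S : Sat io [] gS := satS.nil
noncomputable def cvS : List (List ℕ) := [[0],[4,6,0,7,5]]
theorem der333 : Der 63 (finX 63) (cl gS cvS) (fun _ => Net.nil) := Der.zero modelS.inj
noncomputable def ns334 : ℕ → Net := upd (fun _ => Net.nil) 0 (m2 0)
theorem der335 : Der 63 (finX 63) (cl gS cvS) ns334 := der333.add (wp_mem_cl (w := [0]) (by decide)) (rep_letter modelS 0) 0

end Cfsg.Agent.H6.Cl.S62
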