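import Cfsg.Agent.H6.ClD1
set_option maxRecDepth 100000
set_option Elab.async false
namespace Cfsg.Agent.H6.Cl.S62
open Cfsg.Agent.H6
universe u

noncomputable def x336 : Net := (Net.cons (nat_lit 32) (nat_lit 0x2ac79f48)
  (Net.cons (nat_lit 16) (nat_lit 0x6c0800003b68)
  (Net.cons (nat_lit 8) (nat_lit 0x5800db0085003a)
  (Net.cons (nat_lit 4) (nat_lit 0x80703020a0f0a0c)
  (Net.cons (nat_lit 2) (nat_lit 0x2202221113233002)
  (Net.cons (nat_lit 1) (nat_lit 0x415414155444141)
  (Net.cons (nat_lit 2) (nat_lit 0x200002000202200)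
  (Net.cons (nat_lit 4) (nat_lit 0x80c0a0004080404)
  (Net.cons (nat_lit 8) (nat_lit 0x40000a0078008a)
  (Net.cons (nat_lit 16) (nat_lit 0x1ae8000051e8)
  (Net.cons (nat_lit 32) (nat_lit 0x31a203cc)
  Net.nil)))))))))))
noncomputable def ns337 : ℕ → Net := upd ns334 1 x336
theorem der338 : Der 63 (finX 63) (cl gS cvS) ns337 := der335.add (wp_mem_cl (w := [4,6,0,7,5]) (by decide)) (modelS.toIsPre.rep_word (k := 6) (w := [4,6,0,7,5]) (n := x336) (by decide +kernel)) 1
noncomputable def x339 : Net := (Net.cons (nat_lit 32) (nat_lit 0x24a35d00)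
  (Net.cons (nat_lit 16) (nat_lit 0x64840000f602)
  (Net.cons (nat_lit 8) (nat_lit 0xc000d700400090)
  (Net.cons (nat_lit 4) (nat_lit 0xc00080b080808)
  (Net.cons (nat_lit 2) (nat_lit 0x2221212322022030)
  (Net.cons (nat_lit 1) (nat_lit 0x1400014400514500)
  (Net.cons (nat_lit 2) (nat_lit 0x2200002200022000)
  (Net.cons (nat_lit 4) (nat_lit 0xc000000080808)
  (Net.cons (nat_lit 8) (nat_lit 0xc000c000400090)
  (Net.cons (nat_lit 16) (nat_lit 0x64840000f600)
  (Net.cons (nat_lit 32) (nat_lit 0x24a35500)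
  Net.nil)))))))))))
noncomputable def x339s : ℕ → Net := upd ns337 2 x339
theorem der340 : Der 63 (finX 63) (cl gS cvS) x339s := der338.ext (k := 6) (w := [0,1,0,0,1,0,0,1,0]) 2 (by decide +kernel)
noncomputable def x341 : Net := (Net.cons (nat_lit 32) (nat_lit 0xd625fa98)
  (Net.cons (nat_lit 16) (nat_lit 0xb33f00005d94)
  (Net.cons (nat_lit 8) (nat_lit 0xae0087004d0062)
  (Net.cons (nat_lit 4) (nat_lit 0x5070d010e0b0300)
  (Net.cons (nat_lit 2) (nat_lit 0x3230110033300100)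
  (Net.cons (nat_lit 1) (nat_lit 0x5001514414040410)
  (Net.cons (nat_lit 2) (nat_lit 0x22002020220)
  (Net.cons (nat_lit 4) (nat_lit 0x80e040808060a00)
  (Net.cons (nat_lit 8) (nat_lit 0xa400400042002c)
  (Net.cons (nat_lit 16) (nat_lit 0xb8c800006c20)
  (Net.cons (nat_lit 32) (nat_lit 0x9ca55cca)
  Net.nil)))))))))))
noncomputable def x341s : ℕ → Net := upd x339s 3 x341
theorem der342 : Der 63 (finX 63) (cl gS cvS) x341s := der340.ext (k := 6) (w := [1,1,1,0,0,1,0,0,1,0,0]) 3 (by decide +kernel)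
noncomputable def x343 : Net := (Net.cons (nat_lit 32) (nat_lit 0xa370a428)
  (Net.cons (nat_lit 16) (nat_lit 0xb0da00000682)
  (Net.cons (nat_lit 8) (nat_lit 0x90002e00f8007e)
  (Net.cons (nat_lit 4) (nat_lit 0x40a090006010906)
  (Net.cons (nat_lit 2) (nat_lit 0x1103032003100310)
  (Net.cons (nat_lit 1) (nat_lit 0x115501154041140)
  (Net.cons (nat_lit 2) (nat_lit 0x20002002020220)
  (Net.cons (nat_lit 4) (nat_lit 0x2080a0c020406)
  (Net.cons (nat_lit 8) (nat_lit 0xc0010009800aa)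
  (Net.cons (nat_lit 16) (nat_lit 0x9e8000001930)
  (Net.cons (nat_lit 32) (nat_lit 0xd2430114)
  Net.nil)))))))))))
noncomputable def x343s : ℕ → Net := upd x341s 4 x343
theorem der344 : Der 63 (finX 63) (cl gS cvS) x343s := der342.ext (k := 6) (w := [1,1,0]) 4 (by decide +kernel)
noncomputable def x345 : Net := (Net.cons (nat_lit 32) (nat_lit 0xb600a9be)
  (Net.cons (nat_lit 16) (nat_lit 0x105800007b80)
  (Net.cons (nat_lit 8) (nat_lit 0xb80047003f00e6)
  (Net.cons (nat_lit 4) (nat_lit 0x40a0a0c09060d04)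
  (Net.cons (nat_lit 2) (nat_lit 0x1013110100021032)
  (Net.cons (nat_lit 1) (nat_lit 0x1045515040144410)
  (Net.cons (nat_lit 2) (nat_lit 0x2020020020000220)
  (Net.cons (nat_lit 4) (nat_lit 0x40604000c06080a)
  (Net.cons (nat_lit 8) (nat_lit 0x8c0012002a001a)
  (Net.cons (nat_lit 16) (nat_lit 0xc82a000067b8)
  (Net.cons (nat_lit 32) (nat_lit 0x8acdb488)
  Net.nil)))))))))))
noncomputable def x345s : ℕ → Net := upd x343s 5 x345
theorem der346 : Der 63 (finX 63) (cl gS cvS) x345s := der344.ext (k := 6) (w := [4,4,4,2,3,4,3,2,4,3]) 5 (by decide +kernel)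
noncomputable def x347 : Net := (Net.cons (nat_lit 32) (nat_lit 0x60160eaa)
  (Net.cons (nat_lit 16) (nat_lit 0x56390000845c)
  (Net.cons (nat_lit 8) (nat_lit 0x1600dc003000d0)
  (Net.cons (nat_lit 4) (nat_lit 0xc0f0b020609010e)
  (Net.cons (nat_lit 2) (nat_lit 0x3023300121202202)
  (Net.cons (nat_lit 1) (nat_lit 0x4054010411111444)
  (Net.cons (nat_lit 2) (nat_lit 0x200202002)
  (Net.cons (nat_lit 4) (nat_lit 0x8080a0e04000e0c)
  (Net.cons (nat_lit 8) (nat_lit 0x2a00e600e0008c)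
  (Net.cons (nat_lit 16) (nat_lit 0x50f80000ef64)
  (Net.cons (nat_lit 32) (nat_lit 0x6aa61648)
  Net.nil)))))))))))
noncomputable def x347s : ℕ → Net := upd x345s 6 x347
theorem der348 : Der 63 (finX 63) (cl gS cvS) x347s := der346.ext (k := 6) (w := [5,2,5,5,5,5,5,2,5,2,5,5]) 6 (by decide +kernel)
noncomputable def x349 : Net := (Net.cons (nat_lit 32) (nat_lit 0x3860c10)
  (Net.cons (nat_lit 16) (nat_lit 0x3db00000e504)
  (Net.cons (nat_lit 8) (nat_lit 0x8f00ba00f80058)
  (Net.cons (nat_lit 4) (nat_lit 0x80803020a020e08)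
  (Net.cons (nat_lit 2) (nat_lit 0x2300021202002210)
  (Net.cons (nat_lit 1) (nat_lit 0x141410001105410)
  (Net.cons (nat_lit 2) (nat_lit 0x220220000200220)
  (Net.cons (nat_lit 4) (nat_lit 0x40e0c000202080c)
  (Net.cons (nat_lit 8) (nat_lit 0xee009a00b80028)
  (Net.cons (nat_lit 16) (nat_lit 0x24180000854c)
  (Net.cons (nat_lit 32) (nat_lit 0x67020508)
  Net.nil)))))))))))
noncomputable def x349s : ℕ → Net := upd x347s 7 x349
theorem der350 : Der 63 (finX 63) (cl gS cvS) x349s := der348.ext (k := 6) (w := [2,6,2,6]) 7 (by decide +kernel)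
noncomputable def x351 : Net := (Net.cons (nat_lit 32) (nat_lit 0x216b0c00)
  (Net.cons (nat_lit 16) (nat_lit 0x102000009000)
  (Net.cons (nat_lit 8) (nat_lit 0x18004000900000)
  (Net.cons (nat_lit 4) (nat_lit 0x50c0208080f0c00)
  (Net.cons (nat_lit 2) (nat_lit 0x2020102000332200)
  (Net.cons (nat_lit 1) (nat_lit 0x4000050004000410)
  (Net.cons (nat_lit 2) (nat_lit 0x2000000000000200)
  (Net.cons (nat_lit 4) (nat_lit 0x408020808000c00)
  (Net.cons (nat_lit 8) (nat_lit 0x18004000900000)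
  (Net.cons (nat_lit 16) (nat_lit 0x102000009000)
  (Net.cons (nat_lit 32) (nat_lit 0x216b0c00)
  Net.nil)))))))))))
noncomputable def x351s : ℕ → Net := upd x349s 8 x351
theorem der352 : Der 63 (finX 63) (cl gS cvS) x351s := der350.ext (k := 6) (w := [6,2,6,6,2]) 8 (by decide +kernel)
noncomputable def L353 : Lev := Lev.cons 4 2 [[8]] Lev.nil
noncomputable def L354 : Lev := Lev.cons 3 3 [[7]] L353
noncomputable def L355 : Lev := Lev.cons 1 8 [[2],[6]] L354
noncomputable def L356 : Lev := Lev.cons 31 15 [[5]] L355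
noncomputable def L357 : Lev := Lev.cons 17 32 [[3],[4]] L356
noncomputable def L358 : Lev := Lev.cons 0 63 [[0],[1]] L357
theorem lc359 : Lev.chk 63 3 x351s vT 100 L358 = true := by decide +kernel
theorem lb360 : 1451520 ≤ Nat.card (cl gS cvS) := le_of_eq_of_le (by decide +kernel) (der352.card_ge lc359)
theorem simpleS : IsSimpleGroup GS := modelS.simple faithS topS (ws := [[1,7,1,1,6,0,0],[0,5,1,4,6,2,1]]) (r := 300) (p0 := 0) (l := [(54,[1,4,1]),(59,[1])]) (by decide +kernel) (p := 7) (by norm_num) cardS (by norm_num) (pow_one_of heqS (a := [0]) (by decide +kernel)) (ncl_top s0S (cs := [[],[4,6]]) (by decide +kernel) cardS lb360)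
noncomputable def mS : List (List ℕ) := [[40,50,8,28,24,7],[43,19,24,4,20,5],[7,2,4,8,24,40],[7,2,4,8,24,40],[49,12,10,8,32,16],[49,12,10,8,32,16],[1,4,2,8,36,18],[1,4,2,8,36,18]]
theorem isoS {F : Type u} [Field F] [Fintype F] (hF : Fintype.card F = 2) : Nonempty (GS ≃* PSp 3 F) := by
  haveI : CharP F 2 := charP_of_card (k := 1) Nat.prime_two hF
  have hs := semP (F := F) 2 (by norm_num)
  obtain ⟨g, hg⟩ := mrep_Sp hs (ixSum 3) (hJ_of (e := 1) hs (hs.v1.trans (CharTwo.neg_eq 1).symm) (U := [8,16,32,1,2,4]) (by decide +kernel)) (ml := mS) (by decide +kernel)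
  have hc : Nat.card (PSp 3 F) = 1451520 := by
    exact card_quot_eq (m := 1) ((S0245.result hF 3).trans (by simp [Finset.prod_range_succ])) ((S0246.result hF 3 (by norm_num)).trans (by norm_num)) one_pos
  exact bdS.equivU satS (hg.psat (il := il) (Rl := RS) (by decide +kernel)) topS cardS simpleS hc (u := [0]) (w := []) (by decide +kernel) (ne_one_quot_center (v := [2]) (hg.nev (injP 2) (i := 0) (j := 1) (by decide +kernel)))

end Cfsg.Agent.H6.Cl.S62
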