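import Cfsg.Agent.H6.Sch7
import Cfsg.Agent.S0293
set_option maxRecDepth 100000
set_option Elab.async false
namespace Cfsg.Agent.H6.Cl.O8
open Cfsg.Agent.H6
universe u

noncomputable def il : List ℕ := [1,0,3,2,5,4,7,6,9,8]
noncomputable abbrev io : ℕ → ℕ := iota il
noncomputable def C1 : List (List ℕ) := []
noncomputable def m2n0 : Net := (Net.cons (nat_lit 4) (nat_lit 12)
  (Net.cons (nat_lit 2) (nat_lit 49)
  (Net.cons (nat_lit 1) (nat_lit 1)
  (Net.cons (nat_lit 4) (nat_lit 10)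
  Net.nil))))
noncomputable def m2n1 : Net := (Net.cons (nat_lit 4) (nat_lit 10)
  (Net.cons (nat_lit 2) (nat_lit 51)
  (Net.cons (nat_lit 1) (nat_lit 4)
  (Net.cons (nat_lit 2) (nat_lit 2)
  (Net.cons (nat_lit 4) (nat_lit 12)
  Net.nil)))))
noncomputable def m2l : List Net := [m2n0,m2n1]
noncomputable abbrev m2 : ℕ → Net := lk Net.nil m2l
theorem m2ok : NetsOk 7 m2 vT := netsOk_of (by decide +kernel)
theorem m2s0 : Sat io [] (finG m2ok) := fin_sat_nil _ (k := 3) (n := 10) (by decide +kernel)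
noncomputable def r0 : List ℕ := [0,0,0,0,0,0,0]
noncomputable def m3n0 : Net := (Net.cons (nat_lit 4) (nat_lit 12)
  (Net.cons (nat_lit 2) (nat_lit 49)
  (Net.cons (nat_lit 1) (nat_lit 1)
  (Net.cons (nat_lit 4) (nat_lit 10)
  Net.nil))))
noncomputable def m3n1 : Net := (Net.cons (nat_lit 4) (nat_lit 10)
  (Net.cons (nat_lit 2) (nat_lit 51)
  (Net.cons (nat_lit 1) (nat_lit 4)
  (Net.cons (nat_lit 2) (nat_lit 2)
  (Net.cons (nat_lit 4) (nat_lit 12)
  Net.nil)))))
noncomputable def m3l : List Net := [m3n0,m3n1]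
noncomputable abbrev m3 : ℕ → Net := lk Net.nil m3l
theorem m3ok : NetsOk 7 m3 vT := netsOk_of (by decide +kernel)
theorem m3s0 : Sat io [] (finG m3ok) := fin_sat_nil _ (k := 3) (n := 10) (by decide +kernel)
noncomputable def C4 : List (List ℕ) := [r0]
theorem cl5 : Clo.{u} io C4 [] 7 m3 1 (mkB []) := Clo.start (by decide +kernel)
theorem imp6 : Imp.{u} io C4 C1 := Imp.of_chk (pfs := []) (by decide +kernel)
theorem ix7 : Idx.{u} io C4 [] [] 1 := (Idx.triv (Bound.nil) (by norm_num)).of_imp imp6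
noncomputable def lk8 : List (List ℕ × List ℕ × Pf) := []
noncomputable def O9 : ℕ := (nat_lit 2)
noncomputable def M10 : ℕ := (nat_lit 3)
noncomputable def b11 : ℕ := (nat_lit 1)
theorem cl12 : Clo.{u} io C4 [] 7 m3 M10 (mkB [(0,b11)]) := cl5.new (k := 0) (b := 0) (q := 0) (p := 1) (r := 200) (n := 1) (O := O9) (by decide +kernel) (lks := lk8) (by decide +kernel) (gens_of_lall2 (m := []) (by decide +kernel)) ix7 (by decide +kernel)
noncomputable def b13 : ℕ := (nat_lit 2)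
theorem cl14 : Clo.{u} io C4 [] 7 m3 M10 (mkB [(0,b11),(1,b13)]) := cl12.ops (os := [Op.inv 0]) (by decide +kernel) (by decide +kernel)
theorem ix15 : Idx.{u} io C4 [] [] 1 := (Idx.triv (Bound.nil) (by norm_num)).of_imp imp6
noncomputable def lk16 : List (List ℕ × List ℕ × Pf) := []
noncomputable def O17 : ℕ := (nat_lit 8)
noncomputable def M18 : ℕ := (nat_lit 11)
noncomputable def b19 : ℕ := (nat_lit 3)
theorem cl20 : Clo.{u} io C4 [] 7 m3 M18 (mkB [(0,b19),(1,b13)]) := cl14.new (k := 0) (b := 0) (q := 1) (p := 3) (r := 200) (n := 1) (O := O17) (by decide +kernel) (lks := lk16) (by decide +kernel) (gens_of_lall2 (m := []) (by decide +kernel)) ix15 (by decide +kernel)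
noncomputable def b21 : ℕ := (nat_lit 10)
theorem cl22 : Clo.{u} io C4 [] 7 m3 M18 (mkB [(0,b19),(1,b21)]) := cl20.ops (os := [Op.inv 0]) (by decide +kernel) (by decide +kernel)
theorem ix23 : Idx.{u} io C4 [] [] 1 := (Idx.triv (Bound.nil) (by norm_num)).of_imp imp6
noncomputable def lk24 : List (List ℕ × List ℕ × Pf) := []
noncomputable def O25 : ℕ := (nat_lit 32)
noncomputable def M26 : ℕ := (nat_lit 43)
noncomputable def b27 : ℕ := (nat_lit 11)
theorem cl28 : Clo.{u} io C4 [] 7 m3 M26 (mkB [(0,b27),(1,b21)]) := cl22.new (k := 0) (b := 0) (q := 3) (p := 5) (r := 200) (n := 1) (O := O25) (by decide +kernel) (lks := lk24) (by decide +kernel) (gens_of_lall2 (m := []) (by decide +kernel)) ix23 (by decide +kernel)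
noncomputable def b29 : ℕ := (nat_lit 42)
theorem cl30 : Clo.{u} io C4 [] 7 m3 M26 (mkB [(0,b27),(1,b29)]) := cl28.ops (os := [Op.inv 0]) (by decide +kernel) (by decide +kernel)
theorem ix31 : Idx.{u} io C4 [] [] 1 := (Idx.triv (Bound.nil) (by norm_num)).of_imp imp6
noncomputable def lk32 : List (List ℕ × List ℕ × Pf) := []
noncomputable def O33 : ℕ := (nat_lit 64)
noncomputable def M34 : ℕ := (nat_lit 107)
noncomputable def b35 : ℕ := (nat_lit 43)
theorem cl36 : Clo.{u} io C4 [] 7 m3 M34 (mkB [(0,b35),(1,b29)]) := cl30.new (k := 0) (b := 0) (q := 5) (p := 6) (r := 200) (n := 1) (O := O33) (by decide +kernel) (lks := lk32) (by decide +kernel) (gens_of_lall2 (m := []) (by decide +kernel)) ix31 (by decide +kernel)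
noncomputable def b37 : ℕ := (nat_lit 106)
theorem cl38 : Clo.{u} io C4 [] 7 m3 M34 (mkB [(0,b35),(1,b37)]) := cl36.ops (os := [Op.inv 0]) (by decide +kernel) (by decide +kernel)
theorem ix39 : Idx.{u} io C4 [] [] 1 := (Idx.triv (Bound.nil) (by norm_num)).of_imp imp6
noncomputable def lk40 : List (List ℕ × List ℕ × Pf) := []
noncomputable def O41 : ℕ := (nat_lit 16)
noncomputable def M42 : ℕ := (nat_lit 123)
noncomputable def b43 : ℕ := (nat_lit 107)
theorem cl44 : Clo.{u} io C4 [] 7 m3 M42 (mkB [(0,b43),(1,b37)]) := cl38.new (k := 0) (b := 0) (q := 6) (p := 4) (r := 200) (n := 1) (O := O41) (by decide +kernel) (lks := lk40) (by decide +kernel) (gens_of_lall2 (m := []) (by decide +kernel)) ix39 (by decide +kernel)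
noncomputable def b45 : ℕ := (nat_lit 122)
theorem cl46 : Clo.{u} io C4 [] 7 m3 M42 (mkB [(0,b43),(1,b45)]) := cl44.ops (os := [Op.inv 0]) (by decide +kernel) (by decide +kernel)
theorem ix47 : Idx.{u} io C4 [] [] 1 := (Idx.triv (Bound.nil) (by norm_num)).of_imp imp6
noncomputable def lk48 : List (List ℕ × List ℕ × Pf) := []
noncomputable def O49 : ℕ := (nat_lit 4)
noncomputable def M50 : ℕ := (nat_lit 127)
noncomputable def b51 : ℕ := (nat_lit 123)
theorem cl52 : Clo.{u} io C4 [] 7 m3 M50 (mkB [(0,b51),(1,b45)]) := cl46.new (k := 0) (b := 0) (q := 4) (p := 2) (r := 200) (n := 1) (O := O49) (by decide +kernel) (lks := lk48) (by decide +kernel) (gens_of_lall2 (m := []) (by decide +kernel)) ix47 (by decide +kernel)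
noncomputable def b53 : ℕ := (nat_lit 127)
noncomputable def b54 : ℕ := (nat_lit 127)
theorem cl55 : Clo.{u} io C4 [] 7 m3 M50 (mkB [(0,b53),(1,b54)]) := cl52.ops (os := [Op.inv 0,Op.rel 0 [] 1 [1,1,1,1,1] [([],1)],Op.inv 0]) (by decide +kernel) (by decide +kernel)
theorem sat57 : Sat io C4 (finG m3ok) := m3s0.fin (k := 3) (by decide +kernel)
theorem bd56 : Bound.{u} io C4 [0,1] 7 := cl55.bound (by decide +kernel) sat57 ((Bound.nil).of_imp imp6)
noncomputable def m58n0 : Net := (Net.cons (nat_lit 4) (nat_lit 4)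
  (Net.cons (nat_lit 2) (nat_lit 49)
  (Net.cons (nat_lit 1) (nat_lit 65)
  (Net.cons (nat_lit 2) (nat_lit 34)
  Net.nil))))
noncomputable def m58n1 : Net := (Net.cons (nat_lit 2) (nat_lit 17)
  (Net.cons (nat_lit 1) (nat_lit 20)
  (Net.cons (nat_lit 2) (nat_lit 2)
  (Net.cons (nat_lit 4) (nat_lit 4)
  Net.nil))))
noncomputable def m58n2 : Net := (Net.cons (nat_lit 4) (nat_lit 4)
  (Net.cons (nat_lit 2) (nat_lit 32)
  (Net.cons (nat_lit 1) (nat_lit 68)
  (Net.cons (nat_lit 2) (nat_lit 32)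
  (Net.cons (nat_lit 4) (nat_lit 4)
  Net.nil)))))
noncomputable def m58n3 : Net := (Net.cons (nat_lit 4) (nat_lit 4)
  (Net.cons (nat_lit 2) (nat_lit 32)
  (Net.cons (nat_lit 1) (nat_lit 68)
  (Net.cons (nat_lit 2) (nat_lit 32)
  (Net.cons (nat_lit 4) (nat_lit 4)
  Net.nil)))))
noncomputable def m58l : List Net := [m58n0,m58n1,m58n2,m58n3]
noncomputable abbrev m58 : ℕ → Net := lk Net.nil m58l
theorem m58ok : NetsOk 7 m58 vT := netsOk_of (by decide +kernel)
theorem m58s0 : Sat io [] (finG m58ok) := fin_sat_nil _ (k := 3) (n := 10) (by decide +kernel)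
noncomputable def r1 : List ℕ := [2,2]
noncomputable def r2 : List ℕ := [2,0,2,0,2,0,2,0]
noncomputable def r3 : List ℕ := [2,0,0,2,0,0,2,0,0]
noncomputable def r4 : List ℕ := [3,1,1,1,3,0,3,0,2,1,2,0,0,0,2,1,1]
noncomputable def m59n0 : Net := (Net.cons (nat_lit 12) (nat_lit 2560)
  (Net.cons (nat_lit 6) (nat_lit 57388)
  (Net.cons (nat_lit 3) (nat_lit 0x1470c2)
  (Net.cons (nat_lit 1) (nat_lit 0x48000)
  (Net.cons (nat_lit 1) (nat_lit 0x90482)
  (Net.cons (nat_lit 1) (nat_lit 37384)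
  (Net.cons (nat_lit 3) (nat_lit 0x100002)
  (Net.cons (nat_lit 6) (nat_lit 32802)
  (Net.cons (nat_lit 12) (nat_lit 2176)
  Net.nil)))))))))
noncomputable def m59n1 : Net := (Net.cons (nat_lit 12) (nat_lit 2176)
  (Net.cons (nat_lit 6) (nat_lit 0x19022)
  (Net.cons (nat_lit 3) (nat_lit 0xc71c2)
  (Net.cons (nat_lit 1) (nat_lit 4160)
  (Net.cons (nat_lit 1) (nat_lit 0x402482)
  (Net.cons (nat_lit 1) (nat_lit 0x209008)
  (Net.cons (nat_lit 3) (nat_lit 8450)
  (Net.cons (nat_lit 6) (nat_lit 0x1c02c)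
  (Net.cons (nat_lit 12) (nat_lit 2560)
  Net.nil)))))))))
noncomputable def m59n2 : Net := (Net.cons (nat_lit 12) (nat_lit 1989)
  (Net.cons (nat_lit 6) (nat_lit 0x1e034)
  (Net.cons (nat_lit 3) (nat_lit 0x182080)
  (Net.cons (nat_lit 1) (nat_lit 32833)
  (Net.cons (nat_lit 1) (nat_lit 0x92092)
  (Net.cons (nat_lit 1) (nat_lit 0x41008)
  (Net.cons (nat_lit 3) (nat_lit 0x80182)
  (Net.cons (nat_lit 6) (nat_lit 0x3000e)
  (Net.cons (nat_lit 12) (nat_lit 2106)
  Net.nil)))))))))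
noncomputable def m59n3 : Net := (Net.cons (nat_lit 12) (nat_lit 1989)
  (Net.cons (nat_lit 6) (nat_lit 0x1e034)
  (Net.cons (nat_lit 3) (nat_lit 0x182080)
  (Net.cons (nat_lit 1) (nat_lit 32833)
  (Net.cons (nat_lit 1) (nat_lit 0x92092)
  (Net.cons (nat_lit 1) (nat_lit 0x41008)
  (Net.cons (nat_lit 3) (nat_lit 0x80182)
  (Net.cons (nat_lit 6) (nat_lit 0x3000e)
  (Net.cons (nat_lit 12) (nat_lit 2106)
  Net.nil)))))))))
noncomputable def m59l : List Net := [m59n0,m59n1,m59n2,m59n3]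
noncomputable abbrev m59 : ℕ → Net := lk Net.nil m59l
theorem m59ok : NetsOk 24 m59 vT := netsOk_of (by decide +kernel)
theorem m59s0 : Sat io [] (finG m59ok) := fin_sat_nil _ (k := 5) (n := 10) (by decide +kernel)
noncomputable def C60 : List (List ℕ) := [r0,r1,r2,r3,r4]
theorem cl61 : Clo.{u} io C60 [0,1] 24 m59 1 (mkB []) := Clo.start (by decide +kernel)
theorem imp62 : Imp.{u} io C60 C4 := Imp.of_chk (pfs := [[([],1)]]) (by decide +kernel)
theorem ix63 : Idx.{u} io C60 [0,1] [] 7 := (Idx.triv bd56 (by norm_num)).of_imp imp62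
noncomputable def lk64 : List (List ℕ × List ℕ × Pf) := []
noncomputable def O65 : ℕ := (nat_lit 1374)
noncomputable def M66 : ℕ := (nat_lit 1375)
noncomputable def b67 : ℕ := (nat_lit 1)
theorem cl68 : Clo.{u} io C60 [0,1] 24 m59 M66 (mkB [(2,b67)]) := cl61.new (k := 2) (b := 2) (q := 0) (p := 1) (r := 200) (n := 7) (O := O65) (by decide +kernel) (lks := lk64) (by decide +kernel) (gens_of_lall2 (m := []) (by decide +kernel)) ix63 (by decide +kernel)
noncomputable def b69 : ℕ := (nat_lit 83)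
noncomputable def b70 : ℕ := (nat_lit 83)
theorem cl71 : Clo.{u} io C60 [0,1] 24 m59 M66 (mkB [(2,b69),(3,b70)]) := cl68.ops (os := [Op.inv 2,Op.rel 2 [] 3 [] [([],3)],Op.inv 2,Op.rel 2 [0,0] 3 [1,1,3,1,1] [([3],7)],Op.inv 2,Op.rel 2 [] 3 [] [([],3)],Op.inv 2]) (by decide +kernel) (by decide +kernel)
theorem ix72 : Idx.{u} io C60 [0,1] [] 7 := (Idx.triv bd56 (by norm_num)).of_imp imp62
noncomputable def lk73 : List (List ℕ × List ℕ × Pf) := []
noncomputable def O74 : ℕ := (nat_lit 0x4aaa0)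
noncomputable def M75 : ℕ := (nat_lit 0x4afff)
noncomputable def b76 : ℕ := (nat_lit 87)
theorem cl77 : Clo.{u} io C60 [0,1] 24 m59 M75 (mkB [(2,b76),(3,b70)]) := cl71.new (k := 2) (b := 2) (q := 2) (p := 5) (r := 200) (n := 7) (O := O74) (by decide +kernel) (lks := lk73) (by decide +kernel) (gens_of_lall2 (m := []) (by decide +kernel)) ix72 (by decide +kernel)
noncomputable def b78 : ℕ := (nat_lit 2815)
noncomputable def b79 : ℕ := (nat_lit 2815)
theorem cl80 : Clo.{u} io C60 [0,1] 24 m59 M75 (mkB [(2,b78),(3,b79)]) := cl77.ops (os := [Op.inv 2,Op.rel 2 [] 3 [] [([],3)],Op.inv 2,Op.rel 2 [0] 3 [1,3,1,3,1] [([3],5)],Op.inv 2,Op.rel 2 [] 3 [] [([],3)],Op.inv 2,Op.rel 2 [0] 3 [1,3,1,3,1] [([3],5)],Op.inv 2,Op.rel 2 [] 3 [] [([],3)],Op.inv 2]) (by decide +kernel) (by decide +kernel)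
theorem der82 : Der 7 (finX 7) (cl (finG m2ok) [[1,1]]) (fun _ => Net.nil) := Der.zero (finModel m2ok).inj
noncomputable def x83 : Net := (Net.cons (nat_lit 4) (nat_lit 13)
  (Net.cons (nat_lit 2) (nat_lit 16)
  (Net.cons (nat_lit 1) (nat_lit 80)
  (Net.cons (nat_lit 4) (nat_lit 10)
  Net.nil))))
noncomputable def ns84 : ℕ → Net := upd (fun _ => Net.nil) 0 x83
theorem der85 : Der 7 (finX 7) (cl (finG m2ok) [[1,1]]) ns84 := der82.add (wp_mem_cl (w := [1,1]) (by decide)) ((finModel m2ok).toIsPre.rep_word (k := 3) (w := [1,1]) (n := x83) (by decide +kernel)) 0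
noncomputable def L86 : Lev := Lev.cons 0 7 [[0]] Lev.nil
theorem lc87 : Lev.chk 7 0 ns84 vT 100 L86 = true := by decide +kernel
theorem lb88 : 7 ≤ Nat.card (cl (finG m2ok) [[1,1]]) := le_of_eq_of_le (by decide +kernel) (der85.card_ge lc87)
theorem sat89 : Sat io C4 (finG m2ok) := m2s0.fin (k := 3) (by decide +kernel)
theorem ix81 : Idx.{u} io C60 [0,1] [[1,1]] 1 := (Idx.of bd56 sat89 (by decide +kernel) lb88 (by decide +kernel)).of_imp imp62
noncomputable def lk90 : List (List ℕ × List ℕ × Pf) := [([1,1],[1,1,1,3,0,3,1,2,1,2,0,0,0],[([3,1,1,1,3,0,3,1,2,1,2,0,0,0,2],9)])]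
noncomputable def O91 : ℕ := (nat_lit 0x800000)
noncomputable def M92 : ℕ := (nat_lit 0x84afff)
noncomputable def b93 : ℕ := (nat_lit 0x40aff)
theorem cl94 : Clo.{u} io C60 [0,1] 24 m59 M92 (mkB [(2,b78),(3,b93)]) := cl80.new (k := 2) (b := 3) (q := 18) (p := 23) (r := 200) (n := 1) (O := O91) (by decide +kernel) (lks := lk90) (by decide +kernel) (gens_of_lall2 (m := [[0]]) (by decide +kernel)) ix81 (by decide +kernel)
noncomputable def b95 : ℕ := (nat_lit 0x840aff)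
noncomputable def b96 : ℕ := (nat_lit 0x840aff)
theorem cl97 : Clo.{u} io C60 [0,1] 24 m59 M92 (mkB [(2,b95),(3,b96)]) := cl94.ops (os := [Op.inv 3,Op.rel 2 [] 3 [] [([],3)],Op.inv 2]) (by decide +kernel) (by decide +kernel)
theorem ix98 : Idx.{u} io C60 [0,1] [] 7 := (Idx.triv bd56 (by norm_num)).of_imp imp62
noncomputable def lk99 : List (List ℕ × List ℕ × Pf) := []
noncomputable def O100 : ℕ := (nat_lit 0x3b5000)
noncomputable def M101 : ℕ := (nat_lit 0xbfffff)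
noncomputable def b102 : ℕ := (nat_lit 0x842aff)
theorem cl103 : Clo.{u} io C60 [0,1] 24 m59 M101 (mkB [(2,b102),(3,b96)]) := cl97.new (k := 2) (b := 2) (q := 13) (p := 19) (r := 200) (n := 7) (O := O100) (by decide +kernel) (lks := lk99) (by decide +kernel) (gens_of_lall2 (m := []) (by decide +kernel)) ix98 (by decide +kernel)
noncomputable def b104 : ℕ := (nat_lit 0xbdffff)
noncomputable def b105 : ℕ := (nat_lit 0xbdffff)
theorem cl106 : Clo.{u} io C60 [0,1] 24 m59 M101 (mkB [(2,b104),(3,b105)]) := cl103.ops (os := [Op.inv 2,Op.rel 2 [] 3 [] [([],3)],Op.inv 2,Op.rel 2 [0] 3 [1,3,1,3,1] [([3],5)],Op.inv 2,Op.rel 2 [] 3 [] [([],3)],Op.inv 2,Op.rel 2 [0] 3 [1,3,1,3,1] [([3],5)],Op.inv 2,Op.rel 2 [] 3 [] [([],3)],Op.inv 2,Op.rel 2 [0,0] 3 [1,1,3,1,1] [([3],7)],Op.inv 2,Op.rel 2 [] 3 [] [([],3)],Op.inv 2]) (by decide +kernel) (by decide +kernel)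
theorem der108 : Der 7 (finX 7) (cl (finG m2ok) [[0]]) (fun _ => Net.nil) := Der.zero (finModel m2ok).inj
noncomputable def ns109 : ℕ → Net := upd (fun _ => Net.nil) 0 (m2 0)
theorem der110 : Der 7 (finX 7) (cl (finG m2ok) [[0]]) ns109 := der108.add (wp_mem_cl (w := [0]) (by decide)) (rep_letter (finModel m2ok) 0) 0
noncomputable def L111 : Lev := Lev.cons 0 7 [[0]] Lev.nil
theorem lc112 : Lev.chk 7 0 ns109 vT 100 L111 = true := by decide +kernel
theorem lb113 : 7 ≤ Nat.card (cl (finG m2ok) [[0]]) := le_of_eq_of_le (by decide +kernel) (der110.card_ge lc112)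
theorem ix107 : Idx.{u} io C60 [0,1] [[0]] 1 := (Idx.of bd56 sat89 (by decide +kernel) lb113 (by decide +kernel)).of_imp imp62
noncomputable def lk114 : List (List ℕ × List ℕ × Pf) := [([0],[1,2,0,0,0,2,0,0,3,1,1,1,3,0],[([2,1,2,0,0,0,2],9)])]
noncomputable def O115 : ℕ := (nat_lit 0x400000)
noncomputable def M116 : ℕ := (nat_lit 0xffffff)
noncomputable def b117 : ℕ := (nat_lit 0xbfffff)
theorem cl118 : Clo.{u} io C60 [0,1] 24 m59 M116 (mkB [(2,b117),(3,b105)]) := cl106.new (k := 2) (b := 2) (q := 17) (p := 22) (r := 200) (n := 1) (O := O115) (by decide +kernel) (lks := lk114) (by decide +kernel) (gens_of_lall2 (m := [[0]]) (by decide +kernel)) ix107 (by decide +kernel)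
noncomputable def b119 : ℕ := (nat_lit 0xffffff)
noncomputable def b120 : ℕ := (nat_lit 0xffffff)
theorem cl121 : Clo.{u} io C60 [0,1] 24 m59 M116 (mkB [(2,b119),(3,b120)]) := cl118.ops (os := [Op.inv 2,Op.rel 2 [] 3 [] [([],3)],Op.inv 2]) (by decide +kernel) (by decide +kernel)
theorem sat123 : Sat io C60 (finG m59ok) := m59s0.fin (k := 5) (by decide +kernel)
theorem bd122 : Bound.{u} io C60 [0,1,2,3] 168 := cl121.bound (by decide +kernel) sat123 (bd56.of_imp imp62)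
noncomputable def m124n0 : Net := (Net.cons (nat_lit 32) (nat_lit 0x5a2400c1)
  (Net.cons (nat_lit 16) (nat_lit 0x3cac0000d0b4)
  (Net.cons (nat_lit 8) (nat_lit 0x78005700a80010)
  (Net.cons (nat_lit 4) (nat_lit 0xa080f0c02050308)
  (Net.cons (nat_lit 2) (nat_lit 0x201322301132020)
  (Net.cons (nat_lit 1) (nat_lit 0x5414010441141541)
  (Net.cons (nat_lit 2) (nat_lit 0x222020202220022)
  (Net.cons (nat_lit 4) (nat_lit 0xe0206040204000c)
  (Net.cons (nat_lit 8) (nat_lit 0x200006001800b8)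
  (Net.cons (nat_lit 16) (nat_lit 0x2e48000075f6)
  (Net.cons (nat_lit 32) (nat_lit 0x5a445004)
  Net.nil)))))))))))
noncomputable def m124n1 : Net := (Net.cons (nat_lit 32) (nat_lit 0xa9b1adf9)
  (Net.cons (nat_lit 16) (nat_lit 0x75fe0000b923)
  (Net.cons (nat_lit 8) (nat_lit 0x1800aa00fd00fa)
  (Net.cons (nat_lit 4) (nat_lit 0x209020b010b0202)
  (Net.cons (nat_lit 2) (nat_lit 0x131200330112201)
  (Net.cons (nat_lit 1) (nat_lit 0x4414011515510410)
  (Net.cons (nat_lit 2) (nat_lit 0x202000000020000)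
  (Net.cons (nat_lit 4) (nat_lit 0x2020a0e0a000002)
  (Net.cons (nat_lit 8) (nat_lit 0xa80080008800aa)
  (Net.cons (nat_lit 16) (nat_lit 0xd4b40000fbb2)
  (Net.cons (nat_lit 32) (nat_lit 0xa94bf72e)
  Net.nil)))))))))))
noncomputable def m124n2 : Net := (Net.cons (nat_lit 32) (nat_lit 0x2083a154)
  (Net.cons (nat_lit 16) (nat_lit 0x24780000db90)
  (Net.cons (nat_lit 8) (nat_lit 0x90001e00600000)
  (Net.cons (nat_lit 4) (nat_lit 0x8040a09020c0002)
  (Net.cons (nat_lit 2) (nat_lit 0x23230220102212)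
  (Net.cons (nat_lit 1) (nat_lit 0x1440101141010401)
  (Net.cons (nat_lit 2) (nat_lit 0x20002220000202)
  (Net.cons (nat_lit 4) (nat_lit 0x804000002040000)
  (Net.cons (nat_lit 8) (nat_lit 0x90002600600000)
  (Net.cons (nat_lit 16) (nat_lit 0x247800008390)
  (Net.cons (nat_lit 32) (nat_lit 0x2083a154)
  Net.nil)))))))))))
noncomputable def m124n3 : Net := (Net.cons (nat_lit 32) (nat_lit 0x2083a154)
  (Net.cons (nat_lit 16) (nat_lit 0x24780000db90)
  (Net.cons (nat_lit 8) (nat_lit 0x90001e00600000)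
  (Net.cons (nat_lit 4) (nat_lit 0x8040a09020c0002)
  (Net.cons (nat_lit 2) (nat_lit 0x23230220102212)
  (Net.cons (nat_lit 1) (nat_lit 0x1440101141010401)
  (Net.cons (nat_lit 2) (nat_lit 0x20002220000202)
  (Net.cons (nat_lit 4) (nat_lit 0x804000002040000)
  (Net.cons (nat_lit 8) (nat_lit 0x90002600600000)
  (Net.cons (nat_lit 16) (nat_lit 0x247800008390)
  (Net.cons (nat_lit 32) (nat_lit 0x2083a154)
  Net.nil)))))))))))
noncomputable def m124n4 : Net := (Net.cons (nat_lit 32) (nat_lit 0x103b00a0)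
  (Net.cons (nat_lit 16) (nat_lit 0x153a0000dd30)
  (Net.cons (nat_lit 8) (nat_lit 0x1c000400c00072)
  (Net.cons (nat_lit 4) (nat_lit 0x40e0e0605010100)
  (Net.cons (nat_lit 2) (nat_lit 0x1220302013311322)
  (Net.cons (nat_lit 1) (nat_lit 0x145541414411444)
  (Net.cons (nat_lit 2) (nat_lit 0x220002002200222)
  (Net.cons (nat_lit 4) (nat_lit 0x40e0e0402060600)
  (Net.cons (nat_lit 8) (nat_lit 0x1c000400400072)
  (Net.cons (nat_lit 16) (nat_lit 0x153a0000d530)
  (Net.cons (nat_lit 32) (nat_lit 0x103b00a0)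
  Net.nil)))))))))))
noncomputable def m124n5 : Net := (Net.cons (nat_lit 32) (nat_lit 0x103b00a0)
  (Net.cons (nat_lit 16) (nat_lit 0x153a0000dd30)
  (Net.cons (nat_lit 8) (nat_lit 0x1c000400c00072)
  (Net.cons (nat_lit 4) (nat_lit 0x40e0e0605010100)
  (Net.cons (nat_lit 2) (nat_lit 0x1220302013311322)
  (Net.cons (nat_lit 1) (nat_lit 0x145541414411444)
  (Net.cons (nat_lit 2) (nat_lit 0x220002002200222)
  (Net.cons (nat_lit 4) (nat_lit 0x40e0e0402060600)
  (Net.cons (nat_lit 8) (nat_lit 0x1c000400400072)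
  (Net.cons (nat_lit 16) (nat_lit 0x153a0000d530)
  (Net.cons (nat_lit 32) (nat_lit 0x103b00a0)
  Net.nil)))))))))))
noncomputable def m124l : List Net := [m124n0,m124n1,m124n2,m124n3,m124n4,m124n5]
noncomputable abbrev m124 : ℕ → Net := lk Net.nil m124l
theorem m124ok : NetsOk 56 m124 vT := netsOk_of (by decide +kernel)
theorem m124s0 : Sat io [] (finG m124ok) := fin_sat_nil _ (k := 6) (n := 10) (by decide +kernel)
noncomputable def r5 : List ℕ := [4,4]
noncomputable def r6 : List ℕ := [5,2,4,3]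
noncomputable def r7 : List ℕ := [4,0,3,0,0,0,2,0,5,1,3,1,1,1,3,1]
noncomputable def r8 : List ℕ := [5,1,3,0,3,1,2,0,4,1,1,1,3,1,3,0,0,3]
noncomputable def r9 : List ℕ := [5,1,5,1,2,4,0,4,0,3]
noncomputable def r10 : List ℕ := [5,1,1,1,3,4,0,0,0,4,1,1,1,3,0,0,0]
noncomputable def m125n0 : Net := (Net.cons (nat_lit 20) (nat_lit 0x9ba44)
  (Net.cons (nat_lit 10) (nat_lit 0x160001c)
  (Net.cons (nat_lit 5) (nat_lit 0x681d0540a)
  (Net.cons (nat_lit 1) (nat_lit 0x400080a0)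
  (Net.cons (nat_lit 1) (nat_lit 0x90210140)
  (Net.cons (nat_lit 1) (nat_lit 0x210a4200a4)
  (Net.cons (nat_lit 1) (nat_lit 0x1204a5094a)
  (Net.cons (nat_lit 1) (nat_lit 0x290a5294a0)
  (Net.cons (nat_lit 5) (nat_lit 0x600007018)
  (Net.cons (nat_lit 10) (nat_lit 0x62000b4)
  (Net.cons (nat_lit 20) (nat_lit 0x92b62)
  Net.nil)))))))))))
noncomputable def m125n1 : Net := (Net.cons (nat_lit 20) (nat_lit 0x92b62)
  (Net.cons (nat_lit 10) (nat_lit 0x62000b4)
  (Net.cons (nat_lit 5) (nat_lit 0x441f00c1a)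
  (Net.cons (nat_lit 1) (nat_lit 0x1001000a0)
  (Net.cons (nat_lit 1) (nat_lit 0x290202140)
  (Net.cons (nat_lit 1) (nat_lit 0x14a4294a0)
  (Net.cons (nat_lit 1) (nat_lit 0x94a1294a)
  (Net.cons (nat_lit 1) (nat_lit 0x9481014a4)
  (Net.cons (nat_lit 5) (nat_lit 0x400202802)
  (Net.cons (nat_lit 10) (nat_lit 0x160001c)
  (Net.cons (nat_lit 20) (nat_lit 0x9ba44)
  Net.nil)))))))))))
noncomputable def m125n2 : Net := (Net.cons (nat_lit 20) (nat_lit 0x23600)
  (Net.cons (nat_lit 10) (nat_lit 0x18002d0)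
  (Net.cons (nat_lit 5) (nat_lit 0x30100000c)
  (Net.cons (nat_lit 1) (nat_lit 0x40000000)
  (Net.cons (nat_lit 1) (nat_lit 0x280002940)
  (Net.cons (nat_lit 1) (nat_lit 0x14a4010a0)
  (Net.cons (nat_lit 1) (nat_lit 0x284a02940)
  (Net.cons (nat_lit 1) (nat_lit 0x204a428000)
  (Net.cons (nat_lit 5) (nat_lit 0x301000004)
  (Net.cons (nat_lit 10) (nat_lit 0x18002d0)
  (Net.cons (nat_lit 20) (nat_lit 0x23600)
  Net.nil)))))))))))
noncomputable def m125n3 : Net := (Net.cons (nat_lit 20) (nat_lit 0x23600)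
  (Net.cons (nat_lit 10) (nat_lit 0x18002d0)
  (Net.cons (nat_lit 5) (nat_lit 0x30100000c)
  (Net.cons (nat_lit 1) (nat_lit 0x40000000)
  (Net.cons (nat_lit 1) (nat_lit 0x280002940)
  (Net.cons (nat_lit 1) (nat_lit 0x14a4010a0)
  (Net.cons (nat_lit 1) (nat_lit 0x284a02940)
  (Net.cons (nat_lit 1) (nat_lit 0x204a428000)
  (Net.cons (nat_lit 5) (nat_lit 0x301000004)
  (Net.cons (nat_lit 10) (nat_lit 0x18002d0)
  (Net.cons (nat_lit 20) (nat_lit 0x23600)
  Net.nil)))))))))))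
noncomputable def m125n4 : Net := (Net.cons (nat_lit 20) (nat_lit 3328)
  (Net.cons (nat_lit 10) (nat_lit 0x5800238)
  (Net.cons (nat_lit 5) (nat_lit 0x100801814)
  (Net.cons (nat_lit 1) (nat_lit 0x140000000)
  (Net.cons (nat_lit 1) (nat_lit 0x280000000)
  (Net.cons (nat_lit 1) (nat_lit 0x140020004)
  (Net.cons (nat_lit 1) (nat_lit 0x1280052848)
  (Net.cons (nat_lit 1) (nat_lit 0x140401005)
  (Net.cons (nat_lit 5) (nat_lit 0x100806014)
  (Net.cons (nat_lit 10) (nat_lit 0x5800218)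
  (Net.cons (nat_lit 20) (nat_lit 3328)
  Net.nil)))))))))))
noncomputable def m125n5 : Net := (Net.cons (nat_lit 20) (nat_lit 3328)
  (Net.cons (nat_lit 10) (nat_lit 0x5800238)
  (Net.cons (nat_lit 5) (nat_lit 0x100801814)
  (Net.cons (nat_lit 1) (nat_lit 0x140000000)
  (Net.cons (nat_lit 1) (nat_lit 0x280000000)
  (Net.cons (nat_lit 1) (nat_lit 0x140020004)
  (Net.cons (nat_lit 1) (nat_lit 0x1280052848)
  (Net.cons (nat_lit 1) (nat_lit 0x140401005)
  (Net.cons (nat_lit 5) (nat_lit 0x100806014)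
  (Net.cons (nat_lit 10) (nat_lit 0x5800218)
  (Net.cons (nat_lit 20) (nat_lit 3328)
  Net.nil)))))))))))
noncomputable def m125l : List Net := [m125n0,m125n1,m125n2,m125n3,m125n4,m125n5]
noncomputable abbrev m125 : ℕ → Net := lk Net.nil m125l
theorem m125ok : NetsOk 36 m125 vT := netsOk_of (by decide +kernel)
theorem m125s0 : Sat io [] (finG m125ok) := fin_sat_nil _ (k := 6) (n := 10) (by decide +kernel)
noncomputable def C126 : List (List ℕ) := [r0,r1,r2,r3,r4,r5,r6,r7,r8,r9,r10]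
theorem cl127 : Clo.{u} io C126 [0,1,2,3] 36 m125 1 (mkB []) := Clo.start (by decide +kernel)
theorem imp128 : Imp.{u} io C126 C60 := Imp.of_chk (pfs := [[([],1)],[([],3)],[([],5)],[([],7)],[([],9)]]) (by decide +kernel)
theorem der130 : Der 7 (finX 7) (cl (finG m58ok) [[2],[1,3,1,1,1,3,1],[1,3,0,3,1,2,0]]) (fun _ => Net.nil) := Der.zero (finModel m58ok).inj
noncomputable def ns131 : ℕ → Net := upd (fun _ => Net.nil) 0 (m58 2)
theorem der132 : Der 7 (finX 7) (cl (finG m58ok) [[2],[1,3,1,1,1,3,1],[1,3,0,3,1,2,0]]) ns131 := der130.add (wp_mem_cl (w := [2]) (by decide)) (rep_letter (finModel m58ok) 2) 0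
noncomputable def x133 : Net := (Net.cons (nat_lit 4) (nat_lit 6)
  (Net.cons (nat_lit 1) (nat_lit 20)
  (Net.cons (nat_lit 2) (nat_lit 2)
  (Net.cons (nat_lit 4) (nat_lit 2)
  Net.nil))))
noncomputable def ns134 : ℕ → Net := upd ns131 1 x133
theorem der135 : Der 7 (finX 7) (cl (finG m58ok) [[2],[1,3,1,1,1,3,1],[1,3,0,3,1,2,0]]) ns134 := der132.add (wp_mem_cl (w := [1,3,1,1,1,3,1]) (by decide)) ((finModel m58ok).toIsPre.rep_word (k := 3) (w := [1,3,1,1,1,3,1]) (n := x133) (by decide +kernel)) 1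
noncomputable def x136 : Net := (Net.cons (nat_lit 4) (nat_lit 2)
  (Net.cons (nat_lit 2) (nat_lit 2)
  (Net.cons (nat_lit 1) (nat_lit 20)
  (Net.cons (nat_lit 2) (nat_lit 2)
  (Net.cons (nat_lit 4) (nat_lit 2)
  Net.nil)))))
noncomputable def ns137 : ℕ → Net := upd ns134 2 x136
theorem der138 : Der 7 (finX 7) (cl (finG m58ok) [[2],[1,3,1,1,1,3,1],[1,3,0,3,1,2,0]]) ns137 := der135.add (wp_mem_cl (w := [1,3,0,3,1,2,0]) (by decide)) ((finModel m58ok).toIsPre.rep_word (k := 3) (w := [1,3,0,3,1,2,0]) (n := x136) (by decide +kernel)) 2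
noncomputable def L139 : Lev := Lev.cons 1 2 [[2]] Lev.nil
noncomputable def L140 : Lev := Lev.cons 3 4 [[0],[1]] L139
theorem lc141 : Lev.chk 7 0 ns137 vT 100 L140 = true := by decide +kernel
theorem lb142 : 8 ≤ Nat.card (cl (finG m58ok) [[2],[1,3,1,1,1,3,1],[1,3,0,3,1,2,0]]) := le_of_eq_of_le (by decide +kernel) (der138.card_ge lc141)
theorem sat143 : Sat io C60 (finG m58ok) := m58s0.fin (k := 3) (by decide +kernel)
theorem ix129 : Idx.{u} io C126 [0,1,2,3] [[2],[1,3,1,1,1,3,1],[1,3,0,3,1,2,0]] 21 := (Idx.of bd122 sat143 (by decide +kernel) lb142 (by decide +kernel)).of_imp imp128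
noncomputable def lk144 : List (List ℕ × List ℕ × Pf) := [([2],[2],[([4],13)]),([1,3,1,1,1,3,1],[1,3,1,1,1,2,1],[([4,1,3,1,1,1,2,1,5],15)]),([1,3,0,3,1,2,0],[2,1,1,2,0,2,0,0,0],[([4],17)])]
noncomputable def O145 : ℕ := (nat_lit 0xc93366dbe)
noncomputable def M146 : ℕ := (nat_lit 0xc93366dbf)
noncomputable def b147 : ℕ := (nat_lit 1)
theorem cl148 : Clo.{u} io C126 [0,1,2,3] 36 m125 M146 (mkB [(4,b147)]) := cl127.new (k := 3) (b := 4) (q := 0) (p := 1) (r := 200) (n := 21) (O := O145) (by decide +kernel) (lks := lk144) (by decide +kernel) (gens_of_lall2 (m := [[0],[1],[2]]) (by decide +kernel)) ix129 (by decide +kernel)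
noncomputable def b149 : ℕ := (nat_lit 0xc93326403)
noncomputable def b150 : ℕ := (nat_lit 0xc93326403)
theorem cl151 : Clo.{u} io C126 [0,1,2,3] 36 m125 M146 (mkB [(4,b149),(5,b150)]) := cl148.ops (os := [Op.inv 4,Op.rel 4 [] 5 [] [([],11)],Op.inv 4,Op.rel 5 [1,1,1,3,0,0,0] 5 [1,1,1,5,2,0,0,0] [([5,1,1,1,5,2,0,0,0,4],21)],Op.ext 5 2 [([3],[3],[([5,3,4],13)]),([2],[2],[([],12)]),([0,3,0,0,0,2,0],[0,2,0,0,0,2,0],[([5],15)]),([1,3,1,1,1,2,1],[1,3,1,1,1,3,1],[([5,1,3,1,1,1,3,1],14)]),([1,1,1,3,1,3,0,0,3],[1,3,0,2,1,2,0],[([5,1,3,0,2,1,2,0,4],17)]),([2,1,1,2,0,2,0,0,0],[1,3,0,3,1,2,0],[([],16)])],Op.inv 5,Op.rel 5 [0,3] 5 [1,5,3,0,4,0] [([5,1,5,3,0,4,0,4],19)],Op.ext 5 2 [([3],[3],[([5,3,4],13)]),([2],[2],[([],12)]),([0,3,0,0,0,2,0],[0,2,0,0,0,2,0],[([5],15)]),([1,3,1,1,1,2,1],[1,3,1,1,1,3,1],[([5,1,3,1,1,1,3,1],14)]),([1,1,1,3,1,3,0,0,3],[1,3,0,2,1,2,0],[([5,1,3,0,2,1,2,0,4],17)]),([2,1,1,2,0,2,0,0,0],[1,3,0,3,1,2,0],[([],16)])],Op.inv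 5,Op.rel 5 [0,3] 5 [1,5,3,0,4,0] [([5,1,5,3,0,4,0,4],19)],Op.ext 5 2 [([3],[3],[([5,3,4],13)]),([2],[2],[([],12)]),([0,3,0,0,0,2,0],[0,2,0,0,0,2,0],[([5],15)]),([1,3,1,1,1,2,1],[1,3,1,1,1,3,1],[([5,1,3,1,1,1,3,1],14)]),([1,1,1,3,1,3,0,0,3],[1,3,0,2,1,2,0],[([5,1,3,0,2,1,2,0,4],17)]),([2,1,1,2,0,2,0,0,0],[1,3,0,3,1,2,0],[([],16)])],Op.inv 5]) (by decide +kernel) (by decide +kernel)
theorem der153 : Der 7 (finX 7) (cl (finG m58ok) [[1,2],[0,2,0,0,0,2,0,2,0,0,0,2],[1,3,1,1,1,3,1,1,3,0,3,1,2,0]]) (fun _ => Net.nil) := Der.zero (finModel m58ok).inj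
noncomputable def x154 : Net := (Net.cons (nat_lit 2) (nat_lit 3)
  (Net.cons (nat_lit 1) (nat_lit 20)
  (Net.cons (nat_lit 2) (nat_lit 2)
  (Net.cons (nat_lit 4) (nat_lit 4)
  Net.nil))))
noncomputable def ns155 : ℕ → Net := upd (fun _ => Net.nil) 0 x154
theorem der156 : Der 7 (finX 7) (cl (finG m58ok) [[1,2],[0,2,0,0,0,2,0,2,0,0,0,2],[1,3,1,1,1,3,1,1,3,0,3,1,2,0]]) ns155 := der153.add (wp_mem_cl (w := [1,2]) (by decide)) ((finModel m58ok).toIsPre.rep_word (k := 3) (w := [1,2]) (n := x154) (by decide +kernel)) 0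
noncomputable def x157 : Net := (Net.cons (nat_lit 4) (nat_lit 2)
  (Net.cons (nat_lit 2) (nat_lit 33)
  (Net.cons (nat_lit 1) (nat_lit 64)
  (Net.cons (nat_lit 2) (nat_lit 32)
  (Net.cons (nat_lit 4) (nat_lit 2)
  Net.nil)))))
noncomputable def ns158 : ℕ → Net := upd ns155 1 x157
theorem der159 : Der 7 (finX 7) (cl (finG m58ok) [[1,2],[0,2,0,0,0,2,0,2,0,0,0,2],[1,3,1,1,1,3,1,1,3,0,3,1,2,0]]) ns158 := der156.add (wp_mem_cl (w := [0,2,0,0,0,2,0,2,0,0,0,2]) (by decide)) ((finModel m58ok).toIsPre.rep_word (k := 3) (w := [0,2,0,0,0,2,0,2,0,0,0,2]) (n := x157) (by decide +kernel)) 1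
noncomputable def x160 : Net := (Net.cons (nat_lit 4) (nat_lit 12)
  (Net.cons (nat_lit 2) (nat_lit 32)
  (Net.cons (nat_lit 4) (nat_lit 8)
  Net.nil)))
noncomputable def ns161 : ℕ → Net := upd ns158 2 x160
theorem der162 : Der 7 (finX 7) (cl (finG m58ok) [[1,2],[0,2,0,0,0,2,0,2,0,0,0,2],[1,3,1,1,1,3,1,1,3,0,3,1,2,0]]) ns161 := der159.add (wp_mem_cl (w := [1,3,1,1,1,3,1,1,3,0,3,1,2,0]) (by decide)) ((finModel m58ok).toIsPre.rep_word (k := 3) (w := [1,3,1,1,1,3,1,1,3,0,3,1,2,0]) (n := x160) (by decide +kernel)) 2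
noncomputable def x163 : Net := (Net.cons (nat_lit 2) (nat_lit 2)
  (Net.cons (nat_lit 1) (nat_lit 20)
  (Net.cons (nat_lit 2) (nat_lit 2)
  Net.nil)))
noncomputable def x163s : ℕ → Net := upd ns161 3 x163
theorem der164 : Der 7 (finX 7) (cl (finG m58ok) [[1,2],[0,2,0,0,0,2,0,2,0,0,0,2],[1,3,1,1,1,3,1,1,3,0,3,1,2,0]]) x163s := der162.ext (k := 3) (w := [0,0,1,0,0,0]) 3 (by decide +kernel)
noncomputable def L165 : Lev := Lev.cons 2 2 [[2]] Lev.nil
noncomputable def L166 : Lev := Lev.cons 1 3 [[3]] L165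
noncomputable def L167 : Lev := Lev.cons 0 4 [[0],[1]] L166
theorem lc168 : Lev.chk 7 0 x163s vT 100 L167 = true := by decide +kernel
theorem lb169 : 24 ≤ Nat.card (cl (finG m58ok) [[1,2],[0,2,0,0,0,2,0,2,0,0,0,2],[1,3,1,1,1,3,1,1,3,0,3,1,2,0]]) := le_of_eq_of_le (by decide +kernel) (der164.card_ge lc168)
theorem ix152 : Idx.{u} io C126 [0,1,2,3] [[1,2],[0,2,0,0,0,2,0,2,0,0,0,2],[1,3,1,1,1,3,1,1,3,0,3,1,2,0]] 7 := (Idx.of bd122 sat143 (by decide +kernel) lb169 (by decide +kernel)).of_imp imp128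
noncomputable def lk170 : List (List ℕ × List ℕ × Pf) := [([1,2],[0,4,2,1,5,1],[([4,0,4],19)]),([0,2,0,0,0,2,0],[0,3,0,0,0,2,0],[([],14)]),([2,0,0,0],[0,0,0,4,1,1,1,3,0,0,0],[([4,0,0,0,4,1,1,1,3,0,0,0],20)]),([2],[2],[([4],13)]),([1,3,1,1,1,3,1],[1,3,1,1,1,2,1],[([4,1,3,1,1,1,2,1,5],15)]),([1,3,0,3,1,2,0],[2,1,1,2,0,2,0,0,0],[([4],17)])]
noncomputable def O171 : ℕ := (nat_lit 0x160098040)
noncomputable def M172 : ℕ := (nat_lit 0xdf33fedff)
noncomputable def b173 : ℕ := (nat_lit 0xc93326407)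
theorem cl174 : Clo.{u} io C126 [0,1,2,3] 36 m125 M172 (mkB [(4,b173),(5,b150)]) := cl151.new (k := 3) (b := 4) (q := 2) (p := 6) (r := 200) (n := 7) (O := O171) (by decide +kernel) (lks := lk170) (by decide +kernel) (gens_of_lall2 (m := [[0],[1,2,3],[4,5]]) (by decide +kernel)) ix152 (by decide +kernel)
noncomputable def b175 : ℕ := (nat_lit 0xcf33fe4e7)
noncomputable def b176 : ℕ := (nat_lit 0xcf33fe4e7)
theorem cl177 : Clo.{u} io C126 [0,1,2,3] 36 m125 M172 (mkB [(4,b175),(5,b176)]) := cl174.ops (os := [Op.ext 4 2 [([2],[2],[([4],13)]),([3],[3],[([4,3],12)]),([1,3,1,1,1,3,1],[1,3,1,1,1,2,1],[([4,1,3,1,1,1,2,1,5],15)]),([0,2,0,0,0,2,0],[0,3,0,0,0,2,0],[([],14)]),([1,3,0,3,1,2,0],[2,1,1,2,0,2,0,0,0],[([4],17)]),([1,3,0,2,1,2,0],[1,1,1,3,1,3,0,0,3],[([4,1,1,1,3,1,3,0,0,3],16)])],Op.inv 4,Op.rel 4 [] 5 [] [([],11)],Op.inv 4,Op.rel 5 [0,3] 5 [1,5,3,0,4,0] [([5,1,5,3,0,4,0,4],19)],Op.ext 5 2 [([3],[3],[([5,3,4],13)]),([2],[2],[([],12)]),([0,3,0,0,0,2,0],[0,2,0,0,0,2,0],[([5],15)]),([1,3,1,1,1,2,1],[1,3,1,1,1,3,1],[([5,1,3,1,1,1,3,1],14)]),([1,1,1,3,1,3,0,0,3],[1,3,0,2,1,2,0],[([5,1,3,0,2,1,2,0,4],17)]),([2,1,1,2,0,2,0,0,0],[1,3,0,3,1,2,0],[([],16)])],Op.inv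 5]) (by decide +kernel) (by decide +kernel)
theorem der179 : Der 7 (finX 7) (cl (finG m58ok) [[1,3,0,3,1,2,0],[0,0,0,0,2,0,0,0,2,1,1]]) (fun _ => Net.nil) := Der.zero (finModel m58ok).inj
noncomputable def x180 : Net := (Net.cons (nat_lit 4) (nat_lit 2)
  (Net.cons (nat_lit 2) (nat_lit 2)
  (Net.cons (nat_lit 1) (nat_lit 20)
  (Net.cons (nat_lit 2) (nat_lit 2)
  (Net.cons (nat_lit 4) (nat_lit 2)
  Net.nil)))))
noncomputable def ns181 : ℕ → Net := upd (fun _ => Net.nil) 0 x180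
theorem der182 : Der 7 (finX 7) (cl (finG m58ok) [[1,3,0,3,1,2,0],[0,0,0,0,2,0,0,0,2,1,1]]) ns181 := der179.add (wp_mem_cl (w := [1,3,0,3,1,2,0]) (by decide)) ((finModel m58ok).toIsPre.rep_word (k := 3) (w := [1,3,0,3,1,2,0]) (n := x180) (by decide +kernel)) 0
noncomputable def x183 : Net := (Net.cons (nat_lit 4) (nat_lit 15)
  (Net.cons (nat_lit 2) (nat_lit 48)
  (Net.cons (nat_lit 1) (nat_lit 16)
  (Net.cons (nat_lit 2) (nat_lit 32)
  (Net.cons (nat_lit 4) (nat_lit 12)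
  Net.nil)))))
noncomputable def ns184 : ℕ → Net := upd ns181 1 x183
theorem der185 : Der 7 (finX 7) (cl (finG m58ok) [[1,3,0,3,1,2,0],[0,0,0,0,2,0,0,0,2,1,1]]) ns184 := der182.add (wp_mem_cl (w := [0,0,0,0,2,0,0,0,2,1,1]) (by decide)) ((finModel m58ok).toIsPre.rep_word (k := 3) (w := [0,0,0,0,2,0,0,0,2,1,1]) (n := x183) (by decide +kernel)) 1
noncomputable def x186 : Net := (Net.cons (nat_lit 2) (nat_lit 2)
  (Net.cons (nat_lit 1) (nat_lit 20)
  (Net.cons (nat_lit 2) (nat_lit 2)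
  Net.nil)))
noncomputable def x186s : ℕ → Net := upd ns184 2 x186
theorem der187 : Der 7 (finX 7) (cl (finG m58ok) [[1,3,0,3,1,2,0],[0,0,0,0,2,0,0,0,2,1,1]]) x186s := der185.ext (k := 3) (w := [1,1,0,1,1]) 2 (by decide +kernel)
noncomputable def L188 : Lev := Lev.cons 1 4 [[0],[2]] Lev.nil
noncomputable def L189 : Lev := Lev.cons 0 6 [[1]] L188
theorem lc190 : Lev.chk 7 0 x186s vT 100 L189 = true := by decide +kernel
theorem lb191 : 24 ≤ Nat.card (cl (finG m58ok) [[1,3,0,3,1,2,0],[0,0,0,0,2,0,0,0,2,1,1]]) := le_of_eq_of_le (by decide +kernel) (der187.card_ge lc190)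
theorem ix178 : Idx.{u} io C126 [0,1,2,3] [[1,3,0,3,1,2,0],[0,0,0,0,2,0,0,0,2,1,1]] 7 := (Idx.of bd122 sat143 (by decide +kernel) lb191 (by decide +kernel)).of_imp imp128
noncomputable def lk192 : List (List ℕ × List ℕ × Pf) := [([1,3,0,3,1,2,0],[2,1,1,2,0,2,0,0,0],[([4],17)]),([3],[3],[([4,3],12)]),([2,0,0,0],[0,0,0,4,1,1,1,3,0,0,0],[([4,0,0,0,4,1,1,1,3,0,0,0],20)]),([0,2,0,0,0,2,0],[0,3,0,0,0,2,0],[([],14)]),([1,1,1,3],[1,1,1,2,0,0,0,5,1,1,1],[([4],21)]),([2],[2],[([4],13)])]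
noncomputable def O193 : ℕ := (nat_lit 0x20cc01200)
noncomputable def M194 : ℕ := (nat_lit 0xfffffffff)
noncomputable def b195 : ℕ := (nat_lit 0xcf33fe4ef)
theorem cl196 : Clo.{u} io C126 [0,1,2,3] 36 m125 M194 (mkB [(4,b195),(5,b176)]) := cl177.new (k := 3) (b := 4) (q := 3) (p := 9) (r := 200) (n := 7) (O := O193) (by decide +kernel) (lks := lk192) (by decide +kernel) (gens_of_lall2 (m := [[0],[1,2,3,4,5]]) (by decide +kernel)) ix178 (by decide +kernel)
noncomputable def b197 : ℕ := (nat_lit 0xfffffffff)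
noncomputable def b198 : ℕ := (nat_lit 0xfffffffff)
theorem cl199 : Clo.{u} io C126 [0,1,2,3] 36 m125 M194 (mkB [(4,b197),(5,b198)]) := cl196.ops (os := [Op.ext 4 2 [([2],[2],[([4],13)]),([3],[3],[([4,3],12)]),([1,3,1,1,1,3,1],[1,3,1,1,1,2,1],[([4,1,3,1,1,1,2,1,5],15)]),([0,2,0,0,0,2,0],[0,3,0,0,0,2,0],[([],14)]),([1,3,0,3,1,2,0],[2,1,1,2,0,2,0,0,0],[([4],17)]),([1,3,0,2,1,2,0],[1,1,1,3,1,3,0,0,3],[([4,1,1,1,3,1,3,0,0,3],16)])],Op.inv 4,Op.rel 4 [] 5 [] [([],11)],Op.inv 4,Op.rel 5 [0,3] 5 [1,5,3,0,4,0] [([5,1,5,3,0,4,0,4],19)],Op.inv 5,Op.rel 5 [0,3] 5 [1,5,3,0,4,0] [([5,1,5,3,0,4,0,4],19)],Op.inv 5]) (by decide +kernel) (by decide +kernel)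
theorem sat201 : Sat io C126 (finG m125ok) := m125s0.fin (k := 6) (by decide +kernel)
theorem bd200 : Bound.{u} io C126 [0,1,2,3,4,5] 6048 := cl199.bound (by decide +kernel) sat201 (bd122.of_imp imp128)
noncomputable def m202n0 : Net := (Net.cons (nat_lit 32) (nat_lit 0xd5360b85)
  (Net.cons (nat_lit 16) (nat_lit 0x620f00005321)
  (Net.cons (nat_lit 8) (nat_lit 0x2d0071004b00e0)
  (Net.cons (nat_lit 4) (nat_lit 0x1020e0d07030009)
  (Net.cons (nat_lit 2) (nat_lit 0x3112033103302020)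
  (Net.cons (nat_lit 1) (nat_lit 0x1504011514440411)
  (Net.cons (nat_lit 2) (nat_lit 0x2002000000002)
  (Net.cons (nat_lit 4) (nat_lit 0x404060004040408)
  (Net.cons (nat_lit 8) (nat_lit 0x8c00a8004000c2)
  (Net.cons (nat_lit 16) (nat_lit 0xf6a600007bc6)
  (Net.cons (nat_lit 32) (nat_lit 0xd5cd52c4)
  Net.nil)))))))))))
noncomputable def m202n1 : Net := (Net.cons (nat_lit 32) (nat_lit 0x2a32a53b)
  (Net.cons (nat_lit 16) (nat_lit 0x5be6000001d1)
  (Net.cons (nat_lit 8) (nat_lit 0x9f00e200e0003b)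
  (Net.cons (nat_lit 4) (nat_lit 0xb0b04030e0f0408)
  (Net.cons (nat_lit 2) (nat_lit 0x330202003211233)
  (Net.cons (nat_lit 1) (nat_lit 0x4111041104540454)
  (Net.cons (nat_lit 2) (nat_lit 0x200000002)
  (Net.cons (nat_lit 4) (nat_lit 0xc0800020e020200)
  (Net.cons (nat_lit 8) (nat_lit 0xb400e0007000fa)
  (Net.cons (nat_lit 16) (nat_lit 0x53a0000085d0)
  (Net.cons (nat_lit 32) (nat_lit 0x2ac9e47a)
  Net.nil)))))))))))
noncomputable def m202n2 : Net := (Net.cons (nat_lit 32) (nat_lit 0xc1e9a080)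
  (Net.cons (nat_lit 16) (nat_lit 0xc1e4000013a0)
  (Net.cons (nat_lit 8) (nat_lit 0x50006c003200c6)
  (Net.cons (nat_lit 4) (nat_lit 0x10e040a030c0c00)
  (Net.cons (nat_lit 2) (nat_lit 0x20020000002232)
  (Net.cons (nat_lit 1) (nat_lit 0x41510004541401)
  (Net.cons (nat_lit 2) (nat_lit 0x20020000002202)
  (Net.cons (nat_lit 4) (nat_lit 0x6040000000c00)
  (Net.cons (nat_lit 8) (nat_lit 0x10002c003200c2)
  (Net.cons (nat_lit 16) (nat_lit 0x81a4000011a0)
  (Net.cons (nat_lit 32) (nat_lit 0xc1e9a080)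
  Net.nil)))))))))))
noncomputable def m202n3 : Net := (Net.cons (nat_lit 32) (nat_lit 0xc1e9a080)
  (Net.cons (nat_lit 16) (nat_lit 0xc1e4000013a0)
  (Net.cons (nat_lit 8) (nat_lit 0x50006c003200c6)
  (Net.cons (nat_lit 4) (nat_lit 0x10e040a030c0c00)
  (Net.cons (nat_lit 2) (nat_lit 0x20020000002232)
  (Net.cons (nat_lit 1) (nat_lit 0x41510004541401)
  (Net.cons (nat_lit 2) (nat_lit 0x20020000002202)
  (Net.cons (nat_lit 4) (nat_lit 0x6040000000c00)
  (Net.cons (nat_lit 8) (nat_lit 0x10002c003200c2)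
  (Net.cons (nat_lit 16) (nat_lit 0x81a4000011a0)
  (Net.cons (nat_lit 32) (nat_lit 0xc1e9a080)
  Net.nil)))))))))))
noncomputable def m202n4 : Net := (Net.cons (nat_lit 32) (nat_lit 0x5483ad04)
  (Net.cons (nat_lit 16) (nat_lit 0x54c800004154)
  (Net.cons (nat_lit 8) (nat_lit 0xb500480008)
  (Net.cons (nat_lit 4) (nat_lit 0x40c0b0f0a08020c)
  (Net.cons (nat_lit 2) (nat_lit 0x1023121300330232)
  (Net.cons (nat_lit 1) (nat_lit 0x10554140051450)
  (Net.cons (nat_lit 2) (nat_lit 0x20000200000200)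
  (Net.cons (nat_lit 4) (nat_lit 0x40c04000808020c)
  (Net.cons (nat_lit 8) (nat_lit 0x3400480008)
  (Net.cons (nat_lit 16) (nat_lit 0x40c800004054)
  (Net.cons (nat_lit 32) (nat_lit 0x5483ad04)
  Net.nil)))))))))))
noncomputable def m202n5 : Net := (Net.cons (nat_lit 32) (nat_lit 0x5483ad04)
  (Net.cons (nat_lit 16) (nat_lit 0x54c800004154)
  (Net.cons (nat_lit 8) (nat_lit 0xb500480008)
  (Net.cons (nat_lit 4) (nat_lit 0x40c0b0f0a08020c)
  (Net.cons (nat_lit 2) (nat_lit 0x1023121300330232)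
  (Net.cons (nat_lit 1) (nat_lit 0x10554140051450)
  (Net.cons (nat_lit 2) (nat_lit 0x20000200000200)
  (Net.cons (nat_lit 4) (nat_lit 0x40c04000808020c)
  (Net.cons (nat_lit 8) (nat_lit 0x3400480008)
  (Net.cons (nat_lit 16) (nat_lit 0x40c800004054)
  (Net.cons (nat_lit 32) (nat_lit 0x5483ad04)
  Net.nil)))))))))))
noncomputable def m202n6 : Net := (Net.cons (nat_lit 32) (nat_lit 0x118aa102)
  (Net.cons (nat_lit 16) (nat_lit 0x943000002b42)
  (Net.cons (nat_lit 8) (nat_lit 0xe400bb008600ae)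
  (Net.cons (nat_lit 4) (nat_lit 0xc0000010a0b0407)
  (Net.cons (nat_lit 2) (nat_lit 0x223303103313002)
  (Net.cons (nat_lit 1) (nat_lit 0x1110514140410444)
  (Net.cons (nat_lit 2) (nat_lit 0x220002000200020)
  (Net.cons (nat_lit 4) (nat_lit 0x80000060a040408)
  (Net.cons (nat_lit 8) (nat_lit 0xe400b0008600ae)
  (Net.cons (nat_lit 16) (nat_lit 0x943000002b40)
  (Net.cons (nat_lit 32) (nat_lit 0x118aa102)
  Net.nil)))))))))))
noncomputable def m202n7 : Net := (Net.cons (nat_lit 32) (nat_lit 0x118aa102)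
  (Net.cons (nat_lit 16) (nat_lit 0x943000002b42)
  (Net.cons (nat_lit 8) (nat_lit 0xe400bb008600ae)
  (Net.cons (nat_lit 4) (nat_lit 0xc0000010a0b0407)
  (Net.cons (nat_lit 2) (nat_lit 0x223303103313002)
  (Net.cons (nat_lit 1) (nat_lit 0x1110514140410444)
  (Net.cons (nat_lit 2) (nat_lit 0x220002000200020)
  (Net.cons (nat_lit 4) (nat_lit 0x80000060a040408)
  (Net.cons (nat_lit 8) (nat_lit 0xe400b0008600ae)
  (Net.cons (nat_lit 16) (nat_lit 0x943000002b40)
  (Net.cons (nat_lit 32) (nat_lit 0x118aa102)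
  Net.nil)))))))))))
noncomputable def m202l : List Net := [m202n0,m202n1,m202n2,m202n3,m202n4,m202n5,m202n6,m202n7]
noncomputable abbrev m202 : ℕ → Net := lk Net.nil m202l
theorem m202ok : NetsOk 56 m202 vT := netsOk_of (by decide +kernel)
theorem m202s0 : Sat io [] (finG m202ok) := fin_sat_nil _ (k := 6) (n := 10) (by decide +kernel)
noncomputable def r11 : List ℕ := [6,6]
noncomputable def r12 : List ℕ := [6,0,4,6,0,4,6,0,4,6,0,4,6,0,4]
noncomputable def r13 : List ℕ := [7,2,6,3]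
noncomputable def r14 : List ℕ := [7,0,3,0,6,1,3,1]
noncomputable def r15 : List ℕ := [7,0,0,5,1,1,6,0,0,5,1,1]
noncomputable def r16 : List ℕ := [7,1,7,4,1,6,0,6,1,1,3,0,0,5,0,0,0,3,1]
noncomputable def m203n0 : Net := (Net.cons (nat_lit 128) (nat_lit 0x42e8f86b7ac6c6e801759c04733a42d8)
  (Net.cons (nat_lit 64) (nat_lit 0x8206dc6bc7adaa8e0000000000000000191e28be6ca3f022)
  (Net.cons (nat_lit 32) (nat_lit 0xb3eea395000000004a02c91500000000323f2a16000000009ba4c732)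
  (Net.cons (nat_lit 16) (nat_lit 0x2d9a0000a19b000010480000c80d00000a2f0000f6230000f78100003552)
  (Net.cons (nat_lit 8) (nat_lit 0xce009400c90062000300f00044001c009e003200ef00e0007600a200b50060)
  (Net.cons (nat_lit 4) (nat_lit 0x4080803040c060200080e08080c0a0401090f0601060d0c050f040f0e020f06)
  (Net.cons (nat_lit 2) (nat_lit 0x130013002032020122020032332212200200322331110212003022322102010)
  (Net.cons (nat_lit 1) (nat_lit 0x4144014101404450044141404041151114111515414144101101454414445010)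
  (Net.cons (nat_lit 2) (nat_lit 0x2222020000002000022220202002202002022000022000000000200020200000)
  (Net.cons (nat_lit 4) (nat_lit 0x4000c00020a000e040006040a0000000002060006000804080c00000c0a0802)
  (Net.cons (nat_lit 8) (nat_lit 0x7000b4004400b000620088000c005a00980002001c00300024003e00700050)
  (Net.cons (nat_lit 16) (nat_lit 0x4f1800006f60000006c800007ad40000890800002eec000051860000c744)
  (Net.cons (nat_lit 32) (nat_lit 0x3386c4a800000000021b386a00000000172fd0480000000086341e60)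
  (Net.cons (nat_lit 64) (nat_lit 0xc2aec87c8bcac7000000000000000000900e2767da92ab0c)
  (Net.cons (nat_lit 128) (nat_lit 0x42e8e8a2d12de069d3cfb1b0019e55e0)
  Net.nil)))))))))))))))
noncomputable def m203n1 : Net := (Net.cons (nat_lit 128) (nat_lit 0x42e8e8a2d12de069d3cfb1b0019e55e0)
  (Net.cons (nat_lit 64) (nat_lit 0xc8aaa95d0bc2cf830000000000000000900e2767da92ab0c)
  (Net.cons (nat_lit 32) (nat_lit 0x29e9383b00000000126b50e60000000017ffd2480000000082b81e66)
  (Net.cons (nat_lit 16) (nat_lit 0x917a000048420000a4ea00002e4500007d970000f3fc0000eaf00000d344)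
  (Net.cons (nat_lit 8) (nat_lit 0xbb0028005000c5009f009c00540019002a008500b300a1009f006a00710048)
  (Net.cons (nat_lit 4) (nat_lit 0x40502060c0a040c020400060204070c090c0b04040101080409030b0c0e0708)
  (Net.cons (nat_lit 2) (nat_lit 0x301230002123103123221222130232302332010120111022032311020000112)
  (Net.cons (nat_lit 1) (nat_lit 0x15040140141045514444414110110441541111154500110150451414140144)
  (Net.cons (nat_lit 2) (nat_lit 0x20200000000000222202220220220000222200000020200202022000002)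
  (Net.cons (nat_lit 4) (nat_lit 0xc0c0800080802000c000806000000020000020806020000080e0e000e0a040c)
  (Net.cons (nat_lit 8) (nat_lit 0xc800d00054007c00c600fc00b000720090009000a0008e000600b0006c)
  (Net.cons (nat_lit 16) (nat_lit 0x9870000018120000f58400001d84000065c40000ebea000068ba00003514)
  (Net.cons (nat_lit 32) (nat_lit 0x6303b65000000000231ac89c0000000012fe2a16000000009bec8334)
  (Net.cons (nat_lit 64) (nat_lit 0x88425cc9cfbc2aaa0000000000000000191e28be6ca3f022)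
  (Net.cons (nat_lit 128) (nat_lit 0x42e8f86b7ac6c6e801759c04733a42d8)
  Net.nil)))))))))))))))
noncomputable def m203n2 : Net := (Net.cons (nat_lit 128) (nat_lit 0x43723507de9321a8054940ac04208000)
  (Net.cons (nat_lit 64) (nat_lit 0xd4c906f6866307000000000000000000a96935274d108480)
  (Net.cons (nat_lit 32) (nat_lit 0xd8f7634800000000b4b0ff2000000000a76d6c880000000010270000)
  (Net.cons (nat_lit 16) (nat_lit 0xdc5000002e210000f63c0000a858000060250000528d0000085400001480)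
  (Net.cons (nat_lit 8) (nat_lit 0x9600a10021006a004c001900600028006000800006005e00c80064004800c0)
  (Net.cons (nat_lit 4) (nat_lit 0xd050e06000f040d0c04030a0c0004060e080a020c0806040005090c000c0400)
  (Net.cons (nat_lit 2) (nat_lit 0x3102122031223003123010322022000202012001230323010022200323202220)
  (Net.cons (nat_lit 1) (nat_lit 0x1440041441145400045051050441111101401540455105540040044510151444)
  (Net.cons (nat_lit 2) (nat_lit 0x2000022000020000020000000022000202002000000000000020000020202220)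
  (Net.cons (nat_lit 4) (nat_lit 0x406040e06040c0400040a0c00000208080a000a0406080004080c000c0400)
  (Net.cons (nat_lit 8) (nat_lit 0x1200a000ba006a004c00bc00600028006000800048001e00080064004800c0)
  (Net.cons (nat_lit 16) (nat_lit 0xdc5000006a100000b21c0000a858000060200000324c0000085400001480)
  (Net.cons (nat_lit 32) (nat_lit 0xd8f7634800000000b4b0ff2000000000266d6c880000000010270000)
  (Net.cons (nat_lit 64) (nat_lit 0xd4c906f6866107000000000000000000a96935274d108480)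
  (Net.cons (nat_lit 128) (nat_lit 0x43723507de9321a8054940ac04208000)
  Net.nil)))))))))))))))
noncomputable def m203n3 : Net := (Net.cons (nat_lit 128) (nat_lit 0x43723507de9321a8054940ac04208000)
  (Net.cons (nat_lit 64) (nat_lit 0xd4c906f6866307000000000000000000a96935274d108480)
  (Net.cons (nat_lit 32) (nat_lit 0xd8f7634800000000b4b0ff2000000000a76d6c880000000010270000)
  (Net.cons (nat_lit 16) (nat_lit 0xdc5000002e210000f63c0000a858000060250000528d0000085400001480)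
  (Net.cons (nat_lit 8) (nat_lit 0x9600a10021006a004c001900600028006000800006005e00c80064004800c0)
  (Net.cons (nat_lit 4) (nat_lit 0xd050e06000f040d0c04030a0c0004060e080a020c0806040005090c000c0400)
  (Net.cons (nat_lit 2) (nat_lit 0x3102122031223003123010322022000202012001230323010022200323202220)
  (Net.cons (nat_lit 1) (nat_lit 0x1440041441145400045051050441111101401540455105540040044510151444)
  (Net.cons (nat_lit 2) (nat_lit 0x2000022000020000020000000022000202002000000000000020000020202220)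
  (Net.cons (nat_lit 4) (nat_lit 0x406040e06040c0400040a0c00000208080a000a0406080004080c000c0400)
  (Net.cons (nat_lit 8) (nat_lit 0x1200a000ba006a004c00bc00600028006000800048001e00080064004800c0)
  (Net.cons (nat_lit 16) (nat_lit 0xdc5000006a100000b21c0000a858000060200000324c0000085400001480)
  (Net.cons (nat_lit 32) (nat_lit 0xd8f7634800000000b4b0ff2000000000266d6c880000000010270000)
  (Net.cons (nat_lit 64) (nat_lit 0xd4c906f6866107000000000000000000a96935274d108480)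
  (Net.cons (nat_lit 128) (nat_lit 0x43723507de9321a8054940ac04208000)
  Net.nil)))))))))))))))
noncomputable def m203n4 : Net := (Net.cons (nat_lit 128) (nat_lit 0x1542898774e12b8cc4902a7340000000)
  (Net.cons (nat_lit 64) (nat_lit 0x5502433b868be8000000000000000000bdf20da565f13208)
  (Net.cons (nat_lit 32) (nat_lit 0xe34173840000000043640c84000000007c30bfd800000000b0a66e92)
  (Net.cons (nat_lit 16) (nat_lit 0x3a40000047280000f0b000005cee00009c0000003de80000b5a000006c12)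
  (Net.cons (nat_lit 8) (nat_lit 0x800a000400016005200100004000800a0003c007c00ed00a20064000c0074)
  (Net.cons (nat_lit 4) (nat_lit 0x8000c0a04080a0a0a04000e04040c000e00070e050406040f000e0a0a0c0e00)
  (Net.cons (nat_lit 2) (nat_lit 0x202032300200103100300203103200300301102311030101121200220200200)
  (Net.cons (nat_lit 1) (nat_lit 0x101004001404045041041445045404501014111140454041410105105151054)
  (Net.cons (nat_lit 2) (nat_lit 0x202002000200000000000020000200000002202200000002220200200200000)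
  (Net.cons (nat_lit 4) (nat_lit 0x8000c0a0000080a08040000040004040200080a080406040000080a0e080a00)
  (Net.cons (nat_lit 8) (nat_lit 0x800a000400006005200000000000c00a0003c005c008400a2006400c80074)
  (Net.cons (nat_lit 16) (nat_lit 0x2a40000047280000f0b00000780800009c0000001dc8000095a000006c12)
  (Net.cons (nat_lit 32) (nat_lit 0xe34173840000000043640484000000007c30bfd800000000b0a66e92)
  (Net.cons (nat_lit 64) (nat_lit 0x5502403b868be8000000000000000000bdf20da565f13208)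
  (Net.cons (nat_lit 128) (nat_lit 0x1542898774e12b8cc4902a7340000000)
  Net.nil)))))))))))))))
noncomputable def m203n5 : Net := (Net.cons (nat_lit 128) (nat_lit 0x1542898774e12b8cc4902a7340000000)
  (Net.cons (nat_lit 64) (nat_lit 0x5502433b868be8000000000000000000bdf20da565f13208)
  (Net.cons (nat_lit 32) (nat_lit 0xe34173840000000043640c84000000007c30bfd800000000b0a66e92)
  (Net.cons (nat_lit 16) (nat_lit 0x3a40000047280000f0b000005cee00009c0000003de80000b5a000006c12)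
  (Net.cons (nat_lit 8) (nat_lit 0x800a000400016005200100004000800a0003c007c00ed00a20064000c0074)
  (Net.cons (nat_lit 4) (nat_lit 0x8000c0a04080a0a0a04000e04040c000e00070e050406040f000e0a0a0c0e00)
  (Net.cons (nat_lit 2) (nat_lit 0x202032300200103100300203103200300301102311030101121200220200200)
  (Net.cons (nat_lit 1) (nat_lit 0x101004001404045041041445045404501014111140454041410105105151054)
  (Net.cons (nat_lit 2) (nat_lit 0x202002000200000000000020000200000002202200000002220200200200000)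
  (Net.cons (nat_lit 4) (nat_lit 0x8000c0a0000080a08040000040004040200080a080406040000080a0e080a00)
  (Net.cons (nat_lit 8) (nat_lit 0x800a000400006005200000000000c00a0003c005c008400a2006400c80074)
  (Net.cons (nat_lit 16) (nat_lit 0x2a40000047280000f0b00000780800009c0000001dc8000095a000006c12)
  (Net.cons (nat_lit 32) (nat_lit 0xe34173840000000043640484000000007c30bfd800000000b0a66e92)
  (Net.cons (nat_lit 64) (nat_lit 0x5502403b868be8000000000000000000bdf20da565f13208)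
  (Net.cons (nat_lit 128) (nat_lit 0x1542898774e12b8cc4902a7340000000)
  Net.nil)))))))))))))))
noncomputable def m203n6 : Net := (Net.cons (nat_lit 128) (nat_lit 0xfaa8c8bb1300b51f78c11100b924204)
  (Net.cons (nat_lit 64) (nat_lit 0xf33898926bebf9bc0000000000000000093f236a134e07c5)
  (Net.cons (nat_lit 32) (nat_lit 0xb883343100000000c9155fd0000000002db57a08000000005b8b9570)
  (Net.cons (nat_lit 16) (nat_lit 0xe03f0000befc0000706300004f8200005afb0000b97e0000012c00008a84)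
  (Net.cons (nat_lit 8) (nat_lit 0x51000500f400de000e005100b80012004300bb00e30068004f009e00e800ad)
  (Net.cons (nat_lit 4) (nat_lit 0x105020b01060402090601040e0f0d0a060d0b0409020e0c0307080d0a0c0d04)
  (Net.cons (nat_lit 2) (nat_lit 0x2020321131022010112030222300323220013100302101002331200030320310)
  (Net.cons (nat_lit 1) (nat_lit 0x1401014141000101411110014551510100444110111044155555514044015151)
  (Net.cons (nat_lit 2) (nat_lit 0x2000222000200202220002000020200202220202002000000000020020000)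
  (Net.cons (nat_lit 4) (nat_lit 0x208000c0e00000206020c000808040800020c000a040a0008040c08080c0404)
  (Net.cons (nat_lit 8) (nat_lit 0xea00a6008200820004001400b0003400ec00b6009800680020005a00a80068)
  (Net.cons (nat_lit 16) (nat_lit 0xc414000040aa0000fb6800004786000047140000e030000009340000d8e4)
  (Net.cons (nat_lit 32) (nat_lit 0x98231d1000000000cb5b7ff400000000b4948a10000000005b0bb068)
  (Net.cons (nat_lit 64) (nat_lit 0xfb3ab8b264e3fb900000000000000000093f696a134e03ce)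
  (Net.cons (nat_lit 128) (nat_lit 0xfaa059331310f42fdcc313002b04280)
  Net.nil)))))))))))))))
noncomputable def m203n7 : Net := (Net.cons (nat_lit 128) (nat_lit 0xfaa8c8bb1300b51f78c11100b924204)
  (Net.cons (nat_lit 64) (nat_lit 0xf33898926bebf9bc0000000000000000093f236a134e07c5)
  (Net.cons (nat_lit 32) (nat_lit 0xb883343100000000c9155fd0000000002db57a08000000005b8b9570)
  (Net.cons (nat_lit 16) (nat_lit 0xe03f0000befc0000706300004f8200005afb0000b97e0000012c00008a84)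
  (Net.cons (nat_lit 8) (nat_lit 0x51000500f400de000e005100b80012004300bb00e30068004f009e00e800ad)
  (Net.cons (nat_lit 4) (nat_lit 0x105020b01060402090601040e0f0d0a060d0b0409020e0c0307080d0a0c0d04)
  (Net.cons (nat_lit 2) (nat_lit 0x2020321131022010112030222300323220013100302101002331200030320310)
  (Net.cons (nat_lit 1) (nat_lit 0x1401014141000101411110014551510100444110111044155555514044015151)
  (Net.cons (nat_lit 2) (nat_lit 0x2000222000200202220002000020200202220202002000000000020020000)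
  (Net.cons (nat_lit 4) (nat_lit 0x208000c0e00000206020c000808040800020c000a040a0008040c08080c0404)
  (Net.cons (nat_lit 8) (nat_lit 0xea00a6008200820004001400b0003400ec00b6009800680020005a00a80068)
  (Net.cons (nat_lit 16) (nat_lit 0xc414000040aa0000fb6800004786000047140000e030000009340000d8e4)
  (Net.cons (nat_lit 32) (nat_lit 0x98231d1000000000cb5b7ff400000000b4948a10000000005b0bb068)
  (Net.cons (nat_lit 64) (nat_lit 0xfb3ab8b264e3fb900000000000000000093f696a134e03ce)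
  (Net.cons (nat_lit 128) (nat_lit 0xfaa059331310f42fdcc313002b04280)
  Net.nil)))))))))))))))
noncomputable def m203l : List Net := [m203n0,m203n1,m203n2,m203n3,m203n4,m203n5,m203n6,m203n7]
noncomputable abbrev m203 : ℕ → Net := lk Net.nil m203l
theorem m203ok : NetsOk 240 m203 vT := netsOk_of (by decide +kernel)
theorem m203s0 : Sat io [] (finG m203ok) := fin_sat_nil _ (k := 8) (n := 10) (by decide +kernel)
noncomputable def C204 : List (List ℕ) := [r0,r1,r2,r3,r4,r5,r6,r7,r8,r9,r10,r11,r12,r13,r14,r15,r16]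
theorem cl205 : Clo.{u} io C204 [0,1,2,3,4,5] 240 m203 1 (mkB []) := Clo.start (by decide +kernel)
theorem imp206 : Imp.{u} io C204 C126 := Imp.of_chk (pfs := [[([],1)],[([],3)],[([],5)],[([],7)],[([],9)],[([],11)],[([],13)],[([],15)],[([],17)],[([],19)],[([],21)]]) (by decide +kernel)
theorem der208 : Der 56 (finX 56) (cl (finG m124ok) [[2],[0,3,0],[0,0,5,1,1]]) (fun _ => Net.nil) := Der.zero (finModel m124ok).inj
noncomputable def ns209 : ℕ → Net := upd (fun _ => Net.nil) 0 (m124 2)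
theorem der210 : Der 56 (finX 56) (cl (finG m124ok) [[2],[0,3,0],[0,0,5,1,1]]) ns209 := der208.add (wp_mem_cl (w := [2]) (by decide)) (rep_letter (finModel m124ok) 2) 0
noncomputable def x211 : Net := (Net.cons (nat_lit 32) (nat_lit 0xe6102708)
  (Net.cons (nat_lit 16) (nat_lit 0x6366000001f8)
  (Net.cons (nat_lit 8) (nat_lit 0x220034001e00ee)
  (Net.cons (nat_lit 4) (nat_lit 0xf0e0b0f080509)
  (Net.cons (nat_lit 2) (nat_lit 0x2002123230200233)
  (Net.cons (nat_lit 1) (nat_lit 0x144144140004041)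
  (Net.cons (nat_lit 2) (nat_lit 0x2220200002020)
  (Net.cons (nat_lit 4) (nat_lit 0x80c020e00040c)
  (Net.cons (nat_lit 8) (nat_lit 0x40090001e0002)
  (Net.cons (nat_lit 16) (nat_lit 0x4508000011fc)
  (Net.cons (nat_lit 32) (nat_lit 0xe6150654)
  Net.nil)))))))))))
noncomputable def ns212 : ℕ → Net := upd ns209 1 x211
theorem der213 : Der 56 (finX 56) (cl (finG m124ok) [[2],[0,3,0],[0,0,5,1,1]]) ns212 := der210.add (wp_mem_cl (w := [0,3,0]) (by decide)) ((finModel m124ok).toIsPre.rep_word (k := 6) (w := [0,3,0]) (n := x211) (by decide +kernel)) 1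
noncomputable def x214 : Net := (Net.cons (nat_lit 32) (nat_lit 0xa299380a)
  (Net.cons (nat_lit 16) (nat_lit 0xbd380000a488)
  (Net.cons (nat_lit 8) (nat_lit 0x1e006200a00068)
  (Net.cons (nat_lit 4) (nat_lit 0xa0508000c000204)
  (Net.cons (nat_lit 2) (nat_lit 0x333021030330003)
  (Net.cons (nat_lit 1) (nat_lit 0x1014000104550440)
  (Net.cons (nat_lit 4) (nat_lit 0xa0a08000c000004)
  (Net.cons (nat_lit 8) (nat_lit 0x1e004200a00068)
  (Net.cons (nat_lit 16) (nat_lit 0xbd300000a488)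
  (Net.cons (nat_lit 32) (nat_lit 0xa299380a)
  Net.nil))))))))))
noncomputable def ns215 : ℕ → Net := upd ns212 2 x214
theorem der216 : Der 56 (finX 56) (cl (finG m124ok) [[2],[0,3,0],[0,0,5,1,1]]) ns215 := der213.add (wp_mem_cl (w := [0,0,5,1,1]) (by decide)) ((finModel m124ok).toIsPre.rep_word (k := 6) (w := [0,0,5,1,1]) (n := x214) (by decide +kernel)) 2
noncomputable def x217 : Net := (Net.cons (nat_lit 32) (nat_lit 0x4179b662)
  (Net.cons (nat_lit 16) (nat_lit 0x81cc00002a14)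
  (Net.cons (nat_lit 8) (nat_lit 0xc2003100ee00da)
  (Net.cons (nat_lit 4) (nat_lit 0x40d000a06010802)
  (Net.cons (nat_lit 2) (nat_lit 0x210102130032330)
  (Net.cons (nat_lit 1) (nat_lit 0x444004154040414)
  (Net.cons (nat_lit 2) (nat_lit 0x200000002020200)
  (Net.cons (nat_lit 4) (nat_lit 0x408000800000c04)
  (Net.cons (nat_lit 8) (nat_lit 0xc2006000ce0090)
  (Net.cons (nat_lit 16) (nat_lit 0xc10000002c54)
  (Net.cons (nat_lit 32) (nat_lit 0x4191821e)
  Net.nil)))))))))))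
noncomputable def x217s : ℕ → Net := upd ns215 3 x217
theorem der218 : Der 56 (finX 56) (cl (finG m124ok) [[2],[0,3,0],[0,0,5,1,1]]) x217s := der216.ext (k := 6) (w := [1,0,2,1,2,0,1]) 3 (by decide +kernel)
noncomputable def L219 : Lev := Lev.cons 1 4 [[3]] Lev.nil
noncomputable def L220 : Lev := Lev.cons 0 24 [[0],[1],[2]] L219
theorem lc221 : Lev.chk 56 3 x217s vT 100 L220 = true := by decide +kernel
theorem lb222 : 96 ≤ Nat.card (cl (finG m124ok) [[2],[0,3,0],[0,0,5,1,1]]) := le_of_eq_of_le (by decide +kernel) (der218.card_ge lc221)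
theorem sat223 : Sat io C126 (finG m124ok) := m124s0.fin (k := 6) (by decide +kernel)
theorem ix207 : Idx.{u} io C204 [0,1,2,3,4,5] [[2],[0,3,0],[0,0,5,1,1]] 63 := (Idx.of bd200 sat223 (by decide +kernel) lb222 (by decide +kernel)).of_imp imp206
noncomputable def lk224 : List (List ℕ × List ℕ × Pf) := [([2],[2],[([6],27)]),([0,3,0],[0,2,0],[([6],29)]),([0,0,5,1,1],[0,0,4,1,1],[([6],31)])]
noncomputable def O225 : ℕ := (nat_lit 0x40000080002040020016918001c1c0346810b01d101dc68d9a6db7e)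
noncomputable def M226 : ℕ := (nat_lit 0x40000080002040020016918001c1c0346810b01d101dc68d9a6db7f)
noncomputable def b227 : ℕ := (nat_lit 1)
theorem cl228 : Clo.{u} io C204 [0,1,2,3,4,5] 240 m203 M226 (mkB [(6,b227)]) := cl205.new (k := 5) (b := 6) (q := 0) (p := 1) (r := 200) (n := 63) (O := O225) (by decide +kernel) (lks := lk224) (by decide +kernel) (gens_of_lall2 (m := [[0],[1],[2]]) (by decide +kernel)) ix207 (by decide +kernel)
noncomputable def b229 : ℕ := (nat_lit 3)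
noncomputable def b230 : ℕ := (nat_lit 3)
theorem cl231 : Clo.{u} io C204 [0,1,2,3,4,5] 240 m203 M226 (mkB [(6,b229),(7,b230)]) := cl228.ops (os := [Op.inv 6,Op.rel 6 [] 7 [] [([],23)],Op.inv 6]) (by decide +kernel) (by decide +kernel)
theorem der233 : Der 56 (finX 56) (cl (finG m124ok) [[4,1],[1,2,0,4,1,1,1,2,0,4,1,1,3,0,3,0,0,0,5,1,1,1,2,0,5,1,1]]) (fun _ => Net.nil) := Der.zero (finModel m124ok).inj
noncomputable def x234 : Net := (Net.cons (nat_lit 32) (nat_lit 0x74a8ac10)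
  (Net.cons (nat_lit 16) (nat_lit 0xc28f00007852)
  (Net.cons (nat_lit 8) (nat_lit 0x4a005100a5008a)
  (Net.cons (nat_lit 4) (nat_lit 0x205090c01030005)
  (Net.cons (nat_lit 2) (nat_lit 0x3231211211100031)
  (Net.cons (nat_lit 1) (nat_lit 0x401104541410541)
  (Net.cons (nat_lit 2) (nat_lit 0x200202002000020)
  (Net.cons (nat_lit 4) (nat_lit 0xa000c00040a0002)
  (Net.cons (nat_lit 8) (nat_lit 0x4c0070004c0000)
  (Net.cons (nat_lit 16) (nat_lit 0xf60a0000f850)
  (Net.cons (nat_lit 32) (nat_lit 0x74ad22c0)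
  Net.nil)))))))))))
noncomputable def ns235 : ℕ → Net := upd (fun _ => Net.nil) 0 x234
theorem der236 : Der 56 (finX 56) (cl (finG m124ok) [[4,1],[1,2,0,4,1,1,1,2,0,4,1,1,3,0,3,0,0,0,5,1,1,1,2,0,5,1,1]]) ns235 := der233.add (wp_mem_cl (w := [4,1]) (by decide)) ((finModel m124ok).toIsPre.rep_word (k := 6) (w := [4,1]) (n := x234) (by decide +kernel)) 0
noncomputable def x237 : Net := (Net.cons (nat_lit 32) (nat_lit 0x98c8c310)
  (Net.cons (nat_lit 16) (nat_lit 0x9a6c00007070)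
  (Net.cons (nat_lit 8) (nat_lit 0x10008a00480081)
  (Net.cons (nat_lit 4) (nat_lit 0xa08000d0804080a)
  (Net.cons (nat_lit 2) (nat_lit 0x22320000002030)
  (Net.cons (nat_lit 1) (nat_lit 0x1014500051014004)
  (Net.cons (nat_lit 2) (nat_lit 0x22000000002000)
  (Net.cons (nat_lit 4) (nat_lit 0x20800000800000a)
  (Net.cons (nat_lit 8) (nat_lit 0x10008a00480080)
  (Net.cons (nat_lit 16) (nat_lit 0x124c00007050)
  (Net.cons (nat_lit 32) (nat_lit 0x9848c310)
  Net.nil)))))))))))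
noncomputable def ns238 : ℕ → Net := upd ns235 1 x237
theorem der239 : Der 56 (finX 56) (cl (finG m124ok) [[4,1],[1,2,0,4,1,1,1,2,0,4,1,1,3,0,3,0,0,0,5,1,1,1,2,0,5,1,1]]) ns238 := der236.add (wp_mem_cl (w := [1,2,0,4,1,1,1,2,0,4,1,1,3,0,3,0,0,0,5,1,1,1,2,0,5,1,1]) (by decide)) ((finModel m124ok).toIsPre.rep_word (k := 6) (w := [1,2,0,4,1,1,1,2,0,4,1,1,3,0,3,0,0,0,5,1,1,1,2,0,5,1,1]) (n := x237) (by decide +kernel)) 1
noncomputable def x240 : Net := (Net.cons (nat_lit 32) (nat_lit 0xada19744)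
  (Net.cons (nat_lit 16) (nat_lit 0x871100008023)
  (Net.cons (nat_lit 8) (nat_lit 0x3300e10086006d)
  (Net.cons (nat_lit 4) (nat_lit 0x90c0c0504080200)
  (Net.cons (nat_lit 2) (nat_lit 0x2220300010000120)
  (Net.cons (nat_lit 1) (nat_lit 0x1441401540010441)
  (Net.cons (nat_lit 2) (nat_lit 0x2000020202)
  (Net.cons (nat_lit 4) (nat_lit 0x8040c04080200)
  (Net.cons (nat_lit 8) (nat_lit 0x30004800840022)
  (Net.cons (nat_lit 16) (nat_lit 0x868200009222)
  (Net.cons (nat_lit 32) (nat_lit 0xada11546)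
  Net.nil)))))))))))
noncomputable def x240s : ℕ → Net := upd ns238 2 x240
theorem der241 : Der 56 (finX 56) (cl (finG m124ok) [[4,1],[1,2,0,4,1,1,1,2,0,4,1,1,3,0,3,0,0,0,5,1,1,1,2,0,5,1,1]]) x240s := der239.ext (k := 6) (w := [0,1,0,0,0,1,0,0,0,1]) 2 (by decide +kernel)
noncomputable def L242 : Lev := Lev.cons 0 4 [[2]] Lev.nil
noncomputable def L243 : Lev := Lev.cons 2 24 [[0],[1]] L242
theorem lc244 : Lev.chk 56 3 x240s vT 100 L243 = true := by decide +kernel
theorem lb245 : 96 ≤ Nat.card (cl (finG m124ok) [[4,1],[1,2,0,4,1,1,1,2,0,4,1,1,3,0,3,0,0,0,5,1,1,1,2,0,5,1,1]]) := le_of_eq_of_le (by decide +kernel) (der241.card_ge lc244)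
theorem ix232 : Idx.{u} io C204 [0,1,2,3,4,5] [[4,1],[1,2,0,4,1,1,1,2,0,4,1,1,3,0,3,0,0,0,5,1,1,1,2,0,5,1,1]] 63 := (Idx.of bd200 sat223 (by decide +kernel) lb245 (by decide +kernel)).of_imp imp206
noncomputable def lk246 : List (List ℕ × List ℕ × Pf) := [([4,1],[0,6,0,2,1,1,1,4,1,1,2,0,0,7,1],[([6,0,6],33)]),([1,2,1],[1,3,1],[([6,1,3,1],28)]),([0,0,4,1,1],[0,0,5,1,1],[([6,0,0,5,1,1],30)]),([3],[3],[([6,3],26)]),([0,3,0],[0,2,0],[([6],29)]),([0,0,5,1,1],[0,0,4,1,1],[([6],31)])]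
noncomputable def O247 : ℕ := (nat_lit 0x400000000001a82128004d0486215823e1e0316004722e72231604512480)
noncomputable def M248 : ℕ := (nat_lit 0x400004000009a8232c006d05ef39583ffde377e10f73ff73ff7eddf7ffff)
noncomputable def b249 : ℕ := (nat_lit 7)
theorem cl250 : Clo.{u} io C204 [0,1,2,3,4,5] 240 m203 M248 (mkB [(6,b249),(7,b230)]) := cl231.new (k := 5) (b := 6) (q := 2) (p := 7) (r := 200) (n := 63) (O := O247) (by decide +kernel) (lks := lk246) (by decide +kernel) (gens_of_lall2 (m := [[0],[1,2,1,2,3,4,5,1,5]]) (by decide +kernel)) ix232 (by decide +kernel)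
noncomputable def b251 : ℕ := (nat_lit 0x210c00210089100001688323a00752b342ad1609e765bf)
noncomputable def b252 : ℕ := (nat_lit 0x210c00210089100001688323a00752b342ad1609e765bf)
theorem cl253 : Clo.{u} io C204 [0,1,2,3,4,5] 240 m203 M248 (mkB [(6,b251),(7,b252)]) := cl250.ops (os := [Op.ext 6 4 [([2],[2],[([6],27)]),([3],[3],[([6,3],26)]),([0,3,0],[0,2,0],[([6],29)]),([1,2,1],[1,3,1],[([6,1,3,1],28)]),([0,0,5,1,1],[0,0,4,1,1],[([6],31)]),([0,0,4,1,1],[0,0,5,1,1],[([6,0,0,5,1,1],30)])],Op.inv 6,Op.rel 6 [] 7 [] [([],23)],Op.inv 6,Op.rel 6 [0,4] 7 [5,1,7,5,1,7,5,1,7,5,1] [([7],25)],Op.ext 6 2 [([2],[2],[([6],27)]),([3],[3],[([6,3],26)]),([0,3,0],[0,2,0],[([6],29)]),([1,2,1],[1,3,1],[([6,1,3,1],28)]),([0,0,5,1,1],[0,0,4,1,1],[([6],31)]),([0,0,4,1,1],[0,0,5,1,1],[([6,0,0,5,1,1],30)])],Op.inv 6]) (by decide +kernel) (by decide +kernel)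
theorem der255 : Der 56 (finX 56) (cl (finG m124ok) [[2],[0,3,0],[0,0,5,1,1],[4,1]]) (fun _ => Net.nil) := Der.zero (finModel m124ok).inj
noncomputable def ns256 : ℕ → Net := upd (fun _ => Net.nil) 0 (m124 2)
theorem der257 : Der 56 (finX 56) (cl (finG m124ok) [[2],[0,3,0],[0,0,5,1,1],[4,1]]) ns256 := der255.add (wp_mem_cl (w := [2]) (by decide)) (rep_letter (finModel m124ok) 2) 0
noncomputable def x258 : Net := (Net.cons (nat_lit 32) (nat_lit 0xe6102708)
  (Net.cons (nat_lit 16) (nat_lit 0x6366000001f8)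
  (Net.cons (nat_lit 8) (nat_lit 0x220034001e00ee)
  (Net.cons (nat_lit 4) (nat_lit 0xf0e0b0f080509)
  (Net.cons (nat_lit 2) (nat_lit 0x2002123230200233)
  (Net.cons (nat_lit 1) (nat_lit 0x144144140004041)
  (Net.cons (nat_lit 2) (nat_lit 0x2220200002020)
  (Net.cons (nat_lit 4) (nat_lit 0x80c020e00040c)
  (Net.cons (nat_lit 8) (nat_lit 0x40090001e0002)
  (Net.cons (nat_lit 16) (nat_lit 0x4508000011fc)
  (Net.cons (nat_lit 32) (nat_lit 0xe6150654)
  Net.nil)))))))))))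
noncomputable def ns259 : ℕ → Net := upd ns256 1 x258
theorem der260 : Der 56 (finX 56) (cl (finG m124ok) [[2],[0,3,0],[0,0,5,1,1],[4,1]]) ns259 := der257.add (wp_mem_cl (w := [0,3,0]) (by decide)) ((finModel m124ok).toIsPre.rep_word (k := 6) (w := [0,3,0]) (n := x258) (by decide +kernel)) 1
noncomputable def x261 : Net := (Net.cons (nat_lit 32) (nat_lit 0xa299380a)
  (Net.cons (nat_lit 16) (nat_lit 0xbd380000a488)
  (Net.cons (nat_lit 8) (nat_lit 0x1e006200a00068)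
  (Net.cons (nat_lit 4) (nat_lit 0xa0508000c000204)
  (Net.cons (nat_lit 2) (nat_lit 0x333021030330003)
  (Net.cons (nat_lit 1) (nat_lit 0x1014000104550440)
  (Net.cons (nat_lit 4) (nat_lit 0xa0a08000c000004)
  (Net.cons (nat_lit 8) (nat_lit 0x1e004200a00068)
  (Net.cons (nat_lit 16) (nat_lit 0xbd300000a488)
  (Net.cons (nat_lit 32) (nat_lit 0xa299380a)
  Net.nil))))))))))
noncomputable def ns262 : ℕ → Net := upd ns259 2 x261
theorem der263 : Der 56 (finX 56) (cl (finG m124ok) [[2],[0,3,0],[0,0,5,1,1],[4,1]]) ns262 := der260.add (wp_mem_cl (w := [0,0,5,1,1]) (by decide)) ((finModel m124ok).toIsPre.rep_word (k := 6) (w := [0,0,5,1,1]) (n := x261) (by decide +kernel)) 2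
noncomputable def x264 : Net := (Net.cons (nat_lit 32) (nat_lit 0x74a8ac10)
  (Net.cons (nat_lit 16) (nat_lit 0xc28f00007852)
  (Net.cons (nat_lit 8) (nat_lit 0x4a005100a5008a)
  (Net.cons (nat_lit 4) (nat_lit 0x205090c01030005)
  (Net.cons (nat_lit 2) (nat_lit 0x3231211211100031)
  (Net.cons (nat_lit 1) (nat_lit 0x401104541410541)
  (Net.cons (nat_lit 2) (nat_lit 0x200202002000020)
  (Net.cons (nat_lit 4) (nat_lit 0xa000c00040a0002)
  (Net.cons (nat_lit 8) (nat_lit 0x4c0070004c0000)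
  (Net.cons (nat_lit 16) (nat_lit 0xf60a0000f850)
  (Net.cons (nat_lit 32) (nat_lit 0x74ad22c0)
  Net.nil)))))))))))
noncomputable def ns265 : ℕ → Net := upd ns262 3 x264
theorem der266 : Der 56 (finX 56) (cl (finG m124ok) [[2],[0,3,0],[0,0,5,1,1],[4,1]]) ns265 := der263.add (wp_mem_cl (w := [4,1]) (by decide)) ((finModel m124ok).toIsPre.rep_word (k := 6) (w := [4,1]) (n := x264) (by decide +kernel)) 3
noncomputable def x267 : Net := (Net.cons (nat_lit 32) (nat_lit 0x2f5eb111)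
  (Net.cons (nat_lit 16) (nat_lit 0x3d86000055ad)
  (Net.cons (nat_lit 8) (nat_lit 0x4a0043007500c2)
  (Net.cons (nat_lit 4) (nat_lit 0xc0502000f06000d)
  (Net.cons (nat_lit 2) (nat_lit 0x132230103300201)
  (Net.cons (nat_lit 1) (nat_lit 0x4150400401400014)
  (Net.cons (nat_lit 2) (nat_lit 0x2000000200200000)
  (Net.cons (nat_lit 4) (nat_lit 0xc0604000e02080c)
  (Net.cons (nat_lit 8) (nat_lit 0x76006c003000da)
  (Net.cons (nat_lit 16) (nat_lit 0x30a2000055a8)
  (Net.cons (nat_lit 32) (nat_lit 0x2f383014)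
  Net.nil)))))))))))
noncomputable def x267s : ℕ → Net := upd ns265 4 x267
theorem der268 : Der 56 (finX 56) (cl (finG m124ok) [[2],[0,3,0],[0,0,5,1,1],[4,1]]) x267s := der266.ext (k := 6) (w := [2,3,0,0,3,2]) 4 (by decide +kernel)
noncomputable def L269 : Lev := Lev.cons 0 4 [[4]] Lev.nil
noncomputable def L270 : Lev := Lev.cons 3 27 [[0],[1]] L269
noncomputable def L271 : Lev := Lev.cons 46 56 [[2],[3]] L270
theorem lc272 : Lev.chk 56 3 x267s vT 100 L271 = true := by decide +kernel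
theorem lb273 : 6048 ≤ Nat.card (cl (finG m124ok) [[2],[0,3,0],[0,0,5,1,1],[4,1]]) := le_of_eq_of_le (by decide +kernel) (der268.card_ge lc272)
theorem ix254 : Idx.{u} io C204 [0,1,2,3,4,5] [[2],[0,3,0],[0,0,5,1,1],[4,1]] 1 := (Idx.of bd200 sat223 (by decide +kernel) lb273 (by decide +kernel)).of_imp imp206
noncomputable def lk274 : List (List ℕ × List ℕ × Pf) := [([2],[2],[([6],27)]),([0,3,0],[0,2,0],[([6],29)]),([0,0,5,1,1],[0,0,4,1,1],[([6],31)]),([4,1],[0,6,0,2,1,1,1,4,1,1,2,0,0,7,1],[([6,0,6],33)])]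
noncomputable def O275 : ℕ := (nat_lit 0x8000000000000000000000000000000000)
noncomputable def M276 : ℕ := (nat_lit 0x400004000009a8232c006d05efb9583ffde377e10f73ff73ff7eddf7ffff)
noncomputable def b277 : ℕ := (nat_lit 0x210c00210089100001688323a00752bb42ad1609e765bf)
theorem cl278 : Clo.{u} io C204 [0,1,2,3,4,5] 240 m203 M276 (mkB [(6,b277),(7,b252)]) := cl253.new (k := 5) (b := 6) (q := 59) (p := 135) (r := 200) (n := 1) (O := O275) (by decide +kernel) (lks := lk274) (by decide +kernel) (gens_of_lall2 (m := [[0],[1],[2],[3]]) (by decide +kernel)) ix254 (by decide +kernel)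
noncomputable def b279 : ℕ := (nat_lit 0x210c00210089900001688323a00752bb42ad1609e765bf)
noncomputable def b280 : ℕ := (nat_lit 0x210c00210089900001688323a00752bb42ad1609e765bf)
theorem cl281 : Clo.{u} io C204 [0,1,2,3,4,5] 240 m203 M276 (mkB [(6,b279),(7,b280)]) := cl278.ops (os := [Op.inv 6,Op.rel 6 [] 7 [] [([],23)],Op.inv 6]) (by decide +kernel) (by decide +kernel)
theorem der283 : Der 56 (finX 56) (cl (finG m124ok) [[1,2,5,0,3,0,0,0,4,1,1,4,3,0,2],[1,2,5,0,5,0,3,0,0,0,4,1,1,2,0,0,5,1,1,4,1,4,1,1,2,0,5,1,1,2],[1,2,5,1,2,0,4,1,1,1,2,1,4,3,0,0,0,5,1,1,4,1,4,1,1,2,0,5,1,1,2]]) (fun _ => Net.nil) := Der.zero (finModel m124ok).inj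
noncomputable def x284 : Net := (Net.cons (nat_lit 32) (nat_lit 0x2b841dd9)
  (Net.cons (nat_lit 16) (nat_lit 0xdaa20000d968)
  (Net.cons (nat_lit 8) (nat_lit 0xde003800c000d0)
  (Net.cons (nat_lit 4) (nat_lit 0x902030c010b0c06)
  (Net.cons (nat_lit 2) (nat_lit 0x30000201121022)
  (Net.cons (nat_lit 1) (nat_lit 0x4150014004541445)
  (Net.cons (nat_lit 2) (nat_lit 0x2000020000000020)
  (Net.cons (nat_lit 4) (nat_lit 0x608020c0c040e08)
  (Net.cons (nat_lit 8) (nat_lit 0xb6001800580060)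
  (Net.cons (nat_lit 16) (nat_lit 0xf1680000cdfc)
  (Net.cons (nat_lit 32) (nat_lit 0x2beade82)
  Net.nil)))))))))))
noncomputable def ns285 : ℕ → Net := upd (fun _ => Net.nil) 0 x284
theorem der286 : Der 56 (finX 56) (cl (finG m124ok) [[1,2,5,0,3,0,0,0,4,1,1,4,3,0,2],[1,2,5,0,5,0,3,0,0,0,4,1,1,2,0,0,5,1,1,4,1,4,1,1,2,0,5,1,1,2],[1,2,5,1,2,0,4,1,1,1,2,1,4,3,0,0,0,5,1,1,4,1,4,1,1,2,0,5,1,1,2]]) ns285 := der283.add (wp_mem_cl (w := [1,2,5,0,3,0,0,0,4,1,1,4,3,0,2]) (by decide)) ((finModel m124ok).toIsPre.rep_word (k := 6) (w := [1,2,5,0,3,0,0,0,4,1,1,4,3,0,2]) (n := x284) (by decide +kernel)) 0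
noncomputable def x287 : Net := (Net.cons (nat_lit 32) (nat_lit 0x4003086)
  (Net.cons (nat_lit 16) (nat_lit 0xa6f40000393c)
  (Net.cons (nat_lit 8) (nat_lit 0x3a00b800440068)
  (Net.cons (nat_lit 4) (nat_lit 0xc03040e050903)
  (Net.cons (nat_lit 2) (nat_lit 0x222211110211020)
  (Net.cons (nat_lit 1) (nat_lit 0x1440110414144005)
  (Net.cons (nat_lit 2) (nat_lit 0x20200022222000)
  (Net.cons (nat_lit 4) (nat_lit 0xa0802000a0c0006)
  (Net.cons (nat_lit 8) (nat_lit 0x9800f000340020)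
  (Net.cons (nat_lit 16) (nat_lit 0xa6840000e234)
  (Net.cons (nat_lit 32) (nat_lit 0x4e483d8)
  Net.nil)))))))))))
noncomputable def ns288 : ℕ → Net := upd ns285 1 x287
theorem der289 : Der 56 (finX 56) (cl (finG m124ok) [[1,2,5,0,3,0,0,0,4,1,1,4,3,0,2],[1,2,5,0,5,0,3,0,0,0,4,1,1,2,0,0,5,1,1,4,1,4,1,1,2,0,5,1,1,2],[1,2,5,1,2,0,4,1,1,1,2,1,4,3,0,0,0,5,1,1,4,1,4,1,1,2,0,5,1,1,2]]) ns288 := der286.add (wp_mem_cl (w := [1,2,5,0,5,0,3,0,0,0,4,1,1,2,0,0,5,1,1,4,1,4,1,1,2,0,5,1,1,2]) (by decide)) ((finModel m124ok).toIsPre.rep_word (k := 6) (w := [1,2,5,0,5,0,3,0,0,0,4,1,1,2,0,0,5,1,1,4,1,4,1,1,2,0,5,1,1,2]) (n := x287) (by decide +kernel)) 1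
noncomputable def x290 : Net := (Net.cons (nat_lit 32) (nat_lit 0x546e8c83)
  (Net.cons (nat_lit 16) (nat_lit 0x964c0000d1ee)
  (Net.cons (nat_lit 8) (nat_lit 0xc2003e001300f2)
  (Net.cons (nat_lit 4) (nat_lit 0x6090003000108)
  (Net.cons (nat_lit 2) (nat_lit 0x2020200100003002)
  (Net.cons (nat_lit 1) (nat_lit 0x1004501050115400)
  (Net.cons (nat_lit 2) (nat_lit 0x2000002000220000)
  (Net.cons (nat_lit 4) (nat_lit 0xc0a0008000200)
  (Net.cons (nat_lit 8) (nat_lit 0x500036001000d6)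
  (Net.cons (nat_lit 16) (nat_lit 0xc6a00000d0f4)
  (Net.cons (nat_lit 32) (nat_lit 0x54449e74)
  Net.nil)))))))))))
noncomputable def ns291 : ℕ → Net := upd ns288 2 x290
theorem der292 : Der 56 (finX 56) (cl (finG m124ok) [[1,2,5,0,3,0,0,0,4,1,1,4,3,0,2],[1,2,5,0,5,0,3,0,0,0,4,1,1,2,0,0,5,1,1,4,1,4,1,1,2,0,5,1,1,2],[1,2,5,1,2,0,4,1,1,1,2,1,4,3,0,0,0,5,1,1,4,1,4,1,1,2,0,5,1,1,2]]) ns291 := der289.add (wp_mem_cl (w := [1,2,5,1,2,0,4,1,1,1,2,1,4,3,0,0,0,5,1,1,4,1,4,1,1,2,0,5,1,1,2]) (by decide)) ((finModel m124ok).toIsPre.rep_word (k := 6) (w := [1,2,5,1,2,0,4,1,1,1,2,1,4,3,0,0,0,5,1,1,4,1,4,1,1,2,0,5,1,1,2]) (n := x290) (by decide +kernel)) 2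
noncomputable def x293 : Net := (Net.cons (nat_lit 32) (nat_lit 0x40c15380)
  (Net.cons (nat_lit 16) (nat_lit 0xa6a000000224)
  (Net.cons (nat_lit 8) (nat_lit 0x9a000c006c0008)
  (Net.cons (nat_lit 4) (nat_lit 0x2020005070c000a)
  (Net.cons (nat_lit 2) (nat_lit 0x1020102020023222)
  (Net.cons (nat_lit 1) (nat_lit 0x441040444500004)
  (Net.cons (nat_lit 2) (nat_lit 0x20000022000000)
  (Net.cons (nat_lit 4) (nat_lit 0x20004000c0000)
  (Net.cons (nat_lit 8) (nat_lit 0x1a000c00600008)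
  (Net.cons (nat_lit 16) (nat_lit 0xa6a000000a00)
  (Net.cons (nat_lit 32) (nat_lit 0x40810080)
  Net.nil)))))))))))
noncomputable def x293s : ℕ → Net := upd ns291 3 x293
theorem der294 : Der 56 (finX 56) (cl (finG m124ok) [[1,2,5,0,3,0,0,0,4,1,1,4,3,0,2],[1,2,5,0,5,0,3,0,0,0,4,1,1,2,0,0,5,1,1,4,1,4,1,1,2,0,5,1,1,2],[1,2,5,1,2,0,4,1,1,1,2,1,4,3,0,0,0,5,1,1,4,1,4,1,1,2,0,5,1,1,2]]) x293s := der292.ext (k := 6) (w := [1,0,1,2,0,0]) 3 (by decide +kernel)
noncomputable def L295 : Lev := Lev.cons 1 2 [[3]] Lev.nil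
noncomputable def L296 : Lev := Lev.cons 0 27 [[0],[1],[2]] L295
theorem lc297 : Lev.chk 56 3 x293s vT 100 L296 = true := by decide +kernel
theorem lb298 : 54 ≤ Nat.card (cl (finG m124ok) [[1,2,5,0,3,0,0,0,4,1,1,4,3,0,2],[1,2,5,0,5,0,3,0,0,0,4,1,1,2,0,0,5,1,1,4,1,4,1,1,2,0,5,1,1,2],[1,2,5,1,2,0,4,1,1,1,2,1,4,3,0,0,0,5,1,1,4,1,4,1,1,2,0,5,1,1,2]]) := le_of_eq_of_le (by decide +kernel) (der294.card_ge lc297)
theorem ix282 : Idx.{u} io C204 [0,1,2,3,4,5] [[1,2,5,0,3,0,0,0,4,1,1,4,3,0,2],[1,2,5,0,5,0,3,0,0,0,4,1,1,2,0,0,5,1,1,4,1,4,1,1,2,0,5,1,1,2],[1,2,5,1,2,0,4,1,1,1,2,1,4,3,0,0,0,5,1,1,4,1,4,1,1,2,0,5,1,1,2]] 112 := (Idx.of bd200 sat223 (by decide +kernel) lb298 (by decide +kernel)).of_imp imp206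
noncomputable def lk299 : List (List ℕ × List ℕ × Pf) := [([1,2,1],[1,3,1],[([6,1,3,1],28)]),([0,5],[0,6,1,1,3,0,0,5,0,0,0,3,1,7,1],[([6,0,6,1,1,3,0,0,5,0,0,0,3,1],32)]),([0,3,0],[0,2,0],[([6],29)]),([0,0,4,1,1],[0,0,5,1,1],[([6,0,0,5,1,1],30)]),([4,1],[0,6,0,2,1,1,1,4,1,1,2,0,0,7,1],[([6,0,6],33)]),([2],[2],[([6],27)]),([0,0,5,1,1],[0,0,4,1,1],[([6],31)])]
noncomputable def O300 : ℕ := (nat_lit 0xbffffbfffff657dcd3ff92fa1046a7c0021c881ef08c008c008122080000)
noncomputable def M301 : ℕ := (nat_lit 0xffffffffffffffffffffffffffffffffffffffffffffffffffffffffffff)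
noncomputable def b302 : ℕ := (nat_lit 0x210c00210089900001688323a00752bb42ad1609e765ff)
theorem cl303 : Clo.{u} io C204 [0,1,2,3,4,5] 240 m203 M301 (mkB [(6,b302),(7,b280)]) := cl281.new (k := 5) (b := 6) (q := 6) (p := 19) (r := 200) (n := 112) (O := O300) (by decide +kernel) (lks := lk299) (by decide +kernel) (gens_of_lall2 (m := [[0,1,2,3,4,2,5],[0,1,1,2,3,5,6,4,4,0,6,5],[0,1,0,3,0,4,2,6,4,4,0,6,5]]) (by decide +kernel)) ix282 (by decide +kernel)
noncomputable def b304 : ℕ := (nat_lit 0xffffffffffffffffffffffffffffffffffffffffffffffffffffffffffff)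
noncomputable def b305 : ℕ := (nat_lit 0xffffffffffffffffffffffffffffffffffffffffffffffffffffffffffff)
theorem cl306 : Clo.{u} io C204 [0,1,2,3,4,5] 240 m203 M301 (mkB [(6,b304),(7,b305)]) := cl303.ops (os := [Op.ext 6 3 [([2],[2],[([6],27)]),([3],[3],[([6,3],26)]),([0,3,0],[0,2,0],[([6],29)]),([1,2,1],[1,3,1],[([6,1,3,1],28)]),([0,0,5,1,1],[0,0,4,1,1],[([6],31)]),([0,0,4,1,1],[0,0,5,1,1],[([6,0,0,5,1,1],30)])],Op.inv 6,Op.rel 6 [] 7 [] [([],23)],Op.inv 6,Op.rel 7 [1,1,3,0,0,5,0,0,0,3,1] 7 [1,7,0,5,6,0] [([7,1,7,0,5,6,0,6],33)],Op.ext 7 4 [([3],[3],[([7,3,6],27)]),([2],[2],[([],26)]),([1,3,1],[1,2,1],[([7,1,2,1,6],29)]),([0,2,0],[0,3,0],[([],28)]),([0,0,5,1,1],[0,0,4,1,1],[([7,0,0,4,1,1,6],31)]),([0,0,4,1,1],[0,0,5,1,1],[([],30)])],Op.inv 7,Op.rel 6 [] 7 [] [([],23)],Op.inv 6,Op.rel 7 [1,1,3,0,0,5,0,0,0,3,1] 7 [1,7,0,5,6,0] [([7,1,7,0,5,6,0,6],33)],Op.ext 7 2 [([3],[3],[([7,3,6],27)]),([2],[2],[([],26)]),([1,3,1],[1,2,1],[([7,1,2,1,6],29)]),([0,2,0],[0,3,0],[([],28)]),([0,0,5,1,1],[0,0,4,1,1],[([7,0,0,4,1,1,6],31)]),([0,0,4,1,1],[0,0,5,1,1],[([],30)])],Op.inv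 7]) (by decide +kernel) (by decide +kernel)
theorem sat308 : Sat io C204 (finG m203ok) := m203s0.fin (k := 8) (by decide +kernel)
theorem bd307 : Bound.{u} io C204 [0,1,2,3,4,5,6,7] 1451520 := cl306.bound (by decide +kernel) sat308 (bd200.of_imp imp206)
noncomputable def r17 : List ℕ := [8,8]
noncomputable def r18 : List ℕ := [9,2,8,3]
noncomputable def r19 : List ℕ := [9,4,8,5]
noncomputable def r20 : List ℕ := [9,1,1,6,0,0,8,0,0,3,1,3,0,7,0,7,0,0,7]
noncomputable def r21 : List ℕ := [9,0,7,0,4,0,8,1,5,1,7,1,5]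
noncomputable def r22 : List ℕ := [9,1,5,8,0,8,0,0,5,1,1,7,1,1,5,0,0,7]
noncomputable def m309n0 : Net := (Net.cons (nat_lit 64) (nat_lit 0xea174908044e20)
  (Net.cons (nat_lit 32) (nat_lit 0x2ea7649000000000f1c209fa)
  (Net.cons (nat_lit 16) (nat_lit 0x40db000015430000e3230000ab0e)
  (Net.cons (nat_lit 8) (nat_lit 0x3a000f0065007600f400be007a00a0)
  (Net.cons (nat_lit 4) (nat_lit 0x600030b000b09030d09060507010c06)
  (Net.cons (nat_lit 2) (nat_lit 0x32220023203020121322321013113022)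
  (Net.cons (nat_lit 1) (nat_lit 0x40411404405441114541104045155454)
  (Net.cons (nat_lit 2) (nat_lit 0x20202002000022202020200020200002)
  (Net.cons (nat_lit 4) (nat_lit 0x4060206000a060a0e04000c040c0c00)
  (Net.cons (nat_lit 8) (nat_lit 0x5800ac007400bc001000a400c80078)
  (Net.cons (nat_lit 16) (nat_lit 0x4670000094580000004800000756)
  (Net.cons (nat_lit 32) (nat_lit 0x2edbb33000000000767fd7ac)
  (Net.cons (nat_lit 64) (nat_lit 0xb24b7150018084)
  Net.nil)))))))))))))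
noncomputable def m309n1 : Net := (Net.cons (nat_lit 64) (nat_lit 0xb24b7150018084)
  (Net.cons (nat_lit 32) (nat_lit 0xaefbb33000000000767bb79c)
  (Net.cons (nat_lit 16) (nat_lit 0xfbc30000d53c0000ffb70000ee4e)
  (Net.cons (nat_lit 8) (nat_lit 0x570014000900390084003100800054)
  (Net.cons (nat_lit 4) (nat_lit 0xd0d0402050e0d040c03010b080a020e)
  (Net.cons (nat_lit 2) (nat_lit 0x12221221022122000002310212313130)
  (Net.cons (nat_lit 1) (nat_lit 0x10011045414414141405511404541554)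
  (Net.cons (nat_lit 2) (nat_lit 0x2020022222022200022200022000)
  (Net.cons (nat_lit 4) (nat_lit 0x4000c0000080c0e000a02060c0c0600)
  (Net.cons (nat_lit 8) (nat_lit 0x90001800dc005a00be0034005a0088)
  (Net.cons (nat_lit 16) (nat_lit 0x5f080000956400003cdc0000d216)
  (Net.cons (nat_lit 32) (nat_lit 0xaea7449000000000d1c02dea)
  (Net.cons (nat_lit 64) (nat_lit 0xea174908044e20)
  Net.nil)))))))))))))
noncomputable def m309n2 : Net := (Net.cons (nat_lit 64) (nat_lit 0xa1bc42d0c4000000)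
  (Net.cons (nat_lit 32) (nat_lit 0x53be30800000000f4725300)
  (Net.cons (nat_lit 16) (nat_lit 0xde60000e3ae0000e1b4000068c4)
  (Net.cons (nat_lit 8) (nat_lit 0x890010007600e2008200d0000e0024)
  (Net.cons (nat_lit 4) (nat_lit 0x80a080a080a09040c040203020a0600)
  (Net.cons (nat_lit 2) (nat_lit 0x20320033212222313130200022222300)
  (Net.cons (nat_lit 1) (nat_lit 0x4500450404140505051101140044504)
  (Net.cons (nat_lit 2) (nat_lit 0x202220000000200020022000)
  (Net.cons (nat_lit 4) (nat_lit 0x80a080a020808040c040000040c0000)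
  (Net.cons (nat_lit 8) (nat_lit 0x80090000400e20002001000600024)
  (Net.cons (nat_lit 16) (nat_lit 0x89040000e3a60000612400006844)
  (Net.cons (nat_lit 32) (nat_lit 0x53be30800000000f4325300)
  (Net.cons (nat_lit 64) (nat_lit 0xa1bc42d0c4000000)
  Net.nil)))))))))))))
noncomputable def m309n3 : Net := (Net.cons (nat_lit 64) (nat_lit 0xa1bc42d0c4000000)
  (Net.cons (nat_lit 32) (nat_lit 0x53be30800000000f4725300)
  (Net.cons (nat_lit 16) (nat_lit 0xde60000e3ae0000e1b4000068c4)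
  (Net.cons (nat_lit 8) (nat_lit 0x890010007600e2008200d0000e0024)
  (Net.cons (nat_lit 4) (nat_lit 0x80a080a080a09040c040203020a0600)
  (Net.cons (nat_lit 2) (nat_lit 0x20320033212222313130200022222300)
  (Net.cons (nat_lit 1) (nat_lit 0x4500450404140505051101140044504)
  (Net.cons (nat_lit 2) (nat_lit 0x202220000000200020022000)
  (Net.cons (nat_lit 4) (nat_lit 0x80a080a020808040c040000040c0000)
  (Net.cons (nat_lit 8) (nat_lit 0x80090000400e20002001000600024)
  (Net.cons (nat_lit 16) (nat_lit 0x89040000e3a60000612400006844)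
  (Net.cons (nat_lit 32) (nat_lit 0x53be30800000000f4325300)
  (Net.cons (nat_lit 64) (nat_lit 0xa1bc42d0c4000000)
  Net.nil)))))))))))))
noncomputable def m309n4 : Net := (Net.cons (nat_lit 64) (nat_lit 0x8072311850b20040)
  (Net.cons (nat_lit 32) (nat_lit 0x1aae44000000000f2854240)
  (Net.cons (nat_lit 16) (nat_lit 0x29500000df320000a9000000c6f4)
  (Net.cons (nat_lit 8) (nat_lit 0xe800eb007900c4003e0001001000c0)
  (Net.cons (nat_lit 4) (nat_lit 0x80f0508060c0606030e0c020e0204)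
  (Net.cons (nat_lit 2) (nat_lit 0x2000200202220010133032132200300)
  (Net.cons (nat_lit 1) (nat_lit 0x41105401444400504041014450444010)
  (Net.cons (nat_lit 2) (nat_lit 0x2000200202200002002022000020000)
  (Net.cons (nat_lit 4) (nat_lit 0xe0008000806060e0c0c02000200)
  (Net.cons (nat_lit 8) (nat_lit 0xe80078006000c4009800c0001000c0)
  (Net.cons (nat_lit 16) (nat_lit 0x2950000059320000a9000000c6f4)
  (Net.cons (nat_lit 32) (nat_lit 0x18ae44000000000f2854240)
  (Net.cons (nat_lit 64) (nat_lit 0x8072311850b20040)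
  Net.nil)))))))))))))
noncomputable def m309n5 : Net := (Net.cons (nat_lit 64) (nat_lit 0x8072311850b20040)
  (Net.cons (nat_lit 32) (nat_lit 0x1aae44000000000f2854240)
  (Net.cons (nat_lit 16) (nat_lit 0x29500000df320000a9000000c6f4)
  (Net.cons (nat_lit 8) (nat_lit 0xe800eb007900c4003e0001001000c0)
  (Net.cons (nat_lit 4) (nat_lit 0x80f0508060c0606030e0c020e0204)
  (Net.cons (nat_lit 2) (nat_lit 0x2000200202220010133032132200300)
  (Net.cons (nat_lit 1) (nat_lit 0x41105401444400504041014450444010)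
  (Net.cons (nat_lit 2) (nat_lit 0x2000200202200002002022000020000)
  (Net.cons (nat_lit 4) (nat_lit 0xe0008000806060e0c0c02000200)
  (Net.cons (nat_lit 8) (nat_lit 0xe80078006000c4009800c0001000c0)
  (Net.cons (nat_lit 16) (nat_lit 0x2950000059320000a9000000c6f4)
  (Net.cons (nat_lit 32) (nat_lit 0x18ae44000000000f2854240)
  (Net.cons (nat_lit 64) (nat_lit 0x8072311850b20040)
  Net.nil)))))))))))))
noncomputable def m309n6 : Net := (Net.cons (nat_lit 64) (nat_lit 0x7788e82ee0080020)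
  (Net.cons (nat_lit 32) (nat_lit 0x2515b1c000000000c2310024)
  (Net.cons (nat_lit 16) (nat_lit 0x58720000a4280000338400008808)
  (Net.cons (nat_lit 8) (nat_lit 0x820035004400fa00fc000600a800ec)
  (Net.cons (nat_lit 4) (nat_lit 0x50e080c02080e05020908080002000a)
  (Net.cons (nat_lit 2) (nat_lit 0x13300323200221200122020000200302)
  (Net.cons (nat_lit 1) (nat_lit 0x41511010114145440440440100010114)
  (Net.cons (nat_lit 2) (nat_lit 0x2000020200200200220020000000202)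
  (Net.cons (nat_lit 4) (nat_lit 0x80e0c08020800040208080000020002)
  (Net.cons (nat_lit 8) (nat_lit 0x820070004000fa00fc000600a000ac)
  (Net.cons (nat_lit 16) (nat_lit 0x58720000a4280000338400008808)
  (Net.cons (nat_lit 32) (nat_lit 0x2515b1c000000000c2290100)
  (Net.cons (nat_lit 64) (nat_lit 0x7788e92ee0200020)
  Net.nil)))))))))))))
noncomputable def m309n7 : Net := (Net.cons (nat_lit 64) (nat_lit 0x7788e82ee0080020)
  (Net.cons (nat_lit 32) (nat_lit 0x2515b1c000000000c2310024)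
  (Net.cons (nat_lit 16) (nat_lit 0x58720000a4280000338400008808)
  (Net.cons (nat_lit 8) (nat_lit 0x820035004400fa00fc000600a800ec)
  (Net.cons (nat_lit 4) (nat_lit 0x50e080c02080e05020908080002000a)
  (Net.cons (nat_lit 2) (nat_lit 0x13300323200221200122020000200302)
  (Net.cons (nat_lit 1) (nat_lit 0x41511010114145440440440100010114)
  (Net.cons (nat_lit 2) (nat_lit 0x2000020200200200220020000000202)
  (Net.cons (nat_lit 4) (nat_lit 0x80e0c08020800040208080000020002)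
  (Net.cons (nat_lit 8) (nat_lit 0x820070004000fa00fc000600a000ac)
  (Net.cons (nat_lit 16) (nat_lit 0x58720000a4280000338400008808)
  (Net.cons (nat_lit 32) (nat_lit 0x2515b1c000000000c2290100)
  (Net.cons (nat_lit 64) (nat_lit 0x7788e92ee0200020)
  Net.nil)))))))))))))
noncomputable def m309n8 : Net := (Net.cons (nat_lit 64) (nat_lit 0x800b1a5b20188420)
  (Net.cons (nat_lit 32) (nat_lit 0x8a286c40000000003220c4a4)
  (Net.cons (nat_lit 16) (nat_lit 0x82800000ad580000040900002eb4)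
  (Net.cons (nat_lit 8) (nat_lit 0xa0003a002200700006002e00ea0034)
  (Net.cons (nat_lit 4) (nat_lit 0xa0400070804000a06000e080c0d010c)
  (Net.cons (nat_lit 2) (nat_lit 0x121213000100200002032110021330)
  (Net.cons (nat_lit 1) (nat_lit 0x414014051410005400501444155)
  (Net.cons (nat_lit 2) (nat_lit 0x202000000200000000000020200)
  (Net.cons (nat_lit 4) (nat_lit 0x400000004000200000600040c0c0c)
  (Net.cons (nat_lit 8) (nat_lit 0xa00032000200700006008200ca0034)
  (Net.cons (nat_lit 16) (nat_lit 0x2800000a9580000020000002eb4)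
  (Net.cons (nat_lit 32) (nat_lit 0x8a286c40000000003200c4a4)
  (Net.cons (nat_lit 64) (nat_lit 0x800b1a5b20188420)
  Net.nil)))))))))))))
noncomputable def m309n9 : Net := (Net.cons (nat_lit 64) (nat_lit 0x800b1a5b20188420)
  (Net.cons (nat_lit 32) (nat_lit 0x8a286c40000000003220c4a4)
  (Net.cons (nat_lit 16) (nat_lit 0x82800000ad580000040900002eb4)
  (Net.cons (nat_lit 8) (nat_lit 0xa0003a002200700006002e00ea0034)
  (Net.cons (nat_lit 4) (nat_lit 0xa0400070804000a06000e080c0d010c)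
  (Net.cons (nat_lit 2) (nat_lit 0x121213000100200002032110021330)
  (Net.cons (nat_lit 1) (nat_lit 0x414014051410005400501444155)
  (Net.cons (nat_lit 2) (nat_lit 0x202000000200000000000020200)
  (Net.cons (nat_lit 4) (nat_lit 0x400000004000200000600040c0c0c)
  (Net.cons (nat_lit 8) (nat_lit 0xa00032000200700006008200ca0034)
  (Net.cons (nat_lit 16) (nat_lit 0x2800000a9580000020000002eb4)
  (Net.cons (nat_lit 32) (nat_lit 0x8a286c40000000003200c4a4)
  (Net.cons (nat_lit 64) (nat_lit 0x800b1a5b20188420)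
  Net.nil)))))))))))))
noncomputable def m309l : List Net := [m309n0,m309n1,m309n2,m309n3,m309n4,m309n5,m309n6,m309n7,m309n8,m309n9]
noncomputable abbrev m309 : ℕ → Net := lk Net.nil m309l
theorem m309ok : NetsOk 120 m309 vT := netsOk_of (by decide +kernel)
theorem m309s0 : Sat io [] (finG m309ok) := fin_sat_nil _ (k := 7) (n := 10) (by decide +kernel)
noncomputable def C310 : List (List ℕ) := [r0,r1,r2,r3,r4,r5,r6,r7,r8,r9,r10,r11,r12,r13,r14,r15,r16,r17,r18,r19,r20,r21,r22]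
theorem cl311 : Clo.{u} io C310 [0,1,2,3,4,5,6,7] 120 m309 1 (mkB []) := Clo.start (by decide +kernel)
theorem imp312 : Imp.{u} io C310 C204 := Imp.of_chk (pfs := [[([],1)],[([],3)],[([],5)],[([],7)],[([],9)],[([],11)],[([],13)],[([],15)],[([],17)],[([],19)],[([],21)],[([],23)],[([],25)],[([],27)],[([],29)],[([],31)],[([],33)]]) (by decide +kernel)
theorem der314 : Der 56 (finX 56) (cl (finG m202ok) [[2],[4],[0,7,0,4,0],[1,1,6,0,0]]) (fun _ => Net.nil) := Der.zero (finModel m202ok).inj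
noncomputable def ns315 : ℕ → Net := upd (fun _ => Net.nil) 0 (m202 2)
theorem der316 : Der 56 (finX 56) (cl (finG m202ok) [[2],[4],[0,7,0,4,0],[1,1,6,0,0]]) ns315 := der314.add (wp_mem_cl (w := [2]) (by decide)) (rep_letter (finModel m202ok) 2) 0
noncomputable def ns317 : ℕ → Net := upd ns315 1 (m202 4)
theorem der318 : Der 56 (finX 56) (cl (finG m202ok) [[2],[4],[0,7,0,4,0],[1,1,6,0,0]]) ns317 := der316.add (wp_mem_cl (w := [4]) (by decide)) (rep_letter (finModel m202ok) 4) 1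
noncomputable def x319 : Net := (Net.cons (nat_lit 32) (nat_lit 0x84be89a0)
  (Net.cons (nat_lit 16) (nat_lit 0xa62200009fd5)
  (Net.cons (nat_lit 8) (nat_lit 0x22002200e500dd)
  (Net.cons (nat_lit 4) (nat_lit 0x60e070c0f050208)
  (Net.cons (nat_lit 2) (nat_lit 0x2001132221310300)
  (Net.cons (nat_lit 1) (nat_lit 0x4011141151551450)
  (Net.cons (nat_lit 2) (nat_lit 0x20002200002200)
  (Net.cons (nat_lit 4) (nat_lit 0x40c0a000a040c0a)
  (Net.cons (nat_lit 8) (nat_lit 0x80006600bc00e6)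
  (Net.cons (nat_lit 16) (nat_lit 0x26fc0000d7e8)
  (Net.cons (nat_lit 32) (nat_lit 0x8457c850)
  Net.nil)))))))))))
noncomputable def ns320 : ℕ → Net := upd ns317 2 x319
theorem der321 : Der 56 (finX 56) (cl (finG m202ok) [[2],[4],[0,7,0,4,0],[1,1,6,0,0]]) ns320 := der318.add (wp_mem_cl (w := [0,7,0,4,0]) (by decide)) ((finModel m202ok).toIsPre.rep_word (k := 6) (w := [0,7,0,4,0]) (n := x319) (by decide +kernel)) 2
noncomputable def x322 : Net := (Net.cons (nat_lit 32) (nat_lit 0x30511d5c)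
  (Net.cons (nat_lit 16) (nat_lit 0x922a0000de5a)
  (Net.cons (nat_lit 8) (nat_lit 0x80002400ee00e0)
  (Net.cons (nat_lit 4) (nat_lit 0x802080e0809000a)
  (Net.cons (nat_lit 2) (nat_lit 0x200302003002023)
  (Net.cons (nat_lit 1) (nat_lit 0x1045501515040405)
  (Net.cons (nat_lit 2) (nat_lit 0x2000000000)
  (Net.cons (nat_lit 4) (nat_lit 0x802080e0808000a)
  (Net.cons (nat_lit 8) (nat_lit 0x80002000a600a0)
  (Net.cons (nat_lit 16) (nat_lit 0x922800009c1a)
  (Net.cons (nat_lit 32) (nat_lit 0x30411c5c)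
  Net.nil)))))))))))
noncomputable def ns323 : ℕ → Net := upd ns320 3 x322
theorem der324 : Der 56 (finX 56) (cl (finG m202ok) [[2],[4],[0,7,0,4,0],[1,1,6,0,0]]) ns323 := der321.add (wp_mem_cl (w := [1,1,6,0,0]) (by decide)) ((finModel m202ok).toIsPre.rep_word (k := 6) (w := [1,1,6,0,0]) (n := x322) (by decide +kernel)) 3
noncomputable def x325 : Net := (Net.cons (nat_lit 32) (nat_lit 0x836e9639)
  (Net.cons (nat_lit 16) (nat_lit 0xf3b200006261)
  (Net.cons (nat_lit 8) (nat_lit 0x48002a008e0041)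
  (Net.cons (nat_lit 4) (nat_lit 0xc040e0c040c0f09)
  (Net.cons (nat_lit 2) (nat_lit 0x2302020300200313)
  (Net.cons (nat_lit 1) (nat_lit 0x1454410444410114)
  (Net.cons (nat_lit 2) (nat_lit 0x2002200020000000)
  (Net.cons (nat_lit 4) (nat_lit 0x6000608080e060e)
  (Net.cons (nat_lit 8) (nat_lit 0x7a002800860010)
  (Net.cons (nat_lit 16) (nat_lit 0x71b800005206)
  (Net.cons (nat_lit 32) (nat_lit 0x83c4e62c)
  Net.nil)))))))))))
noncomputable def x325s : ℕ → Net := upd ns323 4 x325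
theorem der326 : Der 56 (finX 56) (cl (finG m202ok) [[2],[4],[0,7,0,4,0],[1,1,6,0,0]]) x325s := der324.ext (k := 6) (w := [2,1,2,0,0,2,3]) 4 (by decide +kernel)
noncomputable def x327 : Net := (Net.cons (nat_lit 32) (nat_lit 0xb119fa93)
  (Net.cons (nat_lit 16) (nat_lit 0x1be800000d06)
  (Net.cons (nat_lit 8) (nat_lit 0x53008100a800d2)
  (Net.cons (nat_lit 4) (nat_lit 0xa0a010f02060a0e)
  (Net.cons (nat_lit 2) (nat_lit 0x2022102203300001)
  (Net.cons (nat_lit 1) (nat_lit 0x4105104144441454)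
  (Net.cons (nat_lit 2) (nat_lit 0x2200000020200000)
  (Net.cons (nat_lit 4) (nat_lit 0xa08000804020a0a)
  (Net.cons (nat_lit 8) (nat_lit 0xea009000e60088)
  (Net.cons (nat_lit 16) (nat_lit 0x8b8800004d6c)
  (Net.cons (nat_lit 32) (nat_lit 0xb1173310)
  Net.nil)))))))))))
noncomputable def x327s : ℕ → Net := upd x325s 5 x327
theorem der328 : Der 56 (finX 56) (cl (finG m202ok) [[2],[4],[0,7,0,4,0],[1,1,6,0,0]]) x327s := der326.ext (k := 6) (w := [4,0,4,4,4,4,0,4]) 5 (by decide +kernel)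
noncomputable def x329 : Net := (Net.cons (nat_lit 32) (nat_lit 0xd4a14c91)
  (Net.cons (nat_lit 16) (nat_lit 0x8c6000021e2)
  (Net.cons (nat_lit 8) (nat_lit 0x280092002000c2)
  (Net.cons (nat_lit 4) (nat_lit 0x20c0c0e00040806)
  (Net.cons (nat_lit 2) (nat_lit 0x1233033300020002)
  (Net.cons (nat_lit 1) (nat_lit 0x4415051400541051)
  (Net.cons (nat_lit 2) (nat_lit 0x220002000022000)
  (Net.cons (nat_lit 4) (nat_lit 0xe0c0c02000c0a0c)
  (Net.cons (nat_lit 8) (nat_lit 0x6400d4002800a8)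
  (Net.cons (nat_lit 16) (nat_lit 0xdce0000002d2)
  (Net.cons (nat_lit 32) (nat_lit 0xd493cc4c)
  Net.nil)))))))))))
noncomputable def x329s : ℕ → Net := upd x327s 6 x329
theorem der330 : Der 56 (finX 56) (cl (finG m202ok) [[2],[4],[0,7,0,4,0],[1,1,6,0,0]]) x329s := der328.ext (k := 6) (w := [4,4,0,4,4]) 6 (by decide +kernel)
noncomputable def x331 : Net := (Net.cons (nat_lit 32) (nat_lit 0x3a90e040)
  (Net.cons (nat_lit 16) (nat_lit 0x128200008540)
  (Net.cons (nat_lit 8) (nat_lit 0x9200900010001c)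
  (Net.cons (nat_lit 4) (nat_lit 0x80409080402080c)
  (Net.cons (nat_lit 2) (nat_lit 0x20022010020221)
  (Net.cons (nat_lit 1) (nat_lit 0x1040111500014410)
  (Net.cons (nat_lit 2) (nat_lit 0x20202000020220)
  (Net.cons (nat_lit 4) (nat_lit 0x402080400080c)
  (Net.cons (nat_lit 8) (nat_lit 0x9000900010001c)
  (Net.cons (nat_lit 16) (nat_lit 0x128200000440)
  (Net.cons (nat_lit 32) (nat_lit 0x3a90e000)
  Net.nil)))))))))))
noncomputable def x331s : ℕ → Net := upd x329s 7 x331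
theorem der332 : Der 56 (finX 56) (cl (finG m202ok) [[2],[4],[0,7,0,4,0],[1,1,6,0,0]]) x331s := der330.ext (k := 6) (w := [5,6,5,5]) 7 (by decide +kernel)
noncomputable def x333 : Net := (Net.cons (nat_lit 32) (nat_lit 0x2008058)
  (Net.cons (nat_lit 16) (nat_lit 0xc90800009c48)
  (Net.cons (nat_lit 8) (nat_lit 0x50001000c00005)
  (Net.cons (nat_lit 4) (nat_lit 0xc0402000a0c010d)
  (Net.cons (nat_lit 2) (nat_lit 0x2020003220221201)
  (Net.cons (nat_lit 1) (nat_lit 0x1544100115140440)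
  (Net.cons (nat_lit 2) (nat_lit 0x2020000220220200)
  (Net.cons (nat_lit 4) (nat_lit 0xc0402000a0c000c)
  (Net.cons (nat_lit 8) (nat_lit 0x50001000c00054)
  (Net.cons (nat_lit 16) (nat_lit 0xc90800001c48)
  (Net.cons (nat_lit 32) (nat_lit 0x2008058)
  Net.nil)))))))))))
noncomputable def x333s : ℕ → Net := upd x331s 8 x333
theorem der334 : Der 56 (finX 56) (cl (finG m202ok) [[2],[4],[0,7,0,4,0],[1,1,6,0,0]]) x333s := der332.ext (k := 6) (w := [6,5,5,5]) 8 (by decide +kernel)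
noncomputable def L335 : Lev := Lev.cons 8 6 [[7],[8]] Lev.nil

end Cfsg.Agent.H6.Cl.O8
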