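import Cfsg.Agent.H6.ClF5
set_option maxRecDepth 100000
set_option Elab.async false
namespace Cfsg.Agent.H6.Cl.O7
open Cfsg.Agent.H6
universe u

theorem cv681 : wp (finG m667ok) [0,0,0,0,0,0,0] ∈ cl (finG m667ok) us668 := mem_cl_of_eqv (eqv_of_faith (finModel m667ok) (faith_fin 4428) 13) (R := [[0,0,0,0,0,0,0]]) (sl := [[]]) (by decide +kernel) _ (List.mem_singleton_self _)
theorem cv682 : wp (finG m667ok) [2,2] ∈ cl (finG m667ok) us668 := mem_cl_of_eqv (eqv_of_faith (finModel m667ok) (faith_fin 4428) 13) (R := [[2,2]]) (sl := [[]]) (by decide +kernel) _ (List.mem_singleton_self _)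
theorem cv683 : wp (finG m667ok) [2,0,2,0,2,0,2,0] ∈ cl (finG m667ok) us668 := mem_cl_of_eqv (eqv_of_faith (finModel m667ok) (faith_fin 4428) 13) (R := [[2,0,2,0,2,0,2,0]]) (sl := [[]]) (by decide +kernel) _ (List.mem_singleton_self _)
theorem cv684 : wp (finG m667ok) [2,0,0,2,0,0,2,0,0] ∈ cl (finG m667ok) us668 := mem_cl_of_eqv (eqv_of_faith (finModel m667ok) (faith_fin 4428) 13) (R := [[2,0,0,2,0,0,2,0,0]]) (sl := [[]]) (by decide +kernel) _ (List.mem_singleton_self _)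
theorem cv685 : wp (finG m667ok) [3,1,1,1,3,0,3,0,2,1,2,0,0,0,2,1,1] ∈ cl (finG m667ok) us668 := mem_cl_of_eqv (eqv_of_faith (finModel m667ok) (faith_fin 4428) 13) (R := [[3,1,1,1,3,0,3,0,2,1,2,0,0,0,2,1,1]]) (sl := [[]]) (by decide +kernel) _ (List.mem_singleton_self _)
theorem cv686 : wp (finG m667ok) [4,4] ∈ cl (finG m667ok) us668 := mem_cl_of_eqv (eqv_of_faith (finModel m667ok) (faith_fin 4428) 13) (R := [[4,4]]) (sl := [[]]) (by decide +kernel) _ (List.mem_singleton_self _)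
theorem cv687 : wp (finG m667ok) [4,2,4,2,4,2] ∈ cl (finG m667ok) us668 := mem_cl_of_eqv (eqv_of_faith (finModel m667ok) (faith_fin 4428) 13) (R := [[4,2,4,2,4,2]]) (sl := [[]]) (by decide +kernel) _ (List.mem_singleton_self _)
theorem cv688 : wp (finG m667ok) [4,1,2,4,1,2,4,1,2] ∈ cl (finG m667ok) us668 := mem_cl_of_eqv (eqv_of_faith (finModel m667ok) (faith_fin 4428) 13) (R := [[4,1,2,4,1,2,4,1,2]]) (sl := [[]]) (by decide +kernel) _ (List.mem_singleton_self _)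
theorem cv689 : wp (finG m667ok) [5,1,3,1,2,4,1,1,1,3,0,0,0,3,0] ∈ cl (finG m667ok) us668 := mem_cl_of_eqv (eqv_of_faith (finModel m667ok) (faith_fin 4428) 13) (R := [[5,1,3,1,2,4,1,1,1,3,0,0,0,3,0]]) (sl := [[]]) (by decide +kernel) _ (List.mem_singleton_self _)
theorem cv690 : wp (finG m667ok) [5,1,3,0,2,1,2,0,4,1,1,3,0,0,0,3] ∈ cl (finG m667ok) us668 := mem_cl_of_eqv (eqv_of_faith (finModel m667ok) (faith_fin 4428) 13) (R := [[5,1,3,0,2,1,2,0,4,1,1,3,0,0,0,3]]) (sl := [[]]) (by decide +kernel) _ (List.mem_singleton_self _)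
theorem cv691 : wp (finG m667ok) [5,1,5,0,2,1,4,0,4,1,1,3,1,3,0] ∈ cl (finG m667ok) us668 := mem_cl_of_eqv (eqv_of_faith (finModel m667ok) (faith_fin 4428) 13) (R := [[5,1,5,0,2,1,4,0,4,1,1,3,1,3,0]]) (sl := [[]]) (by decide +kernel) _ (List.mem_singleton_self _)
theorem cv692 : wp (finG m667ok) [6,6] ∈ cl (finG m667ok) us668 := mem_cl_of_eqv (eqv_of_faith (finModel m667ok) (faith_fin 4428) 13) (R := [[6,6]]) (sl := [[]]) (by decide +kernel) _ (List.mem_singleton_self _)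
theorem cv693 : wp (finG m667ok) [7,4,6,5] ∈ cl (finG m667ok) us668 := mem_cl_of_eqv (eqv_of_faith (finModel m667ok) (faith_fin 4428) 13) (R := [[7,4,6,5]]) (sl := [[]]) (by decide +kernel) _ (List.mem_singleton_self _)
theorem cv694 : wp (finG m667ok) [7,0,3,1,2,4,1,6,0,3,1,3,5,1] ∈ cl (finG m667ok) us668 := mem_cl_of_eqv (eqv_of_faith (finModel m667ok) (faith_fin 4428) 13) (R := [[7,0,3,1,2,4,1,6,0,3,1,3,5,1]]) (sl := [[1]]) (by decide +kernel) _ (List.mem_singleton_self _)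
theorem cv695 : wp (finG m667ok) [7,0,3,1,3,4,1,6,0,3,1,3,5,1] ∈ cl (finG m667ok) us668 := mem_cl_of_eqv (eqv_of_faith (finModel m667ok) (faith_fin 4428) 13) (R := [[7,0,3,1,3,4,1,6,0,3,1,3,5,1]]) (sl := [[1]]) (by decide +kernel) _ (List.mem_singleton_self _)
theorem cv696 : wp (finG m667ok) [7,0,0,0,3,5,0,4,1,6,0,0,0,3,5,0,5,1] ∈ cl (finG m667ok) us668 := mem_cl_of_eqv (eqv_of_faith (finModel m667ok) (faith_fin 4428) 13) (R := [[7,0,0,0,3,5,0,4,1,6,0,0,0,3,5,0,5,1]]) (sl := [[1]]) (by decide +kernel) _ (List.mem_singleton_self _)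
theorem cv697 : wp (finG m667ok) [7,3,0,3,5,7,0,0,6,0,0,0,3,1,3,0,0,3,5,0,5,1] ∈ cl (finG m667ok) us668 := mem_cl_of_eqv (eqv_of_faith (finModel m667ok) (faith_fin 4428) 13) (R := [[7,3,0,3,5,7,0,0,6,0,0,0,3,1,3,0,0,3,5,0,5,1]]) (sl := [[1,1]]) (by decide +kernel) _ (List.mem_singleton_self _)
theorem cv698 : wp (finG m667ok) [8,8] ∈ cl (finG m667ok) us668 := mem_cl_of_eqv (eqv_of_faith (finModel m667ok) (faith_fin 4428) 13) (R := [[8,8]]) (sl := [[0]]) (by decide +kernel) _ (List.mem_singleton_self _)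
theorem cv699 : wp (finG m667ok) [9,0,8,1] ∈ cl (finG m667ok) us668 := mem_cl_of_eqv (eqv_of_faith (finModel m667ok) (faith_fin 4428) 13) (R := [[9,0,8,1]]) (sl := [[]]) (by decide +kernel) _ (List.mem_singleton_self _)
theorem cv700 : wp (finG m667ok) [9,2,8,3] ∈ cl (finG m667ok) us668 := mem_cl_of_eqv (eqv_of_faith (finModel m667ok) (faith_fin 4428) 13) (R := [[9,2,8,3]]) (sl := [[]]) (by decide +kernel) _ (List.mem_singleton_self _)
theorem cv701 : wp (finG m667ok) [9,4,8,5] ∈ cl (finG m667ok) us668 := mem_cl_of_eqv (eqv_of_faith (finModel m667ok) (faith_fin 4428) 13) (R := [[9,4,8,5]]) (sl := [[]]) (by decide +kernel) _ (List.mem_singleton_self _)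
theorem cv702 : wp (finG m667ok) [9,7,1,1,7,0,0,6,8,7,1,1,7,0,0,7] ∈ cl (finG m667ok) us668 := mem_cl_of_eqv (eqv_of_faith (finModel m667ok) (faith_fin 4428) 13) (R := [[9,7,1,1,7,0,0,6,8,7,1,1,7,0,0,7]]) (sl := [[0]]) (by decide +kernel) _ (List.mem_singleton_self _)
theorem cv703 : wp (finG m667ok) [9,7,1,1,1,7,3,0,8,6,8,1,1,3,1,1,1,3,0,5,7,3,0,5] ∈ cl (finG m667ok) us668 := mem_cl_of_eqv (eqv_of_faith (finModel m667ok) (faith_fin 4428) 13) (R := [[9,7,1,1,1,7,3,0,8,6,8,1,1,3,1,1,1,3,0,5,7,3,0,5]]) (sl := [[]]) (by decide +kernel) _ (List.mem_singleton_self _)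

end Cfsg.Agent.H6.Cl.O7
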