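import Cfsg.Agent.H6.ClF6
set_option maxRecDepth 100000
set_option Elab.async false
namespace Cfsg.Agent.H6.Cl.O7
open Cfsg.Agent.H6
universe u

theorem cv704 : ∀ r ∈ C302, wp (finG m667ok) r ∈ cl (finG m667ok) us668 := (List.forall_mem_cons.2 ⟨cv681, (List.forall_mem_cons.2 ⟨cv682, (List.forall_mem_cons.2 ⟨cv683, (List.forall_mem_cons.2 ⟨cv684, (List.forall_mem_cons.2 ⟨cv685, (List.forall_mem_cons.2 ⟨cv686, (List.forall_mem_cons.2 ⟨cv687, (List.forall_mem_cons.2 ⟨cv688, (List.forall_mem_cons.2 ⟨cv689, (List.forall_mem_cons.2 ⟨cv690, (List.forall_mem_cons.2 ⟨cv691, (List.forall_mem_cons.2 ⟨cv692, (List.forall_mem_cons.2 ⟨cv693, (List.forall_mem_cons.2 ⟨cv694, (List.forall_mem_cons.2 ⟨cv695, (List.forall_mem_cons.2 ⟨cv696, (List.forall_mem_cons.2 ⟨cv697, (List.forall_mem_cons.2 ⟨cv698, (List.forall_mem_cons.2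 ⟨cv699, (List.forall_mem_cons.2 ⟨cv700, (List.forall_mem_cons.2 ⟨cv701, (List.forall_mem_cons.2 ⟨cv702, (List.forall_mem_cons.2 ⟨cv703, (by simp)⟩)⟩)⟩)⟩)⟩)⟩)⟩)⟩)⟩)⟩)⟩)⟩)⟩)⟩)⟩)⟩)⟩)⟩)⟩)⟩)⟩)⟩)⟩)
theorem cv705 : finG m667ok 9 * wp (finG m667ok) [0,5,6,2,4,1,3,7,0,5,6,2,4,1,3,7,0,5,6,2,4,1,3,7,0,5,6,2,4,1,3,7,0,5,6,2,4,1,3,7,0,5,6,2,4,1,3,7,0,5,6,2,4,1,3,7,0,5,6,2,4,1,3,7] = wp (finG m667ok) [0,5,6,2,4,1,3,7,0,5,6,2,4,1,3,7,0,5,6,2,4,1,3,7,0,5,6,2,4,1,3,7,0,5,6,2,4,1,3,7,0,5,6,2,4,1,3,7,0,5,6,2,4,1,3,7,0,5,6,2,4,1,3,7] * finG m667ok 9 := comm_of_eqv' (eqv_of_faith (finModel m667ok) (faith_fin 4428) 13) (us := [[0,5,6,2,4,1,3,7,0,5,6,2,4,1,3,7,0,5,6,2,4,1,3,7,0,5,6,2,4,1,3,7,0,5,6,2,4,1,3,7,0,5,6,2,4,1,3,7,0,5,6,2,4,1,3,7,0,5,6,2,4,1,3,7]]) (kl := [9]) (by decide +kernel) _ (List.mem_singleton_self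 _) _ (List.mem_singleton_self _)
theorem cv706 : finG m667ok 8 * wp (finG m667ok) [0,5,6,2,4,1,3,7,0,5,6,2,4,1,3,7,0,5,6,2,4,1,3,7,0,5,6,2,4,1,3,7,0,5,6,2,4,1,3,7,0,5,6,2,4,1,3,7,0,5,6,2,4,1,3,7,0,5,6,2,4,1,3,7] = wp (finG m667ok) [0,5,6,2,4,1,3,7,0,5,6,2,4,1,3,7,0,5,6,2,4,1,3,7,0,5,6,2,4,1,3,7,0,5,6,2,4,1,3,7,0,5,6,2,4,1,3,7,0,5,6,2,4,1,3,7,0,5,6,2,4,1,3,7] * finG m667ok 8 := comm_of_eqv' (eqv_of_faith (finModel m667ok) (faith_fin 4428) 13) (us := [[0,5,6,2,4,1,3,7,0,5,6,2,4,1,3,7,0,5,6,2,4,1,3,7,0,5,6,2,4,1,3,7,0,5,6,2,4,1,3,7,0,5,6,2,4,1,3,7,0,5,6,2,4,1,3,7,0,5,6,2,4,1,3,7]]) (kl := [8]) (by decide +kernel) _ (List.mem_singleton_self _) _ (List.mem_singleton_self _)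
theorem cv707 : finG m667ok 7 * wp (finG m667ok) [0,5,6,2,4,1,3,7,0,5,6,2,4,1,3,7,0,5,6,2,4,1,3,7,0,5,6,2,4,1,3,7,0,5,6,2,4,1,3,7,0,5,6,2,4,1,3,7,0,5,6,2,4,1,3,7,0,5,6,2,4,1,3,7] = wp (finG m667ok) [0,5,6,2,4,1,3,7,0,5,6,2,4,1,3,7,0,5,6,2,4,1,3,7,0,5,6,2,4,1,3,7,0,5,6,2,4,1,3,7,0,5,6,2,4,1,3,7,0,5,6,2,4,1,3,7,0,5,6,2,4,1,3,7] * finG m667ok 7 := comm_of_eqv' (eqv_of_faith (finModel m667ok) (faith_fin 4428) 13) (us := [[0,5,6,2,4,1,3,7,0,5,6,2,4,1,3,7,0,5,6,2,4,1,3,7,0,5,6,2,4,1,3,7,0,5,6,2,4,1,3,7,0,5,6,2,4,1,3,7,0,5,6,2,4,1,3,7,0,5,6,2,4,1,3,7]]) (kl := [7]) (by decide +kernel) _ (List.mem_singleton_self _) _ (List.mem_singleton_self _)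
theorem cv708 : finG m667ok 6 * wp (finG m667ok) [0,5,6,2,4,1,3,7,0,5,6,2,4,1,3,7,0,5,6,2,4,1,3,7,0,5,6,2,4,1,3,7,0,5,6,2,4,1,3,7,0,5,6,2,4,1,3,7,0,5,6,2,4,1,3,7,0,5,6,2,4,1,3,7] = wp (finG m667ok) [0,5,6,2,4,1,3,7,0,5,6,2,4,1,3,7,0,5,6,2,4,1,3,7,0,5,6,2,4,1,3,7,0,5,6,2,4,1,3,7,0,5,6,2,4,1,3,7,0,5,6,2,4,1,3,7,0,5,6,2,4,1,3,7] * finG m667ok 6 := comm_of_eqv' (eqv_of_faith (finModel m667ok) (faith_fin 4428) 13) (us := [[0,5,6,2,4,1,3,7,0,5,6,2,4,1,3,7,0,5,6,2,4,1,3,7,0,5,6,2,4,1,3,7,0,5,6,2,4,1,3,7,0,5,6,2,4,1,3,7,0,5,6,2,4,1,3,7,0,5,6,2,4,1,3,7]]) (kl := [6]) (by decide +kernel) _ (List.mem_singleton_self _) _ (List.mem_singleton_self _)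
theorem cv709 : finG m667ok 5 * wp (finG m667ok) [0,5,6,2,4,1,3,7,0,5,6,2,4,1,3,7,0,5,6,2,4,1,3,7,0,5,6,2,4,1,3,7,0,5,6,2,4,1,3,7,0,5,6,2,4,1,3,7,0,5,6,2,4,1,3,7,0,5,6,2,4,1,3,7] = wp (finG m667ok) [0,5,6,2,4,1,3,7,0,5,6,2,4,1,3,7,0,5,6,2,4,1,3,7,0,5,6,2,4,1,3,7,0,5,6,2,4,1,3,7,0,5,6,2,4,1,3,7,0,5,6,2,4,1,3,7,0,5,6,2,4,1,3,7] * finG m667ok 5 := comm_of_eqv' (eqv_of_faith (finModel m667ok) (faith_fin 4428) 13) (us := [[0,5,6,2,4,1,3,7,0,5,6,2,4,1,3,7,0,5,6,2,4,1,3,7,0,5,6,2,4,1,3,7,0,5,6,2,4,1,3,7,0,5,6,2,4,1,3,7,0,5,6,2,4,1,3,7,0,5,6,2,4,1,3,7]]) (kl := [5]) (by decide +kernel) _ (List.mem_singleton_self _) _ (List.mem_singleton_self _)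
theorem cv710 : finG m667ok 4 * wp (finG m667ok) [0,5,6,2,4,1,3,7,0,5,6,2,4,1,3,7,0,5,6,2,4,1,3,7,0,5,6,2,4,1,3,7,0,5,6,2,4,1,3,7,0,5,6,2,4,1,3,7,0,5,6,2,4,1,3,7,0,5,6,2,4,1,3,7] = wp (finG m667ok) [0,5,6,2,4,1,3,7,0,5,6,2,4,1,3,7,0,5,6,2,4,1,3,7,0,5,6,2,4,1,3,7,0,5,6,2,4,1,3,7,0,5,6,2,4,1,3,7,0,5,6,2,4,1,3,7,0,5,6,2,4,1,3,7] * finG m667ok 4 := comm_of_eqv' (eqv_of_faith (finModel m667ok) (faith_fin 4428) 13) (us := [[0,5,6,2,4,1,3,7,0,5,6,2,4,1,3,7,0,5,6,2,4,1,3,7,0,5,6,2,4,1,3,7,0,5,6,2,4,1,3,7,0,5,6,2,4,1,3,7,0,5,6,2,4,1,3,7,0,5,6,2,4,1,3,7]]) (kl := [4]) (by decide +kernel) _ (List.mem_singleton_self _) _ (List.mem_singleton_self _)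
theorem cv711 : finG m667ok 3 * wp (finG m667ok) [0,5,6,2,4,1,3,7,0,5,6,2,4,1,3,7,0,5,6,2,4,1,3,7,0,5,6,2,4,1,3,7,0,5,6,2,4,1,3,7,0,5,6,2,4,1,3,7,0,5,6,2,4,1,3,7,0,5,6,2,4,1,3,7] = wp (finG m667ok) [0,5,6,2,4,1,3,7,0,5,6,2,4,1,3,7,0,5,6,2,4,1,3,7,0,5,6,2,4,1,3,7,0,5,6,2,4,1,3,7,0,5,6,2,4,1,3,7,0,5,6,2,4,1,3,7,0,5,6,2,4,1,3,7] * finG m667ok 3 := comm_of_eqv' (eqv_of_faith (finModel m667ok) (faith_fin 4428) 13) (us := [[0,5,6,2,4,1,3,7,0,5,6,2,4,1,3,7,0,5,6,2,4,1,3,7,0,5,6,2,4,1,3,7,0,5,6,2,4,1,3,7,0,5,6,2,4,1,3,7,0,5,6,2,4,1,3,7,0,5,6,2,4,1,3,7]]) (kl := [3]) (by decide +kernel) _ (List.mem_singleton_self _) _ (List.mem_singleton_self _)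
theorem cv712 : finG m667ok 2 * wp (finG m667ok) [0,5,6,2,4,1,3,7,0,5,6,2,4,1,3,7,0,5,6,2,4,1,3,7,0,5,6,2,4,1,3,7,0,5,6,2,4,1,3,7,0,5,6,2,4,1,3,7,0,5,6,2,4,1,3,7,0,5,6,2,4,1,3,7] = wp (finG m667ok) [0,5,6,2,4,1,3,7,0,5,6,2,4,1,3,7,0,5,6,2,4,1,3,7,0,5,6,2,4,1,3,7,0,5,6,2,4,1,3,7,0,5,6,2,4,1,3,7,0,5,6,2,4,1,3,7,0,5,6,2,4,1,3,7] * finG m667ok 2 := comm_of_eqv' (eqv_of_faith (finModel m667ok) (faith_fin 4428) 13) (us := [[0,5,6,2,4,1,3,7,0,5,6,2,4,1,3,7,0,5,6,2,4,1,3,7,0,5,6,2,4,1,3,7,0,5,6,2,4,1,3,7,0,5,6,2,4,1,3,7,0,5,6,2,4,1,3,7,0,5,6,2,4,1,3,7]]) (kl := [2]) (by decide +kernel) _ (List.mem_singleton_self _) _ (List.mem_singleton_self _)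
theorem cv713 : finG m667ok 1 * wp (finG m667ok) [0,5,6,2,4,1,3,7,0,5,6,2,4,1,3,7,0,5,6,2,4,1,3,7,0,5,6,2,4,1,3,7,0,5,6,2,4,1,3,7,0,5,6,2,4,1,3,7,0,5,6,2,4,1,3,7,0,5,6,2,4,1,3,7] = wp (finG m667ok) [0,5,6,2,4,1,3,7,0,5,6,2,4,1,3,7,0,5,6,2,4,1,3,7,0,5,6,2,4,1,3,7,0,5,6,2,4,1,3,7,0,5,6,2,4,1,3,7,0,5,6,2,4,1,3,7,0,5,6,2,4,1,3,7] * finG m667ok 1 := comm_of_eqv' (eqv_of_faith (finModel m667ok) (faith_fin 4428) 13) (us := [[0,5,6,2,4,1,3,7,0,5,6,2,4,1,3,7,0,5,6,2,4,1,3,7,0,5,6,2,4,1,3,7,0,5,6,2,4,1,3,7,0,5,6,2,4,1,3,7,0,5,6,2,4,1,3,7,0,5,6,2,4,1,3,7]]) (kl := [1]) (by decide +kernel) _ (List.mem_singleton_self _) _ (List.mem_singleton_self _)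
theorem cv714 : finG m667ok 0 * wp (finG m667ok) [0,5,6,2,4,1,3,7,0,5,6,2,4,1,3,7,0,5,6,2,4,1,3,7,0,5,6,2,4,1,3,7,0,5,6,2,4,1,3,7,0,5,6,2,4,1,3,7,0,5,6,2,4,1,3,7,0,5,6,2,4,1,3,7] = wp (finG m667ok) [0,5,6,2,4,1,3,7,0,5,6,2,4,1,3,7,0,5,6,2,4,1,3,7,0,5,6,2,4,1,3,7,0,5,6,2,4,1,3,7,0,5,6,2,4,1,3,7,0,5,6,2,4,1,3,7,0,5,6,2,4,1,3,7] * finG m667ok 0 := comm_of_eqv' (eqv_of_faith (finModel m667ok) (faith_fin 4428) 13) (us := [[0,5,6,2,4,1,3,7,0,5,6,2,4,1,3,7,0,5,6,2,4,1,3,7,0,5,6,2,4,1,3,7,0,5,6,2,4,1,3,7,0,5,6,2,4,1,3,7,0,5,6,2,4,1,3,7,0,5,6,2,4,1,3,7]]) (kl := [0]) (by decide +kernel) _ (List.mem_singleton_self _) _ (List.mem_singleton_self _)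
theorem cv715 : finG m667ok 9 * wp (finG m667ok) [8,7,9,6,8,7,9,6] = wp (finG m667ok) [8,7,9,6,8,7,9,6] * finG m667ok 9 := comm_of_eqv' (eqv_of_faith (finModel m667ok) (faith_fin 4428) 13) (us := [[8,7,9,6,8,7,9,6]]) (kl := [9]) (by decide +kernel) _ (List.mem_singleton_self _) _ (List.mem_singleton_self _)
theorem cv716 : finG m667ok 8 * wp (finG m667ok) [8,7,9,6,8,7,9,6] = wp (finG m667ok) [8,7,9,6,8,7,9,6] * finG m667ok 8 := comm_of_eqv' (eqv_of_faith (finModel m667ok) (faith_fin 4428) 13) (us := [[8,7,9,6,8,7,9,6]]) (kl := [8]) (by decide +kernel) _ (List.mem_singleton_self _) _ (List.mem_singleton_self _)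
theorem cv717 : finG m667ok 7 * wp (finG m667ok) [8,7,9,6,8,7,9,6] = wp (finG m667ok) [8,7,9,6,8,7,9,6] * finG m667ok 7 := comm_of_eqv' (eqv_of_faith (finModel m667ok) (faith_fin 4428) 13) (us := [[8,7,9,6,8,7,9,6]]) (kl := [7]) (by decide +kernel) _ (List.mem_singleton_self _) _ (List.mem_singleton_self _)
theorem cv718 : finG m667ok 6 * wp (finG m667ok) [8,7,9,6,8,7,9,6] = wp (finG m667ok) [8,7,9,6,8,7,9,6] * finG m667ok 6 := comm_of_eqv' (eqv_of_faith (finModel m667ok) (faith_fin 4428) 13) (us := [[8,7,9,6,8,7,9,6]]) (kl := [6]) (by decide +kernel) _ (List.mem_singleton_self _) _ (List.mem_singleton_self _)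
theorem cv719 : finG m667ok 5 * wp (finG m667ok) [8,7,9,6,8,7,9,6] = wp (finG m667ok) [8,7,9,6,8,7,9,6] * finG m667ok 5 := comm_of_eqv' (eqv_of_faith (finModel m667ok) (faith_fin 4428) 13) (us := [[8,7,9,6,8,7,9,6]]) (kl := [5]) (by decide +kernel) _ (List.mem_singleton_self _) _ (List.mem_singleton_self _)
theorem cv720 : finG m667ok 4 * wp (finG m667ok) [8,7,9,6,8,7,9,6] = wp (finG m667ok) [8,7,9,6,8,7,9,6] * finG m667ok 4 := comm_of_eqv' (eqv_of_faith (finModel m667ok) (faith_fin 4428) 13) (us := [[8,7,9,6,8,7,9,6]]) (kl := [4]) (by decide +kernel) _ (List.mem_singleton_self _) _ (List.mem_singleton_self _)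
theorem cv721 : finG m667ok 3 * wp (finG m667ok) [8,7,9,6,8,7,9,6] = wp (finG m667ok) [8,7,9,6,8,7,9,6] * finG m667ok 3 := comm_of_eqv' (eqv_of_faith (finModel m667ok) (faith_fin 4428) 13) (us := [[8,7,9,6,8,7,9,6]]) (kl := [3]) (by decide +kernel) _ (List.mem_singleton_self _) _ (List.mem_singleton_self _)
theorem cv722 : finG m667ok 2 * wp (finG m667ok) [8,7,9,6,8,7,9,6] = wp (finG m667ok) [8,7,9,6,8,7,9,6] * finG m667ok 2 := comm_of_eqv' (eqv_of_faith (finModel m667ok) (faith_fin 4428) 13) (us := [[8,7,9,6,8,7,9,6]]) (kl := [2]) (by decide +kernel) _ (List.mem_singleton_self _) _ (List.mem_singleton_self _)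
theorem cv723 : finG m667ok 1 * wp (finG m667ok) [8,7,9,6,8,7,9,6] = wp (finG m667ok) [8,7,9,6,8,7,9,6] * finG m667ok 1 := comm_of_eqv' (eqv_of_faith (finModel m667ok) (faith_fin 4428) 13) (us := [[8,7,9,6,8,7,9,6]]) (kl := [1]) (by decide +kernel) _ (List.mem_singleton_self _) _ (List.mem_singleton_self _)
theorem cv724 : finG m667ok 0 * wp (finG m667ok) [8,7,9,6,8,7,9,6] = wp (finG m667ok) [8,7,9,6,8,7,9,6] * finG m667ok 0 := comm_of_eqv' (eqv_of_faith (finModel m667ok) (faith_fin 4428) 13) (us := [[8,7,9,6,8,7,9,6]]) (kl := [0]) (by decide +kernel) _ (List.mem_singleton_self _) _ (List.mem_singleton_self _)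
theorem rl725 : ∀ r ∈ us668, wp gO r = 1 := rels_of_eqv heqO (by decide +kernel)
theorem cov : HasCov GO 6 := HasCov.of satO m667s0 bd353 (le_of_eq_of_le (by norm_num) cardO.ge) (top_of_card cardO lb578) (cs := [([8],[7],2),([0,5],[6,2],8)]) (us := us668) (by decide +kernel) (by decide +kernel) rl725 (List.forall_mem_cons.2 ⟨(List.forall_mem_cons.2 ⟨cv724, (List.forall_mem_cons.2 ⟨cv723, (List.forall_mem_cons.2 ⟨cv722, (List.forall_mem_cons.2 ⟨cv721, (List.forall_mem_cons.2 ⟨cv720, (List.forall_mem_cons.2 ⟨cv719, (List.forall_mem_cons.2 ⟨cv718, (List.forall_mem_cons.2 ⟨cv717, (List.forall_mem_cons.2 ⟨cv716, (List.forall_mem_cons.2 ⟨cv715, (by simp)⟩)⟩)⟩)⟩)⟩)⟩)⟩)⟩)⟩)⟩), (List.forall_mem_cons.2 ⟨(List.forall_mem_cons.2 ⟨cv714, (List.forall_mem_cons.2 ⟨cv713, (List.forall_mem_cons.2 ⟨cv712,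 (List.forall_mem_cons.2 ⟨cv711, (List.forall_mem_cons.2 ⟨cv710, (List.forall_mem_cons.2 ⟨cv709, (List.forall_mem_cons.2 ⟨cv708, (List.forall_mem_cons.2 ⟨cv707, (List.forall_mem_cons.2 ⟨cv706, (List.forall_mem_cons.2 ⟨cv705, (by simp)⟩)⟩)⟩)⟩)⟩)⟩)⟩)⟩)⟩)⟩), (by simp)⟩)⟩) cv704 lb680
theorem schur : HasCyclicSchurMultiplier GO 6 := hasCyc_of (a := 1) (b := 1) (pm2.mono (by norm_num)) (pm3.mono (by norm_num)) (PM.ge5 cardO (fl := [2,2,2,2,2,2,2,2,2,3,3,3,3,3,3,3,3,3,5,7,13]) (l := []) (by simp) (by decide +kernel)) cov (by norm_num)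

end Cfsg.Agent.H6.Cl.O7
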