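import Cfsg.Agent.H6.ClG5
set_option maxRecDepth 100000
set_option Elab.async false
namespace Cfsg.Agent.H6.Cl.U6
open Cfsg.Agent.H6
universe u

theorem cv735 : wp (finG m719ok) [0,0,0,0,0,0,0] ∈ cl (finG m719ok) us720 := mem_cl_of_eqv (eqv_of_faith (finModel m719ok) (faith_fin 4704) 13) (R := [[0,0,0,0,0,0,0]]) (sl := [[]]) (by decide +kernel) _ (List.mem_singleton_self _)
theorem cv736 : wp (finG m719ok) [2,2] ∈ cl (finG m719ok) us720 := mem_cl_of_eqv (eqv_of_faith (finModel m719ok) (faith_fin 4704) 13) (R := [[2,2]]) (sl := [[]]) (by decide +kernel) _ (List.mem_singleton_self _)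
theorem cv737 : wp (finG m719ok) [2,0,2,0,2,0,2,0] ∈ cl (finG m719ok) us720 := mem_cl_of_eqv (eqv_of_faith (finModel m719ok) (faith_fin 4704) 13) (R := [[2,0,2,0,2,0,2,0]]) (sl := [[]]) (by decide +kernel) _ (List.mem_singleton_self _)
theorem cv738 : wp (finG m719ok) [2,0,0,2,0,0,2,0,0] ∈ cl (finG m719ok) us720 := mem_cl_of_eqv (eqv_of_faith (finModel m719ok) (faith_fin 4704) 13) (R := [[2,0,0,2,0,0,2,0,0]]) (sl := [[]]) (by decide +kernel) _ (List.mem_singleton_self _)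
theorem cv739 : wp (finG m719ok) [3,1,1,1,3,0,3,0,2,1,2,0,0,0,2,1,1] ∈ cl (finG m719ok) us720 := mem_cl_of_eqv (eqv_of_faith (finModel m719ok) (faith_fin 4704) 13) (R := [[3,1,1,1,3,0,3,0,2,1,2,0,0,0,2,1,1]]) (sl := [[]]) (by decide +kernel) _ (List.mem_singleton_self _)
theorem cv740 : wp (finG m719ok) [4,4] ∈ cl (finG m719ok) us720 := mem_cl_of_eqv (eqv_of_faith (finModel m719ok) (faith_fin 4704) 13) (R := [[4,4]]) (sl := [[]]) (by decide +kernel) _ (List.mem_singleton_self _)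
theorem cv741 : wp (finG m719ok) [5,2,4,3] ∈ cl (finG m719ok) us720 := mem_cl_of_eqv (eqv_of_faith (finModel m719ok) (faith_fin 4704) 13) (R := [[5,2,4,3]]) (sl := [[]]) (by decide +kernel) _ (List.mem_singleton_self _)
theorem cv742 : wp (finG m719ok) [4,0,3,0,0,0,2,0,5,1,3,1,1,1,3,1] ∈ cl (finG m719ok) us720 := mem_cl_of_eqv (eqv_of_faith (finModel m719ok) (faith_fin 4704) 13) (R := [[4,0,3,0,0,0,2,0,5,1,3,1,1,1,3,1]]) (sl := [[]]) (by decide +kernel) _ (List.mem_singleton_self _)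
theorem cv743 : wp (finG m719ok) [5,1,3,0,3,1,2,0,4,1,1,1,3,1,3,0,0,3] ∈ cl (finG m719ok) us720 := mem_cl_of_eqv (eqv_of_faith (finModel m719ok) (faith_fin 4704) 13) (R := [[5,1,3,0,3,1,2,0,4,1,1,1,3,1,3,0,0,3]]) (sl := [[]]) (by decide +kernel) _ (List.mem_singleton_self _)
theorem cv744 : wp (finG m719ok) [5,1,5,0,2,4,0,4,1,3] ∈ cl (finG m719ok) us720 := mem_cl_of_eqv (eqv_of_faith (finModel m719ok) (faith_fin 4704) 13) (R := [[5,1,5,0,2,4,0,4,1,3]]) (sl := [[]]) (by decide +kernel) _ (List.mem_singleton_self _)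
theorem cv745 : wp (finG m719ok) [5,1,5,1,4,0,4,0,4,1,3,0] ∈ cl (finG m719ok) us720 := mem_cl_of_eqv (eqv_of_faith (finModel m719ok) (faith_fin 4704) 13) (R := [[5,1,5,1,4,0,4,0,4,1,3,0]]) (sl := [[1,1,1]]) (by decide +kernel) _ (List.mem_singleton_self _)
theorem cv746 : wp (finG m719ok) [6,6] ∈ cl (finG m719ok) us720 := mem_cl_of_eqv (eqv_of_faith (finModel m719ok) (faith_fin 4704) 13) (R := [[6,6]]) (sl := [[]]) (by decide +kernel) _ (List.mem_singleton_self _)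
theorem cv747 : wp (finG m719ok) [6,0,2,6,0,2,6,0,2,6,0,2,6,0,2,6,0,2,6,0,2] ∈ cl (finG m719ok) us720 := mem_cl_of_eqv (eqv_of_faith (finModel m719ok) (faith_fin 4704) 13) (R := [[6,0,2,6,0,2,6,0,2,6,0,2,6,0,2,6,0,2,6,0,2]]) (sl := [[]]) (by decide +kernel) _ (List.mem_singleton_self _)
theorem cv748 : wp (finG m719ok) [7,4,6,5] ∈ cl (finG m719ok) us720 := mem_cl_of_eqv (eqv_of_faith (finModel m719ok) (faith_fin 4704) 13) (R := [[7,4,6,5]]) (sl := [[]]) (by decide +kernel) _ (List.mem_singleton_self _)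
theorem cv749 : wp (finG m719ok) [7,1,3,5,0,6,1,3,0,0,0,3,5,1,1,1,3,0] ∈ cl (finG m719ok) us720 := mem_cl_of_eqv (eqv_of_faith (finModel m719ok) (faith_fin 4704) 13) (R := [[7,1,3,5,0,6,1,3,0,0,0,3,5,1,1,1,3,0]]) (sl := [[]]) (by decide +kernel) _ (List.mem_singleton_self _)
theorem cv750 : wp (finG m719ok) [7,0,3,5,1,6,0,3,1,1,1,3,5,0,0,0,3,1] ∈ cl (finG m719ok) us720 := mem_cl_of_eqv (eqv_of_faith (finModel m719ok) (faith_fin 4704) 13) (R := [[7,0,3,5,1,6,0,3,1,1,1,3,5,0,0,0,3,1]]) (sl := [[]]) (by decide +kernel) _ (List.mem_singleton_self _)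
theorem cv751 : wp (finG m719ok) [7,1,7,3,1,2,0,2,6,0,6,3,1,5,0,3] ∈ cl (finG m719ok) us720 := mem_cl_of_eqv (eqv_of_faith (finModel m719ok) (faith_fin 4704) 13) (R := [[7,1,7,3,1,2,0,2,6,0,6,3,1,5,0,3]]) (sl := [[1,1,1]]) (by decide +kernel) _ (List.mem_singleton_self _)
theorem cv752 : wp (finG m719ok) [7,1,7,3,0,5,1,2,6,0,6,1,1,3,1,3,0] ∈ cl (finG m719ok) us720 := mem_cl_of_eqv (eqv_of_faith (finModel m719ok) (faith_fin 4704) 13) (R := [[7,1,7,3,0,5,1,2,6,0,6,1,1,3,1,3,0]]) (sl := [[1,1,1]]) (by decide +kernel) _ (List.mem_singleton_self _)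
theorem cv753 : wp (finG m719ok) [9,7,8,7] ∈ cl (finG m719ok) us720 := mem_cl_of_eqv (eqv_of_faith (finModel m719ok) (faith_fin 4704) 13) (R := [[9,7,8,7]]) (sl := [[]]) (by decide +kernel) _ (List.mem_singleton_self _)
theorem cv754 : wp (finG m719ok) [9,1,5,3,1,8,0,3,5,0,5] ∈ cl (finG m719ok) us720 := mem_cl_of_eqv (eqv_of_faith (finModel m719ok) (faith_fin 4704) 13) (R := [[9,1,5,3,1,8,0,3,5,0,5]]) (sl := [[]]) (by decide +kernel) _ (List.mem_singleton_self _)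
theorem cv755 : wp (finG m719ok) [8,1,5,0,0,0,2,0,9,1,3,1,1,1,5,0] ∈ cl (finG m719ok) us720 := mem_cl_of_eqv (eqv_of_faith (finModel m719ok) (faith_fin 4704) 13) (R := [[8,1,5,0,0,0,2,0,9,1,3,1,1,1,5,0]]) (sl := [[]]) (by decide +kernel) _ (List.mem_singleton_self _)
theorem cv756 : wp (finG m719ok) [9,1,1,9,1,3,0,4,8,0,0,8,1,1,3,0,0,0,3,5] ∈ cl (finG m719ok) us720 := mem_cl_of_eqv (eqv_of_faith (finModel m719ok) (faith_fin 4704) 13) (R := [[9,1,1,9,1,3,0,4,8,0,0,8,1,1,3,0,0,0,3,5]]) (sl := [[1,1,1,1]]) (by decide +kernel) _ (List.mem_singleton_self _)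
theorem cv757 : wp (finG m719ok) [9,1,5,0,8,0,2,0,8,0,0,3,1,1,5,1,1,7,3,1,5,7,0,3,7] ∈ cl (finG m719ok) us720 := mem_cl_of_eqv (eqv_of_faith (finModel m719ok) (faith_fin 4704) 13) (R := [[9,1,5,0,8,0,2,0,8,0,0,3,1,1,5,1,1,7,3,1,5,7,0,3,7]]) (sl := [[0]]) (by decide +kernel) _ (List.mem_singleton_self _)
theorem cv758 : wp (finG m719ok) [9,1,7,1,9,0,8,1,8,0,6,0,8,3,0,0,5,1,1,3,1,7,0] ∈ cl (finG m719ok) us720 := mem_cl_of_eqv (eqv_of_faith (finModel m719ok) (faith_fin 4704) 13) (R := [[9,1,7,1,9,0,8,1,8,0,6,0,8,3,0,0,5,1,1,3,1,7,0]]) (sl := [[]]) (by decide +kernel) _ (List.mem_singleton_self _)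

end Cfsg.Agent.H6.Cl.U6
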