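import Cfsg.Agent.H6.ClG6
set_option maxRecDepth 100000
set_option Elab.async false
namespace Cfsg.Agent.H6.Cl.U6
open Cfsg.Agent.H6
universe u

theorem cv759 : ∀ r ∈ C311, wp (finG m719ok) r ∈ cl (finG m719ok) us720 := (List.forall_mem_cons.2 ⟨cv735, (List.forall_mem_cons.2 ⟨cv736, (List.forall_mem_cons.2 ⟨cv737, (List.forall_mem_cons.2 ⟨cv738, (List.forall_mem_cons.2 ⟨cv739, (List.forall_mem_cons.2 ⟨cv740, (List.forall_mem_cons.2 ⟨cv741, (List.forall_mem_cons.2 ⟨cv742, (List.forall_mem_cons.2 ⟨cv743, (List.forall_mem_cons.2 ⟨cv744, (List.forall_mem_cons.2 ⟨cv745, (List.forall_mem_cons.2 ⟨cv746, (List.forall_mem_cons.2 ⟨cv747, (List.forall_mem_cons.2 ⟨cv748, (List.forall_mem_cons.2 ⟨cv749, (List.forall_mem_cons.2 ⟨cv750, (List.forall_mem_cons.2 ⟨cv751, (List.forall_mem_cons.2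 ⟨cv752, (List.forall_mem_cons.2 ⟨cv753, (List.forall_mem_cons.2 ⟨cv754, (List.forall_mem_cons.2 ⟨cv755, (List.forall_mem_cons.2 ⟨cv756, (List.forall_mem_cons.2 ⟨cv757, (List.forall_mem_cons.2 ⟨cv758, (by simp)⟩)⟩)⟩)⟩)⟩)⟩)⟩)⟩)⟩)⟩)⟩)⟩)⟩)⟩)⟩)⟩)⟩)⟩)⟩)⟩)⟩)⟩)⟩)⟩)
theorem cv760 : finG m719ok 9 * wp (finG m719ok) [0,3,0,9,1,8,1,2,0,3,0,9,1,8,1,2,0,3,0,9,1,8,1,2,0,3,0,9,1,8,1,2,0,3,0,9,1,8,1,2] = wp (finG m719ok) [0,3,0,9,1,8,1,2,0,3,0,9,1,8,1,2,0,3,0,9,1,8,1,2,0,3,0,9,1,8,1,2,0,3,0,9,1,8,1,2] * finG m719ok 9 := comm_of_eqv' (eqv_of_faith (finModel m719ok) (faith_fin 4704) 13) (us := [[0,3,0,9,1,8,1,2,0,3,0,9,1,8,1,2,0,3,0,9,1,8,1,2,0,3,0,9,1,8,1,2,0,3,0,9,1,8,1,2]]) (kl := [9]) (by decide +kernel) _ (List.mem_singleton_self _) _ (List.mem_singleton_self _)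
theorem cv761 : finG m719ok 8 * wp (finG m719ok) [0,3,0,9,1,8,1,2,0,3,0,9,1,8,1,2,0,3,0,9,1,8,1,2,0,3,0,9,1,8,1,2,0,3,0,9,1,8,1,2] = wp (finG m719ok) [0,3,0,9,1,8,1,2,0,3,0,9,1,8,1,2,0,3,0,9,1,8,1,2,0,3,0,9,1,8,1,2,0,3,0,9,1,8,1,2] * finG m719ok 8 := comm_of_eqv' (eqv_of_faith (finModel m719ok) (faith_fin 4704) 13) (us := [[0,3,0,9,1,8,1,2,0,3,0,9,1,8,1,2,0,3,0,9,1,8,1,2,0,3,0,9,1,8,1,2,0,3,0,9,1,8,1,2]]) (kl := [8]) (by decide +kernel) _ (List.mem_singleton_self _) _ (List.mem_singleton_self _)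
theorem cv762 : finG m719ok 7 * wp (finG m719ok) [0,3,0,9,1,8,1,2,0,3,0,9,1,8,1,2,0,3,0,9,1,8,1,2,0,3,0,9,1,8,1,2,0,3,0,9,1,8,1,2] = wp (finG m719ok) [0,3,0,9,1,8,1,2,0,3,0,9,1,8,1,2,0,3,0,9,1,8,1,2,0,3,0,9,1,8,1,2,0,3,0,9,1,8,1,2] * finG m719ok 7 := comm_of_eqv' (eqv_of_faith (finModel m719ok) (faith_fin 4704) 13) (us := [[0,3,0,9,1,8,1,2,0,3,0,9,1,8,1,2,0,3,0,9,1,8,1,2,0,3,0,9,1,8,1,2,0,3,0,9,1,8,1,2]]) (kl := [7]) (by decide +kernel) _ (List.mem_singleton_self _) _ (List.mem_singleton_self _)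
theorem cv763 : finG m719ok 6 * wp (finG m719ok) [0,3,0,9,1,8,1,2,0,3,0,9,1,8,1,2,0,3,0,9,1,8,1,2,0,3,0,9,1,8,1,2,0,3,0,9,1,8,1,2] = wp (finG m719ok) [0,3,0,9,1,8,1,2,0,3,0,9,1,8,1,2,0,3,0,9,1,8,1,2,0,3,0,9,1,8,1,2,0,3,0,9,1,8,1,2] * finG m719ok 6 := comm_of_eqv' (eqv_of_faith (finModel m719ok) (faith_fin 4704) 13) (us := [[0,3,0,9,1,8,1,2,0,3,0,9,1,8,1,2,0,3,0,9,1,8,1,2,0,3,0,9,1,8,1,2,0,3,0,9,1,8,1,2]]) (kl := [6]) (by decide +kernel) _ (List.mem_singleton_self _) _ (List.mem_singleton_self _)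
theorem cv764 : finG m719ok 5 * wp (finG m719ok) [0,3,0,9,1,8,1,2,0,3,0,9,1,8,1,2,0,3,0,9,1,8,1,2,0,3,0,9,1,8,1,2,0,3,0,9,1,8,1,2] = wp (finG m719ok) [0,3,0,9,1,8,1,2,0,3,0,9,1,8,1,2,0,3,0,9,1,8,1,2,0,3,0,9,1,8,1,2,0,3,0,9,1,8,1,2] * finG m719ok 5 := comm_of_eqv' (eqv_of_faith (finModel m719ok) (faith_fin 4704) 13) (us := [[0,3,0,9,1,8,1,2,0,3,0,9,1,8,1,2,0,3,0,9,1,8,1,2,0,3,0,9,1,8,1,2,0,3,0,9,1,8,1,2]]) (kl := [5]) (by decide +kernel) _ (List.mem_singleton_self _) _ (List.mem_singleton_self _)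
theorem cv765 : finG m719ok 4 * wp (finG m719ok) [0,3,0,9,1,8,1,2,0,3,0,9,1,8,1,2,0,3,0,9,1,8,1,2,0,3,0,9,1,8,1,2,0,3,0,9,1,8,1,2] = wp (finG m719ok) [0,3,0,9,1,8,1,2,0,3,0,9,1,8,1,2,0,3,0,9,1,8,1,2,0,3,0,9,1,8,1,2,0,3,0,9,1,8,1,2] * finG m719ok 4 := comm_of_eqv' (eqv_of_faith (finModel m719ok) (faith_fin 4704) 13) (us := [[0,3,0,9,1,8,1,2,0,3,0,9,1,8,1,2,0,3,0,9,1,8,1,2,0,3,0,9,1,8,1,2,0,3,0,9,1,8,1,2]]) (kl := [4]) (by decide +kernel) _ (List.mem_singleton_self _) _ (List.mem_singleton_self _)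
theorem cv766 : finG m719ok 3 * wp (finG m719ok) [0,3,0,9,1,8,1,2,0,3,0,9,1,8,1,2,0,3,0,9,1,8,1,2,0,3,0,9,1,8,1,2,0,3,0,9,1,8,1,2] = wp (finG m719ok) [0,3,0,9,1,8,1,2,0,3,0,9,1,8,1,2,0,3,0,9,1,8,1,2,0,3,0,9,1,8,1,2,0,3,0,9,1,8,1,2] * finG m719ok 3 := comm_of_eqv' (eqv_of_faith (finModel m719ok) (faith_fin 4704) 13) (us := [[0,3,0,9,1,8,1,2,0,3,0,9,1,8,1,2,0,3,0,9,1,8,1,2,0,3,0,9,1,8,1,2,0,3,0,9,1,8,1,2]]) (kl := [3]) (by decide +kernel) _ (List.mem_singleton_self _) _ (List.mem_singleton_self _)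
theorem cv767 : finG m719ok 2 * wp (finG m719ok) [0,3,0,9,1,8,1,2,0,3,0,9,1,8,1,2,0,3,0,9,1,8,1,2,0,3,0,9,1,8,1,2,0,3,0,9,1,8,1,2] = wp (finG m719ok) [0,3,0,9,1,8,1,2,0,3,0,9,1,8,1,2,0,3,0,9,1,8,1,2,0,3,0,9,1,8,1,2,0,3,0,9,1,8,1,2] * finG m719ok 2 := comm_of_eqv' (eqv_of_faith (finModel m719ok) (faith_fin 4704) 13) (us := [[0,3,0,9,1,8,1,2,0,3,0,9,1,8,1,2,0,3,0,9,1,8,1,2,0,3,0,9,1,8,1,2,0,3,0,9,1,8,1,2]]) (kl := [2]) (by decide +kernel) _ (List.mem_singleton_self _) _ (List.mem_singleton_self _)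
theorem cv768 : finG m719ok 1 * wp (finG m719ok) [0,3,0,9,1,8,1,2,0,3,0,9,1,8,1,2,0,3,0,9,1,8,1,2,0,3,0,9,1,8,1,2,0,3,0,9,1,8,1,2] = wp (finG m719ok) [0,3,0,9,1,8,1,2,0,3,0,9,1,8,1,2,0,3,0,9,1,8,1,2,0,3,0,9,1,8,1,2,0,3,0,9,1,8,1,2] * finG m719ok 1 := comm_of_eqv' (eqv_of_faith (finModel m719ok) (faith_fin 4704) 13) (us := [[0,3,0,9,1,8,1,2,0,3,0,9,1,8,1,2,0,3,0,9,1,8,1,2,0,3,0,9,1,8,1,2,0,3,0,9,1,8,1,2]]) (kl := [1]) (by decide +kernel) _ (List.mem_singleton_self _) _ (List.mem_singleton_self _)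
theorem cv769 : finG m719ok 0 * wp (finG m719ok) [0,3,0,9,1,8,1,2,0,3,0,9,1,8,1,2,0,3,0,9,1,8,1,2,0,3,0,9,1,8,1,2,0,3,0,9,1,8,1,2] = wp (finG m719ok) [0,3,0,9,1,8,1,2,0,3,0,9,1,8,1,2,0,3,0,9,1,8,1,2,0,3,0,9,1,8,1,2,0,3,0,9,1,8,1,2] * finG m719ok 0 := comm_of_eqv' (eqv_of_faith (finModel m719ok) (faith_fin 4704) 13) (us := [[0,3,0,9,1,8,1,2,0,3,0,9,1,8,1,2,0,3,0,9,1,8,1,2,0,3,0,9,1,8,1,2,0,3,0,9,1,8,1,2]]) (kl := [0]) (by decide +kernel) _ (List.mem_singleton_self _) _ (List.mem_singleton_self _)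
theorem cv770 : finG m719ok 9 * wp (finG m719ok) [6,8,1,3,9,7,2,0,6,8,1,3,9,7,2,0,6,8,1,3,9,7,2,0,6,8,1,3,9,7,2,0,6,8,1,3,9,7,2,0,6,8,1,3,9,7,2,0,6,8,1,3,9,7,2,0] = wp (finG m719ok) [6,8,1,3,9,7,2,0,6,8,1,3,9,7,2,0,6,8,1,3,9,7,2,0,6,8,1,3,9,7,2,0,6,8,1,3,9,7,2,0,6,8,1,3,9,7,2,0,6,8,1,3,9,7,2,0] * finG m719ok 9 := comm_of_eqv' (eqv_of_faith (finModel m719ok) (faith_fin 4704) 13) (us := [[6,8,1,3,9,7,2,0,6,8,1,3,9,7,2,0,6,8,1,3,9,7,2,0,6,8,1,3,9,7,2,0,6,8,1,3,9,7,2,0,6,8,1,3,9,7,2,0,6,8,1,3,9,7,2,0]]) (kl := [9]) (by decide +kernel) _ (List.mem_singleton_self _) _ (List.mem_singleton_self _)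
theorem cv771 : finG m719ok 8 * wp (finG m719ok) [6,8,1,3,9,7,2,0,6,8,1,3,9,7,2,0,6,8,1,3,9,7,2,0,6,8,1,3,9,7,2,0,6,8,1,3,9,7,2,0,6,8,1,3,9,7,2,0,6,8,1,3,9,7,2,0] = wp (finG m719ok) [6,8,1,3,9,7,2,0,6,8,1,3,9,7,2,0,6,8,1,3,9,7,2,0,6,8,1,3,9,7,2,0,6,8,1,3,9,7,2,0,6,8,1,3,9,7,2,0,6,8,1,3,9,7,2,0] * finG m719ok 8 := comm_of_eqv' (eqv_of_faith (finModel m719ok) (faith_fin 4704) 13) (us := [[6,8,1,3,9,7,2,0,6,8,1,3,9,7,2,0,6,8,1,3,9,7,2,0,6,8,1,3,9,7,2,0,6,8,1,3,9,7,2,0,6,8,1,3,9,7,2,0,6,8,1,3,9,7,2,0]]) (kl := [8]) (by decide +kernel) _ (List.mem_singleton_self _) _ (List.mem_singleton_self _)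
theorem cv772 : finG m719ok 7 * wp (finG m719ok) [6,8,1,3,9,7,2,0,6,8,1,3,9,7,2,0,6,8,1,3,9,7,2,0,6,8,1,3,9,7,2,0,6,8,1,3,9,7,2,0,6,8,1,3,9,7,2,0,6,8,1,3,9,7,2,0] = wp (finG m719ok) [6,8,1,3,9,7,2,0,6,8,1,3,9,7,2,0,6,8,1,3,9,7,2,0,6,8,1,3,9,7,2,0,6,8,1,3,9,7,2,0,6,8,1,3,9,7,2,0,6,8,1,3,9,7,2,0] * finG m719ok 7 := comm_of_eqv' (eqv_of_faith (finModel m719ok) (faith_fin 4704) 13) (us := [[6,8,1,3,9,7,2,0,6,8,1,3,9,7,2,0,6,8,1,3,9,7,2,0,6,8,1,3,9,7,2,0,6,8,1,3,9,7,2,0,6,8,1,3,9,7,2,0,6,8,1,3,9,7,2,0]]) (kl := [7]) (by decide +kernel) _ (List.mem_singleton_self _) _ (List.mem_singleton_self _)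
theorem cv773 : finG m719ok 6 * wp (finG m719ok) [6,8,1,3,9,7,2,0,6,8,1,3,9,7,2,0,6,8,1,3,9,7,2,0,6,8,1,3,9,7,2,0,6,8,1,3,9,7,2,0,6,8,1,3,9,7,2,0,6,8,1,3,9,7,2,0] = wp (finG m719ok) [6,8,1,3,9,7,2,0,6,8,1,3,9,7,2,0,6,8,1,3,9,7,2,0,6,8,1,3,9,7,2,0,6,8,1,3,9,7,2,0,6,8,1,3,9,7,2,0,6,8,1,3,9,7,2,0] * finG m719ok 6 := comm_of_eqv' (eqv_of_faith (finModel m719ok) (faith_fin 4704) 13) (us := [[6,8,1,3,9,7,2,0,6,8,1,3,9,7,2,0,6,8,1,3,9,7,2,0,6,8,1,3,9,7,2,0,6,8,1,3,9,7,2,0,6,8,1,3,9,7,2,0,6,8,1,3,9,7,2,0]]) (kl := [6]) (by decide +kernel) _ (List.mem_singleton_self _) _ (List.mem_singleton_self _)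
theorem cv774 : finG m719ok 5 * wp (finG m719ok) [6,8,1,3,9,7,2,0,6,8,1,3,9,7,2,0,6,8,1,3,9,7,2,0,6,8,1,3,9,7,2,0,6,8,1,3,9,7,2,0,6,8,1,3,9,7,2,0,6,8,1,3,9,7,2,0] = wp (finG m719ok) [6,8,1,3,9,7,2,0,6,8,1,3,9,7,2,0,6,8,1,3,9,7,2,0,6,8,1,3,9,7,2,0,6,8,1,3,9,7,2,0,6,8,1,3,9,7,2,0,6,8,1,3,9,7,2,0] * finG m719ok 5 := comm_of_eqv' (eqv_of_faith (finModel m719ok) (faith_fin 4704) 13) (us := [[6,8,1,3,9,7,2,0,6,8,1,3,9,7,2,0,6,8,1,3,9,7,2,0,6,8,1,3,9,7,2,0,6,8,1,3,9,7,2,0,6,8,1,3,9,7,2,0,6,8,1,3,9,7,2,0]]) (kl := [5]) (by decide +kernel) _ (List.mem_singleton_self _) _ (List.mem_singleton_self _)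
theorem cv775 : finG m719ok 4 * wp (finG m719ok) [6,8,1,3,9,7,2,0,6,8,1,3,9,7,2,0,6,8,1,3,9,7,2,0,6,8,1,3,9,7,2,0,6,8,1,3,9,7,2,0,6,8,1,3,9,7,2,0,6,8,1,3,9,7,2,0] = wp (finG m719ok) [6,8,1,3,9,7,2,0,6,8,1,3,9,7,2,0,6,8,1,3,9,7,2,0,6,8,1,3,9,7,2,0,6,8,1,3,9,7,2,0,6,8,1,3,9,7,2,0,6,8,1,3,9,7,2,0] * finG m719ok 4 := comm_of_eqv' (eqv_of_faith (finModel m719ok) (faith_fin 4704) 13) (us := [[6,8,1,3,9,7,2,0,6,8,1,3,9,7,2,0,6,8,1,3,9,7,2,0,6,8,1,3,9,7,2,0,6,8,1,3,9,7,2,0,6,8,1,3,9,7,2,0,6,8,1,3,9,7,2,0]]) (kl := [4]) (by decide +kernel) _ (List.mem_singleton_self _) _ (List.mem_singleton_self _)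
theorem cv776 : finG m719ok 3 * wp (finG m719ok) [6,8,1,3,9,7,2,0,6,8,1,3,9,7,2,0,6,8,1,3,9,7,2,0,6,8,1,3,9,7,2,0,6,8,1,3,9,7,2,0,6,8,1,3,9,7,2,0,6,8,1,3,9,7,2,0] = wp (finG m719ok) [6,8,1,3,9,7,2,0,6,8,1,3,9,7,2,0,6,8,1,3,9,7,2,0,6,8,1,3,9,7,2,0,6,8,1,3,9,7,2,0,6,8,1,3,9,7,2,0,6,8,1,3,9,7,2,0] * finG m719ok 3 := comm_of_eqv' (eqv_of_faith (finModel m719ok) (faith_fin 4704) 13) (us := [[6,8,1,3,9,7,2,0,6,8,1,3,9,7,2,0,6,8,1,3,9,7,2,0,6,8,1,3,9,7,2,0,6,8,1,3,9,7,2,0,6,8,1,3,9,7,2,0,6,8,1,3,9,7,2,0]]) (kl := [3]) (by decide +kernel) _ (List.mem_singleton_self _) _ (List.mem_singleton_self _)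
theorem cv777 : finG m719ok 2 * wp (finG m719ok) [6,8,1,3,9,7,2,0,6,8,1,3,9,7,2,0,6,8,1,3,9,7,2,0,6,8,1,3,9,7,2,0,6,8,1,3,9,7,2,0,6,8,1,3,9,7,2,0,6,8,1,3,9,7,2,0] = wp (finG m719ok) [6,8,1,3,9,7,2,0,6,8,1,3,9,7,2,0,6,8,1,3,9,7,2,0,6,8,1,3,9,7,2,0,6,8,1,3,9,7,2,0,6,8,1,3,9,7,2,0,6,8,1,3,9,7,2,0] * finG m719ok 2 := comm_of_eqv' (eqv_of_faith (finModel m719ok) (faith_fin 4704) 13) (us := [[6,8,1,3,9,7,2,0,6,8,1,3,9,7,2,0,6,8,1,3,9,7,2,0,6,8,1,3,9,7,2,0,6,8,1,3,9,7,2,0,6,8,1,3,9,7,2,0,6,8,1,3,9,7,2,0]]) (kl := [2]) (by decide +kernel) _ (List.mem_singleton_self _) _ (List.mem_singleton_self _)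
theorem cv778 : finG m719ok 1 * wp (finG m719ok) [6,8,1,3,9,7,2,0,6,8,1,3,9,7,2,0,6,8,1,3,9,7,2,0,6,8,1,3,9,7,2,0,6,8,1,3,9,7,2,0,6,8,1,3,9,7,2,0,6,8,1,3,9,7,2,0] = wp (finG m719ok) [6,8,1,3,9,7,2,0,6,8,1,3,9,7,2,0,6,8,1,3,9,7,2,0,6,8,1,3,9,7,2,0,6,8,1,3,9,7,2,0,6,8,1,3,9,7,2,0,6,8,1,3,9,7,2,0] * finG m719ok 1 := comm_of_eqv' (eqv_of_faith (finModel m719ok) (faith_fin 4704) 13) (us := [[6,8,1,3,9,7,2,0,6,8,1,3,9,7,2,0,6,8,1,3,9,7,2,0,6,8,1,3,9,7,2,0,6,8,1,3,9,7,2,0,6,8,1,3,9,7,2,0,6,8,1,3,9,7,2,0]]) (kl := [1]) (by decide +kernel) _ (List.mem_singleton_self _) _ (List.mem_singleton_self _)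
theorem cv779 : finG m719ok 0 * wp (finG m719ok) [6,8,1,3,9,7,2,0,6,8,1,3,9,7,2,0,6,8,1,3,9,7,2,0,6,8,1,3,9,7,2,0,6,8,1,3,9,7,2,0,6,8,1,3,9,7,2,0,6,8,1,3,9,7,2,0] = wp (finG m719ok) [6,8,1,3,9,7,2,0,6,8,1,3,9,7,2,0,6,8,1,3,9,7,2,0,6,8,1,3,9,7,2,0,6,8,1,3,9,7,2,0,6,8,1,3,9,7,2,0,6,8,1,3,9,7,2,0] * finG m719ok 0 := comm_of_eqv' (eqv_of_faith (finModel m719ok) (faith_fin 4704) 13) (us := [[6,8,1,3,9,7,2,0,6,8,1,3,9,7,2,0,6,8,1,3,9,7,2,0,6,8,1,3,9,7,2,0,6,8,1,3,9,7,2,0,6,8,1,3,9,7,2,0,6,8,1,3,9,7,2,0]]) (kl := [0]) (by decide +kernel) _ (List.mem_singleton_self _) _ (List.mem_singleton_self _)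
theorem rl780 : ∀ r ∈ us720, wp gU r = 1 := rels_of_eqv heqU (by decide +kernel)
theorem cov : HasCov GU 12 := HasCov.of satU m719s0 bd410 (le_of_eq_of_le (by norm_num) cardU.ge) (top_of_card cardU lb639) (cs := [([6,8],[1,3],7),([0],[3,0,9],5)]) (us := us720) (by decide +kernel) (by decide +kernel) rl780 (List.forall_mem_cons.2 ⟨(List.forall_mem_cons.2 ⟨cv779, (List.forall_mem_cons.2 ⟨cv778, (List.forall_mem_cons.2 ⟨cv777, (List.forall_mem_cons.2 ⟨cv776, (List.forall_mem_cons.2 ⟨cv775, (List.forall_mem_cons.2 ⟨cv774, (List.forall_mem_cons.2 ⟨cv773, (List.forall_mem_cons.2 ⟨cv772, (List.forall_mem_cons.2 ⟨cv771, (List.forall_mem_cons.2 ⟨cv770, (by simp)⟩)⟩)⟩)⟩)⟩)⟩)⟩)⟩)⟩)⟩), (List.forall_mem_cons.2 ⟨(List.forall_mem_cons.2 ⟨cv769, (List.forall_mem_cons.2 ⟨cv768,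 (List.forall_mem_cons.2 ⟨cv767, (List.forall_mem_cons.2 ⟨cv766, (List.forall_mem_cons.2 ⟨cv765, (List.forall_mem_cons.2 ⟨cv764, (List.forall_mem_cons.2 ⟨cv763, (List.forall_mem_cons.2 ⟨cv762, (List.forall_mem_cons.2 ⟨cv761, (List.forall_mem_cons.2 ⟨cv760, (by simp)⟩)⟩)⟩)⟩)⟩)⟩)⟩)⟩)⟩)⟩), (by simp)⟩)⟩) cv759 lb734
theorem schur : HasSchurMultiplier GU (Multiplicative (ZMod 3 × ZMod 2 × ZMod 2)) := hasSM_of (covAll_3aa 1) (pm2.mono (by norm_num)) (pm3.mono (by norm_num)) (PM.ge5 cardU (fl := [2,2,2,2,2,2,2,2,2,2,2,2,2,2,2,3,3,3,3,3,3,5,7,11]) (l := []) (by simp) (by decide +kernel)) cov (by simp)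

end Cfsg.Agent.H6.Cl.U6
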