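import Cfsg.Agent.H6.Sch8
import Cfsg.Agent.S1059
set_option maxRecDepth 100000
set_option Elab.async false
namespace Cfsg.Agent.H6.Cl.G24
open Cfsg.Agent.H6
universe u

noncomputable def il : List ℕ := [1,0,3,2,5,4,7,6,9,8]
noncomputable abbrev io : ℕ → ℕ := iota il
noncomputable def C1 : List (List ℕ) := []
noncomputable def m2n0 : Net := (Net.cons (nat_lit 256) (nat_lit 0x3503f914d5552197f7ed734e3c29ab0c1d5dd67fdce01cc163e4e5c5c0edfbaa)
  (Net.cons (nat_lit 128) (nat_lit 0x950d0c3426fe9b74d10da686837a422500000000000000000000000000000000604a754d6abc375cab0310fe60d45e40)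
  (Net.cons (nat_lit 64) (nat_lit 0x578f814a956828570000000000000000ac88006899fe1f4d000000000000000001f6962b2e49f504000000000000000055faa05963bd1b0a)
  (Net.cons (nat_lit 32) (nat_lit 0x732b4b48000000000969d494000000006ec16ad700000000ee81f38900000000cc0a2f84000000007837d7fc00000000ea5a6201000000003fbb5100)
  (Net.cons (nat_lit 16) (nat_lit 0xe66000054b10000723a000097590000de8f0000cfd6000078220000373f0000623e00005114000027d600008c97000018e3000037480000f7990000ecc8)
  (Net.cons (nat_lit 8) (nat_lit 0x1800a6009000cb004000aa00d700ae00b6008b00d900b200e3003b00410032002a0059004f001c00420054000100280062006c009400420046001900f00060)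
  (Net.cons (nat_lit 4) (nat_lit 0xc0c0604040e000d07010604080f040d010206010f0d0c020c0b0b050a0b0402040e0404070e0e04040206030c04080a04000e0e03060d020a08060803040406)
  (Net.cons (nat_lit 2) (nat_lit 0x21321030230330302111202003200311223023002002032302103211302300012100000132012000033200002010221202110232200331201000213210202210)
  (Net.cons (nat_lit 1) (nat_lit 0x1550150040411100500414001501045454044100554045044055014001400014540140115141440411404414010101140101441144114001014415141044110)
  (Net.cons (nat_lit 2) (nat_lit 0x20020200000022000000000000002200002000002000020000000002020200200002200002202200020002000200022220222002002200202000000)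
  (Net.cons (nat_lit 4) (nat_lit 0x40004040602060804000c040c040202000a0008020e0c08080e08080c0a0000040c0a040c0c06000400080a0c06000e04080c020600000002000000060c0806)
  (Net.cons (nat_lit 8) (nat_lit 0x76008600c0004a0044002a00f000b000e4001a00e800be00a0006a0016002200080050001e00b800d4009c000800200040007c009000c80008007800180068)
  (Net.cons (nat_lit 16) (nat_lit 0xba62000095f80000c73e0000135600001e1600009182000038220000352a0000453c000091b40000b54000008ea200009ed2000020200000e97800006518)
  (Net.cons (nat_lit 32) (nat_lit 0xc22ac32800000000ad249514000000002f62210e00000000e2c0d2900000000086189eac00000000fa15d350000000006e9d6882000000002f7b5bc8)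
  (Net.cons (nat_lit 64) (nat_lit 0xe28fc04aa7af2aa6000000000000000092886b7e51ba7a46000000000000000089f492ea2c79553000000000000000000516a069737c9140)
  (Net.cons (nat_lit 128) (nat_lit 0xb50c0c34a2afbbe082c4958c92d750700000000000000000000000000000000028ae77ed48166f5ca3011c7f77be5620)
  (Net.cons (nat_lit 256) (nat_lit 0x3503f914d5552197f7ed734ea275931efac2103d90174ded6def3e07f579e338)
  Net.nil)))))))))))))))))
noncomputable def m2n1 : Net := (Net.cons (nat_lit 256) (nat_lit 0x3503f914d5552197f7ed734ea275931efac2103d90174ded6def3e07f579e338)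
  (Net.cons (nat_lit 128) (nat_lit 0x4af1f7cff478c41fed366a134da0af8d0000000000000000000000000000000028ae77ed48166f5ca3011c7f77be5620)
  (Net.cons (nat_lit 64) (nat_lit 0xc7cbe7c4026d9054000000000000000020a18ee2a39abd60000000000000000089f492ea2c7955300000000000000000d2a86c9280865efe)
  (Net.cons (nat_lit 32) (nat_lit 0x8ae98dda00000000b349bb1c00000000c8656980000000003b9f185e0000000086189eac00000000b811535800000000f3c08027000000009f1b9338)
  (Net.cons (nat_lit 16) (nat_lit 0x908b0000fa810000d065000066b10000a1e60000d38d0000f73000006e210000ab42000091b40000ff420000715d0000c56a000000f50000086100004028)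
  (Net.cons (nat_lit 8) (nat_lit 0xc70056001400d4004300ef00a80038002300f80057009500ab004e00ae009500ae004f00e1000400c600de00ba001d0004006800dd00f00098007600e00040)
  (Net.cons (nat_lit 4) (nat_lit 0xf000c0a0d0504000a01010c0501010e0302000001060a0e0e0d0a0e08000205040a02060c020c0604060201080700060c0b080405040200090a040a08020808)
  (Net.cons (nat_lit 2) (nat_lit 0x2220311111001020121200032010010230023202021021103333000212021320120022203130022132020020230100022310230210322110201230010102010)
  (Net.cons (nat_lit 1) (nat_lit 0x4041150401044414110414414114140410514140140054400511010104101410414054411540414444044101041444040544140101544404104011410500540)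
  (Net.cons (nat_lit 2) (nat_lit 0x20000200022022220222202022000200022220020000200020020000000220200002002000020002000000002202000022020200020000000022020000020)
  (Net.cons (nat_lit 4) (nat_lit 0xc040c0a0c0402080e0c08000004060c0802040a02060a000c04060a0c080004040400000e00080e0400040802000804000c0604040208080808060a04020a00)
  (Net.cons (nat_lit 8) (nat_lit 0x1400000060000e00ce002200ae00b2002e006800f00004005a001800ae009400a6004200b00060009200d40002003000c0004000cc00b8001400fc00000022)
  (Net.cons (nat_lit 16) (nat_lit 0x66920000b3980000d8f400000e20000035e20000c3a80000773400007c2400008d42000051140000e7900000f368000067ee000044740000974000002638)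
  (Net.cons (nat_lit 32) (nat_lit 0xe8819cdc00000000fa985b1a000000005c624e4400000000bdde707600000000cc0a2f8400000000b83757ac00000000ea65863e00000000d521173a)
  (Net.cons (nat_lit 64) (nat_lit 0xe4e8bcca270d90400000000000000000a0adbec2350dace6000000000000000001f6962b2e49f50400000000000000008a2066a39d468cfc)
  (Net.cons (nat_lit 128) (nat_lit 0x6af246cbf029e48baf7259117d859d1a00000000000000000000000000000000604a754d6abc375cab0310fe60d45e40)
  (Net.cons (nat_lit 256) (nat_lit 0x3503f914d5552197f7ed734e3c29ab0c1d5dd67fdce01cc163e4e5c5c0edfbaa)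
  Net.nil)))))))))))))))))
noncomputable def m2n2 : Net := (Net.cons (nat_lit 256) (nat_lit 0x390025805e7e4000409ba214ace1824863c40801030000086400040000400090)
  (Net.cons (nat_lit 128) (nat_lit 0x4082502f52513f660d183920c80244400000000000000000000000000000000e00aa81052bc2410ac39b400286100c2)
  (Net.cons (nat_lit 64) (nat_lit 0x5ccba000906045800000000000000000be840f303ddc088000000000000000003ae7e6e8ba19c09000000000000000009f50199435a31982)
  (Net.cons (nat_lit 32) (nat_lit 0xe40e2000000000001c5b82880000000063da74c400000000bbd4110000000000d20ddbb4000000004239c018000000007f645e1800000000a5bd6900)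
  (Net.cons (nat_lit 16) (nat_lit 0x418800000ee0000004c00000da4000001d40000004880000c3e9000058200000f58800009b91000029280000f3600000c260000047a00000471d0000c154)
  (Net.cons (nat_lit 8) (nat_lit 0x82000a008c003a0038004a001000100034003c005a00c8005400cc00e300a6006d003e00b4004000c80092003e009400800086001000bd00c6002000c2005e)
  (Net.cons (nat_lit 4) (nat_lit 0x600000004010002080b0e04060809080e0c06020a0e08080c0002000200080200040c0404030b090a0900080e01040d0d08090202020c0003020c0e0e040e0a)
  (Net.cons (nat_lit 2) (nat_lit 0x20010000231330102020031012302003322001030122000103223200221130111301022030200233230200203022022233020203213132213131120300300132)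
  (Net.cons (nat_lit 1) (nat_lit 0x41404500001440141011450004041110544000405010140045405054150501405440444554114415050410410444401114410440045051114114444105105054)
  (Net.cons (nat_lit 2) (nat_lit 0x20000000000220002002000002000200022000000020000000200000200000000200022000202020000200200022002200020200000000222200020200000000)
  (Net.cons (nat_lit 4) (nat_lit 0x60000000406020008000e0406080208080404020a0a08000c0002000002080006000c04040204000a0000000e000400020800020a020c00000a0c000a000e02)
  (Net.cons (nat_lit 8) (nat_lit 0x82000a008c004800200048001000100010002c005a0088004400cc00cc00a600d0002e00240040008800a2001e0094008000860090003e00180024000400d2)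
  (Net.cons (nat_lit 16) (nat_lit 0x410800000ee0000004c00000da4000001d40000004880000c1a8000058200000c5b800009b10000009280000f2400000c260000098200000539c0000c1f0)
  (Net.cons (nat_lit 32) (nat_lit 0xe40e2000000000001c5b82880000000063da74c400000000bb54010000000000f20c8b34000000004219e058000000007f645e180000000005397000)
  (Net.cons (nat_lit 64) (nat_lit 0x5ccba0009060458000000000000000003e840f303ddc088000000000000000001ec7d6c8ba19c0a000000000000000009f50199435a31982)
  (Net.cons (nat_lit 128) (nat_lit 0x4082502f52513f660d183920c80244400000000000000000000000000000000e00aa81052bc2410ac39b400286100c2)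
  (Net.cons (nat_lit 256) (nat_lit 0x390025805e7e4000409ba214ace1820863c40801030000086400040000408080)
  Net.nil)))))))))))))))))
noncomputable def m2n3 : Net := (Net.cons (nat_lit 256) (nat_lit 0x390025805e7e4000409ba214ace1824863c40801030000086400040000400090)
  (Net.cons (nat_lit 128) (nat_lit 0x4082502f52513f660d183920c80244400000000000000000000000000000000e00aa81052bc2410ac39b400286100c2)
  (Net.cons (nat_lit 64) (nat_lit 0x5ccba000906045800000000000000000be840f303ddc088000000000000000003ae7e6e8ba19c09000000000000000009f50199435a31982)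
  (Net.cons (nat_lit 32) (nat_lit 0xe40e2000000000001c5b82880000000063da74c400000000bbd4110000000000d20ddbb4000000004239c018000000007f645e1800000000a5bd6900)
  (Net.cons (nat_lit 16) (nat_lit 0x418800000ee0000004c00000da4000001d40000004880000c3e9000058200000f58800009b91000029280000f3600000c260000047a00000471d0000c154)
  (Net.cons (nat_lit 8) (nat_lit 0x82000a008c003a0038004a001000100034003c005a00c8005400cc00e300a6006d003e00b4004000c80092003e009400800086001000bd00c6002000c2005e)
  (Net.cons (nat_lit 4) (nat_lit 0x600000004010002080b0e04060809080e0c06020a0e08080c0002000200080200040c0404030b090a0900080e01040d0d08090202020c0003020c0e0e040e0a)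
  (Net.cons (nat_lit 2) (nat_lit 0x20010000231330102020031012302003322001030122000103223200221130111301022030200233230200203022022233020203213132213131120300300132)
  (Net.cons (nat_lit 1) (nat_lit 0x41404500001440141011450004041110544000405010140045405054150501405440444554114415050410410444401114410440045051114114444105105054)
  (Net.cons (nat_lit 2) (nat_lit 0x20000000000220002002000002000200022000000020000000200000200000000200022000202020000200200022002200020200000000222200020200000000)
  (Net.cons (nat_lit 4) (nat_lit 0x60000000406020008000e0406080208080404020a0a08000c0002000002080006000c04040204000a0000000e000400020800020a020c00000a0c000a000e02)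
  (Net.cons (nat_lit 8) (nat_lit 0x82000a008c004800200048001000100010002c005a0088004400cc00cc00a600d0002e00240040008800a2001e0094008000860090003e00180024000400d2)
  (Net.cons (nat_lit 16) (nat_lit 0x410800000ee0000004c00000da4000001d40000004880000c1a8000058200000c5b800009b10000009280000f2400000c260000098200000539c0000c1f0)
  (Net.cons (nat_lit 32) (nat_lit 0xe40e2000000000001c5b82880000000063da74c400000000bb54010000000000f20c8b34000000004219e058000000007f645e180000000005397000)
  (Net.cons (nat_lit 64) (nat_lit 0x5ccba0009060458000000000000000003e840f303ddc088000000000000000001ec7d6c8ba19c0a000000000000000009f50199435a31982)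
  (Net.cons (nat_lit 128) (nat_lit 0x4082502f52513f660d183920c80244400000000000000000000000000000000e00aa81052bc2410ac39b400286100c2)
  (Net.cons (nat_lit 256) (nat_lit 0x390025805e7e4000409ba214ace1820863c40801030000086400040000408080)
  Net.nil)))))))))))))))))
noncomputable def m2n4 : Net := (Net.cons (nat_lit 256) (nat_lit 0x50588951a0b86056e5b428e69884848c25b8010020004014000006800800000)
  (Net.cons (nat_lit 128) (nat_lit 0xb1022ad9900f0e2c1a4656814892f84000000000000000000000000000000000a81f182e864ea2141b58b428b6808000)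
  (Net.cons (nat_lit 64) (nat_lit 0x9d11e099a0a400040000000000000000836326685452400000000000000000002b2c8311c72412480000000000000000c54ad609c31c1080)
  (Net.cons (nat_lit 32) (nat_lit 0x2231088000000000721faf36000000004540a048000000006f4309a200000000e56070c600000000aadabe000000000035a2c600000000007114b080)
  (Net.cons (nat_lit 16) (nat_lit 0x382000000e0900003e9000006a94000088e0000013d00000e6400000c0250000bb840000311a0000320000000b0f000072400000aeec000050a50000c330)
  (Net.cons (nat_lit 8) (nat_lit 0xe000c009000800010008e0062008a00f80069005d003a00d800ec00d900af00d200b200420062003000e800a3003500040010004c00ae0079005300e0005c)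
  (Net.cons (nat_lit 4) (nat_lit 0xe0a060408000f080004080504080e0804000b050908000c04040e0a0a0207060a080000080c080c01000a060800060804000e000a0808000c0d04070c08)
  (Net.cons (nat_lit 2) (nat_lit 0x2033200021200221123033010200002300322321012010021032102010301120223301030022020021233202321010123101200010332223120203213000210)
  (Net.cons (nat_lit 1) (nat_lit 0x4005441500100010010050105041001044014504015001510000110444401051110540101544110000441004104511410040410105001401440040105000104)
  (Net.cons (nat_lit 2) (nat_lit 0x2000200000200020020000000000002020022000020000020000000200202002020000000002020000220002200000020000200000002200000000200000200)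
  (Net.cons (nat_lit 4) (nat_lit 0x80a0604000000080004080400080008040008060008000c0600000e0a0008060a00000000080804060002020c0c0608040006000a080c000c0404000808)
  (Net.cons (nat_lit 8) (nat_lit 0xe000c009000800010008e00620080007a00680014003a00d000ec008400ae00d2009200420062001000e80082004800040010004c00aa008c004400600054)
  (Net.cons (nat_lit 16) (nat_lit 0x382000000e0000003a8000006a90000088e0000056c00000e64000002f800000bb800000301800003200000006ca000072400000aeec000045180000c310)
  (Net.cons (nat_lit 32) (nat_lit 0x2231088000000000721faf36000000004152a088000000006d03080200000000e56070c60000000028cabd08000000003582c600000000007114b080)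
  (Net.cons (nat_lit 64) (nat_lit 0x9d11e099a0a400040000000000000000c3432668545a000000000000000000002b2c8311c52012400000000000000000c54ad609c31c1080)
  (Net.cons (nat_lit 128) (nat_lit 0xb1022ad9900f0e2c1a0656814892f84000000000000000000000000000000000a81f182e864ea2141b58b428b6808000)
  (Net.cons (nat_lit 256) (nat_lit 0x50588951a0b86056e5b428e69884848c25b8010020004014000006800800000)
  Net.nil)))))))))))))))))
noncomputable def m2n5 : Net := (Net.cons (nat_lit 256) (nat_lit 0x50588951a0b86056e5b428e69884848c25b8010020004014000006800800000)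
  (Net.cons (nat_lit 128) (nat_lit 0xb1022ad9900f0e2c1a4656814892f84000000000000000000000000000000000a81f182e864ea2141b58b428b6808000)
  (Net.cons (nat_lit 64) (nat_lit 0x9d11e099a0a400040000000000000000836326685452400000000000000000002b2c8311c72412480000000000000000c54ad609c31c1080)
  (Net.cons (nat_lit 32) (nat_lit 0x2231088000000000721faf36000000004540a048000000006f4309a200000000e56070c600000000aadabe000000000035a2c600000000007114b080)
  (Net.cons (nat_lit 16) (nat_lit 0x382000000e0900003e9000006a94000088e0000013d00000e6400000c0250000bb840000311a0000320000000b0f000072400000aeec000050a50000c330)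
  (Net.cons (nat_lit 8) (nat_lit 0xe000c009000800010008e0062008a00f80069005d003a00d800ec00d900af00d200b200420062003000e800a3003500040010004c00ae0079005300e0005c)
  (Net.cons (nat_lit 4) (nat_lit 0xe0a060408000f080004080504080e0804000b050908000c04040e0a0a0207060a080000080c080c01000a060800060804000e000a0808000c0d04070c08)
  (Net.cons (nat_lit 2) (nat_lit 0x2033200021200221123033010200002300322321012010021032102010301120223301030022020021233202321010123101200010332223120203213000210)
  (Net.cons (nat_lit 1) (nat_lit 0x4005441500100010010050105041001044014504015001510000110444401051110540101544110000441004104511410040410105001401440040105000104)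
  (Net.cons (nat_lit 2) (nat_lit 0x2000200000200020020000000000002020022000020000020000000200202002020000000002020000220002200000020000200000002200000000200000200)
  (Net.cons (nat_lit 4) (nat_lit 0x80a0604000000080004080400080008040008060008000c0600000e0a0008060a00000000080804060002020c0c0608040006000a080c000c0404000808)
  (Net.cons (nat_lit 8) (nat_lit 0xe000c009000800010008e00620080007a00680014003a00d000ec008400ae00d2009200420062001000e80082004800040010004c00aa008c004400600054)
  (Net.cons (nat_lit 16) (nat_lit 0x382000000e0000003a8000006a90000088e0000056c00000e64000002f800000bb800000301800003200000006ca000072400000aeec000045180000c310)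
  (Net.cons (nat_lit 32) (nat_lit 0x2231088000000000721faf36000000004152a088000000006d03080200000000e56070c60000000028cabd08000000003582c600000000007114b080)
  (Net.cons (nat_lit 64) (nat_lit 0x9d11e099a0a400040000000000000000c3432668545a000000000000000000002b2c8311c52012400000000000000000c54ad609c31c1080)
  (Net.cons (nat_lit 128) (nat_lit 0xb1022ad9900f0e2c1a0656814892f84000000000000000000000000000000000a81f182e864ea2141b58b428b6808000)
  (Net.cons (nat_lit 256) (nat_lit 0x50588951a0b86056e5b428e69884848c25b8010020004014000006800800000)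
  Net.nil)))))))))))))))))
noncomputable def m2n6 : Net := (Net.cons (nat_lit 256) (nat_lit 0x2b51322ef79d69a6709b0874df91603c6d95c00028c009000028029808004200)
  (Net.cons (nat_lit 128) (nat_lit 0x1240125cb7bd14c56385c9065b1111100000000000000000000000000000000010411afa2ce329f32637bd9700116c00)
  (Net.cons (nat_lit 64) (nat_lit 0x53cb326808083080000000000000000061fd9d4cbf5ec20000000000000000008d640d03ee3c0c020000000000000000b6362a0631882200)
  (Net.cons (nat_lit 32) (nat_lit 0x421d4064000000004273a3ec0000000060fba84c0000000063c2dfe800000000cf644b00000000008437710000000000b106a3d000000000028cc484)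
  (Net.cons (nat_lit 16) (nat_lit 0x42d00000aca40000e14c0000a61a000030c100004d3e00004358000092ac000002a4000091f00000a402000080240000ea00000071cc000012480000cf70)
  (Net.cons (nat_lit 8) (nat_lit 0x300060004c0090000d00d400b400b400180068006e002c002f009200df00260040008000f000020002001400f9005b004200000060005c007000860093001e)
  (Net.cons (nat_lit 4) (nat_lit 0x7020c000e08060a06080200080e06020a0e0e00030e02050501000f030a000e0e000f0a0d0808000003000a0c0a0e0e02020604000d000e0604000e0a0d0c)
  (Net.cons (nat_lit 2) (nat_lit 0x12220002000301212002011001000103202222022302010001103100031023200001201311022110222000211332303022022001031002311302020303032220)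
  (Net.cons (nat_lit 1) (nat_lit 0x1440000054500105414100000114045440144414040405401401455114100041000151401404401044104100501441441444410104440100510514051041114)
  (Net.cons (nat_lit 2) (nat_lit 0x2220000000000200202000000200000020222020000200002202000020000000000200200000200022000200002002222020200202000200000020002002222)
  (Net.cons (nat_lit 4) (nat_lit 0x8000e00040406000000080c060c0a000c040808020a0a0c000c00000002040000020c0600000000000a0c08000c000c0604000c000e020400020c000a)
  (Net.cons (nat_lit 8) (nat_lit 0x30006000400090000c00d4003400a4000800680084002c00d00092002000260040008000d0002200020014007800200064000000d0005c0070008600960086)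
  (Net.cons (nat_lit 16) (nat_lit 0x42d000008ca40000e14c0000a61a0000304000000e1200004358000092ac000002a40000b4800000a402000080240000ea00000021400000124800004890)
  (Net.cons (nat_lit 32) (nat_lit 0x420d406400000000523381e40000000060fba84c0000000063825fe800000000cf644b00000000008435710000000000b106a3d000000000028cc484)
  (Net.cons (nat_lit 64) (nat_lit 0x53cb326808083080000000000000000061fd9d4caf5ec20000000000000000008d640d03ee3c0c020000000000000000b6362a0621882200)
  (Net.cons (nat_lit 128) (nat_lit 0x1240125cb7bd14c56385c9065b1111000000000000000000000000000000000010411afa2ce329f32637bd9700112c00)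
  (Net.cons (nat_lit 256) (nat_lit 0x2b51322ef79d69a6709b0874df91603c6d95c00028c009000028029808004200)
  Net.nil)))))))))))))))))
noncomputable def m2n7 : Net := (Net.cons (nat_lit 256) (nat_lit 0x2b51322ef79d69a6709b0874df91603c6d95c00028c009000028029808004200)
  (Net.cons (nat_lit 128) (nat_lit 0x1240125cb7bd14c56385c9065b1111100000000000000000000000000000000010411afa2ce329f32637bd9700116c00)
  (Net.cons (nat_lit 64) (nat_lit 0x53cb326808083080000000000000000061fd9d4cbf5ec20000000000000000008d640d03ee3c0c020000000000000000b6362a0631882200)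
  (Net.cons (nat_lit 32) (nat_lit 0x421d4064000000004273a3ec0000000060fba84c0000000063c2dfe800000000cf644b00000000008437710000000000b106a3d000000000028cc484)
  (Net.cons (nat_lit 16) (nat_lit 0x42d00000aca40000e14c0000a61a000030c100004d3e00004358000092ac000002a4000091f00000a402000080240000ea00000071cc000012480000cf70)
  (Net.cons (nat_lit 8) (nat_lit 0x300060004c0090000d00d400b400b400180068006e002c002f009200df00260040008000f000020002001400f9005b004200000060005c007000860093001e)
  (Net.cons (nat_lit 4) (nat_lit 0x7020c000e08060a06080200080e06020a0e0e00030e02050501000f030a000e0e000f0a0d0808000003000a0c0a0e0e02020604000d000e0604000e0a0d0c)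
  (Net.cons (nat_lit 2) (nat_lit 0x12220002000301212002011001000103202222022302010001103100031023200001201311022110222000211332303022022001031002311302020303032220)
  (Net.cons (nat_lit 1) (nat_lit 0x1440000054500105414100000114045440144414040405401401455114100041000151401404401044104100501441441444410104440100510514051041114)
  (Net.cons (nat_lit 2) (nat_lit 0x2220000000000200202000000200000020222020000200002202000020000000000200200000200022000200002002222020200202000200000020002002222)
  (Net.cons (nat_lit 4) (nat_lit 0x8000e00040406000000080c060c0a000c040808020a0a0c000c00000002040000020c0600000000000a0c08000c000c0604000c000e020400020c000a)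
  (Net.cons (nat_lit 8) (nat_lit 0x30006000400090000c00d4003400a4000800680084002c00d00092002000260040008000d0002200020014007800200064000000d0005c0070008600960086)
  (Net.cons (nat_lit 16) (nat_lit 0x42d000008ca40000e14c0000a61a0000304000000e1200004358000092ac000002a40000b4800000a402000080240000ea00000021400000124800004890)
  (Net.cons (nat_lit 32) (nat_lit 0x420d406400000000523381e40000000060fba84c0000000063825fe800000000cf644b00000000008435710000000000b106a3d000000000028cc484)
  (Net.cons (nat_lit 64) (nat_lit 0x53cb326808083080000000000000000061fd9d4caf5ec20000000000000000008d640d03ee3c0c020000000000000000b6362a0621882200)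
  (Net.cons (nat_lit 128) (nat_lit 0x1240125cb7bd14c56385c9065b1111000000000000000000000000000000000010411afa2ce329f32637bd9700112c00)
  (Net.cons (nat_lit 256) (nat_lit 0x2b51322ef79d69a6709b0874df91603c6d95c00028c009000028029808004200)
  Net.nil)))))))))))))))))
noncomputable def m2n8 : Net := (Net.cons (nat_lit 256) (nat_lit 0x9a1a63150a8ae756ee53624230882f0c9a9ad008b41010000800002452400000)
  (Net.cons (nat_lit 128) (nat_lit 0xde325a51cc1265986f35ac08c0440500000000000000000000000000000000036ae847a0366837e30634524ca5800c0)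
  (Net.cons (nat_lit 64) (nat_lit 0xfed34203b50010480000000000000000d912d42aac12f0400000000000000000730e91c9511c481000000000000000005a55018319924420)
  (Net.cons (nat_lit 32) (nat_lit 0x9003c64000000000c24eca6000000000409a0a2600000000c50ae35000000000712409920000000016dd452400000000db055500000000006cf01e60)
  (Net.cons (nat_lit 16) (nat_lit 0x7000000cec80000ba8600002a3400004a20000015a00000e0110000b48600002940000044ec0000c00000007a8800007820000025800000286800008250)
  (Net.cons (nat_lit 8) (nat_lit 0x1b00b2000800b400d0006800040052009000a400fa009400380050001c0070009e0072007000d200d4000800d80052009100de00aa000900a0003200b40074)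
  (Net.cons (nat_lit 4) (nat_lit 0xc020104000006070e0e0400080a0c0c040a020e080c010c0c0a0104060a080400080c080c0005000402040c04020c040a000c0f020e02000404050b07080805)
  (Net.cons (nat_lit 2) (nat_lit 0x22000200002201023020002002021230021132002222023200010023220030321020203300220020202200310122312200231331012200122320031210320)
  (Net.cons (nat_lit 1) (nat_lit 0x1014000450051440010144514141000150040050504444410104004500141504510000110510011141401040004541004104414500004004001515141100011)
  (Net.cons (nat_lit 2) (nat_lit 0x2002000200002020020020002002000200020000002222020200000000220000020000200000020020202000000000002200000000002000002000220200002)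
  (Net.cons (nat_lit 4) (nat_lit 0x208000000000608040e0400000a080c0400020e0804000c0c080004060a0004000808080c0000000402000c04000204020000020204020004000c080008080a)
  (Net.cons (nat_lit 8) (nat_lit 0xa00030000800b400d0006800040050009000a400ea009400200050001c0070009e0042007000d200540008005800e20090005800aa000000a000a000340074)
  (Net.cons (nat_lit 16) (nat_lit 0x7000000cac00000ba8600002a3400000820000015a00000e0100000b08600002940000044e00000c0000000788000007800000025800000286800008210)
  (Net.cons (nat_lit 32) (nat_lit 0x9003c64000000000c20eca6000000000409a0a2400000000c50ae35000000000710409920000000016dc452000000000db055500000000006ce01640)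
  (Net.cons (nat_lit 64) (nat_lit 0xfed34203b50010480000000000000000d912d42aac12f0400000000000000000730e91c9511c481000000000000000005a55018319924420)
  (Net.cons (nat_lit 128) (nat_lit 0xde325a51cc1265986b35ac08c0440500000000000000000000000000000000036ae847a0362837e30634524ca5800c0)
  (Net.cons (nat_lit 256) (nat_lit 0x9a1a63150a8ae756ee53624230882f0c9a9ad008b41010000800002452400000)
  Net.nil)))))))))))))))))
noncomputable def m2n9 : Net := (Net.cons (nat_lit 256) (nat_lit 0x9a1a63150a8ae756ee53624230882f0c9a9ad008b41010000800002452400000)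
  (Net.cons (nat_lit 128) (nat_lit 0xde325a51cc1265986f35ac08c0440500000000000000000000000000000000036ae847a0366837e30634524ca5800c0)
  (Net.cons (nat_lit 64) (nat_lit 0xfed34203b50010480000000000000000d912d42aac12f0400000000000000000730e91c9511c481000000000000000005a55018319924420)
  (Net.cons (nat_lit 32) (nat_lit 0x9003c64000000000c24eca6000000000409a0a2600000000c50ae35000000000712409920000000016dd452400000000db055500000000006cf01e60)
  (Net.cons (nat_lit 16) (nat_lit 0x7000000cec80000ba8600002a3400004a20000015a00000e0110000b48600002940000044ec0000c00000007a8800007820000025800000286800008250)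
  (Net.cons (nat_lit 8) (nat_lit 0x1b00b2000800b400d0006800040052009000a400fa009400380050001c0070009e0072007000d200d4000800d80052009100de00aa000900a0003200b40074)
  (Net.cons (nat_lit 4) (nat_lit 0xc020104000006070e0e0400080a0c0c040a020e080c010c0c0a0104060a080400080c080c0005000402040c04020c040a000c0f020e02000404050b07080805)
  (Net.cons (nat_lit 2) (nat_lit 0x22000200002201023020002002021230021132002222023200010023220030321020203300220020202200310122312200231331012200122320031210320)
  (Net.cons (nat_lit 1) (nat_lit 0x1014000450051440010144514141000150040050504444410104004500141504510000110510011141401040004541004104414500004004001515141100011)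
  (Net.cons (nat_lit 2) (nat_lit 0x2002000200002020020020002002000200020000002222020200000000220000020000200000020020202000000000002200000000002000002000220200002)
  (Net.cons (nat_lit 4) (nat_lit 0x208000000000608040e0400000a080c0400020e0804000c0c080004060a0004000808080c0000000402000c04000204020000020204020004000c080008080a)
  (Net.cons (nat_lit 8) (nat_lit 0xa00030000800b400d0006800040050009000a400ea009400200050001c0070009e0042007000d200540008005800e20090005800aa000000a000a000340074)
  (Net.cons (nat_lit 16) (nat_lit 0x7000000cac00000ba8600002a3400000820000015a00000e0100000b08600002940000044e00000c0000000788000007800000025800000286800008210)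
  (Net.cons (nat_lit 32) (nat_lit 0x9003c64000000000c20eca6000000000409a0a2400000000c50ae35000000000710409920000000016dc452000000000db055500000000006ce01640)
  (Net.cons (nat_lit 64) (nat_lit 0xfed34203b50010480000000000000000d912d42aac12f0400000000000000000730e91c9511c481000000000000000005a55018319924420)
  (Net.cons (nat_lit 128) (nat_lit 0xde325a51cc1265986b35ac08c0440500000000000000000000000000000000036ae847a0362837e30634524ca5800c0)
  (Net.cons (nat_lit 256) (nat_lit 0x9a1a63150a8ae756ee53624230882f0c9a9ad008b41010000800002452400000)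
  Net.nil)))))))))))))))))
noncomputable def m2l : List Net := [m2n0,m2n1,m2n2,m2n3,m2n4,m2n5,m2n6,m2n7,m2n8,m2n9]
noncomputable abbrev m2 : ℕ → Net := lk Net.nil m2l
theorem m2ok : NetsOk 416 m2 vT := netsOk_of (by decide +kernel)
theorem m2s0 : Sat io [] (finG m2ok) := fin_sat_nil _ (k := 9) (n := 10) (by decide +kernel)
noncomputable def m3n0 : Net := (Net.cons (nat_lit 4) (nat_lit 12)
  (Net.cons (nat_lit 2) (nat_lit 49)
  (Net.cons (nat_lit 1) (nat_lit 1)
  (Net.cons (nat_lit 4) (nat_lit 10)
  Net.nil))))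
noncomputable def m3n1 : Net := (Net.cons (nat_lit 4) (nat_lit 10)
  (Net.cons (nat_lit 2) (nat_lit 51)
  (Net.cons (nat_lit 1) (nat_lit 4)
  (Net.cons (nat_lit 2) (nat_lit 2)
  (Net.cons (nat_lit 4) (nat_lit 12)
  Net.nil)))))
noncomputable def m3l : List Net := [m3n0,m3n1]
noncomputable abbrev m3 : ℕ → Net := lk Net.nil m3l
theorem m3ok : NetsOk 7 m3 vT := netsOk_of (by decide +kernel)
theorem m3s0 : Sat io [] (finG m3ok) := fin_sat_nil _ (k := 3) (n := 10) (by decide +kernel)
noncomputable def r0 : List ℕ := [0,0,0,0,0,0,0]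
noncomputable def m4n0 : Net := (Net.cons (nat_lit 4) (nat_lit 12)
  (Net.cons (nat_lit 2) (nat_lit 49)
  (Net.cons (nat_lit 1) (nat_lit 1)
  (Net.cons (nat_lit 4) (nat_lit 10)
  Net.nil))))
noncomputable def m4n1 : Net := (Net.cons (nat_lit 4) (nat_lit 10)
  (Net.cons (nat_lit 2) (nat_lit 51)
  (Net.cons (nat_lit 1) (nat_lit 4)
  (Net.cons (nat_lit 2) (nat_lit 2)
  (Net.cons (nat_lit 4) (nat_lit 12)
  Net.nil)))))
noncomputable def m4l : List Net := [m4n0,m4n1]
noncomputable abbrev m4 : ℕ → Net := lk Net.nil m4l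
theorem m4ok : NetsOk 7 m4 vT := netsOk_of (by decide +kernel)
theorem m4s0 : Sat io [] (finG m4ok) := fin_sat_nil _ (k := 3) (n := 10) (by decide +kernel)
noncomputable def C5 : List (List ℕ) := [r0]
theorem cl6 : Clo.{u} io C5 [] 7 m4 1 (mkB []) := Clo.start (by decide +kernel)
theorem imp7 : Imp.{u} io C5 C1 := Imp.of_chk (pfs := []) (by decide +kernel)
theorem ix8 : Idx.{u} io C5 [] [] 1 := (Idx.triv (Bound.nil) (by norm_num)).of_imp imp7
noncomputable def lk9 : List (List ℕ × List ℕ × Pf) := []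
noncomputable def O10 : ℕ := (nat_lit 2)
noncomputable def M11 : ℕ := (nat_lit 3)
noncomputable def b12 : ℕ := (nat_lit 1)
theorem cl13 : Clo.{u} io C5 [] 7 m4 M11 (mkB [(0,b12)]) := cl6.new (k := 0) (b := 0) (q := 0) (p := 1) (r := 200) (n := 1) (O := O10) (by decide +kernel) (lks := lk9) (by decide +kernel) (gens_of_lall2 (m := []) (by decide +kernel)) ix8 (by decide +kernel)
noncomputable def b14 : ℕ := (nat_lit 2)
theorem cl15 : Clo.{u} io C5 [] 7 m4 M11 (mkB [(0,b12),(1,b14)]) := cl13.ops (os := [Op.inv 0]) (by decide +kernel) (by decide +kernel)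
theorem ix16 : Idx.{u} io C5 [] [] 1 := (Idx.triv (Bound.nil) (by norm_num)).of_imp imp7
noncomputable def lk17 : List (List ℕ × List ℕ × Pf) := []
noncomputable def O18 : ℕ := (nat_lit 8)
noncomputable def M19 : ℕ := (nat_lit 11)
noncomputable def b20 : ℕ := (nat_lit 3)
theorem cl21 : Clo.{u} io C5 [] 7 m4 M19 (mkB [(0,b20),(1,b14)]) := cl15.new (k := 0) (b := 0) (q := 1) (p := 3) (r := 200) (n := 1) (O := O18) (by decide +kernel) (lks := lk17) (by decide +kernel) (gens_of_lall2 (m := []) (by decide +kernel)) ix16 (by decide +kernel)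
noncomputable def b22 : ℕ := (nat_lit 10)
theorem cl23 : Clo.{u} io C5 [] 7 m4 M19 (mkB [(0,b20),(1,b22)]) := cl21.ops (os := [Op.inv 0]) (by decide +kernel) (by decide +kernel)
theorem ix24 : Idx.{u} io C5 [] [] 1 := (Idx.triv (Bound.nil) (by norm_num)).of_imp imp7
noncomputable def lk25 : List (List ℕ × List ℕ × Pf) := []
noncomputable def O26 : ℕ := (nat_lit 32)
noncomputable def M27 : ℕ := (nat_lit 43)
noncomputable def b28 : ℕ := (nat_lit 11)
theorem cl29 : Clo.{u} io C5 [] 7 m4 M27 (mkB [(0,b28),(1,b22)]) := cl23.new (k := 0) (b := 0) (q := 3) (p := 5) (r := 200) (n := 1) (O := O26) (by decide +kernel) (lks := lk25) (by decide +kernel) (gens_of_lall2 (m := []) (by decide +kernel)) ix24 (by decide +kernel)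
noncomputable def b30 : ℕ := (nat_lit 42)
theorem cl31 : Clo.{u} io C5 [] 7 m4 M27 (mkB [(0,b28),(1,b30)]) := cl29.ops (os := [Op.inv 0]) (by decide +kernel) (by decide +kernel)
theorem ix32 : Idx.{u} io C5 [] [] 1 := (Idx.triv (Bound.nil) (by norm_num)).of_imp imp7
noncomputable def lk33 : List (List ℕ × List ℕ × Pf) := []
noncomputable def O34 : ℕ := (nat_lit 64)
noncomputable def M35 : ℕ := (nat_lit 107)
noncomputable def b36 : ℕ := (nat_lit 43)
theorem cl37 : Clo.{u} io C5 [] 7 m4 M35 (mkB [(0,b36),(1,b30)]) := cl31.new (k := 0) (b := 0) (q := 5) (p := 6) (r := 200) (n := 1) (O := O34) (by decide +kernel) (lks := lk33) (by decide +kernel) (gens_of_lall2 (m := []) (by decide +kernel)) ix32 (by decide +kernel)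
noncomputable def b38 : ℕ := (nat_lit 106)
theorem cl39 : Clo.{u} io C5 [] 7 m4 M35 (mkB [(0,b36),(1,b38)]) := cl37.ops (os := [Op.inv 0]) (by decide +kernel) (by decide +kernel)
theorem ix40 : Idx.{u} io C5 [] [] 1 := (Idx.triv (Bound.nil) (by norm_num)).of_imp imp7
noncomputable def lk41 : List (List ℕ × List ℕ × Pf) := []
noncomputable def O42 : ℕ := (nat_lit 16)
noncomputable def M43 : ℕ := (nat_lit 123)
noncomputable def b44 : ℕ := (nat_lit 107)
theorem cl45 : Clo.{u} io C5 [] 7 m4 M43 (mkB [(0,b44),(1,b38)]) := cl39.new (k := 0) (b := 0) (q := 6) (p := 4) (r := 200) (n := 1) (O := O42) (by decide +kernel) (lks := lk41) (by decide +kernel) (gens_of_lall2 (m := []) (by decide +kernel)) ix40 (by decide +kernel)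
noncomputable def b46 : ℕ := (nat_lit 122)
theorem cl47 : Clo.{u} io C5 [] 7 m4 M43 (mkB [(0,b44),(1,b46)]) := cl45.ops (os := [Op.inv 0]) (by decide +kernel) (by decide +kernel)
theorem ix48 : Idx.{u} io C5 [] [] 1 := (Idx.triv (Bound.nil) (by norm_num)).of_imp imp7
noncomputable def lk49 : List (List ℕ × List ℕ × Pf) := []
noncomputable def O50 : ℕ := (nat_lit 4)
noncomputable def M51 : ℕ := (nat_lit 127)
noncomputable def b52 : ℕ := (nat_lit 123)
theorem cl53 : Clo.{u} io C5 [] 7 m4 M51 (mkB [(0,b52),(1,b46)]) := cl47.new (k := 0) (b := 0) (q := 4) (p := 2) (r := 200) (n := 1) (O := O50) (by decide +kernel) (lks := lk49) (by decide +kernel) (gens_of_lall2 (m := []) (by decide +kernel)) ix48 (by decide +kernel)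
noncomputable def b54 : ℕ := (nat_lit 127)
noncomputable def b55 : ℕ := (nat_lit 127)
theorem cl56 : Clo.{u} io C5 [] 7 m4 M51 (mkB [(0,b54),(1,b55)]) := cl53.ops (os := [Op.inv 0,Op.rel 0 [] 1 [1,1,1,1,1] [([],1)],Op.inv 0]) (by decide +kernel) (by decide +kernel)
theorem sat58 : Sat io C5 (finG m4ok) := m4s0.fin (k := 3) (by decide +kernel)
theorem bd57 : Bound.{u} io C5 [0,1] 7 := cl56.bound (by decide +kernel) sat58 ((Bound.nil).of_imp imp7)
noncomputable def m59n0 : Net := (Net.cons (nat_lit 4) (nat_lit 12)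
  (Net.cons (nat_lit 2) (nat_lit 49)
  (Net.cons (nat_lit 1) (nat_lit 1)
  (Net.cons (nat_lit 4) (nat_lit 10)
  Net.nil))))
noncomputable def m59n1 : Net := (Net.cons (nat_lit 4) (nat_lit 10)
  (Net.cons (nat_lit 2) (nat_lit 51)
  (Net.cons (nat_lit 1) (nat_lit 4)
  (Net.cons (nat_lit 2) (nat_lit 2)
  (Net.cons (nat_lit 4) (nat_lit 12)
  Net.nil)))))
noncomputable def m59n2 : Net := (Net.cons (nat_lit 2) (nat_lit 1)
  (Net.cons (nat_lit 1) (nat_lit 16)
  Net.nil))
noncomputable def m59n3 : Net := (Net.cons (nat_lit 2) (nat_lit 1)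
  (Net.cons (nat_lit 1) (nat_lit 16)
  Net.nil))
noncomputable def m59l : List Net := [m59n0,m59n1,m59n2,m59n3]
noncomputable abbrev m59 : ℕ → Net := lk Net.nil m59l
theorem m59ok : NetsOk 7 m59 vT := netsOk_of (by decide +kernel)
theorem m59s0 : Sat io [] (finG m59ok) := fin_sat_nil _ (k := 3) (n := 10) (by decide +kernel)
noncomputable def r1 : List ℕ := [2,2]
noncomputable def r2 : List ℕ := [2,0,2,0,2,0,2,0]
noncomputable def r3 : List ℕ := [2,0,0,2,0,0,2,0,0]
noncomputable def r4 : List ℕ := [3,1,1,1,3,0,3,0,2,1,2,0,0,0,2,1,1]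
noncomputable def m60n0 : Net := (Net.cons (nat_lit 12) (nat_lit 2560)
  (Net.cons (nat_lit 6) (nat_lit 57388)
  (Net.cons (nat_lit 3) (nat_lit 0x1470c2)
  (Net.cons (nat_lit 1) (nat_lit 0x48000)
  (Net.cons (nat_lit 1) (nat_lit 0x90482)
  (Net.cons (nat_lit 1) (nat_lit 37384)
  (Net.cons (nat_lit 3) (nat_lit 0x100002)
  (Net.cons (nat_lit 6) (nat_lit 32802)
  (Net.cons (nat_lit 12) (nat_lit 2176)
  Net.nil)))))))))
noncomputable def m60n1 : Net := (Net.cons (nat_lit 12) (nat_lit 2176)
  (Net.cons (nat_lit 6) (nat_lit 0x19022)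
  (Net.cons (nat_lit 3) (nat_lit 0xc71c2)
  (Net.cons (nat_lit 1) (nat_lit 4160)
  (Net.cons (nat_lit 1) (nat_lit 0x402482)
  (Net.cons (nat_lit 1) (nat_lit 0x209008)
  (Net.cons (nat_lit 3) (nat_lit 8450)
  (Net.cons (nat_lit 6) (nat_lit 0x1c02c)
  (Net.cons (nat_lit 12) (nat_lit 2560)
  Net.nil)))))))))
noncomputable def m60n2 : Net := (Net.cons (nat_lit 12) (nat_lit 1989)
  (Net.cons (nat_lit 6) (nat_lit 0x1e034)
  (Net.cons (nat_lit 3) (nat_lit 0x182080)
  (Net.cons (nat_lit 1) (nat_lit 32833)
  (Net.cons (nat_lit 1) (nat_lit 0x92092)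
  (Net.cons (nat_lit 1) (nat_lit 0x41008)
  (Net.cons (nat_lit 3) (nat_lit 0x80182)
  (Net.cons (nat_lit 6) (nat_lit 0x3000e)
  (Net.cons (nat_lit 12) (nat_lit 2106)
  Net.nil)))))))))
noncomputable def m60n3 : Net := (Net.cons (nat_lit 12) (nat_lit 1989)
  (Net.cons (nat_lit 6) (nat_lit 0x1e034)
  (Net.cons (nat_lit 3) (nat_lit 0x182080)
  (Net.cons (nat_lit 1) (nat_lit 32833)
  (Net.cons (nat_lit 1) (nat_lit 0x92092)
  (Net.cons (nat_lit 1) (nat_lit 0x41008)
  (Net.cons (nat_lit 3) (nat_lit 0x80182)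
  (Net.cons (nat_lit 6) (nat_lit 0x3000e)
  (Net.cons (nat_lit 12) (nat_lit 2106)
  Net.nil)))))))))
noncomputable def m60l : List Net := [m60n0,m60n1,m60n2,m60n3]
noncomputable abbrev m60 : ℕ → Net := lk Net.nil m60l
theorem m60ok : NetsOk 24 m60 vT := netsOk_of (by decide +kernel)
theorem m60s0 : Sat io [] (finG m60ok) := fin_sat_nil _ (k := 5) (n := 10) (by decide +kernel)
noncomputable def C61 : List (List ℕ) := [r0,r1,r2,r3,r4]
theorem cl62 : Clo.{u} io C61 [0,1] 24 m60 1 (mkB []) := Clo.start (by decide +kernel)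
theorem imp63 : Imp.{u} io C61 C5 := Imp.of_chk (pfs := [[([],1)]]) (by decide +kernel)
theorem ix64 : Idx.{u} io C61 [0,1] [] 7 := (Idx.triv bd57 (by norm_num)).of_imp imp63
noncomputable def lk65 : List (List ℕ × List ℕ × Pf) := []
noncomputable def O66 : ℕ := (nat_lit 1374)
noncomputable def M67 : ℕ := (nat_lit 1375)
noncomputable def b68 : ℕ := (nat_lit 1)
theorem cl69 : Clo.{u} io C61 [0,1] 24 m60 M67 (mkB [(2,b68)]) := cl62.new (k := 2) (b := 2) (q := 0) (p := 1) (r := 200) (n := 7) (O := O66) (by decide +kernel) (lks := lk65) (by decide +kernel) (gens_of_lall2 (m := []) (by decide +kernel)) ix64 (by decide +kernel)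
noncomputable def b70 : ℕ := (nat_lit 83)
noncomputable def b71 : ℕ := (nat_lit 83)
theorem cl72 : Clo.{u} io C61 [0,1] 24 m60 M67 (mkB [(2,b70),(3,b71)]) := cl69.ops (os := [Op.inv 2,Op.rel 2 [] 3 [] [([],3)],Op.inv 2,Op.rel 2 [0,0] 3 [1,1,3,1,1] [([3],7)],Op.inv 2,Op.rel 2 [] 3 [] [([],3)],Op.inv 2]) (by decide +kernel) (by decide +kernel)
theorem ix73 : Idx.{u} io C61 [0,1] [] 7 := (Idx.triv bd57 (by norm_num)).of_imp imp63
noncomputable def lk74 : List (List ℕ × List ℕ × Pf) := []
noncomputable def O75 : ℕ := (nat_lit 0x4aaa0)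
noncomputable def M76 : ℕ := (nat_lit 0x4afff)
noncomputable def b77 : ℕ := (nat_lit 87)
theorem cl78 : Clo.{u} io C61 [0,1] 24 m60 M76 (mkB [(2,b77),(3,b71)]) := cl72.new (k := 2) (b := 2) (q := 2) (p := 5) (r := 200) (n := 7) (O := O75) (by decide +kernel) (lks := lk74) (by decide +kernel) (gens_of_lall2 (m := []) (by decide +kernel)) ix73 (by decide +kernel)
noncomputable def b79 : ℕ := (nat_lit 2815)
noncomputable def b80 : ℕ := (nat_lit 2815)
theorem cl81 : Clo.{u} io C61 [0,1] 24 m60 M76 (mkB [(2,b79),(3,b80)]) := cl78.ops (os := [Op.inv 2,Op.rel 2 [] 3 [] [([],3)],Op.inv 2,Op.rel 2 [0] 3 [1,3,1,3,1] [([3],5)],Op.inv 2,Op.rel 2 [] 3 [] [([],3)],Op.inv 2,Op.rel 2 [0] 3 [1,3,1,3,1] [([3],5)],Op.inv 2,Op.rel 2 [] 3 [] [([],3)],Op.inv 2]) (by decide +kernel) (by decide +kernel)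
theorem der83 : Der 7 (finX 7) (cl (finG m3ok) [[1,1]]) (fun _ => Net.nil) := Der.zero (finModel m3ok).inj
noncomputable def x84 : Net := (Net.cons (nat_lit 4) (nat_lit 13)
  (Net.cons (nat_lit 2) (nat_lit 16)
  (Net.cons (nat_lit 1) (nat_lit 80)
  (Net.cons (nat_lit 4) (nat_lit 10)
  Net.nil))))
noncomputable def ns85 : ℕ → Net := upd (fun _ => Net.nil) 0 x84
theorem der86 : Der 7 (finX 7) (cl (finG m3ok) [[1,1]]) ns85 := der83.add (wp_mem_cl (w := [1,1]) (by decide)) ((finModel m3ok).toIsPre.rep_word (k := 3) (w := [1,1]) (n := x84) (by decide +kernel)) 0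
noncomputable def L87 : Lev := Lev.cons 0 7 [[0]] Lev.nil
theorem lc88 : Lev.chk 7 0 ns85 vT 100 L87 = true := by decide +kernel
theorem lb89 : 7 ≤ Nat.card (cl (finG m3ok) [[1,1]]) := le_of_eq_of_le (by decide +kernel) (der86.card_ge lc88)
theorem sat90 : Sat io C5 (finG m3ok) := m3s0.fin (k := 3) (by decide +kernel)
theorem ix82 : Idx.{u} io C61 [0,1] [[1,1]] 1 := (Idx.of bd57 sat90 (by decide +kernel) lb89 (by decide +kernel)).of_imp imp63
noncomputable def lk91 : List (List ℕ × List ℕ × Pf) := [([1,1],[1,1,1,3,0,3,1,2,1,2,0,0,0],[([3,1,1,1,3,0,3,1,2,1,2,0,0,0,2],9)])]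
noncomputable def O92 : ℕ := (nat_lit 0x800000)
noncomputable def M93 : ℕ := (nat_lit 0x84afff)
noncomputable def b94 : ℕ := (nat_lit 0x40aff)
theorem cl95 : Clo.{u} io C61 [0,1] 24 m60 M93 (mkB [(2,b79),(3,b94)]) := cl81.new (k := 2) (b := 3) (q := 18) (p := 23) (r := 200) (n := 1) (O := O92) (by decide +kernel) (lks := lk91) (by decide +kernel) (gens_of_lall2 (m := [[0]]) (by decide +kernel)) ix82 (by decide +kernel)
noncomputable def b96 : ℕ := (nat_lit 0x840aff)
noncomputable def b97 : ℕ := (nat_lit 0x840aff)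
theorem cl98 : Clo.{u} io C61 [0,1] 24 m60 M93 (mkB [(2,b96),(3,b97)]) := cl95.ops (os := [Op.inv 3,Op.rel 2 [] 3 [] [([],3)],Op.inv 2]) (by decide +kernel) (by decide +kernel)
theorem ix99 : Idx.{u} io C61 [0,1] [] 7 := (Idx.triv bd57 (by norm_num)).of_imp imp63
noncomputable def lk100 : List (List ℕ × List ℕ × Pf) := []
noncomputable def O101 : ℕ := (nat_lit 0x3b5000)
noncomputable def M102 : ℕ := (nat_lit 0xbfffff)
noncomputable def b103 : ℕ := (nat_lit 0x842aff)
theorem cl104 : Clo.{u} io C61 [0,1] 24 m60 M102 (mkB [(2,b103),(3,b97)]) := cl98.new (k := 2) (b := 2) (q := 13) (p := 19) (r := 200) (n := 7) (O := O101) (by decide +kernel) (lks := lk100) (by decide +kernel) (gens_of_lall2 (m := []) (by decide +kernel)) ix99 (by decide +kernel)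
noncomputable def b105 : ℕ := (nat_lit 0xbdffff)
noncomputable def b106 : ℕ := (nat_lit 0xbdffff)
theorem cl107 : Clo.{u} io C61 [0,1] 24 m60 M102 (mkB [(2,b105),(3,b106)]) := cl104.ops (os := [Op.inv 2,Op.rel 2 [] 3 [] [([],3)],Op.inv 2,Op.rel 2 [0] 3 [1,3,1,3,1] [([3],5)],Op.inv 2,Op.rel 2 [] 3 [] [([],3)],Op.inv 2,Op.rel 2 [0] 3 [1,3,1,3,1] [([3],5)],Op.inv 2,Op.rel 2 [] 3 [] [([],3)],Op.inv 2,Op.rel 2 [0,0] 3 [1,1,3,1,1] [([3],7)],Op.inv 2,Op.rel 2 [] 3 [] [([],3)],Op.inv 2]) (by decide +kernel) (by decide +kernel)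
theorem der109 : Der 7 (finX 7) (cl (finG m3ok) [[0]]) (fun _ => Net.nil) := Der.zero (finModel m3ok).inj
noncomputable def ns110 : ℕ → Net := upd (fun _ => Net.nil) 0 (m3 0)
theorem der111 : Der 7 (finX 7) (cl (finG m3ok) [[0]]) ns110 := der109.add (wp_mem_cl (w := [0]) (by decide)) (rep_letter (finModel m3ok) 0) 0
noncomputable def L112 : Lev := Lev.cons 0 7 [[0]] Lev.nil
theorem lc113 : Lev.chk 7 0 ns110 vT 100 L112 = true := by decide +kernel
theorem lb114 : 7 ≤ Nat.card (cl (finG m3ok) [[0]]) := le_of_eq_of_le (by decide +kernel) (der111.card_ge lc113)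
theorem ix108 : Idx.{u} io C61 [0,1] [[0]] 1 := (Idx.of bd57 sat90 (by decide +kernel) lb114 (by decide +kernel)).of_imp imp63
noncomputable def lk115 : List (List ℕ × List ℕ × Pf) := [([0],[1,2,0,0,0,2,0,0,3,1,1,1,3,0],[([2,1,2,0,0,0,2],9)])]
noncomputable def O116 : ℕ := (nat_lit 0x400000)
noncomputable def M117 : ℕ := (nat_lit 0xffffff)
noncomputable def b118 : ℕ := (nat_lit 0xbfffff)
theorem cl119 : Clo.{u} io C61 [0,1] 24 m60 M117 (mkB [(2,b118),(3,b106)]) := cl107.new (k := 2) (b := 2) (q := 17) (p := 22) (r := 200) (n := 1) (O := O116) (by decide +kernel) (lks := lk115) (by decide +kernel) (gens_of_lall2 (m := [[0]]) (by decide +kernel)) ix108 (by decide +kernel)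
noncomputable def b120 : ℕ := (nat_lit 0xffffff)
noncomputable def b121 : ℕ := (nat_lit 0xffffff)
theorem cl122 : Clo.{u} io C61 [0,1] 24 m60 M117 (mkB [(2,b120),(3,b121)]) := cl119.ops (os := [Op.inv 2,Op.rel 2 [] 3 [] [([],3)],Op.inv 2]) (by decide +kernel) (by decide +kernel)
theorem sat124 : Sat io C61 (finG m60ok) := m60s0.fin (k := 5) (by decide +kernel)
theorem bd123 : Bound.{u} io C61 [0,1,2,3] 168 := cl122.bound (by decide +kernel) sat124 (bd57.of_imp imp63)
noncomputable def m125n0 : Net := (Net.cons (nat_lit 20) (nat_lit 0x7dbc4)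
  (Net.cons (nat_lit 10) (nat_lit 0xa200088)
  (Net.cons (nat_lit 5) (nat_lit 0x78080400d)
  (Net.cons (nat_lit 1) (nat_lit 0x500000)
  (Net.cons (nat_lit 1) (nat_lit 0x4000a00800)
  (Net.cons (nat_lit 1) (nat_lit 0x21485014a0)
  (Net.cons (nat_lit 1) (nat_lit 0x5094a02948)
  (Net.cons (nat_lit 1) (nat_lit 0x2840001401)
  (Net.cons (nat_lit 5) (nat_lit 0x780a05004)
  (Net.cons (nat_lit 10) (nat_lit 0xf4000b8)
  (Net.cons (nat_lit 20) (nat_lit 0x7d978)
  Net.nil)))))))))))
noncomputable def m125n1 : Net := (Net.cons (nat_lit 20) (nat_lit 0x946c2)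
  (Net.cons (nat_lit 10) (nat_lit 0x17d00092)
  (Net.cons (nat_lit 5) (nat_lit 0x180201812)
  (Net.cons (nat_lit 1) (nat_lit 0x400020)
  (Net.cons (nat_lit 1) (nat_lit 0x4000a00040)
  (Net.cons (nat_lit 1) (nat_lit 0x2148500480)
  (Net.cons (nat_lit 1) (nat_lit 0x1090a1290a)
  (Net.cons (nat_lit 1) (nat_lit 0x14a521405)
  (Net.cons (nat_lit 5) (nat_lit 0x380402814)
  (Net.cons (nat_lit 10) (nat_lit 0x30000098)
  (Net.cons (nat_lit 20) (nat_lit 0x90528)
  Net.nil)))))))))))
noncomputable def m125n2 : Net := (Net.cons (nat_lit 20) (nat_lit 0xa0500)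
  (Net.cons (nat_lit 10) (nat_lit 0xb000090)
  (Net.cons (nat_lit 5) (nat_lit 0x100200012)
  (Net.cons (nat_lit 1) (nat_lit 0x40000000)
  (Net.cons (nat_lit 1) (nat_lit 0x280002800)
  (Net.cons (nat_lit 1) (nat_lit 0x2108501005)
  (Net.cons (nat_lit 1) (nat_lit 0x429420290a)
  (Net.cons (nat_lit 1) (nat_lit 0x2048520005)
  (Net.cons (nat_lit 5) (nat_lit 0x100200010)
  (Net.cons (nat_lit 10) (nat_lit 0x9000090)
  (Net.cons (nat_lit 20) (nat_lit 0xa0500)
  Net.nil)))))))))))
noncomputable def m125n3 : Net := (Net.cons (nat_lit 20) (nat_lit 0xa0500)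
  (Net.cons (nat_lit 10) (nat_lit 0xb000090)
  (Net.cons (nat_lit 5) (nat_lit 0x100200012)
  (Net.cons (nat_lit 1) (nat_lit 0x40000000)
  (Net.cons (nat_lit 1) (nat_lit 0x280002800)
  (Net.cons (nat_lit 1) (nat_lit 0x2108501005)
  (Net.cons (nat_lit 1) (nat_lit 0x429420290a)
  (Net.cons (nat_lit 1) (nat_lit 0x2048520005)
  (Net.cons (nat_lit 5) (nat_lit 0x100200010)
  (Net.cons (nat_lit 10) (nat_lit 0x9000090)
  (Net.cons (nat_lit 20) (nat_lit 0xa0500)
  Net.nil)))))))))))
noncomputable def m125n4 : Net := (Net.cons (nat_lit 20) (nat_lit 0x8a120)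
  (Net.cons (nat_lit 10) (nat_lit 0x2a400068)
  (Net.cons (nat_lit 5) (nat_lit 0x200804004)
  (Net.cons (nat_lit 1) (nat_lit 0x28001)
  (Net.cons (nat_lit 1) (nat_lit 0x25000a)
  (Net.cons (nat_lit 1) (nat_lit 0x5290a5)
  (Net.cons (nat_lit 1) (nat_lit 0x1025094a)
  (Net.cons (nat_lit 1) (nat_lit 0x20000290a1)
  (Net.cons (nat_lit 5) (nat_lit 0x200804004)
  (Net.cons (nat_lit 10) (nat_lit 0x28400068)
  (Net.cons (nat_lit 20) (nat_lit 0x8a120)
  Net.nil)))))))))))
noncomputable def m125n5 : Net := (Net.cons (nat_lit 20) (nat_lit 0x8a120)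
  (Net.cons (nat_lit 10) (nat_lit 0x2a400068)
  (Net.cons (nat_lit 5) (nat_lit 0x200804004)
  (Net.cons (nat_lit 1) (nat_lit 0x28001)
  (Net.cons (nat_lit 1) (nat_lit 0x25000a)
  (Net.cons (nat_lit 1) (nat_lit 0x5290a5)
  (Net.cons (nat_lit 1) (nat_lit 0x1025094a)
  (Net.cons (nat_lit 1) (nat_lit 0x20000290a1)
  (Net.cons (nat_lit 5) (nat_lit 0x200804004)
  (Net.cons (nat_lit 10) (nat_lit 0x28400068)
  (Net.cons (nat_lit 20) (nat_lit 0x8a120)
  Net.nil)))))))))))
noncomputable def m125l : List Net := [m125n0,m125n1,m125n2,m125n3,m125n4,m125n5]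
noncomputable abbrev m125 : ℕ → Net := lk Net.nil m125l
theorem m125ok : NetsOk 36 m125 vT := netsOk_of (by decide +kernel)
theorem m125s0 : Sat io [] (finG m125ok) := fin_sat_nil _ (k := 6) (n := 10) (by decide +kernel)
noncomputable def r5 : List ℕ := [4,4]
noncomputable def r6 : List ℕ := [5,2,4,3]
noncomputable def r7 : List ℕ := [4,0,3,0,0,0,2,0,5,1,3,1,1,1,3,1]
noncomputable def r8 : List ℕ := [5,1,3,0,3,1,2,0,4,1,1,1,3,1,3,0,0,3]
noncomputable def r9 : List ℕ := [5,1,5,1,2,4,0,4,0,3]
noncomputable def r10 : List ℕ := [5,1,1,1,3,4,0,0,0,4,1,1,1,3,0,0,0]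
noncomputable def m126n0 : Net := (Net.cons (nat_lit 20) (nat_lit 0x9ba44)
  (Net.cons (nat_lit 10) (nat_lit 0x160001c)
  (Net.cons (nat_lit 5) (nat_lit 0x681d0540a)
  (Net.cons (nat_lit 1) (nat_lit 0x400080a0)
  (Net.cons (nat_lit 1) (nat_lit 0x90210140)
  (Net.cons (nat_lit 1) (nat_lit 0x210a4200a4)
  (Net.cons (nat_lit 1) (nat_lit 0x1204a5094a)
  (Net.cons (nat_lit 1) (nat_lit 0x290a5294a0)
  (Net.cons (nat_lit 5) (nat_lit 0x600007018)
  (Net.cons (nat_lit 10) (nat_lit 0x62000b4)
  (Net.cons (nat_lit 20) (nat_lit 0x92b62)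
  Net.nil)))))))))))
noncomputable def m126n1 : Net := (Net.cons (nat_lit 20) (nat_lit 0x92b62)
  (Net.cons (nat_lit 10) (nat_lit 0x62000b4)
  (Net.cons (nat_lit 5) (nat_lit 0x441f00c1a)
  (Net.cons (nat_lit 1) (nat_lit 0x1001000a0)
  (Net.cons (nat_lit 1) (nat_lit 0x290202140)
  (Net.cons (nat_lit 1) (nat_lit 0x14a4294a0)
  (Net.cons (nat_lit 1) (nat_lit 0x94a1294a)
  (Net.cons (nat_lit 1) (nat_lit 0x9481014a4)
  (Net.cons (nat_lit 5) (nat_lit 0x400202802)
  (Net.cons (nat_lit 10) (nat_lit 0x160001c)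
  (Net.cons (nat_lit 20) (nat_lit 0x9ba44)
  Net.nil)))))))))))
noncomputable def m126n2 : Net := (Net.cons (nat_lit 20) (nat_lit 0x23600)
  (Net.cons (nat_lit 10) (nat_lit 0x18002d0)
  (Net.cons (nat_lit 5) (nat_lit 0x30100000c)
  (Net.cons (nat_lit 1) (nat_lit 0x40000000)
  (Net.cons (nat_lit 1) (nat_lit 0x280002940)
  (Net.cons (nat_lit 1) (nat_lit 0x14a4010a0)
  (Net.cons (nat_lit 1) (nat_lit 0x284a02940)
  (Net.cons (nat_lit 1) (nat_lit 0x204a428000)
  (Net.cons (nat_lit 5) (nat_lit 0x301000004)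
  (Net.cons (nat_lit 10) (nat_lit 0x18002d0)
  (Net.cons (nat_lit 20) (nat_lit 0x23600)
  Net.nil)))))))))))
noncomputable def m126n3 : Net := (Net.cons (nat_lit 20) (nat_lit 0x23600)
  (Net.cons (nat_lit 10) (nat_lit 0x18002d0)
  (Net.cons (nat_lit 5) (nat_lit 0x30100000c)
  (Net.cons (nat_lit 1) (nat_lit 0x40000000)
  (Net.cons (nat_lit 1) (nat_lit 0x280002940)
  (Net.cons (nat_lit 1) (nat_lit 0x14a4010a0)
  (Net.cons (nat_lit 1) (nat_lit 0x284a02940)
  (Net.cons (nat_lit 1) (nat_lit 0x204a428000)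
  (Net.cons (nat_lit 5) (nat_lit 0x301000004)
  (Net.cons (nat_lit 10) (nat_lit 0x18002d0)
  (Net.cons (nat_lit 20) (nat_lit 0x23600)
  Net.nil)))))))))))
noncomputable def m126n4 : Net := (Net.cons (nat_lit 20) (nat_lit 3328)
  (Net.cons (nat_lit 10) (nat_lit 0x5800238)
  (Net.cons (nat_lit 5) (nat_lit 0x100801814)
  (Net.cons (nat_lit 1) (nat_lit 0x140000000)
  (Net.cons (nat_lit 1) (nat_lit 0x280000000)
  (Net.cons (nat_lit 1) (nat_lit 0x140020004)
  (Net.cons (nat_lit 1) (nat_lit 0x1280052848)
  (Net.cons (nat_lit 1) (nat_lit 0x140401005)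
  (Net.cons (nat_lit 5) (nat_lit 0x100806014)
  (Net.cons (nat_lit 10) (nat_lit 0x5800218)
  (Net.cons (nat_lit 20) (nat_lit 3328)
  Net.nil)))))))))))
noncomputable def m126n5 : Net := (Net.cons (nat_lit 20) (nat_lit 3328)
  (Net.cons (nat_lit 10) (nat_lit 0x5800238)
  (Net.cons (nat_lit 5) (nat_lit 0x100801814)
  (Net.cons (nat_lit 1) (nat_lit 0x140000000)
  (Net.cons (nat_lit 1) (nat_lit 0x280000000)
  (Net.cons (nat_lit 1) (nat_lit 0x140020004)
  (Net.cons (nat_lit 1) (nat_lit 0x1280052848)
  (Net.cons (nat_lit 1) (nat_lit 0x140401005)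
  (Net.cons (nat_lit 5) (nat_lit 0x100806014)
  (Net.cons (nat_lit 10) (nat_lit 0x5800218)
  (Net.cons (nat_lit 20) (nat_lit 3328)
  Net.nil)))))))))))
noncomputable def m126l : List Net := [m126n0,m126n1,m126n2,m126n3,m126n4,m126n5]
noncomputable abbrev m126 : ℕ → Net := lk Net.nil m126l
theorem m126ok : NetsOk 36 m126 vT := netsOk_of (by decide +kernel)
theorem m126s0 : Sat io [] (finG m126ok) := fin_sat_nil _ (k := 6) (n := 10) (by decide +kernel)
noncomputable def C127 : List (List ℕ) := [r0,r1,r2,r3,r4,r5,r6,r7,r8,r9,r10]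
theorem cl128 : Clo.{u} io C127 [0,1,2,3] 36 m126 1 (mkB []) := Clo.start (by decide +kernel)
theorem imp129 : Imp.{u} io C127 C61 := Imp.of_chk (pfs := [[([],1)],[([],3)],[([],5)],[([],7)],[([],9)]]) (by decide +kernel)
theorem der131 : Der 7 (finX 7) (cl (finG m59ok) [[2],[1,3,1,1,1,3,1],[1,3,0,3,1,2,0]]) (fun _ => Net.nil) := Der.zero (finModel m59ok).inj
noncomputable def ns132 : ℕ → Net := upd (fun _ => Net.nil) 0 (m59 2)
theorem der133 : Der 7 (finX 7) (cl (finG m59ok) [[2],[1,3,1,1,1,3,1],[1,3,0,3,1,2,0]]) ns132 := der131.add (wp_mem_cl (w := [2]) (by decide)) (rep_letter (finModel m59ok) 2) 0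
noncomputable def x134 : Net := (Net.cons (nat_lit 4) (nat_lit 7)
  (Net.cons (nat_lit 2) (nat_lit 33)
  (Net.cons (nat_lit 1) (nat_lit 65)
  (Net.cons (nat_lit 2) (nat_lit 32)
  Net.nil))))
noncomputable def ns135 : ℕ → Net := upd ns132 1 x134
theorem der136 : Der 7 (finX 7) (cl (finG m59ok) [[2],[1,3,1,1,1,3,1],[1,3,0,3,1,2,0]]) ns135 := der133.add (wp_mem_cl (w := [1,3,1,1,1,3,1]) (by decide)) ((finModel m59ok).toIsPre.rep_word (k := 3) (w := [1,3,1,1,1,3,1]) (n := x134) (by decide +kernel)) 1
noncomputable def x137 : Net := (Net.cons (nat_lit 4) (nat_lit 5)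
  (Net.cons (nat_lit 2) (nat_lit 32)
  (Net.cons (nat_lit 1) (nat_lit 64)
  (Net.cons (nat_lit 2) (nat_lit 32)
  (Net.cons (nat_lit 4) (nat_lit 4)
  Net.nil)))))
noncomputable def ns138 : ℕ → Net := upd ns135 2 x137
theorem der139 : Der 7 (finX 7) (cl (finG m59ok) [[2],[1,3,1,1,1,3,1],[1,3,0,3,1,2,0]]) ns138 := der136.add (wp_mem_cl (w := [1,3,0,3,1,2,0]) (by decide)) ((finModel m59ok).toIsPre.rep_word (k := 3) (w := [1,3,0,3,1,2,0]) (n := x137) (by decide +kernel)) 2
noncomputable def x140 : Net := (Net.cons (nat_lit 4) (nat_lit 4)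
  (Net.cons (nat_lit 2) (nat_lit 2)
  (Net.cons (nat_lit 1) (nat_lit 20)
  (Net.cons (nat_lit 2) (nat_lit 2)
  (Net.cons (nat_lit 4) (nat_lit 4)
  Net.nil)))))
noncomputable def x140s : ℕ → Net := upd ns138 3 x140
theorem der141 : Der 7 (finX 7) (cl (finG m59ok) [[2],[1,3,1,1,1,3,1],[1,3,0,3,1,2,0]]) x140s := der139.ext (k := 3) (w := [0,1,2,0]) 3 (by decide +kernel)
noncomputable def L142 : Lev := Lev.cons 1 2 [[3]] Lev.nil
noncomputable def L143 : Lev := Lev.cons 0 4 [[0],[1],[2]] L142
theorem lc144 : Lev.chk 7 0 x140s vT 100 L143 = true := by decide +kernel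
theorem lb145 : 8 ≤ Nat.card (cl (finG m59ok) [[2],[1,3,1,1,1,3,1],[1,3,0,3,1,2,0]]) := le_of_eq_of_le (by decide +kernel) (der141.card_ge lc144)
theorem sat146 : Sat io C61 (finG m59ok) := m59s0.fin (k := 3) (by decide +kernel)
theorem ix130 : Idx.{u} io C127 [0,1,2,3] [[2],[1,3,1,1,1,3,1],[1,3,0,3,1,2,0]] 21 := (Idx.of bd123 sat146 (by decide +kernel) lb145 (by decide +kernel)).of_imp imp129
noncomputable def lk147 : List (List ℕ × List ℕ × Pf) := [([2],[2],[([4],13)]),([1,3,1,1,1,3,1],[1,3,1,1,1,2,1],[([4,1,3,1,1,1,2,1,5],15)]),([1,3,0,3,1,2,0],[2,1,1,2,0,2,0,0,0],[([4],17)])]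
noncomputable def O148 : ℕ := (nat_lit 0xc93366dbe)
noncomputable def M149 : ℕ := (nat_lit 0xc93366dbf)
noncomputable def b150 : ℕ := (nat_lit 1)
theorem cl151 : Clo.{u} io C127 [0,1,2,3] 36 m126 M149 (mkB [(4,b150)]) := cl128.new (k := 3) (b := 4) (q := 0) (p := 1) (r := 200) (n := 21) (O := O148) (by decide +kernel) (lks := lk147) (by decide +kernel) (gens_of_lall2 (m := [[0],[1],[2]]) (by decide +kernel)) ix130 (by decide +kernel)
noncomputable def b152 : ℕ := (nat_lit 0xc93326403)
noncomputable def b153 : ℕ := (nat_lit 0xc93326403)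
theorem cl154 : Clo.{u} io C127 [0,1,2,3] 36 m126 M149 (mkB [(4,b152),(5,b153)]) := cl151.ops (os := [Op.inv 4,Op.rel 4 [] 5 [] [([],11)],Op.inv 4,Op.rel 5 [1,1,1,3,0,0,0] 5 [1,1,1,5,2,0,0,0] [([5,1,1,1,5,2,0,0,0,4],21)],Op.ext 5 2 [([3],[3],[([5,3,4],13)]),([2],[2],[([],12)]),([0,3,0,0,0,2,0],[0,2,0,0,0,2,0],[([5],15)]),([1,3,1,1,1,2,1],[1,3,1,1,1,3,1],[([5,1,3,1,1,1,3,1],14)]),([1,1,1,3,1,3,0,0,3],[1,3,0,2,1,2,0],[([5,1,3,0,2,1,2,0,4],17)]),([2,1,1,2,0,2,0,0,0],[1,3,0,3,1,2,0],[([],16)])],Op.inv 5,Op.rel 5 [0,3] 5 [1,5,3,0,4,0] [([5,1,5,3,0,4,0,4],19)],Op.ext 5 2 [([3],[3],[([5,3,4],13)]),([2],[2],[([],12)]),([0,3,0,0,0,2,0],[0,2,0,0,0,2,0],[([5],15)]),([1,3,1,1,1,2,1],[1,3,1,1,1,3,1],[([5,1,3,1,1,1,3,1],14)]),([1,1,1,3,1,3,0,0,3],[1,3,0,2,1,2,0],[([5,1,3,0,2,1,2,0,4],17)]),([2,1,1,2,0,2,0,0,0],[1,3,0,3,1,2,0],[([],16)])],Op.inv 5,Op.rel 5 [0,3] 5 [1,5,3,0,4,0] [([5,1,5,3,0,4,0,4],19)],Op.ext 5 2 [([3],[3],[([5,3,4],13)]),([2],[2],[([],12)]),([0,3,0,0,0,2,0],[0,2,0,0,0,2,0],[([5],15)]),([1,3,1,1,1,2,1],[1,3,1,1,1,3,1],[([5,1,3,1,1,1,3,1],14)]),([1,1,1,3,1,3,0,0,3],[1,3,0,2,1,2,0],[([5,1,3,0,2,1,2,0,4],17)]),([2,1,1,2,0,2,0,0,0],[1,3,0,3,1,2,0],[([],16)])],Op.inv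 5]) (by decide +kernel) (by decide +kernel)
theorem der156 : Der 7 (finX 7) (cl (finG m59ok) [[1,2],[1,3,1,1,1,3,1,1,1,1],[0,2,0,0,0,0,3,1,2,0,2]]) (fun _ => Net.nil) := Der.zero (finModel m59ok).inj
noncomputable def x157 : Net := (Net.cons (nat_lit 4) (nat_lit 15)
  (Net.cons (nat_lit 2) (nat_lit 34)
  (Net.cons (nat_lit 1) (nat_lit 20)
  (Net.cons (nat_lit 2) (nat_lit 2)
  (Net.cons (nat_lit 4) (nat_lit 14)
  Net.nil)))))
noncomputable def ns158 : ℕ → Net := upd (fun _ => Net.nil) 0 x157
theorem der159 : Der 7 (finX 7) (cl (finG m59ok) [[1,2],[1,3,1,1,1,3,1,1,1,1],[0,2,0,0,0,0,3,1,2,0,2]]) ns158 := der156.add (wp_mem_cl (w := [1,2]) (by decide)) ((finModel m59ok).toIsPre.rep_word (k := 3) (w := [1,2]) (n := x157) (by decide +kernel)) 0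
noncomputable def x160 : Net := (Net.cons (nat_lit 4) (nat_lit 8)
  (Net.cons (nat_lit 2) (nat_lit 32)
  (Net.cons (nat_lit 1) (nat_lit 17)
  (Net.cons (nat_lit 2) (nat_lit 32)
  (Net.cons (nat_lit 4) (nat_lit 8)
  Net.nil)))))
noncomputable def ns161 : ℕ → Net := upd ns158 1 x160
theorem der162 : Der 7 (finX 7) (cl (finG m59ok) [[1,2],[1,3,1,1,1,3,1,1,1,1],[0,2,0,0,0,0,3,1,2,0,2]]) ns161 := der159.add (wp_mem_cl (w := [1,3,1,1,1,3,1,1,1,1]) (by decide)) ((finModel m59ok).toIsPre.rep_word (k := 3) (w := [1,3,1,1,1,3,1,1,1,1]) (n := x160) (by decide +kernel)) 1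
noncomputable def x163 : Net := (Net.cons (nat_lit 4) (nat_lit 4)
  (Net.cons (nat_lit 2) (nat_lit 2)
  (Net.cons (nat_lit 1) (nat_lit 20)
  (Net.cons (nat_lit 2) (nat_lit 2)
  (Net.cons (nat_lit 4) (nat_lit 4)
  Net.nil)))))
noncomputable def ns164 : ℕ → Net := upd ns161 2 x163
theorem der165 : Der 7 (finX 7) (cl (finG m59ok) [[1,2],[1,3,1,1,1,3,1,1,1,1],[0,2,0,0,0,0,3,1,2,0,2]]) ns164 := der162.add (wp_mem_cl (w := [0,2,0,0,0,0,3,1,2,0,2]) (by decide)) ((finModel m59ok).toIsPre.rep_word (k := 3) (w := [0,2,0,0,0,0,3,1,2,0,2]) (n := x163) (by decide +kernel)) 2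
noncomputable def x166 : Net := (Net.cons (nat_lit 4) (nat_lit 2)
  (Net.cons (nat_lit 2) (nat_lit 16)
  Net.nil))
noncomputable def x166s : ℕ → Net := upd ns164 3 x166
theorem der167 : Der 7 (finX 7) (cl (finG m59ok) [[1,2],[1,3,1,1,1,3,1,1,1,1],[0,2,0,0,0,0,3,1,2,0,2]]) x166s := der165.ext (k := 3) (w := [0,2,1,2,1]) 3 (by decide +kernel)
noncomputable def L168 : Lev := Lev.cons 1 4 [[2],[3]] Lev.nil
noncomputable def L169 : Lev := Lev.cons 0 6 [[0],[1]] L168
theorem lc170 : Lev.chk 7 0 x166s vT 100 L169 = true := by decide +kernel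
theorem lb171 : 24 ≤ Nat.card (cl (finG m59ok) [[1,2],[1,3,1,1,1,3,1,1,1,1],[0,2,0,0,0,0,3,1,2,0,2]]) := le_of_eq_of_le (by decide +kernel) (der167.card_ge lc170)
theorem ix155 : Idx.{u} io C127 [0,1,2,3] [[1,2],[1,3,1,1,1,3,1,1,1,1],[0,2,0,0,0,0,3,1,2,0,2]] 7 := (Idx.of bd123 sat146 (by decide +kernel) lb171 (by decide +kernel)).of_imp imp129
noncomputable def lk172 : List (List ℕ × List ℕ × Pf) := [([1,2],[0,4,2,1,5,1],[([4,0,4],19)]),([1,3,1,1,1,3,1],[1,3,1,1,1,2,1],[([4,1,3,1,1,1,2,1,5],15)]),([1,1,1,3],[1,1,1,2,0,0,0,5,1,1,1],[([4],21)]),([2],[2],[([4],13)]),([0,2,0,0,0,2,0],[0,3,0,0,0,2,0],[([],14)]),([1,3,0,3,1,2,0],[2,1,1,2,0,2,0,0,0],[([4],17)])]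
noncomputable def O173 : ℕ := (nat_lit 0x160098040)
noncomputable def M174 : ℕ := (nat_lit 0xdf33fedff)
noncomputable def b175 : ℕ := (nat_lit 0xc93326407)
theorem cl176 : Clo.{u} io C127 [0,1,2,3] 36 m126 M174 (mkB [(4,b175),(5,b153)]) := cl154.new (k := 3) (b := 4) (q := 2) (p := 6) (r := 200) (n := 7) (O := O173) (by decide +kernel) (lks := lk172) (by decide +kernel) (gens_of_lall2 (m := [[0],[1,2,3],[4,5,3]]) (by decide +kernel)) ix155 (by decide +kernel)
noncomputable def b177 : ℕ := (nat_lit 0xcf33fe4e7)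
noncomputable def b178 : ℕ := (nat_lit 0xcf33fe4e7)
theorem cl179 : Clo.{u} io C127 [0,1,2,3] 36 m126 M174 (mkB [(4,b177),(5,b178)]) := cl176.ops (os := [Op.ext 4 2 [([2],[2],[([4],13)]),([3],[3],[([4,3],12)]),([1,3,1,1,1,3,1],[1,3,1,1,1,2,1],[([4,1,3,1,1,1,2,1,5],15)]),([0,2,0,0,0,2,0],[0,3,0,0,0,2,0],[([],14)]),([1,3,0,3,1,2,0],[2,1,1,2,0,2,0,0,0],[([4],17)]),([1,3,0,2,1,2,0],[1,1,1,3,1,3,0,0,3],[([4,1,1,1,3,1,3,0,0,3],16)])],Op.inv 4,Op.rel 4 [] 5 [] [([],11)],Op.inv 4,Op.rel 5 [0,3] 5 [1,5,3,0,4,0] [([5,1,5,3,0,4,0,4],19)],Op.ext 5 2 [([3],[3],[([5,3,4],13)]),([2],[2],[([],12)]),([0,3,0,0,0,2,0],[0,2,0,0,0,2,0],[([5],15)]),([1,3,1,1,1,2,1],[1,3,1,1,1,3,1],[([5,1,3,1,1,1,3,1],14)]),([1,1,1,3,1,3,0,0,3],[1,3,0,2,1,2,0],[([5,1,3,0,2,1,2,0,4],17)]),([2,1,1,2,0,2,0,0,0],[1,3,0,3,1,2,0],[([],16)])],Op.inv 5]) (by decide +kernel) (by decide +kernel)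
theorem der181 : Der 7 (finX 7) (cl (finG m59ok) [[1,3,0,3,1,2,0],[2,0,0,0,3,0]]) (fun _ => Net.nil) := Der.zero (finModel m59ok).inj
noncomputable def x182 : Net := (Net.cons (nat_lit 4) (nat_lit 5)
  (Net.cons (nat_lit 2) (nat_lit 32)
  (Net.cons (nat_lit 1) (nat_lit 64)
  (Net.cons (nat_lit 2) (nat_lit 32)
  (Net.cons (nat_lit 4) (nat_lit 4)
  Net.nil)))))
noncomputable def ns183 : ℕ → Net := upd (fun _ => Net.nil) 0 x182
theorem der184 : Der 7 (finX 7) (cl (finG m59ok) [[1,3,0,3,1,2,0],[2,0,0,0,3,0]]) ns183 := der181.add (wp_mem_cl (w := [1,3,0,3,1,2,0]) (by decide)) ((finModel m59ok).toIsPre.rep_word (k := 3) (w := [1,3,0,3,1,2,0]) (n := x182) (by decide +kernel)) 0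
noncomputable def x185 : Net := (Net.cons (nat_lit 4) (nat_lit 14)
  (Net.cons (nat_lit 2) (nat_lit 1)
  (Net.cons (nat_lit 1) (nat_lit 64)
  (Net.cons (nat_lit 2) (nat_lit 32)
  (Net.cons (nat_lit 4) (nat_lit 12)
  Net.nil)))))
noncomputable def ns186 : ℕ → Net := upd ns183 1 x185
theorem der187 : Der 7 (finX 7) (cl (finG m59ok) [[1,3,0,3,1,2,0],[2,0,0,0,3,0]]) ns186 := der184.add (wp_mem_cl (w := [2,0,0,0,3,0]) (by decide)) ((finModel m59ok).toIsPre.rep_word (k := 3) (w := [2,0,0,0,3,0]) (n := x185) (by decide +kernel)) 1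
noncomputable def x188 : Net := (Net.cons (nat_lit 4) (nat_lit 13)
  (Net.cons (nat_lit 2) (nat_lit 33)
  (Net.cons (nat_lit 1) (nat_lit 64)
  (Net.cons (nat_lit 4) (nat_lit 12)
  Net.nil))))
noncomputable def x188s : ℕ → Net := upd ns186 2 x188
theorem der189 : Der 7 (finX 7) (cl (finG m59ok) [[1,3,0,3,1,2,0],[2,0,0,0,3,0]]) x188s := der187.ext (k := 3) (w := [1,1,0,1]) 2 (by decide +kernel)
noncomputable def L190 : Lev := Lev.cons 0 2 [[0]] Lev.nil
noncomputable def L191 : Lev := Lev.cons 6 3 [[2]] L190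
noncomputable def L192 : Lev := Lev.cons 1 4 [[1]] L191
theorem lc193 : Lev.chk 7 0 x188s vT 100 L192 = true := by decide +kernel
theorem lb194 : 24 ≤ Nat.card (cl (finG m59ok) [[1,3,0,3,1,2,0],[2,0,0,0,3,0]]) := le_of_eq_of_le (by decide +kernel) (der189.card_ge lc193)
theorem ix180 : Idx.{u} io C127 [0,1,2,3] [[1,3,0,3,1,2,0],[2,0,0,0,3,0]] 7 := (Idx.of bd123 sat146 (by decide +kernel) lb194 (by decide +kernel)).of_imp imp129
noncomputable def lk195 : List (List ℕ × List ℕ × Pf) := [([1,3,0,3,1,2,0],[2,1,1,2,0,2,0,0,0],[([4],17)]),([2,0,0,0],[0,0,0,4,1,1,1,3,0,0,0],[([4,0,0,0,4,1,1,1,3,0,0,0],20)]),([3,0],[0,4,0,3,5,1],[([4,0,4,0,3],18)])]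
noncomputable def O196 : ℕ := (nat_lit 0x20cc01200)
noncomputable def M197 : ℕ := (nat_lit 0xfffffffff)
noncomputable def b198 : ℕ := (nat_lit 0xcf33fe4ef)
theorem cl199 : Clo.{u} io C127 [0,1,2,3] 36 m126 M197 (mkB [(4,b198),(5,b178)]) := cl179.new (k := 3) (b := 4) (q := 3) (p := 9) (r := 200) (n := 7) (O := O196) (by decide +kernel) (lks := lk195) (by decide +kernel) (gens_of_lall2 (m := [[0],[1,2]]) (by decide +kernel)) ix180 (by decide +kernel)
noncomputable def b200 : ℕ := (nat_lit 0xfffffffff)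
noncomputable def b201 : ℕ := (nat_lit 0xfffffffff)
theorem cl202 : Clo.{u} io C127 [0,1,2,3] 36 m126 M197 (mkB [(4,b200),(5,b201)]) := cl199.ops (os := [Op.ext 4 2 [([2],[2],[([4],13)]),([3],[3],[([4,3],12)]),([1,3,1,1,1,3,1],[1,3,1,1,1,2,1],[([4,1,3,1,1,1,2,1,5],15)]),([0,2,0,0,0,2,0],[0,3,0,0,0,2,0],[([],14)]),([1,3,0,3,1,2,0],[2,1,1,2,0,2,0,0,0],[([4],17)]),([1,3,0,2,1,2,0],[1,1,1,3,1,3,0,0,3],[([4,1,1,1,3,1,3,0,0,3],16)])],Op.inv 4,Op.rel 4 [] 5 [] [([],11)],Op.inv 4,Op.rel 5 [0,3] 5 [1,5,3,0,4,0] [([5,1,5,3,0,4,0,4],19)],Op.inv 5,Op.rel 5 [0,3] 5 [1,5,3,0,4,0] [([5,1,5,3,0,4,0,4],19)],Op.inv 5]) (by decide +kernel) (by decide +kernel)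
theorem sat204 : Sat io C127 (finG m126ok) := m126s0.fin (k := 6) (by decide +kernel)
theorem bd203 : Bound.{u} io C127 [0,1,2,3,4,5] 6048 := cl202.bound (by decide +kernel) sat204 (bd123.of_imp imp129)
noncomputable def m205n0 : Net := (Net.cons (nat_lit 64) (nat_lit 0x8137cfb9bfbcf389)
  (Net.cons (nat_lit 32) (nat_lit 0x15e590b9000000008a84b96c)
  (Net.cons (nat_lit 16) (nat_lit 0x41d70000ebb00000820000007f70)
  (Net.cons (nat_lit 8) (nat_lit 0xf4004000050063002c003c00860098)
  (Net.cons (nat_lit 4) (nat_lit 0x904040f000002060404020e000b040c)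
  (Net.cons (nat_lit 2) (nat_lit 0x2312320032202121020230110303000)
  (Net.cons (nat_lit 1) (nat_lit 0x11101141401105104444041140101141)
  (Net.cons (nat_lit 2) (nat_lit 0x2202000000000000020002020002220)
  (Net.cons (nat_lit 4) (nat_lit 0x8000c0e000008020804000c020e080c)
  (Net.cons (nat_lit 8) (nat_lit 0x70005e00a6002a0068001c00c60084)
  (Net.cons (nat_lit 16) (nat_lit 0x4066000061b80000824400003ff8)
  (Net.cons (nat_lit 32) (nat_lit 0x95e3d7bc00000000804cb962)
  (Net.cons (nat_lit 64) (nat_lit 0x8137cfb1bbd8eadc)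
  Net.nil)))))))))))))
noncomputable def m205n1 : Net := (Net.cons (nat_lit 64) (nat_lit 0x7ec8304e44271523)
  (Net.cons (nat_lit 32) (nat_lit 0x824cb96200000000d5c3d7fa)
  (Net.cons (nat_lit 16) (nat_lit 0x824400003ff8000050150000e5b8)
  (Net.cons (nat_lit 8) (nat_lit 0x94001900c60084007300f100510083)
  (Net.cons (nat_lit 4) (nat_lit 0x408000d0201080c04010a0804000801)
  (Net.cons (nat_lit 2) (nat_lit 0x20302233100312202310112010032003)
  (Net.cons (nat_lit 1) (nat_lit 0x44140114100441411440411151400014)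
  (Net.cons (nat_lit 2) (nat_lit 0x20200002200000002200202202000022)
  (Net.cons (nat_lit 4) (nat_lit 0x404020c0004040c06040c0004000808)
  (Net.cons (nat_lit 8) (nat_lit 0xd0001800860098007600be00f8008a)
  (Net.cons (nat_lit 16) (nat_lit 0x820000007f70000080b60000ef90)
  (Net.cons (nat_lit 32) (nat_lit 0x8a84b9640000000055f590fa)
  (Net.cons (nat_lit 64) (nat_lit 0x7ec8304640430c76)
  Net.nil)))))))))))))
noncomputable def m205n2 : Net := (Net.cons (nat_lit 64) (nat_lit 0x5a32540180400000)
  (Net.cons (nat_lit 32) (nat_lit 0x4a562602000000008b5b9000)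
  (Net.cons (nat_lit 16) (nat_lit 0x20000009a400000294000000d40)
  (Net.cons (nat_lit 8) (nat_lit 0x40000009800b00089003a00a100a2)
  (Net.cons (nat_lit 4) (nat_lit 0x40604000c000e090004090d0d000800)
  (Net.cons (nat_lit 2) (nat_lit 0x10020000200232222313203133022303)
  (Net.cons (nat_lit 1) (nat_lit 0x141001104000110505110041414015)
  (Net.cons (nat_lit 2) (nat_lit 0x20000200000220000020002222000)
  (Net.cons (nat_lit 4) (nat_lit 0x4060000080004000004020808080800)
  (Net.cons (nat_lit 8) (nat_lit 0x40000009800b00080003a004800a2)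
  (Net.cons (nat_lit 16) (nat_lit 0x9a400000294000000d40)
  (Net.cons (nat_lit 32) (nat_lit 0x4a562602000000008b5b9000)
  (Net.cons (nat_lit 64) (nat_lit 0x5a32540180400000)
  Net.nil)))))))))))))
noncomputable def m205n3 : Net := (Net.cons (nat_lit 64) (nat_lit 0x5a32540180400000)
  (Net.cons (nat_lit 32) (nat_lit 0x4a562602000000008b5b9000)
  (Net.cons (nat_lit 16) (nat_lit 0x20000009a400000294000000d40)
  (Net.cons (nat_lit 8) (nat_lit 0x40000009800b00089003a00a100a2)
  (Net.cons (nat_lit 4) (nat_lit 0x40604000c000e090004090d0d000800)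
  (Net.cons (nat_lit 2) (nat_lit 0x10020000200232222313203133022303)
  (Net.cons (nat_lit 1) (nat_lit 0x141001104000110505110041414015)
  (Net.cons (nat_lit 2) (nat_lit 0x20000200000220000020002222000)
  (Net.cons (nat_lit 4) (nat_lit 0x4060000080004000004020808080800)
  (Net.cons (nat_lit 8) (nat_lit 0x40000009800b00080003a004800a2)
  (Net.cons (nat_lit 16) (nat_lit 0x9a400000294000000d40)
  (Net.cons (nat_lit 32) (nat_lit 0x4a562602000000008b5b9000)
  (Net.cons (nat_lit 64) (nat_lit 0x5a32540180400000)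
  Net.nil)))))))))))))
noncomputable def m205n4 : Net := (Net.cons (nat_lit 64) (nat_lit 0x5603184820000000)
  (Net.cons (nat_lit 32) (nat_lit 0x5603cc100000000007244800)
  (Net.cons (nat_lit 16) (nat_lit 0x804000066400000241c00004a60)
  (Net.cons (nat_lit 8) (nat_lit 0x800400044000e0090003e00c00024)
  (Net.cons (nat_lit 4) (nat_lit 0x400040c06020a0204080e00020f0809)
  (Net.cons (nat_lit 2) (nat_lit 0x10032022120201233200310300331020)
  (Net.cons (nat_lit 1) (nat_lit 0x1014041140050004500510410000)
  (Net.cons (nat_lit 2) (nat_lit 0x2022020200000000000000000000)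
  (Net.cons (nat_lit 4) (nat_lit 0x400000c0602080204080e0002000008)
  (Net.cons (nat_lit 8) (nat_lit 0x800400044000e0090001800c00020)
  (Net.cons (nat_lit 16) (nat_lit 0x804000066400000241c00004a20)
  (Net.cons (nat_lit 32) (nat_lit 0x5603cc100000000006044800)
  (Net.cons (nat_lit 64) (nat_lit 0x5603184820000000)
  Net.nil)))))))))))))
noncomputable def m205n5 : Net := (Net.cons (nat_lit 64) (nat_lit 0x5603184820000000)
  (Net.cons (nat_lit 32) (nat_lit 0x5603cc100000000007244800)
  (Net.cons (nat_lit 16) (nat_lit 0x804000066400000241c00004a60)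
  (Net.cons (nat_lit 8) (nat_lit 0x800400044000e0090003e00c00024)
  (Net.cons (nat_lit 4) (nat_lit 0x400040c06020a0204080e00020f0809)
  (Net.cons (nat_lit 2) (nat_lit 0x10032022120201233200310300331020)
  (Net.cons (nat_lit 1) (nat_lit 0x1014041140050004500510410000)
  (Net.cons (nat_lit 2) (nat_lit 0x2022020200000000000000000000)
  (Net.cons (nat_lit 4) (nat_lit 0x400000c0602080204080e0002000008)
  (Net.cons (nat_lit 8) (nat_lit 0x800400044000e0090001800c00020)
  (Net.cons (nat_lit 16) (nat_lit 0x804000066400000241c00004a20)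
  (Net.cons (nat_lit 32) (nat_lit 0x5603cc100000000006044800)
  (Net.cons (nat_lit 64) (nat_lit 0x5603184820000000)
  Net.nil)))))))))))))
noncomputable def m205n6 : Net := (Net.cons (nat_lit 64) (nat_lit 0x2c5249bd50281080)
  (Net.cons (nat_lit 32) (nat_lit 0x6487360000000005168b080)
  (Net.cons (nat_lit 16) (nat_lit 0x70300000400800005c1d)
  (Net.cons (nat_lit 8) (nat_lit 0x96000e00f00000004000f4008a)
  (Net.cons (nat_lit 4) (nat_lit 0x4000f0e0c00040f000206060e0f090f)
  (Net.cons (nat_lit 2) (nat_lit 0x22123321030232022003022202003301)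
  (Net.cons (nat_lit 1) (nat_lit 0x40004110055101441140540151541445)
  (Net.cons (nat_lit 2) (nat_lit 0x20000020000202202000020202002200)
  (Net.cons (nat_lit 4) (nat_lit 0x400000c0c000400000206020e000c00)
  (Net.cons (nat_lit 8) (nat_lit 0x96000a00f00000004000c600f0)
  (Net.cons (nat_lit 16) (nat_lit 0x70300000400800006e3c)
  (Net.cons (nat_lit 32) (nat_lit 0x6487360000000005168b080)
  (Net.cons (nat_lit 64) (nat_lit 0x2c5249bd50281080)
  Net.nil)))))))))))))
noncomputable def m205n7 : Net := (Net.cons (nat_lit 64) (nat_lit 0x2c5249bd50281080)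
  (Net.cons (nat_lit 32) (nat_lit 0x6487360000000005168b080)
  (Net.cons (nat_lit 16) (nat_lit 0x70300000400800005c1d)
  (Net.cons (nat_lit 8) (nat_lit 0x96000e00f00000004000f4008a)
  (Net.cons (nat_lit 4) (nat_lit 0x4000f0e0c00040f000206060e0f090f)
  (Net.cons (nat_lit 2) (nat_lit 0x22123321030232022003022202003301)
  (Net.cons (nat_lit 1) (nat_lit 0x40004110055101441140540151541445)
  (Net.cons (nat_lit 2) (nat_lit 0x20000020000202202000020202002200)
  (Net.cons (nat_lit 4) (nat_lit 0x400000c0c000400000206020e000c00)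
  (Net.cons (nat_lit 8) (nat_lit 0x96000a00f00000004000c600f0)
  (Net.cons (nat_lit 16) (nat_lit 0x70300000400800006e3c)
  (Net.cons (nat_lit 32) (nat_lit 0x6487360000000005168b080)
  (Net.cons (nat_lit 64) (nat_lit 0x2c5249bd50281080)
  Net.nil)))))))))))))
noncomputable def m205l : List Net := [m205n0,m205n1,m205n2,m205n3,m205n4,m205n5,m205n6,m205n7]
noncomputable abbrev m205 : ℕ → Net := lk Net.nil m205l
theorem m205ok : NetsOk 100 m205 vT := netsOk_of (by decide +kernel)
theorem m205s0 : Sat io [] (finG m205ok) := fin_sat_nil _ (k := 7) (n := 10) (by decide +kernel)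
noncomputable def r11 : List ℕ := [6,6]
noncomputable def r12 : List ℕ := [6,1,4,6,1,4,6,1,4]
noncomputable def r13 : List ℕ := [7,2,6,3]
noncomputable def r14 : List ℕ := [7,0,5,0,0,4,6,0,3,0,3,1,5,1,5,0]
noncomputable def r15 : List ℕ := [7,1,1,1,2,0,4,6,3,1,1,1,3,0,3,5]
noncomputable def r16 : List ℕ := [7,1,7,1,5,0,6,0,6,5]
noncomputable def m206n0 : Net := (Net.cons (nat_lit 64) (nat_lit 0xddfc0948a42210c2)
  (Net.cons (nat_lit 32) (nat_lit 0x2d7708e00000000032ce9862)
  (Net.cons (nat_lit 16) (nat_lit 0x10e30000e8040000aa6d00007c8a)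
  (Net.cons (nat_lit 8) (nat_lit 0xa9002600da009400ec00c4000e0030)
  (Net.cons (nat_lit 4) (nat_lit 0xe0405000f0a01060e020c0800070202)
  (Net.cons (nat_lit 2) (nat_lit 0x1212200233202220220100112302302)
  (Net.cons (nat_lit 1) (nat_lit 0x41004140100405011401144110401404)
  (Net.cons (nat_lit 2) (nat_lit 0x2000200000020002000000000202)
  (Net.cons (nat_lit 4) (nat_lit 0xe0406080604040a00000c0800040c00)
  (Net.cons (nat_lit 8) (nat_lit 0x8000260062008000cc0090003c0010)
  (Net.cons (nat_lit 16) (nat_lit 0x10240000f20400008a2e00001bb8)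
  (Net.cons (nat_lit 32) (nat_lit 0x60ab00e00000000010cf48f4)
  (Net.cons (nat_lit 64) (nat_lit 0xddfc0940a5850018)
  Net.nil)))))))))))))
noncomputable def m206n1 : Net := (Net.cons (nat_lit 64) (nat_lit 0xddfc0940a5850018)
  (Net.cons (nat_lit 32) (nat_lit 0x60ab00e00000000050cf4cf4)
  (Net.cons (nat_lit 16) (nat_lit 0xedcb0000f2040000541900000890)
  (Net.cons (nat_lit 8) (nat_lit 0x260061006200800050005c003500a0)
  (Net.cons (nat_lit 4) (nat_lit 0x9080e0609060b0e04080e01010a0e08)
  (Net.cons (nat_lit 2) (nat_lit 0x2000303323010220003021200033202)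
  (Net.cons (nat_lit 1) (nat_lit 0x14404004010450011044444101010414)
  (Net.cons (nat_lit 2) (nat_lit 0x22000002020200020002202000000222)
  (Net.cons (nat_lit 4) (nat_lit 0xa000e0600020e020000000002080e02)
  (Net.cons (nat_lit 8) (nat_lit 0x26004800da0094000400be001600a8)
  (Net.cons (nat_lit 16) (nat_lit 0xed0c0000e804000004de00002980)
  (Net.cons (nat_lit 32) (nat_lit 0x2d7708e00000000072ce8862)
  (Net.cons (nat_lit 64) (nat_lit 0xddfc0948a42210c2)
  Net.nil)))))))))))))
noncomputable def m206n2 : Net := (Net.cons (nat_lit 64) (nat_lit 0xc905080200010020)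
  (Net.cons (nat_lit 32) (nat_lit 0x488c4408000000007ce72128)
  (Net.cons (nat_lit 16) (nat_lit 0xcc00000021300000a8a600000188)
  (Net.cons (nat_lit 8) (nat_lit 0x84004000420030003800b2006a00b8)
  (Net.cons (nat_lit 4) (nat_lit 0x80008040206020000000e0000000a04)
  (Net.cons (nat_lit 2) (nat_lit 0x2020003021020203010002012202220)
  (Net.cons (nat_lit 1) (nat_lit 0x41010000010101011441454001100110)
  (Net.cons (nat_lit 2) (nat_lit 0x2020000020000002000002002200220)
  (Net.cons (nat_lit 4) (nat_lit 0x8000004000602000000020000000a00)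
  (Net.cons (nat_lit 8) (nat_lit 0x8000400002002000c800a000480098)
  (Net.cons (nat_lit 16) (nat_lit 0xcc00000021300000a8a200000188)
  (Net.cons (nat_lit 32) (nat_lit 0x488c4408000000007ce70108)
  (Net.cons (nat_lit 64) (nat_lit 0xc905080200010020)
  Net.nil)))))))))))))
noncomputable def m206n3 : Net := (Net.cons (nat_lit 64) (nat_lit 0xc905080200010020)
  (Net.cons (nat_lit 32) (nat_lit 0x488c4408000000007ce72128)
  (Net.cons (nat_lit 16) (nat_lit 0xcc00000021300000a8a600000188)
  (Net.cons (nat_lit 8) (nat_lit 0x84004000420030003800b2006a00b8)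
  (Net.cons (nat_lit 4) (nat_lit 0x80008040206020000000e0000000a04)
  (Net.cons (nat_lit 2) (nat_lit 0x2020003021020203010002012202220)
  (Net.cons (nat_lit 1) (nat_lit 0x41010000010101011441454001100110)
  (Net.cons (nat_lit 2) (nat_lit 0x2020000020000002000002002200220)
  (Net.cons (nat_lit 4) (nat_lit 0x8000004000602000000020000000a00)
  (Net.cons (nat_lit 8) (nat_lit 0x8000400002002000c800a000480098)
  (Net.cons (nat_lit 16) (nat_lit 0xcc00000021300000a8a200000188)
  (Net.cons (nat_lit 32) (nat_lit 0x488c4408000000007ce70108)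
  (Net.cons (nat_lit 64) (nat_lit 0xc905080200010020)
  Net.nil)))))))))))))
noncomputable def m206n4 : Net := (Net.cons (nat_lit 64) (nat_lit 0x9144209b40048000)
  (Net.cons (nat_lit 32) (nat_lit 0x596c8194000000006edd1140)
  (Net.cons (nat_lit 16) (nat_lit 0xc8000000b4480000c66200009c28)
  (Net.cons (nat_lit 8) (nat_lit 0xa00088008e0012007e007200d80040)
  (Net.cons (nat_lit 4) (nat_lit 0x20c000a00000a0e0800000500060606)
  (Net.cons (nat_lit 2) (nat_lit 0x2201200100031200211100210302)
  (Net.cons (nat_lit 1) (nat_lit 0x1444110050010100445400014101550)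
  (Net.cons (nat_lit 2) (nat_lit 0x2200000000000200200000200000)
  (Net.cons (nat_lit 4) (nat_lit 0x20000020000020e0000000000040606)
  (Net.cons (nat_lit 8) (nat_lit 0xa00088008e0000005e007000d80040)
  (Net.cons (nat_lit 16) (nat_lit 0xc8000000b4480000c66200009c28)
  (Net.cons (nat_lit 32) (nat_lit 0x596c8194000000006edd1140)
  (Net.cons (nat_lit 64) (nat_lit 0x9144209b40048000)
  Net.nil)))))))))))))
noncomputable def m206n5 : Net := (Net.cons (nat_lit 64) (nat_lit 0x9144209b40048000)
  (Net.cons (nat_lit 32) (nat_lit 0x596c8194000000006edd1140)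
  (Net.cons (nat_lit 16) (nat_lit 0xc8000000b4480000c66200009c28)
  (Net.cons (nat_lit 8) (nat_lit 0xa00088008e0012007e007200d80040)
  (Net.cons (nat_lit 4) (nat_lit 0x20c000a00000a0e0800000500060606)
  (Net.cons (nat_lit 2) (nat_lit 0x2201200100031200211100210302)
  (Net.cons (nat_lit 1) (nat_lit 0x1444110050010100445400014101550)
  (Net.cons (nat_lit 2) (nat_lit 0x2200000000000200200000200000)
  (Net.cons (nat_lit 4) (nat_lit 0x20000020000020e0000000000040606)
  (Net.cons (nat_lit 8) (nat_lit 0xa00088008e0000005e007000d80040)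
  (Net.cons (nat_lit 16) (nat_lit 0xc8000000b4480000c66200009c28)
  (Net.cons (nat_lit 32) (nat_lit 0x596c8194000000006edd1140)
  (Net.cons (nat_lit 64) (nat_lit 0x9144209b40048000)
  Net.nil)))))))))))))
noncomputable def m206n6 : Net := (Net.cons (nat_lit 64) (nat_lit 0xfa85200208000000)
  (Net.cons (nat_lit 32) (nat_lit 0x6e8720200000000069d9d210)
  (Net.cons (nat_lit 16) (nat_lit 0x46220000aa4c000024e600005c28)
  (Net.cons (nat_lit 8) (nat_lit 0x8400040006007900020006005a0094)
  (Net.cons (nat_lit 4) (nat_lit 0xc0a00000f0f0d0304080b080a020a0d)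
  (Net.cons (nat_lit 2) (nat_lit 0x30022200132233130201323100020331)
  (Net.cons (nat_lit 1) (nat_lit 0x50014405010414540050411014141041)
  (Net.cons (nat_lit 2) (nat_lit 0x22200000222000000020000020020)
  (Net.cons (nat_lit 4) (nat_lit 0xc080000020c04040008000a0a020a02)
  (Net.cons (nat_lit 8) (nat_lit 0x840004006e00e60002007c00000094)
  (Net.cons (nat_lit 16) (nat_lit 0x46220000210c0000246600005c28)
  (Net.cons (nat_lit 32) (nat_lit 0x6e0720200000000068d9d210)
  (Net.cons (nat_lit 64) (nat_lit 0xfa85200208000000)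
  Net.nil)))))))))))))
noncomputable def m206n7 : Net := (Net.cons (nat_lit 64) (nat_lit 0xfa85200208000000)
  (Net.cons (nat_lit 32) (nat_lit 0x6e8720200000000069d9d210)
  (Net.cons (nat_lit 16) (nat_lit 0x46220000aa4c000024e600005c28)
  (Net.cons (nat_lit 8) (nat_lit 0x8400040006007900020006005a0094)
  (Net.cons (nat_lit 4) (nat_lit 0xc0a00000f0f0d0304080b080a020a0d)
  (Net.cons (nat_lit 2) (nat_lit 0x30022200132233130201323100020331)
  (Net.cons (nat_lit 1) (nat_lit 0x50014405010414540050411014141041)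
  (Net.cons (nat_lit 2) (nat_lit 0x22200000222000000020000020020)
  (Net.cons (nat_lit 4) (nat_lit 0xc080000020c04040008000a0a020a02)
  (Net.cons (nat_lit 8) (nat_lit 0x840004006e00e60002007c00000094)
  (Net.cons (nat_lit 16) (nat_lit 0x46220000210c0000246600005c28)
  (Net.cons (nat_lit 32) (nat_lit 0x6e0720200000000068d9d210)
  (Net.cons (nat_lit 64) (nat_lit 0xfa85200208000000)
  Net.nil)))))))))))))
noncomputable def m206l : List Net := [m206n0,m206n1,m206n2,m206n3,m206n4,m206n5,m206n6,m206n7]
noncomputable abbrev m206 : ℕ → Net := lk Net.nil m206l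
theorem m206ok : NetsOk 100 m206 vT := netsOk_of (by decide +kernel)
theorem m206s0 : Sat io [] (finG m206ok) := fin_sat_nil _ (k := 7) (n := 10) (by decide +kernel)
noncomputable def C207 : List (List ℕ) := [r0,r1,r2,r3,r4,r5,r6,r7,r8,r9,r10,r11,r12,r13,r14,r15,r16]
theorem cl208 : Clo.{u} io C207 [0,1,2,3,4,5] 100 m206 1 (mkB []) := Clo.start (by decide +kernel)
theorem imp209 : Imp.{u} io C207 C127 := Imp.of_chk (pfs := [[([],1)],[([],3)],[([],5)],[([],7)],[([],9)],[([],11)],[([],13)],[([],15)],[([],17)],[([],19)],[([],21)]]) (by decide +kernel)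
theorem der211 : Der 36 (finX 36) (cl (finG m125ok) [[2],[0,5,0,0,4],[1,1,1,2,0,4]]) (fun _ => Net.nil) := Der.zero (finModel m125ok).inj
noncomputable def ns212 : ℕ → Net := upd (fun _ => Net.nil) 0 (m125 2)
theorem der213 : Der 36 (finX 36) (cl (finG m125ok) [[2],[0,5,0,0,4],[1,1,1,2,0,4]]) ns212 := der211.add (wp_mem_cl (w := [2]) (by decide)) (rep_letter (finModel m125ok) 2) 0
noncomputable def x214 : Net := (Net.cons (nat_lit 20) (nat_lit 0x5b8f6)
  (Net.cons (nat_lit 10) (nat_lit 0x3f400005)
  (Net.cons (nat_lit 5) (nat_lit 0x741a04019)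
  (Net.cons (nat_lit 1) (nat_lit 0x2000001)
  (Net.cons (nat_lit 1) (nat_lit 0x400424004a)
  (Net.cons (nat_lit 1) (nat_lit 0x2908529085)
  (Net.cons (nat_lit 1) (nat_lit 0x129425090a)
  (Net.cons (nat_lit 1) (nat_lit 0x20021090a1)
  (Net.cons (nat_lit 5) (nat_lit 0x581004010)
  (Net.cons (nat_lit 10) (nat_lit 0x38c002a0)
  (Net.cons (nat_lit 20) (nat_lit 0x57018)
  Net.nil)))))))))))
noncomputable def ns215 : ℕ → Net := upd ns212 1 x214
theorem der216 : Der 36 (finX 36) (cl (finG m125ok) [[2],[0,5,0,0,4],[1,1,1,2,0,4]]) ns215 := der213.add (wp_mem_cl (w := [0,5,0,0,4]) (by decide)) ((finModel m125ok).toIsPre.rep_word (k := 6) (w := [0,5,0,0,4]) (n := x214) (by decide +kernel)) 1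
noncomputable def x217 : Net := (Net.cons (nat_lit 20) (nat_lit 0xbd747)
  (Net.cons (nat_lit 10) (nat_lit 0x2bd00297)
  (Net.cons (nat_lit 5) (nat_lit 0x501205013)
  (Net.cons (nat_lit 1) (nat_lit 0x40400000)
  (Net.cons (nat_lit 1) (nat_lit 0x90a00900)
  (Net.cons (nat_lit 1) (nat_lit 0x148509081)
  (Net.cons (nat_lit 1) (nat_lit 0x294a12042)
  (Net.cons (nat_lit 1) (nat_lit 0x9081080a4)
  (Net.cons (nat_lit 5) (nat_lit 0x207012)
  (Net.cons (nat_lit 10) (nat_lit 0x2c2002aa)
  (Net.cons (nat_lit 20) (nat_lit 0xba9ac)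
  Net.nil)))))))))))
noncomputable def ns218 : ℕ → Net := upd ns215 2 x217
theorem der219 : Der 36 (finX 36) (cl (finG m125ok) [[2],[0,5,0,0,4],[1,1,1,2,0,4]]) ns218 := der216.add (wp_mem_cl (w := [1,1,1,2,0,4]) (by decide)) ((finModel m125ok).toIsPre.rep_word (k := 6) (w := [1,1,1,2,0,4]) (n := x217) (by decide +kernel)) 2
noncomputable def x220 : Net := (Net.cons (nat_lit 20) (nat_lit 0xae924)
  (Net.cons (nat_lit 10) (nat_lit 0x12e00161)
  (Net.cons (nat_lit 5) (nat_lit 0x600a0241b)
  (Net.cons (nat_lit 1) (nat_lit 0x100020)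
  (Net.cons (nat_lit 1) (nat_lit 0x14200040)
  (Net.cons (nat_lit 1) (nat_lit 0x84214a4)
  (Net.cons (nat_lit 1) (nat_lit 0x294810942)
  (Net.cons (nat_lit 1) (nat_lit 0x2048521024)
  (Net.cons (nat_lit 5) (nat_lit 0x501a00000)
  (Net.cons (nat_lit 10) (nat_lit 0x31800028)
  (Net.cons (nat_lit 20) (nat_lit 0xae534)
  Net.nil)))))))))))
noncomputable def x220s : ℕ → Net := upd ns218 3 x220
theorem der221 : Der 36 (finX 36) (cl (finG m125ok) [[2],[0,5,0,0,4],[1,1,1,2,0,4]]) x220s := der219.ext (k := 6) (w := [2,2,1,0,2,1]) 3 (by decide +kernel)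
noncomputable def L222 : Lev := Lev.cons 0 4 [[0],[3]] Lev.nil
noncomputable def L223 : Lev := Lev.cons 26 24 [[1],[2]] L222
theorem lc224 : Lev.chk 36 3 x220s vT 100 L223 = true := by decide +kernel
theorem lb225 : 96 ≤ Nat.card (cl (finG m125ok) [[2],[0,5,0,0,4],[1,1,1,2,0,4]]) := le_of_eq_of_le (by decide +kernel) (der221.card_ge lc224)
theorem sat226 : Sat io C127 (finG m125ok) := m125s0.fin (k := 6) (by decide +kernel)
theorem ix210 : Idx.{u} io C207 [0,1,2,3,4,5] [[2],[0,5,0,0,4],[1,1,1,2,0,4]] 63 := (Idx.of bd203 sat226 (by decide +kernel) lb225 (by decide +kernel)).of_imp imp209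
noncomputable def lk227 : List (List ℕ × List ℕ × Pf) := [([2],[2],[([6],27)]),([0,5,0,0,4],[1,4,0,4,0,2,1,2,1],[([6],29)]),([1,1,1,2,0,4],[4,2,1,2,0,0,0,2],[([6],31)])]
noncomputable def O228 : ℕ := (nat_lit 0xf48dff620e131fef478dff6fe)
noncomputable def M229 : ℕ := (nat_lit 0xf48dff620e131fef478dff6ff)
noncomputable def b230 : ℕ := (nat_lit 1)
theorem cl231 : Clo.{u} io C207 [0,1,2,3,4,5] 100 m206 M229 (mkB [(6,b230)]) := cl208.new (k := 4) (b := 6) (q := 0) (p := 1) (r := 200) (n := 63) (O := O228) (by decide +kernel) (lks := lk227) (by decide +kernel) (gens_of_lall2 (m := [[0],[1],[2]]) (by decide +kernel)) ix210 (by decide +kernel)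
noncomputable def b232 : ℕ := (nat_lit 0x3481b7000a0211ef4609f62b3)
noncomputable def b233 : ℕ := (nat_lit 0x3481b7000a0211ef4609f62b3)
theorem cl234 : Clo.{u} io C207 [0,1,2,3,4,5] 100 m206 M229 (mkB [(6,b232),(7,b233)]) := cl231.ops (os := [Op.inv 6,Op.rel 6 [] 7 [] [([],23)],Op.inv 6,Op.rel 6 [1,4] 7 [5,0,7,5,0] [([7],25)],Op.ext 6 3 [([2],[2],[([6],27)]),([3],[3],[([6,3],26)]),([1,1,1,2,0,4],[4,2,1,2,0,0,0,2],[([6],31)]),([5,1,3,0,0,0],[3,1,1,1,3,0,3,5],[([6,3,1,1,1,3,0,3,5],30)]),([0,5,0,0,4],[1,4,0,4,0,2,1,2,1],[([6],29)]),([5,1,1,4,1],[0,3,0,3,1,5,1,5,0],[([6,0,3,0,3,1,5,1,5,0],28)])],Op.inv 6,Op.rel 6 [1,4] 7 [5,0,7,5,0] [([7],25)],Op.ext 6 2 [([2],[2],[([6],27)]),([3],[3],[([6,3],26)]),([1,1,1,2,0,4],[4,2,1,2,0,0,0,2],[([6],31)]),([5,1,3,0,0,0],[3,1,1,1,3,0,3,5],[([6,3,1,1,1,3,0,3,5],30)]),([0,5,0,0,4],[1,4,0,4,0,2,1,2,1],[([6],29)]),([5,1,1,4,1],[0,3,0,3,1,5,1,5,0],[([6,0,3,0,3,1,5,1,5,0],28)])],Op.inv 6]) (by decide +kernel) (by decide +kernel)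
theorem der236 : Der 36 (finX 36) (cl (finG m125ok) [[1,5,0],[0,5,0,0,4,3,1,1,1,2,1,4,1,2],[3,1,1,1,2,0,4,3,1,5,0,2,5,1,3,0,0,0,2]]) (fun _ => Net.nil) := Der.zero (finModel m125ok).inj
noncomputable def x237 : Net := (Net.cons (nat_lit 20) (nat_lit 0x200a0)
  (Net.cons (nat_lit 10) (nat_lit 0x680012a)
  (Net.cons (nat_lit 5) (nat_lit 0x5c040680e)
  (Net.cons (nat_lit 1) (nat_lit 32768)
  (Net.cons (nat_lit 1) (nat_lit 0x5000250000)
  (Net.cons (nat_lit 1) (nat_lit 0x2800520405)
  (Net.cons (nat_lit 1) (nat_lit 0x5080250802)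
  (Net.cons (nat_lit 1) (nat_lit 0x8405004a5)
  (Net.cons (nat_lit 5) (nat_lit 0x40040480e)
  (Net.cons (nat_lit 10) (nat_lit 0x6800108)
  (Net.cons (nat_lit 20) (nat_lit 0x24880)
  Net.nil)))))))))))
noncomputable def ns238 : ℕ → Net := upd (fun _ => Net.nil) 0 x237
theorem der239 : Der 36 (finX 36) (cl (finG m125ok) [[1,5,0],[0,5,0,0,4,3,1,1,1,2,1,4,1,2],[3,1,1,1,2,0,4,3,1,5,0,2,5,1,3,0,0,0,2]]) ns238 := der236.add (wp_mem_cl (w := [1,5,0]) (by decide)) ((finModel m125ok).toIsPre.rep_word (k := 6) (w := [1,5,0]) (n := x237) (by decide +kernel)) 0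
noncomputable def x240 : Net := (Net.cons (nat_lit 20) (nat_lit 0x47845)
  (Net.cons (nat_lit 10) (nat_lit 0x2900149)
  (Net.cons (nat_lit 5) (nat_lit 0x680a01c02)
  (Net.cons (nat_lit 1) (nat_lit 0x800000000)
  (Net.cons (nat_lit 1) (nat_lit 0x500005000a)
  (Net.cons (nat_lit 1) (nat_lit 0x2048128004)
  (Net.cons (nat_lit 1) (nat_lit 0x508425084a)
  (Net.cons (nat_lit 1) (nat_lit 0x142509020)
  (Net.cons (nat_lit 5) (nat_lit 0x680606006)
  (Net.cons (nat_lit 10) (nat_lit 0x380016a)
  (Net.cons (nat_lit 20) (nat_lit 0x49460)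
  Net.nil)))))))))))
noncomputable def ns241 : ℕ → Net := upd ns238 1 x240
theorem der242 : Der 36 (finX 36) (cl (finG m125ok) [[1,5,0],[0,5,0,0,4,3,1,1,1,2,1,4,1,2],[3,1,1,1,2,0,4,3,1,5,0,2,5,1,3,0,0,0,2]]) ns241 := der239.add (wp_mem_cl (w := [0,5,0,0,4,3,1,1,1,2,1,4,1,2]) (by decide)) ((finModel m125ok).toIsPre.rep_word (k := 6) (w := [0,5,0,0,4,3,1,1,1,2,1,4,1,2]) (n := x240) (by decide +kernel)) 1
noncomputable def x243 : Net := (Net.cons (nat_lit 20) (nat_lit 55984)
  (Net.cons (nat_lit 10) (nat_lit 0x2b0000b2)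
  (Net.cons (nat_lit 5) (nat_lit 0x41205806)
  (Net.cons (nat_lit 1) (nat_lit 0x8020000a0)
  (Net.cons (nat_lit 1) (nat_lit 0x1214002940)
  (Net.cons (nat_lit 1) (nat_lit 0x21480014a0)
  (Net.cons (nat_lit 1) (nat_lit 0x429400294a)
  (Net.cons (nat_lit 1) (nat_lit 0x28421080a0)
  (Net.cons (nat_lit 5) (nat_lit 0x501205806)
  (Net.cons (nat_lit 10) (nat_lit 0x2b0000b2)
  (Net.cons (nat_lit 20) (nat_lit 55984)
  Net.nil)))))))))))
noncomputable def ns244 : ℕ → Net := upd ns241 2 x243
theorem der245 : Der 36 (finX 36) (cl (finG m125ok) [[1,5,0],[0,5,0,0,4,3,1,1,1,2,1,4,1,2],[3,1,1,1,2,0,4,3,1,5,0,2,5,1,3,0,0,0,2]]) ns244 := der242.add (wp_mem_cl (w := [3,1,1,1,2,0,4,3,1,5,0,2,5,1,3,0,0,0,2]) (by decide)) ((finModel m125ok).toIsPre.rep_word (k := 6) (w := [3,1,1,1,2,0,4,3,1,5,0,2,5,1,3,0,0,0,2]) (n := x243) (by decide +kernel)) 2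
noncomputable def L246 : Lev := Lev.cons 1 8 [[0],[1]] Lev.nil
noncomputable def L247 : Lev := Lev.cons 6 21 [[2]] L246
theorem lc248 : Lev.chk 36 3 ns244 vT 100 L247 = true := by decide +kernel
theorem lb249 : 168 ≤ Nat.card (cl (finG m125ok) [[1,5,0],[0,5,0,0,4,3,1,1,1,2,1,4,1,2],[3,1,1,1,2,0,4,3,1,5,0,2,5,1,3,0,0,0,2]]) := le_of_eq_of_le (by decide +kernel) (der245.card_ge lc248)
theorem ix235 : Idx.{u} io C207 [0,1,2,3,4,5] [[1,5,0],[0,5,0,0,4,3,1,1,1,2,1,4,1,2],[3,1,1,1,2,0,4,3,1,5,0,2,5,1,3,0,0,0,2]] 36 := (Idx.of bd203 sat226 (by decide +kernel) lb249 (by decide +kernel)).of_imp imp209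
noncomputable def lk250 : List (List ℕ × List ℕ × Pf) := [([1,5,0],[0,6,4,7,1],[([6,0,6],33)]),([0,5,0,0,4],[1,4,0,4,0,2,1,2,1],[([6],29)]),([3],[3],[([6,3],26)]),([1,1,1,2,0,4],[4,2,1,2,0,0,0,2],[([6],31)]),([5,1,1,4,1],[0,3,0,3,1,5,1,5,0],[([6,0,3,0,3,1,5,1,5,0],28)]),([2],[2],[([6],27)]),([5,1,3,0,0,0],[3,1,1,1,3,0,3,5],[([6,3,1,1,1,3,0,3,5],30)])]
noncomputable def O251 : ℕ := (nat_lit 0xb72009df1ece010b87200900)
noncomputable def M252 : ℕ := (nat_lit 0xfffffffffffffffffffffffff)
noncomputable def b253 : ℕ := (nat_lit 0x3481b7000a0211ef4609f62b7)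
theorem cl254 : Clo.{u} io C207 [0,1,2,3,4,5] 100 m206 M252 (mkB [(6,b253),(7,b233)]) := cl234.new (k := 4) (b := 6) (q := 2) (p := 8) (r := 200) (n := 36) (O := O251) (by decide +kernel) (lks := lk250) (by decide +kernel) (gens_of_lall2 (m := [[0],[1,2,3,4,5],[2,3,2,0,5,6,5]]) (by decide +kernel)) ix235 (by decide +kernel)
noncomputable def b255 : ℕ := (nat_lit 0xfffffffffffffffffffffffff)
noncomputable def b256 : ℕ := (nat_lit 0xfffffffffffffffffffffffff)
theorem cl257 : Clo.{u} io C207 [0,1,2,3,4,5] 100 m206 M252 (mkB [(6,b255),(7,b256)]) := cl254.ops (os := [Op.ext 6 3 [([2],[2],[([6],27)]),([3],[3],[([6,3],26)]),([1,1,1,2,0,4],[4,2,1,2,0,0,0,2],[([6],31)]),([5,1,3,0,0,0],[3,1,1,1,3,0,3,5],[([6,3,1,1,1,3,0,3,5],30)]),([0,5,0,0,4],[1,4,0,4,0,2,1,2,1],[([6],29)]),([5,1,1,4,1],[0,3,0,3,1,5,1,5,0],[([6,0,3,0,3,1,5,1,5,0],28)])],Op.inv 6,Op.rel 6 [] 7 [] [([],23)],Op.inv 6,Op.rel 6 [1,4] 7 [5,0,7,5,0] [([7],25)],Op.ext 6 2 [([2],[2],[([6],27)]),([3],[3],[([6,3],26)]),([1,1,1,2,0,4],[4,2,1,2,0,0,0,2],[([6],31)]),([5,1,3,0,0,0],[3,1,1,1,3,0,3,5],[([6,3,1,1,1,3,0,3,5],30)]),([0,5,0,0,4],[1,4,0,4,0,2,1,2,1],[([6],29)]),([5,1,1,4,1],[0,3,0,3,1,5,1,5,0],[([6,0,3,0,3,1,5,1,5,0],28)])],Op.inv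 6]) (by decide +kernel) (by decide +kernel)
theorem sat259 : Sat io C207 (finG m206ok) := m206s0.fin (k := 7) (by decide +kernel)
theorem bd258 : Bound.{u} io C207 [0,1,2,3,4,5,6,7] 604800 := cl257.bound (by decide +kernel) sat259 (bd203.of_imp imp209)
noncomputable def r17 : List ℕ := [8,8]
noncomputable def r18 : List ℕ := [9,6,8,7]
noncomputable def r19 : List ℕ := [9,1,7,5,3,1,1,8,0,0,3,5,7,0]
noncomputable def r20 : List ℕ := [8,1,5,1,1,4,1,9,0,5,0,0,5,0]
noncomputable def r21 : List ℕ := [9,1,9,1,4,0,8,0,8,1,3,1,1,1,5,1,3,5,1,7,1,1,5]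
noncomputable def r22 : List ℕ := [9,1,5,9,1,1,8,1,8,6,0,8,1,1,1,3,0,3,1,1,3,5,1,1,5,7,0]
noncomputable def m260n0 : Net := (Net.cons (nat_lit 256) (nat_lit 0x3503f914d5552197f7ed734e3c29ab0c1d5dd67fdce01cc163e4e5c5c0edfbaa)
  (Net.cons (nat_lit 128) (nat_lit 0x950d0c3426fe9b74d10da686837a422500000000000000000000000000000000604a754d6abc375cab0310fe60d45e40)
  (Net.cons (nat_lit 64) (nat_lit 0x578f814a956828570000000000000000ac88006899fe1f4d000000000000000001f6962b2e49f504000000000000000055faa05963bd1b0a)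
  (Net.cons (nat_lit 32) (nat_lit 0x732b4b48000000000969d494000000006ec16ad700000000ee81f38900000000cc0a2f84000000007837d7fc00000000ea5a6201000000003fbb5100)
  (Net.cons (nat_lit 16) (nat_lit 0xe66000054b10000723a000097590000de8f0000cfd6000078220000373f0000623e00005114000027d600008c97000018e3000037480000f7990000ecc8)
  (Net.cons (nat_lit 8) (nat_lit 0x1800a6009000cb004000aa00d700ae00b6008b00d900b200e3003b00410032002a0059004f001c00420054000100280062006c009400420046001900f00060)
  (Net.cons (nat_lit 4) (nat_lit 0xc0c0604040e000d07010604080f040d010206010f0d0c020c0b0b050a0b0402040e0404070e0e04040206030c04080a04000e0e03060d020a08060803040406)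
  (Net.cons (nat_lit 2) (nat_lit 0x21321030230330302111202003200311223023002002032302103211302300012100000132012000033200002010221202110232200331201000213210202210)
  (Net.cons (nat_lit 1) (nat_lit 0x1550150040411100500414001501045454044100554045044055014001400014540140115141440411404414010101140101441144114001014415141044110)
  (Net.cons (nat_lit 2) (nat_lit 0x20020200000022000000000000002200002000002000020000000002020200200002200002202200020002000200022220222002002200202000000)
  (Net.cons (nat_lit 4) (nat_lit 0x40004040602060804000c040c040202000a0008020e0c08080e08080c0a0000040c0a040c0c06000400080a0c06000e04080c020600000002000000060c0806)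
  (Net.cons (nat_lit 8) (nat_lit 0x76008600c0004a0044002a00f000b000e4001a00e800be00a0006a0016002200080050001e00b800d4009c000800200040007c009000c80008007800180068)
  (Net.cons (nat_lit 16) (nat_lit 0xba62000095f80000c73e0000135600001e1600009182000038220000352a0000453c000091b40000b54000008ea200009ed2000020200000e97800006518)
  (Net.cons (nat_lit 32) (nat_lit 0xc22ac32800000000ad249514000000002f62210e00000000e2c0d2900000000086189eac00000000fa15d350000000006e9d6882000000002f7b5bc8)
  (Net.cons (nat_lit 64) (nat_lit 0xe28fc04aa7af2aa6000000000000000092886b7e51ba7a46000000000000000089f492ea2c79553000000000000000000516a069737c9140)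
  (Net.cons (nat_lit 128) (nat_lit 0xb50c0c34a2afbbe082c4958c92d750700000000000000000000000000000000028ae77ed48166f5ca3011c7f77be5620)
  (Net.cons (nat_lit 256) (nat_lit 0x3503f914d5552197f7ed734ea275931efac2103d90174ded6def3e07f579e338)
  Net.nil)))))))))))))))))
noncomputable def m260n1 : Net := (Net.cons (nat_lit 256) (nat_lit 0x3503f914d5552197f7ed734ea275931efac2103d90174ded6def3e07f579e338)
  (Net.cons (nat_lit 128) (nat_lit 0x4af1f7cff478c41fed366a134da0af8d0000000000000000000000000000000028ae77ed48166f5ca3011c7f77be5620)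
  (Net.cons (nat_lit 64) (nat_lit 0xc7cbe7c4026d9054000000000000000020a18ee2a39abd60000000000000000089f492ea2c7955300000000000000000d2a86c9280865efe)
  (Net.cons (nat_lit 32) (nat_lit 0x8ae98dda00000000b349bb1c00000000c8656980000000003b9f185e0000000086189eac00000000b811535800000000f3c08027000000009f1b9338)
  (Net.cons (nat_lit 16) (nat_lit 0x908b0000fa810000d065000066b10000a1e60000d38d0000f73000006e210000ab42000091b40000ff420000715d0000c56a000000f50000086100004028)
  (Net.cons (nat_lit 8) (nat_lit 0xc70056001400d4004300ef00a80038002300f80057009500ab004e00ae009500ae004f00e1000400c600de00ba001d0004006800dd00f00098007600e00040)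
  (Net.cons (nat_lit 4) (nat_lit 0xf000c0a0d0504000a01010c0501010e0302000001060a0e0e0d0a0e08000205040a02060c020c0604060201080700060c0b080405040200090a040a08020808)
  (Net.cons (nat_lit 2) (nat_lit 0x2220311111001020121200032010010230023202021021103333000212021320120022203130022132020020230100022310230210322110201230010102010)
  (Net.cons (nat_lit 1) (nat_lit 0x4041150401044414110414414114140410514140140054400511010104101410414054411540414444044101041444040544140101544404104011410500540)
  (Net.cons (nat_lit 2) (nat_lit 0x20000200022022220222202022000200022220020000200020020000000220200002002000020002000000002202000022020200020000000022020000020)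
  (Net.cons (nat_lit 4) (nat_lit 0xc040c0a0c0402080e0c08000004060c0802040a02060a000c04060a0c080004040400000e00080e0400040802000804000c0604040208080808060a04020a00)
  (Net.cons (nat_lit 8) (nat_lit 0x1400000060000e00ce002200ae00b2002e006800f00004005a001800ae009400a6004200b00060009200d40002003000c0004000cc00b8001400fc00000022)
  (Net.cons (nat_lit 16) (nat_lit 0x66920000b3980000d8f400000e20000035e20000c3a80000773400007c2400008d42000051140000e7900000f368000067ee000044740000974000002638)
  (Net.cons (nat_lit 32) (nat_lit 0xe8819cdc00000000fa985b1a000000005c624e4400000000bdde707600000000cc0a2f8400000000b83757ac00000000ea65863e00000000d521173a)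
  (Net.cons (nat_lit 64) (nat_lit 0xe4e8bcca270d90400000000000000000a0adbec2350dace6000000000000000001f6962b2e49f50400000000000000008a2066a39d468cfc)
  (Net.cons (nat_lit 128) (nat_lit 0x6af246cbf029e48baf7259117d859d1a00000000000000000000000000000000604a754d6abc375cab0310fe60d45e40)
  (Net.cons (nat_lit 256) (nat_lit 0x3503f914d5552197f7ed734e3c29ab0c1d5dd67fdce01cc163e4e5c5c0edfbaa)
  Net.nil)))))))))))))))))
noncomputable def m260n2 : Net := (Net.cons (nat_lit 256) (nat_lit 0x390025805e7e4000409ba214ace1824863c40801030000086400040000400090)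
  (Net.cons (nat_lit 128) (nat_lit 0x4082502f52513f660d183920c80244400000000000000000000000000000000e00aa81052bc2410ac39b400286100c2)
  (Net.cons (nat_lit 64) (nat_lit 0x5ccba000906045800000000000000000be840f303ddc088000000000000000003ae7e6e8ba19c09000000000000000009f50199435a31982)
  (Net.cons (nat_lit 32) (nat_lit 0xe40e2000000000001c5b82880000000063da74c400000000bbd4110000000000d20ddbb4000000004239c018000000007f645e1800000000a5bd6900)
  (Net.cons (nat_lit 16) (nat_lit 0x418800000ee0000004c00000da4000001d40000004880000c3e9000058200000f58800009b91000029280000f3600000c260000047a00000471d0000c154)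
  (Net.cons (nat_lit 8) (nat_lit 0x82000a008c003a0038004a001000100034003c005a00c8005400cc00e300a6006d003e00b4004000c80092003e009400800086001000bd00c6002000c2005e)
  (Net.cons (nat_lit 4) (nat_lit 0x600000004010002080b0e04060809080e0c06020a0e08080c0002000200080200040c0404030b090a0900080e01040d0d08090202020c0003020c0e0e040e0a)
  (Net.cons (nat_lit 2) (nat_lit 0x20010000231330102020031012302003322001030122000103223200221130111301022030200233230200203022022233020203213132213131120300300132)
  (Net.cons (nat_lit 1) (nat_lit 0x41404500001440141011450004041110544000405010140045405054150501405440444554114415050410410444401114410440045051114114444105105054)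
  (Net.cons (nat_lit 2) (nat_lit 0x20000000000220002002000002000200022000000020000000200000200000000200022000202020000200200022002200020200000000222200020200000000)
  (Net.cons (nat_lit 4) (nat_lit 0x60000000406020008000e0406080208080404020a0a08000c0002000002080006000c04040204000a0000000e000400020800020a020c00000a0c000a000e02)
  (Net.cons (nat_lit 8) (nat_lit 0x82000a008c004800200048001000100010002c005a0088004400cc00cc00a600d0002e00240040008800a2001e0094008000860090003e00180024000400d2)
  (Net.cons (nat_lit 16) (nat_lit 0x410800000ee0000004c00000da4000001d40000004880000c1a8000058200000c5b800009b10000009280000f2400000c260000098200000539c0000c1f0)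
  (Net.cons (nat_lit 32) (nat_lit 0xe40e2000000000001c5b82880000000063da74c400000000bb54010000000000f20c8b34000000004219e058000000007f645e180000000005397000)
  (Net.cons (nat_lit 64) (nat_lit 0x5ccba0009060458000000000000000003e840f303ddc088000000000000000001ec7d6c8ba19c0a000000000000000009f50199435a31982)
  (Net.cons (nat_lit 128) (nat_lit 0x4082502f52513f660d183920c80244400000000000000000000000000000000e00aa81052bc2410ac39b400286100c2)
  (Net.cons (nat_lit 256) (nat_lit 0x390025805e7e4000409ba214ace1820863c40801030000086400040000408080)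
  Net.nil)))))))))))))))))
noncomputable def m260n3 : Net := (Net.cons (nat_lit 256) (nat_lit 0x390025805e7e4000409ba214ace1824863c40801030000086400040000400090)
  (Net.cons (nat_lit 128) (nat_lit 0x4082502f52513f660d183920c80244400000000000000000000000000000000e00aa81052bc2410ac39b400286100c2)
  (Net.cons (nat_lit 64) (nat_lit 0x5ccba000906045800000000000000000be840f303ddc088000000000000000003ae7e6e8ba19c09000000000000000009f50199435a31982)
  (Net.cons (nat_lit 32) (nat_lit 0xe40e2000000000001c5b82880000000063da74c400000000bbd4110000000000d20ddbb4000000004239c018000000007f645e1800000000a5bd6900)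
  (Net.cons (nat_lit 16) (nat_lit 0x418800000ee0000004c00000da4000001d40000004880000c3e9000058200000f58800009b91000029280000f3600000c260000047a00000471d0000c154)
  (Net.cons (nat_lit 8) (nat_lit 0x82000a008c003a0038004a001000100034003c005a00c8005400cc00e300a6006d003e00b4004000c80092003e009400800086001000bd00c6002000c2005e)
  (Net.cons (nat_lit 4) (nat_lit 0x600000004010002080b0e04060809080e0c06020a0e08080c0002000200080200040c0404030b090a0900080e01040d0d08090202020c0003020c0e0e040e0a)
  (Net.cons (nat_lit 2) (nat_lit 0x20010000231330102020031012302003322001030122000103223200221130111301022030200233230200203022022233020203213132213131120300300132)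
  (Net.cons (nat_lit 1) (nat_lit 0x41404500001440141011450004041110544000405010140045405054150501405440444554114415050410410444401114410440045051114114444105105054)
  (Net.cons (nat_lit 2) (nat_lit 0x20000000000220002002000002000200022000000020000000200000200000000200022000202020000200200022002200020200000000222200020200000000)
  (Net.cons (nat_lit 4) (nat_lit 0x60000000406020008000e0406080208080404020a0a08000c0002000002080006000c04040204000a0000000e000400020800020a020c00000a0c000a000e02)
  (Net.cons (nat_lit 8) (nat_lit 0x82000a008c004800200048001000100010002c005a0088004400cc00cc00a600d0002e00240040008800a2001e0094008000860090003e00180024000400d2)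
  (Net.cons (nat_lit 16) (nat_lit 0x410800000ee0000004c00000da4000001d40000004880000c1a8000058200000c5b800009b10000009280000f2400000c260000098200000539c0000c1f0)
  (Net.cons (nat_lit 32) (nat_lit 0xe40e2000000000001c5b82880000000063da74c400000000bb54010000000000f20c8b34000000004219e058000000007f645e180000000005397000)
  (Net.cons (nat_lit 64) (nat_lit 0x5ccba0009060458000000000000000003e840f303ddc088000000000000000001ec7d6c8ba19c0a000000000000000009f50199435a31982)
  (Net.cons (nat_lit 128) (nat_lit 0x4082502f52513f660d183920c80244400000000000000000000000000000000e00aa81052bc2410ac39b400286100c2)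
  (Net.cons (nat_lit 256) (nat_lit 0x390025805e7e4000409ba214ace1820863c40801030000086400040000408080)
  Net.nil)))))))))))))))))
noncomputable def m260n4 : Net := (Net.cons (nat_lit 256) (nat_lit 0x50588951a0b86056e5b428e69884848c25b8010020004014000006800800000)
  (Net.cons (nat_lit 128) (nat_lit 0xb1022ad9900f0e2c1a4656814892f84000000000000000000000000000000000a81f182e864ea2141b58b428b6808000)
  (Net.cons (nat_lit 64) (nat_lit 0x9d11e099a0a400040000000000000000836326685452400000000000000000002b2c8311c72412480000000000000000c54ad609c31c1080)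
  (Net.cons (nat_lit 32) (nat_lit 0x2231088000000000721faf36000000004540a048000000006f4309a200000000e56070c600000000aadabe000000000035a2c600000000007114b080)
  (Net.cons (nat_lit 16) (nat_lit 0x382000000e0900003e9000006a94000088e0000013d00000e6400000c0250000bb840000311a0000320000000b0f000072400000aeec000050a50000c330)
  (Net.cons (nat_lit 8) (nat_lit 0xe000c009000800010008e0062008a00f80069005d003a00d800ec00d900af00d200b200420062003000e800a3003500040010004c00ae0079005300e0005c)
  (Net.cons (nat_lit 4) (nat_lit 0xe0a060408000f080004080504080e0804000b050908000c04040e0a0a0207060a080000080c080c01000a060800060804000e000a0808000c0d04070c08)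
  (Net.cons (nat_lit 2) (nat_lit 0x2033200021200221123033010200002300322321012010021032102010301120223301030022020021233202321010123101200010332223120203213000210)
  (Net.cons (nat_lit 1) (nat_lit 0x4005441500100010010050105041001044014504015001510000110444401051110540101544110000441004104511410040410105001401440040105000104)
  (Net.cons (nat_lit 2) (nat_lit 0x2000200000200020020000000000002020022000020000020000000200202002020000000002020000220002200000020000200000002200000000200000200)
  (Net.cons (nat_lit 4) (nat_lit 0x80a0604000000080004080400080008040008060008000c0600000e0a0008060a00000000080804060002020c0c0608040006000a080c000c0404000808)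
  (Net.cons (nat_lit 8) (nat_lit 0xe000c009000800010008e00620080007a00680014003a00d000ec008400ae00d2009200420062001000e80082004800040010004c00aa008c004400600054)
  (Net.cons (nat_lit 16) (nat_lit 0x382000000e0000003a8000006a90000088e0000056c00000e64000002f800000bb800000301800003200000006ca000072400000aeec000045180000c310)
  (Net.cons (nat_lit 32) (nat_lit 0x2231088000000000721faf36000000004152a088000000006d03080200000000e56070c60000000028cabd08000000003582c600000000007114b080)
  (Net.cons (nat_lit 64) (nat_lit 0x9d11e099a0a400040000000000000000c3432668545a000000000000000000002b2c8311c52012400000000000000000c54ad609c31c1080)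
  (Net.cons (nat_lit 128) (nat_lit 0xb1022ad9900f0e2c1a0656814892f84000000000000000000000000000000000a81f182e864ea2141b58b428b6808000)
  (Net.cons (nat_lit 256) (nat_lit 0x50588951a0b86056e5b428e69884848c25b8010020004014000006800800000)
  Net.nil)))))))))))))))))
noncomputable def m260n5 : Net := (Net.cons (nat_lit 256) (nat_lit 0x50588951a0b86056e5b428e69884848c25b8010020004014000006800800000)
  (Net.cons (nat_lit 128) (nat_lit 0xb1022ad9900f0e2c1a4656814892f84000000000000000000000000000000000a81f182e864ea2141b58b428b6808000)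
  (Net.cons (nat_lit 64) (nat_lit 0x9d11e099a0a400040000000000000000836326685452400000000000000000002b2c8311c72412480000000000000000c54ad609c31c1080)
  (Net.cons (nat_lit 32) (nat_lit 0x2231088000000000721faf36000000004540a048000000006f4309a200000000e56070c600000000aadabe000000000035a2c600000000007114b080)
  (Net.cons (nat_lit 16) (nat_lit 0x382000000e0900003e9000006a94000088e0000013d00000e6400000c0250000bb840000311a0000320000000b0f000072400000aeec000050a50000c330)
  (Net.cons (nat_lit 8) (nat_lit 0xe000c009000800010008e0062008a00f80069005d003a00d800ec00d900af00d200b200420062003000e800a3003500040010004c00ae0079005300e0005c)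
  (Net.cons (nat_lit 4) (nat_lit 0xe0a060408000f080004080504080e0804000b050908000c04040e0a0a0207060a080000080c080c01000a060800060804000e000a0808000c0d04070c08)
  (Net.cons (nat_lit 2) (nat_lit 0x2033200021200221123033010200002300322321012010021032102010301120223301030022020021233202321010123101200010332223120203213000210)
  (Net.cons (nat_lit 1) (nat_lit 0x4005441500100010010050105041001044014504015001510000110444401051110540101544110000441004104511410040410105001401440040105000104)
  (Net.cons (nat_lit 2) (nat_lit 0x2000200000200020020000000000002020022000020000020000000200202002020000000002020000220002200000020000200000002200000000200000200)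
  (Net.cons (nat_lit 4) (nat_lit 0x80a0604000000080004080400080008040008060008000c0600000e0a0008060a00000000080804060002020c0c0608040006000a080c000c0404000808)
  (Net.cons (nat_lit 8) (nat_lit 0xe000c009000800010008e00620080007a00680014003a00d000ec008400ae00d2009200420062001000e80082004800040010004c00aa008c004400600054)
  (Net.cons (nat_lit 16) (nat_lit 0x382000000e0000003a8000006a90000088e0000056c00000e64000002f800000bb800000301800003200000006ca000072400000aeec000045180000c310)
  (Net.cons (nat_lit 32) (nat_lit 0x2231088000000000721faf36000000004152a088000000006d03080200000000e56070c60000000028cabd08000000003582c600000000007114b080)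
  (Net.cons (nat_lit 64) (nat_lit 0x9d11e099a0a400040000000000000000c3432668545a000000000000000000002b2c8311c52012400000000000000000c54ad609c31c1080)
  (Net.cons (nat_lit 128) (nat_lit 0xb1022ad9900f0e2c1a0656814892f84000000000000000000000000000000000a81f182e864ea2141b58b428b6808000)
  (Net.cons (nat_lit 256) (nat_lit 0x50588951a0b86056e5b428e69884848c25b8010020004014000006800800000)
  Net.nil)))))))))))))))))
noncomputable def m260n6 : Net := (Net.cons (nat_lit 256) (nat_lit 0x2b51322ef79d69a6709b0874df91603c6d95c00028c009000028029808004200)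
  (Net.cons (nat_lit 128) (nat_lit 0x1240125cb7bd14c56385c9065b1111100000000000000000000000000000000010411afa2ce329f32637bd9700116c00)
  (Net.cons (nat_lit 64) (nat_lit 0x53cb326808083080000000000000000061fd9d4cbf5ec20000000000000000008d640d03ee3c0c020000000000000000b6362a0631882200)
  (Net.cons (nat_lit 32) (nat_lit 0x421d4064000000004273a3ec0000000060fba84c0000000063c2dfe800000000cf644b00000000008437710000000000b106a3d000000000028cc484)
  (Net.cons (nat_lit 16) (nat_lit 0x42d00000aca40000e14c0000a61a000030c100004d3e00004358000092ac000002a4000091f00000a402000080240000ea00000071cc000012480000cf70)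
  (Net.cons (nat_lit 8) (nat_lit 0x300060004c0090000d00d400b400b400180068006e002c002f009200df00260040008000f000020002001400f9005b004200000060005c007000860093001e)
  (Net.cons (nat_lit 4) (nat_lit 0x7020c000e08060a06080200080e06020a0e0e00030e02050501000f030a000e0e000f0a0d0808000003000a0c0a0e0e02020604000d000e0604000e0a0d0c)
  (Net.cons (nat_lit 2) (nat_lit 0x12220002000301212002011001000103202222022302010001103100031023200001201311022110222000211332303022022001031002311302020303032220)
  (Net.cons (nat_lit 1) (nat_lit 0x1440000054500105414100000114045440144414040405401401455114100041000151401404401044104100501441441444410104440100510514051041114)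
  (Net.cons (nat_lit 2) (nat_lit 0x2220000000000200202000000200000020222020000200002202000020000000000200200000200022000200002002222020200202000200000020002002222)
  (Net.cons (nat_lit 4) (nat_lit 0x8000e00040406000000080c060c0a000c040808020a0a0c000c00000002040000020c0600000000000a0c08000c000c0604000c000e020400020c000a)
  (Net.cons (nat_lit 8) (nat_lit 0x30006000400090000c00d4003400a4000800680084002c00d00092002000260040008000d0002200020014007800200064000000d0005c0070008600960086)
  (Net.cons (nat_lit 16) (nat_lit 0x42d000008ca40000e14c0000a61a0000304000000e1200004358000092ac000002a40000b4800000a402000080240000ea00000021400000124800004890)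
  (Net.cons (nat_lit 32) (nat_lit 0x420d406400000000523381e40000000060fba84c0000000063825fe800000000cf644b00000000008435710000000000b106a3d000000000028cc484)
  (Net.cons (nat_lit 64) (nat_lit 0x53cb326808083080000000000000000061fd9d4caf5ec20000000000000000008d640d03ee3c0c020000000000000000b6362a0621882200)
  (Net.cons (nat_lit 128) (nat_lit 0x1240125cb7bd14c56385c9065b1111000000000000000000000000000000000010411afa2ce329f32637bd9700112c00)
  (Net.cons (nat_lit 256) (nat_lit 0x2b51322ef79d69a6709b0874df91603c6d95c00028c009000028029808004200)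
  Net.nil)))))))))))))))))
noncomputable def m260n7 : Net := (Net.cons (nat_lit 256) (nat_lit 0x2b51322ef79d69a6709b0874df91603c6d95c00028c009000028029808004200)
  (Net.cons (nat_lit 128) (nat_lit 0x1240125cb7bd14c56385c9065b1111100000000000000000000000000000000010411afa2ce329f32637bd9700116c00)
  (Net.cons (nat_lit 64) (nat_lit 0x53cb326808083080000000000000000061fd9d4cbf5ec20000000000000000008d640d03ee3c0c020000000000000000b6362a0631882200)
  (Net.cons (nat_lit 32) (nat_lit 0x421d4064000000004273a3ec0000000060fba84c0000000063c2dfe800000000cf644b00000000008437710000000000b106a3d000000000028cc484)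
  (Net.cons (nat_lit 16) (nat_lit 0x42d00000aca40000e14c0000a61a000030c100004d3e00004358000092ac000002a4000091f00000a402000080240000ea00000071cc000012480000cf70)
  (Net.cons (nat_lit 8) (nat_lit 0x300060004c0090000d00d400b400b400180068006e002c002f009200df00260040008000f000020002001400f9005b004200000060005c007000860093001e)
  (Net.cons (nat_lit 4) (nat_lit 0x7020c000e08060a06080200080e06020a0e0e00030e02050501000f030a000e0e000f0a0d0808000003000a0c0a0e0e02020604000d000e0604000e0a0d0c)
  (Net.cons (nat_lit 2) (nat_lit 0x12220002000301212002011001000103202222022302010001103100031023200001201311022110222000211332303022022001031002311302020303032220)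
  (Net.cons (nat_lit 1) (nat_lit 0x1440000054500105414100000114045440144414040405401401455114100041000151401404401044104100501441441444410104440100510514051041114)
  (Net.cons (nat_lit 2) (nat_lit 0x2220000000000200202000000200000020222020000200002202000020000000000200200000200022000200002002222020200202000200000020002002222)
  (Net.cons (nat_lit 4) (nat_lit 0x8000e00040406000000080c060c0a000c040808020a0a0c000c00000002040000020c0600000000000a0c08000c000c0604000c000e020400020c000a)
  (Net.cons (nat_lit 8) (nat_lit 0x30006000400090000c00d4003400a4000800680084002c00d00092002000260040008000d0002200020014007800200064000000d0005c0070008600960086)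
  (Net.cons (nat_lit 16) (nat_lit 0x42d000008ca40000e14c0000a61a0000304000000e1200004358000092ac000002a40000b4800000a402000080240000ea00000021400000124800004890)
  (Net.cons (nat_lit 32) (nat_lit 0x420d406400000000523381e40000000060fba84c0000000063825fe800000000cf644b00000000008435710000000000b106a3d000000000028cc484)
  (Net.cons (nat_lit 64) (nat_lit 0x53cb326808083080000000000000000061fd9d4caf5ec20000000000000000008d640d03ee3c0c020000000000000000b6362a0621882200)
  (Net.cons (nat_lit 128) (nat_lit 0x1240125cb7bd14c56385c9065b1111000000000000000000000000000000000010411afa2ce329f32637bd9700112c00)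
  (Net.cons (nat_lit 256) (nat_lit 0x2b51322ef79d69a6709b0874df91603c6d95c00028c009000028029808004200)
  Net.nil)))))))))))))))))
noncomputable def m260n8 : Net := (Net.cons (nat_lit 256) (nat_lit 0x9a1a63150a8ae756ee53624230882f0c9a9ad008b41010000800002452400000)
  (Net.cons (nat_lit 128) (nat_lit 0xde325a51cc1265986f35ac08c0440500000000000000000000000000000000036ae847a0366837e30634524ca5800c0)
  (Net.cons (nat_lit 64) (nat_lit 0xfed34203b50010480000000000000000d912d42aac12f0400000000000000000730e91c9511c481000000000000000005a55018319924420)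
  (Net.cons (nat_lit 32) (nat_lit 0x9003c64000000000c24eca6000000000409a0a2600000000c50ae35000000000712409920000000016dd452400000000db055500000000006cf01e60)
  (Net.cons (nat_lit 16) (nat_lit 0x7000000cec80000ba8600002a3400004a20000015a00000e0110000b48600002940000044ec0000c00000007a8800007820000025800000286800008250)
  (Net.cons (nat_lit 8) (nat_lit 0x1b00b2000800b400d0006800040052009000a400fa009400380050001c0070009e0072007000d200d4000800d80052009100de00aa000900a0003200b40074)
  (Net.cons (nat_lit 4) (nat_lit 0xc020104000006070e0e0400080a0c0c040a020e080c010c0c0a0104060a080400080c080c0005000402040c04020c040a000c0f020e02000404050b07080805)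
  (Net.cons (nat_lit 2) (nat_lit 0x22000200002201023020002002021230021132002222023200010023220030321020203300220020202200310122312200231331012200122320031210320)
  (Net.cons (nat_lit 1) (nat_lit 0x1014000450051440010144514141000150040050504444410104004500141504510000110510011141401040004541004104414500004004001515141100011)
  (Net.cons (nat_lit 2) (nat_lit 0x2002000200002020020020002002000200020000002222020200000000220000020000200000020020202000000000002200000000002000002000220200002)
  (Net.cons (nat_lit 4) (nat_lit 0x208000000000608040e0400000a080c0400020e0804000c0c080004060a0004000808080c0000000402000c04000204020000020204020004000c080008080a)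
  (Net.cons (nat_lit 8) (nat_lit 0xa00030000800b400d0006800040050009000a400ea009400200050001c0070009e0042007000d200540008005800e20090005800aa000000a000a000340074)
  (Net.cons (nat_lit 16) (nat_lit 0x7000000cac00000ba8600002a3400000820000015a00000e0100000b08600002940000044e00000c0000000788000007800000025800000286800008210)
  (Net.cons (nat_lit 32) (nat_lit 0x9003c64000000000c20eca6000000000409a0a2400000000c50ae35000000000710409920000000016dc452000000000db055500000000006ce01640)
  (Net.cons (nat_lit 64) (nat_lit 0xfed34203b50010480000000000000000d912d42aac12f0400000000000000000730e91c9511c481000000000000000005a55018319924420)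
  (Net.cons (nat_lit 128) (nat_lit 0xde325a51cc1265986b35ac08c0440500000000000000000000000000000000036ae847a0362837e30634524ca5800c0)
  (Net.cons (nat_lit 256) (nat_lit 0x9a1a63150a8ae756ee53624230882f0c9a9ad008b41010000800002452400000)
  Net.nil)))))))))))))))))
noncomputable def m260n9 : Net := (Net.cons (nat_lit 256) (nat_lit 0x9a1a63150a8ae756ee53624230882f0c9a9ad008b41010000800002452400000)
  (Net.cons (nat_lit 128) (nat_lit 0xde325a51cc1265986f35ac08c0440500000000000000000000000000000000036ae847a0366837e30634524ca5800c0)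
  (Net.cons (nat_lit 64) (nat_lit 0xfed34203b50010480000000000000000d912d42aac12f0400000000000000000730e91c9511c481000000000000000005a55018319924420)
  (Net.cons (nat_lit 32) (nat_lit 0x9003c64000000000c24eca6000000000409a0a2600000000c50ae35000000000712409920000000016dd452400000000db055500000000006cf01e60)
  (Net.cons (nat_lit 16) (nat_lit 0x7000000cec80000ba8600002a3400004a20000015a00000e0110000b48600002940000044ec0000c00000007a8800007820000025800000286800008250)
  (Net.cons (nat_lit 8) (nat_lit 0x1b00b2000800b400d0006800040052009000a400fa009400380050001c0070009e0072007000d200d4000800d80052009100de00aa000900a0003200b40074)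
  (Net.cons (nat_lit 4) (nat_lit 0xc020104000006070e0e0400080a0c0c040a020e080c010c0c0a0104060a080400080c080c0005000402040c04020c040a000c0f020e02000404050b07080805)
  (Net.cons (nat_lit 2) (nat_lit 0x22000200002201023020002002021230021132002222023200010023220030321020203300220020202200310122312200231331012200122320031210320)
  (Net.cons (nat_lit 1) (nat_lit 0x1014000450051440010144514141000150040050504444410104004500141504510000110510011141401040004541004104414500004004001515141100011)
  (Net.cons (nat_lit 2) (nat_lit 0x2002000200002020020020002002000200020000002222020200000000220000020000200000020020202000000000002200000000002000002000220200002)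
  (Net.cons (nat_lit 4) (nat_lit 0x208000000000608040e0400000a080c0400020e0804000c0c080004060a0004000808080c0000000402000c04000204020000020204020004000c080008080a)
  (Net.cons (nat_lit 8) (nat_lit 0xa00030000800b400d0006800040050009000a400ea009400200050001c0070009e0042007000d200540008005800e20090005800aa000000a000a000340074)
  (Net.cons (nat_lit 16) (nat_lit 0x7000000cac00000ba8600002a3400000820000015a00000e0100000b08600002940000044e00000c0000000788000007800000025800000286800008210)
  (Net.cons (nat_lit 32) (nat_lit 0x9003c64000000000c20eca6000000000409a0a2400000000c50ae35000000000710409920000000016dc452000000000db055500000000006ce01640)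
  (Net.cons (nat_lit 64) (nat_lit 0xfed34203b50010480000000000000000d912d42aac12f0400000000000000000730e91c9511c481000000000000000005a55018319924420)
  (Net.cons (nat_lit 128) (nat_lit 0xde325a51cc1265986b35ac08c0440500000000000000000000000000000000036ae847a0362837e30634524ca5800c0)
  (Net.cons (nat_lit 256) (nat_lit 0x9a1a63150a8ae756ee53624230882f0c9a9ad008b41010000800002452400000)
  Net.nil)))))))))))))))))
noncomputable def m260l : List Net := [m260n0,m260n1,m260n2,m260n3,m260n4,m260n5,m260n6,m260n7,m260n8,m260n9]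
noncomputable abbrev m260 : ℕ → Net := lk Net.nil m260l
theorem m260ok : NetsOk 416 m260 vT := netsOk_of (by decide +kernel)
theorem m260s0 : Sat io [] (finG m260ok) := fin_sat_nil _ (k := 9) (n := 10) (by decide +kernel)
noncomputable def C261 : List (List ℕ) := [r0,r1,r2,r3,r4,r5,r6,r7,r8,r9,r10,r11,r12,r13,r14,r15,r16,r17,r18,r19,r20,r21,r22]
theorem cl262 : Clo.{u} io C261 [0,1,2,3,4,5,6,7] 416 m260 1 (mkB []) := Clo.start (by decide +kernel)
theorem imp263 : Imp.{u} io C261 C207 := Imp.of_chk (pfs := [[([],1)],[([],3)],[([],5)],[([],7)],[([],9)],[([],11)],[([],13)],[([],15)],[([],17)],[([],19)],[([],21)],[([],23)],[([],25)],[([],27)],[([],29)],[([],31)],[([],33)]]) (by decide +kernel)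
theorem der265 : Der 100 (finX 100) (cl (finG m205ok) [[6],[1,7,5,3,1,1],[0,5,0,0,5,0]]) (fun _ => Net.nil) := Der.zero (finModel m205ok).inj
noncomputable def ns266 : ℕ → Net := upd (fun _ => Net.nil) 0 (m205 6)
theorem der267 : Der 100 (finX 100) (cl (finG m205ok) [[6],[1,7,5,3,1,1],[0,5,0,0,5,0]]) ns266 := der265.add (wp_mem_cl (w := [6]) (by decide)) (rep_letter (finModel m205ok) 6) 0
noncomputable def x268 : Net := (Net.cons (nat_lit 64) (nat_lit 0xbe8056e5d5ede82d)
  (Net.cons (nat_lit 32) (nat_lit 0x5328154100000000778c0216)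
  (Net.cons (nat_lit 16) (nat_lit 0x7080000e4130000da930000d140)
  (Net.cons (nat_lit 8) (nat_lit 0xe000b000e6002e00fc00ac008300f0)
  (Net.cons (nat_lit 4) (nat_lit 0x9000a08020e000b070e0e0201010a00)
  (Net.cons (nat_lit 2) (nat_lit 0x3000330103002321122210002201220)
  (Net.cons (nat_lit 1) (nat_lit 0x11400410144500541441100001140104)
  (Net.cons (nat_lit 2) (nat_lit 0x22200020002000000002000000000000)
  (Net.cons (nat_lit 4) (nat_lit 0xa08080c0a0c08080006020000040e08)
  (Net.cons (nat_lit 8) (nat_lit 0x4000b000f4002a00f400ac00820090)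
  (Net.cons (nat_lit 16) (nat_lit 0x40200000f2840000f89000005130)
  (Net.cons (nat_lit 32) (nat_lit 0x6da855a0000000007799a310)
  (Net.cons (nat_lit 64) (nat_lit 0xbe8056e9c36dd1f8)
  Net.nil)))))))))))))
noncomputable def ns269 : ℕ → Net := upd ns266 1 x268
theorem der270 : Der 100 (finX 100) (cl (finG m205ok) [[6],[1,7,5,3,1,1],[0,5,0,0,5,0]]) ns269 := der267.add (wp_mem_cl (w := [1,7,5,3,1,1]) (by decide)) ((finModel m205ok).toIsPre.rep_word (k := 7) (w := [1,7,5,3,1,1]) (n := x268) (by decide +kernel)) 1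
noncomputable def x271 : Net := (Net.cons (nat_lit 64) (nat_lit 0xc229134dcc849af)
  (Net.cons (nat_lit 32) (nat_lit 0x2e9cfbc00000000e9a87ec5)
  (Net.cons (nat_lit 16) (nat_lit 0x153f0000e4440000761d0000720b)
  (Net.cons (nat_lit 8) (nat_lit 0x65004a00640046004500a0006400c7)
  (Net.cons (nat_lit 4) (nat_lit 0xa090c0408020900020c08010c00000a)
  (Net.cons (nat_lit 2) (nat_lit 0x33200201320000212220020201201303)
  (Net.cons (nat_lit 1) (nat_lit 0x44114001410001441400401005040100)
  (Net.cons (nat_lit 2) (nat_lit 0x2220000220002200200000000020000)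
  (Net.cons (nat_lit 4) (nat_lit 0x8000c040c000804080008000c000008)
  (Net.cons (nat_lit 8) (nat_lit 0x6400420074004600e800e8006400aa)
  (Net.cons (nat_lit 16) (nat_lit 0x19be0000f4640000761400003704)
  (Net.cons (nat_lit 32) (nat_lit 0xeebde8e0000000069a970c2)
  (Net.cons (nat_lit 64) (nat_lit 0xc22913e188017fe)
  Net.nil)))))))))))))
noncomputable def ns272 : ℕ → Net := upd ns269 2 x271
theorem der273 : Der 100 (finX 100) (cl (finG m205ok) [[6],[1,7,5,3,1,1],[0,5,0,0,5,0]]) ns272 := der270.add (wp_mem_cl (w := [0,5,0,0,5,0]) (by decide)) ((finModel m205ok).toIsPre.rep_word (k := 7) (w := [0,5,0,0,5,0]) (n := x271) (by decide +kernel)) 2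
noncomputable def x274 : Net := (Net.cons (nat_lit 64) (nat_lit 0xa858e6997256de53)
  (Net.cons (nat_lit 32) (nat_lit 0xbe42d2970000000098122c6d)
  (Net.cons (nat_lit 16) (nat_lit 0x2a50000083ec000078410000e188)
  (Net.cons (nat_lit 8) (nat_lit 0x3a00cc007100e50046005100c00000)
  (Net.cons (nat_lit 4) (nat_lit 0xc0408080c03040600010c0a0008)
  (Net.cons (nat_lit 2) (nat_lit 0x2000210102021113000032101221010)
  (Net.cons (nat_lit 1) (nat_lit 0x4101441410004415441014404011001)
  (Net.cons (nat_lit 2) (nat_lit 0x20020022000000002)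
  (Net.cons (nat_lit 4) (nat_lit 0x800060800080406060400000c00000c)
  (Net.cons (nat_lit 8) (nat_lit 0x28005e00f0004c0050005800c00000)
  (Net.cons (nat_lit 16) (nat_lit 0x8c4a0000c3c000007c400000e180)
  (Net.cons (nat_lit 32) (nat_lit 0x3652d2120000000098122444)
  (Net.cons (nat_lit 64) (nat_lit 0xa858e690727efa58)
  Net.nil)))))))))))))
noncomputable def x274s : ℕ → Net := upd ns272 3 x274
theorem der275 : Der 100 (finX 100) (cl (finG m205ok) [[6],[1,7,5,3,1,1],[0,5,0,0,5,0]]) x274s := der273.ext (k := 7) (w := [1,2,2,2,1,1,2,0]) 3 (by decide +kernel)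
noncomputable def L276 : Lev := Lev.cons 0 24 [[2],[3]] Lev.nil
noncomputable def L277 : Lev := Lev.cons 82 80 [[0],[1]] L276
theorem lc278 : Lev.chk 100 4 x274s vT 100 L277 = true := by decide +kernel
theorem lb279 : 1920 ≤ Nat.card (cl (finG m205ok) [[6],[1,7,5,3,1,1],[0,5,0,0,5,0]]) := le_of_eq_of_le (by decide +kernel) (der275.card_ge lc278)
theorem sat280 : Sat io C207 (finG m205ok) := m205s0.fin (k := 7) (by decide +kernel)
theorem ix264 : Idx.{u} io C261 [0,1,2,3,4,5,6,7] [[6],[1,7,5,3,1,1],[0,5,0,0,5,0]] 315 := (Idx.of bd258 sat280 (by decide +kernel) lb279 (by decide +kernel)).of_imp imp263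
noncomputable def lk281 : List (List ℕ × List ℕ × Pf) := [([6],[6],[([8],37)]),([1,7,5,3,1,1],[1,6,4,2,1,1],[([8],39)]),([0,5,0,0,5,0],[0,5,0,0,4,0],[([8,0,5,0,0,4,0,9],41)])]
noncomputable def O282 : ℕ := (nat_lit 0x267fe7f0fffe7ffffce7fff9fdfffc3bfdffff93ffc07fbf83ffef0effffc37defff0f79fff8fc06dc7ecbfe3b7e77ec777bdefe)
noncomputable def M283 : ℕ := (nat_lit 0x267fe7f0fffe7ffffce7fff9fdfffc3bfdffff93ffc07fbf83ffef0effffc37defff0f79fff8fc06dc7ecbfe3b7e77ec777bdeff)
noncomputable def b284 : ℕ := (nat_lit 1)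
theorem cl285 : Clo.{u} io C261 [0,1,2,3,4,5,6,7] 416 m260 M283 (mkB [(8,b284)]) := cl262.new (k := 6) (b := 8) (q := 0) (p := 1) (r := 200) (n := 315) (O := O282) (by decide +kernel) (lks := lk281) (by decide +kernel) (gens_of_lall2 (m := [[0],[1],[2]]) (by decide +kernel)) ix264 (by decide +kernel)
noncomputable def b286 : ℕ := (nat_lit 3)
noncomputable def b287 : ℕ := (nat_lit 3)
theorem cl288 : Clo.{u} io C261 [0,1,2,3,4,5,6,7] 416 m260 M283 (mkB [(8,b286),(9,b287)]) := cl285.ops (os := [Op.inv 8,Op.rel 8 [] 9 [] [([],35)],Op.inv 8]) (by decide +kernel) (by decide +kernel)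
theorem der290 : Der 100 (finX 100) (cl (finG m205ok) [[1,4,0],[7,0,0,2,4,6,4,1,1,4,1,7,1,7,5,3,1,5,0,0,5,7,5,3,1,1],[7,0,0,2,4,6,4,1,1,4,1,1,7,5,3,1,1,1,4,1,1,4,0,2,4,6,0,0,5,0,0,5,7,5,3,1,1,6]]) (fun _ => Net.nil) := Der.zero (finModel m205ok).inj
noncomputable def x291 : Net := (Net.cons (nat_lit 64) (nat_lit 0x1602a04200420028)
  (Net.cons (nat_lit 32) (nat_lit 0x512181800000000051648120)
  (Net.cons (nat_lit 16) (nat_lit 0xe00800004c500000ec000000194c)
  (Net.cons (nat_lit 8) (nat_lit 0x2000c200080004001000b80058003e)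
  (Net.cons (nat_lit 4) (nat_lit 0xd0a00040c040c070c00040b0502070e)
  (Net.cons (nat_lit 2) (nat_lit 0x22200001201232111001230031232002)
  (Net.cons (nat_lit 1) (nat_lit 0x40014100100410040010001500104444)
  (Net.cons (nat_lit 2) (nat_lit 0x20000000200220000000000000202002)
  (Net.cons (nat_lit 4) (nat_lit 0xc0a000408040c000400040800020008)
  (Net.cons (nat_lit 8) (nat_lit 0x2000c200080018001000b800580050)
  (Net.cons (nat_lit 16) (nat_lit 0xe00800004c500000ec000000194c)
  (Net.cons (nat_lit 32) (nat_lit 0x512181800000000051648120)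
  (Net.cons (nat_lit 64) (nat_lit 0x1602a04200420028)
  Net.nil)))))))))))))
noncomputable def ns292 : ℕ → Net := upd (fun _ => Net.nil) 0 x291
theorem der293 : Der 100 (finX 100) (cl (finG m205ok) [[1,4,0],[7,0,0,2,4,6,4,1,1,4,1,7,1,7,5,3,1,5,0,0,5,7,5,3,1,1],[7,0,0,2,4,6,4,1,1,4,1,1,7,5,3,1,1,1,4,1,1,4,0,2,4,6,0,0,5,0,0,5,7,5,3,1,1,6]]) ns292 := der290.add (wp_mem_cl (w := [1,4,0]) (by decide)) ((finModel m205ok).toIsPre.rep_word (k := 7) (w := [1,4,0]) (n := x291) (by decide +kernel)) 0
noncomputable def x294 : Net := (Net.cons (nat_lit 64) (nat_lit 0x80a314ebeff3351e)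
  (Net.cons (nat_lit 32) (nat_lit 0x3404566a00000000625dfe14)
  (Net.cons (nat_lit 16) (nat_lit 0x76070000a1b000001c1d0000fae8)
  (Net.cons (nat_lit 8) (nat_lit 0x60002000320039003e009e00c4001e)
  (Net.cons (nat_lit 4) (nat_lit 0xe0c04040e020802040e060f0e0e0d02)
  (Net.cons (nat_lit 2) (nat_lit 0x12001000220220300131100221223200)
  (Net.cons (nat_lit 1) (nat_lit 0x51040140110040441005101144110)
  (Net.cons (nat_lit 2) (nat_lit 0x20220200000000000200220020)
  (Net.cons (nat_lit 4) (nat_lit 0xc0804040c08080600080006020c0e0a)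
  (Net.cons (nat_lit 8) (nat_lit 0x640000005000a000260088004c0086)
  (Net.cons (nat_lit 16) (nat_lit 0x62820000a8a0000028080000d874)
  (Net.cons (nat_lit 32) (nat_lit 0x3406526a00000000735dde00)
  (Net.cons (nat_lit 64) (nat_lit 0x80a314ebedb3351e)
  Net.nil)))))))))))))
noncomputable def ns295 : ℕ → Net := upd ns292 1 x294
theorem der296 : Der 100 (finX 100) (cl (finG m205ok) [[1,4,0],[7,0,0,2,4,6,4,1,1,4,1,7,1,7,5,3,1,5,0,0,5,7,5,3,1,1],[7,0,0,2,4,6,4,1,1,4,1,1,7,5,3,1,1,1,4,1,1,4,0,2,4,6,0,0,5,0,0,5,7,5,3,1,1,6]]) ns295 := der293.add (wp_mem_cl (w := [7,0,0,2,4,6,4,1,1,4,1,7,1,7,5,3,1,5,0,0,5,7,5,3,1,1]) (by decide)) ((finModel m205ok).toIsPre.rep_word (k := 7) (w := [7,0,0,2,4,6,4,1,1,4,1,7,1,7,5,3,1,5,0,0,5,7,5,3,1,1]) (n := x294) (by decide +kernel)) 1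
noncomputable def x297 : Net := (Net.cons (nat_lit 64) (nat_lit 0x90568385935e5a3a)
  (Net.cons (nat_lit 32) (nat_lit 0x92b63a1a000000002a6d04e6)
  (Net.cons (nat_lit 16) (nat_lit 0x8012000080460000431b00001f80)
  (Net.cons (nat_lit 8) (nat_lit 0xa000b0000e004200c600ef0023006c)
  (Net.cons (nat_lit 4) (nat_lit 0xa0a0802050008000e01050e0b090a0e)
  (Net.cons (nat_lit 2) (nat_lit 0x2302200201000212202202111203232)
  (Net.cons (nat_lit 1) (nat_lit 0x10441100410001444411140114114114)
  (Net.cons (nat_lit 2) (nat_lit 0x202200220002222002200002200000)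
  (Net.cons (nat_lit 4) (nat_lit 0x80e00000c0408000000040a0e08080e)
  (Net.cons (nat_lit 8) (nat_lit 0x300020000e00c000e6008a003800b6)
  (Net.cons (nat_lit 16) (nat_lit 0x921400008004000047320000ec80)
  (Net.cons (nat_lit 32) (nat_lit 0x82b2399800000000094430c6)
  (Net.cons (nat_lit 64) (nat_lit 0x905683868276e0aa)
  Net.nil)))))))))))))
noncomputable def ns298 : ℕ → Net := upd ns295 2 x297
theorem der299 : Der 100 (finX 100) (cl (finG m205ok) [[1,4,0],[7,0,0,2,4,6,4,1,1,4,1,7,1,7,5,3,1,5,0,0,5,7,5,3,1,1],[7,0,0,2,4,6,4,1,1,4,1,1,7,5,3,1,1,1,4,1,1,4,0,2,4,6,0,0,5,0,0,5,7,5,3,1,1,6]]) ns298 := der296.add (wp_mem_cl (w := [7,0,0,2,4,6,4,1,1,4,1,1,7,5,3,1,1,1,4,1,1,4,0,2,4,6,0,0,5,0,0,5,7,5,3,1,1,6]) (by decide)) ((finModel m205ok).toIsPre.rep_word (k := 7) (w := [7,0,0,2,4,6,4,1,1,4,1,1,7,5,3,1,1,1,4,1,1,4,0,2,4,6,0,0,5,0,0,5,7,5,3,1,1,6]) (n := x297) (by decide +kernel)) 2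
noncomputable def x300 : Net := (Net.cons (nat_lit 64) (nat_lit 0x22cf86acb65d3f10)
  (Net.cons (nat_lit 32) (nat_lit 0x202322c400000000309bdb5e)
  (Net.cons (nat_lit 16) (nat_lit 0x84a10000ff3a00009625000024a0)
  (Net.cons (nat_lit 8) (nat_lit 0x8e000200aa00d00083001000200028)
  (Net.cons (nat_lit 4) (nat_lit 0x2060206080d0208030d0b040c000004)
  (Net.cons (nat_lit 2) (nat_lit 0x2200023301003122210330321300110)
  (Net.cons (nat_lit 1) (nat_lit 0x4400004400104440101101111101400)
  (Net.cons (nat_lit 2) (nat_lit 0x200002000202020202200220200000)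
  (Net.cons (nat_lit 4) (nat_lit 0x800000800040204080c0a060c000000)
  (Net.cons (nat_lit 8) (nat_lit 0x2c000000b800da0018000000000060)
  (Net.cons (nat_lit 16) (nat_lit 0xa62c0000e8b400008e24000025f0)
  (Net.cons (nat_lit 32) (nat_lit 0x20a6a2c0000000002cabca1e)
  (Net.cons (nat_lit 64) (nat_lit 0x22cf86a80b74e600)
  Net.nil)))))))))))))
noncomputable def x300s : ℕ → Net := upd ns298 3 x300
theorem der301 : Der 100 (finX 100) (cl (finG m205ok) [[1,4,0],[7,0,0,2,4,6,4,1,1,4,1,7,1,7,5,3,1,5,0,0,5,7,5,3,1,1],[7,0,0,2,4,6,4,1,1,4,1,1,7,5,3,1,1,1,4,1,1,4,0,2,4,6,0,0,5,0,0,5,7,5,3,1,1,6]]) x300s := der299.ext (k := 7) (w := [2,1,0,2,0,2,2,0,1,2,0,2]) 3 (by decide +kernel)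
noncomputable def L302 : Lev := Lev.cons 1 3 [[1]] Lev.nil
noncomputable def L303 : Lev := Lev.cons 54 32 [[0],[3]] L302
noncomputable def L304 : Lev := Lev.cons 62 63 [[2]] L303
theorem lc305 : Lev.chk 100 4 x300s vT 100 L304 = true := by decide +kernel
theorem lb306 : 6048 ≤ Nat.card (cl (finG m205ok) [[1,4,0],[7,0,0,2,4,6,4,1,1,4,1,7,1,7,5,3,1,5,0,0,5,7,5,3,1,1],[7,0,0,2,4,6,4,1,1,4,1,1,7,5,3,1,1,1,4,1,1,4,0,2,4,6,0,0,5,0,0,5,7,5,3,1,1,6]]) := le_of_eq_of_le (by decide +kernel) (der301.card_ge lc305)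
theorem ix289 : Idx.{u} io C261 [0,1,2,3,4,5,6,7] [[1,4,0],[7,0,0,2,4,6,4,1,1,4,1,7,1,7,5,3,1,5,0,0,5,7,5,3,1,1],[7,0,0,2,4,6,4,1,1,4,1,1,7,5,3,1,1,1,4,1,1,4,0,2,4,6,0,0,5,0,0,5,7,5,3,1,1,6]] 100 := (Idx.of bd258 sat280 (by decide +kernel) lb306 (by decide +kernel)).of_imp imp263
noncomputable def lk307 : List (List ℕ × List ℕ × Pf) := [([1,4,0],[0,8,4,0,0,6,0,4,2,0,4,0,0,0,2,0,9,1],[([8,0,8],43)]),([7],[7],[([8,7],36)]),([0,0,2,4,6,0],[0,0,3,5,7,0],[([8,0,0,3,5,7,0],38)]),([1,4,1,1,4,1],[1,5,1,1,4,1],[([],40)]),([1,7,5,3,1,1],[1,6,4,2,1,1],[([8],39)]),([0,5,0,0,5,0],[0,5,0,0,4,0],[([8,0,5,0,0,4,0,9],41)]),([6],[6],[([8],37)])]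
noncomputable def O308 : ℕ := (nat_lit 0xd980180f0001800003180006020003c40200006c003f80407c0010f100003c821000f086000703f923813401c481881388842100)
noncomputable def M309 : ℕ := (nat_lit 0xffffffffffffffffffffffffffffffffffffffffffffffffffffffffffffffffffffffffffffffffffffffffffffffffffffffff)
noncomputable def b310 : ℕ := (nat_lit 7)
theorem cl311 : Clo.{u} io C261 [0,1,2,3,4,5,6,7] 416 m260 M309 (mkB [(8,b310),(9,b287)]) := cl288.new (k := 6) (b := 8) (q := 2) (p := 8) (r := 200) (n := 100) (O := O308) (by decide +kernel) (lks := lk307) (by decide +kernel) (gens_of_lall2 (m := [[0],[1,2,3,1,4,5,4],[1,2,3,4,3,2,5,4,6]]) (by decide +kernel)) ix289 (by decide +kernel)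
noncomputable def b312 : ℕ := (nat_lit 0xffffffffffffffffffffffffffffffffffffffffffffffffffffffffffffffffffffffffffffffffffffffffffffffffffffffff)
noncomputable def b313 : ℕ := (nat_lit 0xffffffffffffffffffffffffffffffffffffffffffffffffffffffffffffffffffffffffffffffffffffffffffffffffffffffff)
theorem cl314 : Clo.{u} io C261 [0,1,2,3,4,5,6,7] 416 m260 M309 (mkB [(8,b312),(9,b313)]) := cl311.ops (os := [Op.ext 8 4 [([6],[6],[([8],37)]),([7],[7],[([8,7],36)]),([1,7,5,3,1,1],[1,6,4,2,1,1],[([8],39)]),([0,0,2,4,6,0],[0,0,3,5,7,0],[([8,0,0,3,5,7,0],38)]),([0,5,0,0,5,0],[0,5,0,0,4,0],[([8,0,5,0,0,4,0,9],41)]),([1,4,1,1,4,1],[1,5,1,1,4,1],[([],40)])],Op.inv 8,Op.rel 8 [] 9 [] [([],35)],Op.inv 8,Op.rel 9 [1,1,1,3,0,3,1,1,3,5,1,1,5,7,0] 9 [1,7,9,0,9,0,0,8,4,0] [([9,1,7,9,0,9,0,0,8,4,0,8],45)],Op.ext 9 3 [([7],[7],[([9,7,8],37)]),([6],[6],[([],36)]),([0,0,3,5,7,0],[0,0,2,4,6,0],[([9,0,0,2,4,6,0,8],39)]),([1,6,4,2,1,1],[1,7,5,3,1,1],[([],38)]),([1,5,1,1,4,1],[1,4,1,1,4,1],[([9],41)]),([0,5,0,0,4,0],[0,5,0,0,5,0],[([9,0,5,0,0,5,0],40)])],Op.inv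 9,Op.rel 9 [1,3,1,1,1,5,1,3,5,1,7,1,1,5] 9 [1,9,1,5,0,8,0] [([9,1,9,1,5,0,8,0,8],43)],Op.ext 9 2 [([7],[7],[([9,7,8],37)]),([6],[6],[([],36)]),([0,0,3,5,7,0],[0,0,2,4,6,0],[([9,0,0,2,4,6,0,8],39)]),([1,6,4,2,1,1],[1,7,5,3,1,1],[([],38)]),([1,5,1,1,4,1],[1,4,1,1,4,1],[([9],41)]),([0,5,0,0,4,0],[0,5,0,0,5,0],[([9,0,5,0,0,5,0],40)])],Op.inv 9]) (by decide +kernel) (by decide +kernel)
theorem sat316 : Sat io C261 (finG m260ok) := m260s0.fin (k := 9) (by decide +kernel)
theorem bd315 : Bound.{u} io C261 [0,1,2,3,4,5,6,7,8,9] 251596800 := cl314.bound (by decide +kernel) sat316 (bd258.of_imp imp263)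
abbrev GG : Type := ↥(cl (finG m2ok) (lw [0,1,2,3,4,5,6,7,8,9]))
theorem allG : ∀ l, finG m2ok l ∈ (cl (finG m2ok) (lw [0,1,2,3,4,5,6,7,8,9])) := finG_mem_all _ (by decide +kernel)

end Cfsg.Agent.H6.Cl.G24
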