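import Cfsg.Agent.H6.ClI5
set_option maxRecDepth 100000
set_option Elab.async false
namespace Cfsg.Agent.H6.Cl.G24
open Cfsg.Agent.H6
universe u

theorem cv749 : wp (finG m740ok) [0,0,0,0,0,0,0] ∈ cl (finG m740ok) us741 := mem_cl_of_eqv (eqv_of_faith (finModel m740ok) (faith_fin 8064) 13) (R := [[0,0,0,0,0,0,0]]) (sl := [[]]) (by decide +kernel) _ (List.mem_singleton_self _)
theorem cv750 : wp (finG m740ok) [2,2] ∈ cl (finG m740ok) us741 := mem_cl_of_eqv (eqv_of_faith (finModel m740ok) (faith_fin 8064) 13) (R := [[2,2]]) (sl := [[]]) (by decide +kernel) _ (List.mem_singleton_self _)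
theorem cv751 : wp (finG m740ok) [2,0,2,0,2,0,2,0] ∈ cl (finG m740ok) us741 := mem_cl_of_eqv (eqv_of_faith (finModel m740ok) (faith_fin 8064) 13) (R := [[2,0,2,0,2,0,2,0]]) (sl := [[]]) (by decide +kernel) _ (List.mem_singleton_self _)
theorem cv752 : wp (finG m740ok) [2,0,0,2,0,0,2,0,0] ∈ cl (finG m740ok) us741 := mem_cl_of_eqv (eqv_of_faith (finModel m740ok) (faith_fin 8064) 13) (R := [[2,0,0,2,0,0,2,0,0]]) (sl := [[]]) (by decide +kernel) _ (List.mem_singleton_self _)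
theorem cv753 : wp (finG m740ok) [3,1,1,1,3,0,3,0,2,1,2,0,0,0,2,1,1] ∈ cl (finG m740ok) us741 := mem_cl_of_eqv (eqv_of_faith (finModel m740ok) (faith_fin 8064) 13) (R := [[3,1,1,1,3,0,3,0,2,1,2,0,0,0,2,1,1]]) (sl := [[]]) (by decide +kernel) _ (List.mem_singleton_self _)
theorem cv754 : wp (finG m740ok) [4,4] ∈ cl (finG m740ok) us741 := mem_cl_of_eqv (eqv_of_faith (finModel m740ok) (faith_fin 8064) 13) (R := [[4,4]]) (sl := [[]]) (by decide +kernel) _ (List.mem_singleton_self _)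
theorem cv755 : wp (finG m740ok) [5,2,4,3] ∈ cl (finG m740ok) us741 := mem_cl_of_eqv (eqv_of_faith (finModel m740ok) (faith_fin 8064) 13) (R := [[5,2,4,3]]) (sl := [[]]) (by decide +kernel) _ (List.mem_singleton_self _)
theorem cv756 : wp (finG m740ok) [4,0,3,0,0,0,2,0,5,1,3,1,1,1,3,1] ∈ cl (finG m740ok) us741 := mem_cl_of_eqv (eqv_of_faith (finModel m740ok) (faith_fin 8064) 13) (R := [[4,0,3,0,0,0,2,0,5,1,3,1,1,1,3,1]]) (sl := [[]]) (by decide +kernel) _ (List.mem_singleton_self _)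
theorem cv757 : wp (finG m740ok) [5,1,3,0,3,1,2,0,4,1,1,1,3,1,3,0,0,3] ∈ cl (finG m740ok) us741 := mem_cl_of_eqv (eqv_of_faith (finModel m740ok) (faith_fin 8064) 13) (R := [[5,1,3,0,3,1,2,0,4,1,1,1,3,1,3,0,0,3]]) (sl := [[]]) (by decide +kernel) _ (List.mem_singleton_self _)
theorem cv758 : wp (finG m740ok) [5,1,5,1,2,4,0,4,0,3] ∈ cl (finG m740ok) us741 := mem_cl_of_eqv (eqv_of_faith (finModel m740ok) (faith_fin 8064) 13) (R := [[5,1,5,1,2,4,0,4,0,3]]) (sl := [[]]) (by decide +kernel) _ (List.mem_singleton_self _)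
theorem cv759 : wp (finG m740ok) [5,1,1,1,3,4,0,0,0,4,1,1,1,3,0,0,0] ∈ cl (finG m740ok) us741 := mem_cl_of_eqv (eqv_of_faith (finModel m740ok) (faith_fin 8064) 13) (R := [[5,1,1,1,3,4,0,0,0,4,1,1,1,3,0,0,0]]) (sl := [[]]) (by decide +kernel) _ (List.mem_singleton_self _)
theorem cv760 : wp (finG m740ok) [6,6] ∈ cl (finG m740ok) us741 := mem_cl_of_eqv (eqv_of_faith (finModel m740ok) (faith_fin 8064) 13) (R := [[6,6]]) (sl := [[0]]) (by decide +kernel) _ (List.mem_singleton_self _)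
theorem cv761 : wp (finG m740ok) [6,1,4,6,1,4,6,1,4] ∈ cl (finG m740ok) us741 := mem_cl_of_eqv (eqv_of_faith (finModel m740ok) (faith_fin 8064) 13) (R := [[6,1,4,6,1,4,6,1,4]]) (sl := [[]]) (by decide +kernel) _ (List.mem_singleton_self _)
theorem cv762 : wp (finG m740ok) [7,2,6,3] ∈ cl (finG m740ok) us741 := mem_cl_of_eqv (eqv_of_faith (finModel m740ok) (faith_fin 8064) 13) (R := [[7,2,6,3]]) (sl := [[]]) (by decide +kernel) _ (List.mem_singleton_self _)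
theorem cv763 : wp (finG m740ok) [7,0,5,0,0,4,6,0,3,0,3,1,5,1,5,0] ∈ cl (finG m740ok) us741 := mem_cl_of_eqv (eqv_of_faith (finModel m740ok) (faith_fin 8064) 13) (R := [[7,0,5,0,0,4,6,0,3,0,3,1,5,1,5,0]]) (sl := [[]]) (by decide +kernel) _ (List.mem_singleton_self _)
theorem cv764 : wp (finG m740ok) [7,1,1,1,2,0,4,6,3,1,1,1,3,0,3,5] ∈ cl (finG m740ok) us741 := mem_cl_of_eqv (eqv_of_faith (finModel m740ok) (faith_fin 8064) 13) (R := [[7,1,1,1,2,0,4,6,3,1,1,1,3,0,3,5]]) (sl := [[0]]) (by decide +kernel) _ (List.mem_singleton_self _)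
theorem cv765 : wp (finG m740ok) [7,1,7,1,5,0,6,0,6,5] ∈ cl (finG m740ok) us741 := mem_cl_of_eqv (eqv_of_faith (finModel m740ok) (faith_fin 8064) 13) (R := [[7,1,7,1,5,0,6,0,6,5]]) (sl := [[]]) (by decide +kernel) _ (List.mem_singleton_self _)
theorem cv766 : wp (finG m740ok) [8,8] ∈ cl (finG m740ok) us741 := mem_cl_of_eqv (eqv_of_faith (finModel m740ok) (faith_fin 8064) 13) (R := [[8,8]]) (sl := [[]]) (by decide +kernel) _ (List.mem_singleton_self _)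
theorem cv767 : wp (finG m740ok) [9,6,8,7] ∈ cl (finG m740ok) us741 := mem_cl_of_eqv (eqv_of_faith (finModel m740ok) (faith_fin 8064) 13) (R := [[9,6,8,7]]) (sl := [[]]) (by decide +kernel) _ (List.mem_singleton_self _)
theorem cv768 : wp (finG m740ok) [9,1,7,5,3,1,1,8,0,0,3,5,7,0] ∈ cl (finG m740ok) us741 := mem_cl_of_eqv (eqv_of_faith (finModel m740ok) (faith_fin 8064) 13) (R := [[9,1,7,5,3,1,1,8,0,0,3,5,7,0]]) (sl := [[0]]) (by decide +kernel) _ (List.mem_singleton_self _)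
theorem cv769 : wp (finG m740ok) [8,1,5,1,1,4,1,9,0,5,0,0,5,0] ∈ cl (finG m740ok) us741 := mem_cl_of_eqv (eqv_of_faith (finModel m740ok) (faith_fin 8064) 13) (R := [[8,1,5,1,1,4,1,9,0,5,0,0,5,0]]) (sl := [[]]) (by decide +kernel) _ (List.mem_singleton_self _)
theorem cv770 : wp (finG m740ok) [9,1,9,1,4,0,8,0,8,1,3,1,1,1,5,1,3,5,1,7,1,1,5] ∈ cl (finG m740ok) us741 := mem_cl_of_eqv (eqv_of_faith (finModel m740ok) (faith_fin 8064) 13) (R := [[9,1,9,1,4,0,8,0,8,1,3,1,1,1,5,1,3,5,1,7,1,1,5]]) (sl := [[]]) (by decide +kernel) _ (List.mem_singleton_self _)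
theorem cv771 : wp (finG m740ok) [9,1,5,9,1,1,8,1,8,6,0,8,1,1,1,3,0,3,1,1,3,5,1,1,5,7,0] ∈ cl (finG m740ok) us741 := mem_cl_of_eqv (eqv_of_faith (finModel m740ok) (faith_fin 8064) 13) (R := [[9,1,5,9,1,1,8,1,8,6,0,8,1,1,1,3,0,3,1,1,3,5,1,1,5,7,0]]) (sl := [[]]) (by decide +kernel) _ (List.mem_singleton_self _)

end Cfsg.Agent.H6.Cl.G24
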