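import Cfsg.Agent.H6.ClI6
set_option maxRecDepth 100000
set_option Elab.async false
namespace Cfsg.Agent.H6.Cl.G24
open Cfsg.Agent.H6
universe u

theorem cv772 : ∀ r ∈ C261, wp (finG m740ok) r ∈ cl (finG m740ok) us741 := (List.forall_mem_cons.2 ⟨cv749, (List.forall_mem_cons.2 ⟨cv750, (List.forall_mem_cons.2 ⟨cv751, (List.forall_mem_cons.2 ⟨cv752, (List.forall_mem_cons.2 ⟨cv753, (List.forall_mem_cons.2 ⟨cv754, (List.forall_mem_cons.2 ⟨cv755, (List.forall_mem_cons.2 ⟨cv756, (List.forall_mem_cons.2 ⟨cv757, (List.forall_mem_cons.2 ⟨cv758, (List.forall_mem_cons.2 ⟨cv759, (List.forall_mem_cons.2 ⟨cv760, (List.forall_mem_cons.2 ⟨cv761, (List.forall_mem_cons.2 ⟨cv762, (List.forall_mem_cons.2 ⟨cv763, (List.forall_mem_cons.2 ⟨cv764, (List.forall_mem_cons.2 ⟨cv765, (List.forall_mem_cons.2 ⟨cv766,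 (List.forall_mem_cons.2 ⟨cv767, (List.forall_mem_cons.2 ⟨cv768, (List.forall_mem_cons.2 ⟨cv769, (List.forall_mem_cons.2 ⟨cv770, (List.forall_mem_cons.2 ⟨cv771, (by simp)⟩)⟩)⟩)⟩)⟩)⟩)⟩)⟩)⟩)⟩)⟩)⟩)⟩)⟩)⟩)⟩)⟩)⟩)⟩)⟩)⟩)⟩)⟩)
theorem cv773 : finG m740ok 9 * wp (finG m740ok) [0,0,6,1,1,7,0,0,6,1,1,7,0,0,6,1,1,7,0,0,6,1,1,7,0,0,6,1,1,7,0,0,6,1,1,7,0,0,6,1,1,7] = wp (finG m740ok) [0,0,6,1,1,7,0,0,6,1,1,7,0,0,6,1,1,7,0,0,6,1,1,7,0,0,6,1,1,7,0,0,6,1,1,7,0,0,6,1,1,7] * finG m740ok 9 := comm_of_eqv' (eqv_of_faith (finModel m740ok) (faith_fin 8064) 13) (us := [[0,0,6,1,1,7,0,0,6,1,1,7,0,0,6,1,1,7,0,0,6,1,1,7,0,0,6,1,1,7,0,0,6,1,1,7,0,0,6,1,1,7]]) (kl := [9]) (by decide +kernel) _ (List.mem_singleton_self _) _ (List.mem_singleton_self _)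
theorem cv774 : finG m740ok 8 * wp (finG m740ok) [0,0,6,1,1,7,0,0,6,1,1,7,0,0,6,1,1,7,0,0,6,1,1,7,0,0,6,1,1,7,0,0,6,1,1,7,0,0,6,1,1,7] = wp (finG m740ok) [0,0,6,1,1,7,0,0,6,1,1,7,0,0,6,1,1,7,0,0,6,1,1,7,0,0,6,1,1,7,0,0,6,1,1,7,0,0,6,1,1,7] * finG m740ok 8 := comm_of_eqv' (eqv_of_faith (finModel m740ok) (faith_fin 8064) 13) (us := [[0,0,6,1,1,7,0,0,6,1,1,7,0,0,6,1,1,7,0,0,6,1,1,7,0,0,6,1,1,7,0,0,6,1,1,7,0,0,6,1,1,7]]) (kl := [8]) (by decide +kernel) _ (List.mem_singleton_self _) _ (List.mem_singleton_self _)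
theorem cv775 : finG m740ok 7 * wp (finG m740ok) [0,0,6,1,1,7,0,0,6,1,1,7,0,0,6,1,1,7,0,0,6,1,1,7,0,0,6,1,1,7,0,0,6,1,1,7,0,0,6,1,1,7] = wp (finG m740ok) [0,0,6,1,1,7,0,0,6,1,1,7,0,0,6,1,1,7,0,0,6,1,1,7,0,0,6,1,1,7,0,0,6,1,1,7,0,0,6,1,1,7] * finG m740ok 7 := comm_of_eqv' (eqv_of_faith (finModel m740ok) (faith_fin 8064) 13) (us := [[0,0,6,1,1,7,0,0,6,1,1,7,0,0,6,1,1,7,0,0,6,1,1,7,0,0,6,1,1,7,0,0,6,1,1,7,0,0,6,1,1,7]]) (kl := [7]) (by decide +kernel) _ (List.mem_singleton_self _) _ (List.mem_singleton_self _)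
theorem cv776 : finG m740ok 6 * wp (finG m740ok) [0,0,6,1,1,7,0,0,6,1,1,7,0,0,6,1,1,7,0,0,6,1,1,7,0,0,6,1,1,7,0,0,6,1,1,7,0,0,6,1,1,7] = wp (finG m740ok) [0,0,6,1,1,7,0,0,6,1,1,7,0,0,6,1,1,7,0,0,6,1,1,7,0,0,6,1,1,7,0,0,6,1,1,7,0,0,6,1,1,7] * finG m740ok 6 := comm_of_eqv' (eqv_of_faith (finModel m740ok) (faith_fin 8064) 13) (us := [[0,0,6,1,1,7,0,0,6,1,1,7,0,0,6,1,1,7,0,0,6,1,1,7,0,0,6,1,1,7,0,0,6,1,1,7,0,0,6,1,1,7]]) (kl := [6]) (by decide +kernel) _ (List.mem_singleton_self _) _ (List.mem_singleton_self _)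
theorem cv777 : finG m740ok 5 * wp (finG m740ok) [0,0,6,1,1,7,0,0,6,1,1,7,0,0,6,1,1,7,0,0,6,1,1,7,0,0,6,1,1,7,0,0,6,1,1,7,0,0,6,1,1,7] = wp (finG m740ok) [0,0,6,1,1,7,0,0,6,1,1,7,0,0,6,1,1,7,0,0,6,1,1,7,0,0,6,1,1,7,0,0,6,1,1,7,0,0,6,1,1,7] * finG m740ok 5 := comm_of_eqv' (eqv_of_faith (finModel m740ok) (faith_fin 8064) 13) (us := [[0,0,6,1,1,7,0,0,6,1,1,7,0,0,6,1,1,7,0,0,6,1,1,7,0,0,6,1,1,7,0,0,6,1,1,7,0,0,6,1,1,7]]) (kl := [5]) (by decide +kernel) _ (List.mem_singleton_self _) _ (List.mem_singleton_self _)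
theorem cv778 : finG m740ok 4 * wp (finG m740ok) [0,0,6,1,1,7,0,0,6,1,1,7,0,0,6,1,1,7,0,0,6,1,1,7,0,0,6,1,1,7,0,0,6,1,1,7,0,0,6,1,1,7] = wp (finG m740ok) [0,0,6,1,1,7,0,0,6,1,1,7,0,0,6,1,1,7,0,0,6,1,1,7,0,0,6,1,1,7,0,0,6,1,1,7,0,0,6,1,1,7] * finG m740ok 4 := comm_of_eqv' (eqv_of_faith (finModel m740ok) (faith_fin 8064) 13) (us := [[0,0,6,1,1,7,0,0,6,1,1,7,0,0,6,1,1,7,0,0,6,1,1,7,0,0,6,1,1,7,0,0,6,1,1,7,0,0,6,1,1,7]]) (kl := [4]) (by decide +kernel) _ (List.mem_singleton_self _) _ (List.mem_singleton_self _)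
theorem cv779 : finG m740ok 3 * wp (finG m740ok) [0,0,6,1,1,7,0,0,6,1,1,7,0,0,6,1,1,7,0,0,6,1,1,7,0,0,6,1,1,7,0,0,6,1,1,7,0,0,6,1,1,7] = wp (finG m740ok) [0,0,6,1,1,7,0,0,6,1,1,7,0,0,6,1,1,7,0,0,6,1,1,7,0,0,6,1,1,7,0,0,6,1,1,7,0,0,6,1,1,7] * finG m740ok 3 := comm_of_eqv' (eqv_of_faith (finModel m740ok) (faith_fin 8064) 13) (us := [[0,0,6,1,1,7,0,0,6,1,1,7,0,0,6,1,1,7,0,0,6,1,1,7,0,0,6,1,1,7,0,0,6,1,1,7,0,0,6,1,1,7]]) (kl := [3]) (by decide +kernel) _ (List.mem_singleton_self _) _ (List.mem_singleton_self _)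
theorem cv780 : finG m740ok 2 * wp (finG m740ok) [0,0,6,1,1,7,0,0,6,1,1,7,0,0,6,1,1,7,0,0,6,1,1,7,0,0,6,1,1,7,0,0,6,1,1,7,0,0,6,1,1,7] = wp (finG m740ok) [0,0,6,1,1,7,0,0,6,1,1,7,0,0,6,1,1,7,0,0,6,1,1,7,0,0,6,1,1,7,0,0,6,1,1,7,0,0,6,1,1,7] * finG m740ok 2 := comm_of_eqv' (eqv_of_faith (finModel m740ok) (faith_fin 8064) 13) (us := [[0,0,6,1,1,7,0,0,6,1,1,7,0,0,6,1,1,7,0,0,6,1,1,7,0,0,6,1,1,7,0,0,6,1,1,7,0,0,6,1,1,7]]) (kl := [2]) (by decide +kernel) _ (List.mem_singleton_self _) _ (List.mem_singleton_self _)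
theorem cv781 : finG m740ok 1 * wp (finG m740ok) [0,0,6,1,1,7,0,0,6,1,1,7,0,0,6,1,1,7,0,0,6,1,1,7,0,0,6,1,1,7,0,0,6,1,1,7,0,0,6,1,1,7] = wp (finG m740ok) [0,0,6,1,1,7,0,0,6,1,1,7,0,0,6,1,1,7,0,0,6,1,1,7,0,0,6,1,1,7,0,0,6,1,1,7,0,0,6,1,1,7] * finG m740ok 1 := comm_of_eqv' (eqv_of_faith (finModel m740ok) (faith_fin 8064) 13) (us := [[0,0,6,1,1,7,0,0,6,1,1,7,0,0,6,1,1,7,0,0,6,1,1,7,0,0,6,1,1,7,0,0,6,1,1,7,0,0,6,1,1,7]]) (kl := [1]) (by decide +kernel) _ (List.mem_singleton_self _) _ (List.mem_singleton_self _)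
theorem cv782 : finG m740ok 0 * wp (finG m740ok) [0,0,6,1,1,7,0,0,6,1,1,7,0,0,6,1,1,7,0,0,6,1,1,7,0,0,6,1,1,7,0,0,6,1,1,7,0,0,6,1,1,7] = wp (finG m740ok) [0,0,6,1,1,7,0,0,6,1,1,7,0,0,6,1,1,7,0,0,6,1,1,7,0,0,6,1,1,7,0,0,6,1,1,7,0,0,6,1,1,7] * finG m740ok 0 := comm_of_eqv' (eqv_of_faith (finModel m740ok) (faith_fin 8064) 13) (us := [[0,0,6,1,1,7,0,0,6,1,1,7,0,0,6,1,1,7,0,0,6,1,1,7,0,0,6,1,1,7,0,0,6,1,1,7,0,0,6,1,1,7]]) (kl := [0]) (by decide +kernel) _ (List.mem_singleton_self _) _ (List.mem_singleton_self _)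
theorem rl783 : ∀ r ∈ us741, wp gG r = 1 := rels_of_eqv heqG (by decide +kernel)
theorem cov : HasCov GG 2 := HasCov.of satG m740s0 bd315 (le_of_eq_of_le (by norm_num) cardG.ge) (top_of_card cardG lb724) (cs := [([0,0],[6],7)]) (us := us741) (by decide +kernel) (by decide +kernel) rl783 (List.forall_mem_cons.2 ⟨(List.forall_mem_cons.2 ⟨cv782, (List.forall_mem_cons.2 ⟨cv781, (List.forall_mem_cons.2 ⟨cv780, (List.forall_mem_cons.2 ⟨cv779, (List.forall_mem_cons.2 ⟨cv778, (List.forall_mem_cons.2 ⟨cv777, (List.forall_mem_cons.2 ⟨cv776, (List.forall_mem_cons.2 ⟨cv775, (List.forall_mem_cons.2 ⟨cv774, (List.forall_mem_cons.2 ⟨cv773, (by simp)⟩)⟩)⟩)⟩)⟩)⟩)⟩)⟩)⟩)⟩), (by simp)⟩) cv772 lb748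
theorem schur : HasCyclicSchurMultiplier GG 2 := hasCyc_of (a := 1) (b := 0) (pm2.mono (by norm_num)) (pm3.mono (by norm_num)) (PM.ge5 cardG (fl := [2,2,2,2,2,2,2,2,2,2,2,2,3,3,3,5,5,7,13]) (l := [5]) (List.forall_mem_cons.2 ⟨pm5, (by simp)⟩) (by decide +kernel)) cov (by norm_num)

end Cfsg.Agent.H6.Cl.G24
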