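import Cfsg.Agent.H6.Sch8
import Cfsg.Agent.S1163
set_option maxRecDepth 100000
set_option Elab.async false
namespace Cfsg.Agent.H6.Cl.Sz8
open Cfsg.Agent.H6
universe u

noncomputable def il : List ℕ := [1,0,3,2,5,4]
noncomputable abbrev io : ℕ → ℕ := iota il
noncomputable def C1 : List (List ℕ) := []
noncomputable def m2n0 : Net := (Net.cons (nat_lit 40) (nat_lit 0x3572b0114c)
  (Net.cons (nat_lit 20) (nat_lit 0x52a9d00000c100e)
  (Net.cons (nat_lit 10) (nat_lit 0x18000bf0034e002d4)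
  (Net.cons (nat_lit 5) (nat_lit 0x181504c080180001012)
  (Net.cons (nat_lit 1) (nat_lit 0x10000100000000a0)
  (Net.cons (nat_lit 1) (nat_lit 0x280a500020000002942)
  (Net.cons (nat_lit 1) (nat_lit 0x10a52100409081214a4)
  (Net.cons (nat_lit 1) (nat_lit 0x1284a52048109024094a)
  (Net.cons (nat_lit 1) (nat_lit 0x20025080210100528000)
  (Net.cons (nat_lit 5) (nat_lit 0x140400c0180806008)
  (Net.cons (nat_lit 10) (nat_lit 0x18a0009e003460001c)
  (Net.cons (nat_lit 20) (nat_lit 0x47d980000089006)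
  (Net.cons (nat_lit 40) (nat_lit 0x35737818f4)
  Net.nil)))))))))))))
noncomputable def m2n1 : Net := (Net.cons (nat_lit 40) (nat_lit 0xce055d07ba)
  (Net.cons (nat_lit 20) (nat_lit 0x894c500000b5494)
  (Net.cons (nat_lit 10) (nat_lit 0x361001200037000126)
  (Net.cons (nat_lit 5) (nat_lit 0x81f040010100202c00)
  (Net.cons (nat_lit 1) (nat_lit 0x1001000a00000000000)
  (Net.cons (nat_lit 1) (nat_lit 0x2942409404004800800)
  (Net.cons (nat_lit 1) (nat_lit 0x14a4290a02908501400)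
  (Net.cons (nat_lit 1) (nat_lit 0x284a129421210200802)
  (Net.cons (nat_lit 1) (nat_lit 0x405000a129080210a0)
  (Net.cons (nat_lit 5) (nat_lit 0x80a0000a0401202006)
  (Net.cons (nat_lit 10) (nat_lit 0x360001120036400120)
  (Net.cons (nat_lit 20) (nat_lit 0xc54820000095210)
  (Net.cons (nat_lit 40) (nat_lit 0xce0420f9b0)
  Net.nil)))))))))))))
noncomputable def m2n2 : Net := (Net.cons (nat_lit 40) (nat_lit 0xd79bb493be)
  (Net.cons (nat_lit 20) (nat_lit 0xc99fd0000054e90)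
  (Net.cons (nat_lit 10) (nat_lit 0x20600115002d9003ac)
  (Net.cons (nat_lit 5) (nat_lit 0x30070701006c0400412)
  (Net.cons (nat_lit 1) (nat_lit 0x42000000000)
  (Net.cons (nat_lit 1) (nat_lit 0x4080a5000a40048)
  (Net.cons (nat_lit 1) (nat_lit 0x1081214a52940428084)
  (Net.cons (nat_lit 1) (nat_lit 0x1094a1094a1080a1010a)
  (Net.cons (nat_lit 1) (nat_lit 0x10a1014a001000290a0)
  (Net.cons (nat_lit 5) (nat_lit 0x1014040100200000000)
  (Net.cons (nat_lit 10) (nat_lit 0x33a000800021a0038c)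
  (Net.cons (nat_lit 20) (nat_lit 0x4e8540000054ac0)
  (Net.cons (nat_lit 40) (nat_lit 0xd79a043e10)
  Net.nil)))))))))))))
noncomputable def m2n3 : Net := (Net.cons (nat_lit 40) (nat_lit 0x64e57cb91e)
  (Net.cons (nat_lit 20) (nat_lit 0x1d29400000e4c30)
  (Net.cons (nat_lit 10) (nat_lit 0x1a1001a2001fc0006c)
  (Net.cons (nat_lit 5) (nat_lit 0x8150640a0000704016)
  (Net.cons (nat_lit 1) (nat_lit 0x1010000000400000)
  (Net.cons (nat_lit 1) (nat_lit 0x802028000084a0004a)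
  (Net.cons (nat_lit 1) (nat_lit 0x100501485094a5010a4)
  (Net.cons (nat_lit 1) (nat_lit 0x1200a42902128420214a)
  (Net.cons (nat_lit 1) (nat_lit 0x10a40100409024000a0)
  (Net.cons (nat_lit 5) (nat_lit 0x1c060140200004000)
  (Net.cons (nat_lit 10) (nat_lit 0x130000b20016000008)
  (Net.cons (nat_lit 20) (nat_lit 0x794880000065ca4)
  (Net.cons (nat_lit 40) (nat_lit 0x64e5a81410)
  Net.nil)))))))))))))
noncomputable def m2n4 : Net := (Net.cons (nat_lit 40) (nat_lit 0x43d8b76606)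
  (Net.cons (nat_lit 20) (nat_lit 0xbaf9000000f5230)
  (Net.cons (nat_lit 10) (nat_lit 0x1ac0014200068000c0)
  (Net.cons (nat_lit 5) (nat_lit 0x400e00018050160381d)
  (Net.cons (nat_lit 1) (nat_lit 0x80004200000028001)
  (Net.cons (nat_lit 1) (nat_lit 0x14002940000005294a)
  (Net.cons (nat_lit 1) (nat_lit 0x200a1210810100029484)
  (Net.cons (nat_lit 1) (nat_lit 0x1214a12942420405294a)
  (Net.cons (nat_lit 1) (nat_lit 0x204812142128001280a4)
  (Net.cons (nat_lit 5) (nat_lit 0x400e000100200603802)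
  (Net.cons (nat_lit 10) (nat_lit 0x1a80014000068000c0)
  (Net.cons (nat_lit 20) (nat_lit 0xbaf1000000f5230)
  (Net.cons (nat_lit 40) (nat_lit 0x43d8b76606)
  Net.nil)))))))))))))
noncomputable def m2n5 : Net := (Net.cons (nat_lit 40) (nat_lit 0x43d8b76606)
  (Net.cons (nat_lit 20) (nat_lit 0xbaf9000000f5230)
  (Net.cons (nat_lit 10) (nat_lit 0x1ac0014200068000c0)
  (Net.cons (nat_lit 5) (nat_lit 0x400e00018050160381d)
  (Net.cons (nat_lit 1) (nat_lit 0x80004200000028001)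
  (Net.cons (nat_lit 1) (nat_lit 0x14002940000005294a)
  (Net.cons (nat_lit 1) (nat_lit 0x200a1210810100029484)
  (Net.cons (nat_lit 1) (nat_lit 0x1214a12942420405294a)
  (Net.cons (nat_lit 1) (nat_lit 0x204812142128001280a4)
  (Net.cons (nat_lit 5) (nat_lit 0x400e000100200603802)
  (Net.cons (nat_lit 10) (nat_lit 0x1a80014000068000c0)
  (Net.cons (nat_lit 20) (nat_lit 0xbaf1000000f5230)
  (Net.cons (nat_lit 40) (nat_lit 0x43d8b76606)
  Net.nil)))))))))))))
noncomputable def m2l : List Net := [m2n0,m2n1,m2n2,m2n3,m2n4,m2n5]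
noncomputable abbrev m2 : ℕ → Net := lk Net.nil m2l
theorem m2ok : NetsOk 65 m2 vT := netsOk_of (by decide +kernel)
theorem m2s0 : Sat io [] (finG m2ok) := fin_sat_nil _ (k := 7) (n := 6) (by decide +kernel)
noncomputable def m3n0 : Net := (Net.cons (nat_lit 4) (nat_lit 12)
  (Net.cons (nat_lit 2) (nat_lit 49)
  (Net.cons (nat_lit 1) (nat_lit 1)
  (Net.cons (nat_lit 4) (nat_lit 10)
  Net.nil))))
noncomputable def m3n1 : Net := (Net.cons (nat_lit 4) (nat_lit 10)
  (Net.cons (nat_lit 2) (nat_lit 51)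
  (Net.cons (nat_lit 1) (nat_lit 4)
  (Net.cons (nat_lit 2) (nat_lit 2)
  (Net.cons (nat_lit 4) (nat_lit 12)
  Net.nil)))))
noncomputable def m3l : List Net := [m3n0,m3n1]
noncomputable abbrev m3 : ℕ → Net := lk Net.nil m3l
theorem m3ok : NetsOk 7 m3 vT := netsOk_of (by decide +kernel)
theorem m3s0 : Sat io [] (finG m3ok) := fin_sat_nil _ (k := 3) (n := 6) (by decide +kernel)
noncomputable def r0 : List ℕ := [0,0,0,0,0,0,0]
noncomputable def m4n0 : Net := (Net.cons (nat_lit 4) (nat_lit 12)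
  (Net.cons (nat_lit 2) (nat_lit 49)
  (Net.cons (nat_lit 1) (nat_lit 1)
  (Net.cons (nat_lit 4) (nat_lit 10)
  Net.nil))))
noncomputable def m4n1 : Net := (Net.cons (nat_lit 4) (nat_lit 10)
  (Net.cons (nat_lit 2) (nat_lit 51)
  (Net.cons (nat_lit 1) (nat_lit 4)
  (Net.cons (nat_lit 2) (nat_lit 2)
  (Net.cons (nat_lit 4) (nat_lit 12)
  Net.nil)))))
noncomputable def m4l : List Net := [m4n0,m4n1]
noncomputable abbrev m4 : ℕ → Net := lk Net.nil m4l
theorem m4ok : NetsOk 7 m4 vT := netsOk_of (by decide +kernel)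
theorem m4s0 : Sat io [] (finG m4ok) := fin_sat_nil _ (k := 3) (n := 6) (by decide +kernel)
noncomputable def C5 : List (List ℕ) := [r0]
theorem cl6 : Clo.{u} io C5 [] 7 m4 1 (mkB []) := Clo.start (by decide +kernel)
theorem imp7 : Imp.{u} io C5 C1 := Imp.of_chk (pfs := []) (by decide +kernel)
theorem ix8 : Idx.{u} io C5 [] [] 1 := (Idx.triv (Bound.nil) (by norm_num)).of_imp imp7
noncomputable def lk9 : List (List ℕ × List ℕ × Pf) := []
noncomputable def O10 : ℕ := (nat_lit 2)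
noncomputable def M11 : ℕ := (nat_lit 3)
noncomputable def b12 : ℕ := (nat_lit 1)
theorem cl13 : Clo.{u} io C5 [] 7 m4 M11 (mkB [(0,b12)]) := cl6.new (k := 0) (b := 0) (q := 0) (p := 1) (r := 200) (n := 1) (O := O10) (by decide +kernel) (lks := lk9) (by decide +kernel) (gens_of_lall2 (m := []) (by decide +kernel)) ix8 (by decide +kernel)
noncomputable def b14 : ℕ := (nat_lit 2)
theorem cl15 : Clo.{u} io C5 [] 7 m4 M11 (mkB [(0,b12),(1,b14)]) := cl13.ops (os := [Op.inv 0]) (by decide +kernel) (by decide +kernel)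
theorem ix16 : Idx.{u} io C5 [] [] 1 := (Idx.triv (Bound.nil) (by norm_num)).of_imp imp7
noncomputable def lk17 : List (List ℕ × List ℕ × Pf) := []
noncomputable def O18 : ℕ := (nat_lit 8)
noncomputable def M19 : ℕ := (nat_lit 11)
noncomputable def b20 : ℕ := (nat_lit 3)
theorem cl21 : Clo.{u} io C5 [] 7 m4 M19 (mkB [(0,b20),(1,b14)]) := cl15.new (k := 0) (b := 0) (q := 1) (p := 3) (r := 200) (n := 1) (O := O18) (by decide +kernel) (lks := lk17) (by decide +kernel) (gens_of_lall2 (m := []) (by decide +kernel)) ix16 (by decide +kernel)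
noncomputable def b22 : ℕ := (nat_lit 10)
theorem cl23 : Clo.{u} io C5 [] 7 m4 M19 (mkB [(0,b20),(1,b22)]) := cl21.ops (os := [Op.inv 0]) (by decide +kernel) (by decide +kernel)
theorem ix24 : Idx.{u} io C5 [] [] 1 := (Idx.triv (Bound.nil) (by norm_num)).of_imp imp7
noncomputable def lk25 : List (List ℕ × List ℕ × Pf) := []
noncomputable def O26 : ℕ := (nat_lit 32)
noncomputable def M27 : ℕ := (nat_lit 43)
noncomputable def b28 : ℕ := (nat_lit 11)
theorem cl29 : Clo.{u} io C5 [] 7 m4 M27 (mkB [(0,b28),(1,b22)]) := cl23.new (k := 0) (b := 0) (q := 3) (p := 5) (r := 200) (n := 1) (O := O26) (by decide +kernel) (lks := lk25) (by decide +kernel) (gens_of_lall2 (m := []) (by decide +kernel)) ix24 (by decide +kernel)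
noncomputable def b30 : ℕ := (nat_lit 42)
theorem cl31 : Clo.{u} io C5 [] 7 m4 M27 (mkB [(0,b28),(1,b30)]) := cl29.ops (os := [Op.inv 0]) (by decide +kernel) (by decide +kernel)
theorem ix32 : Idx.{u} io C5 [] [] 1 := (Idx.triv (Bound.nil) (by norm_num)).of_imp imp7
noncomputable def lk33 : List (List ℕ × List ℕ × Pf) := []
noncomputable def O34 : ℕ := (nat_lit 64)
noncomputable def M35 : ℕ := (nat_lit 107)
noncomputable def b36 : ℕ := (nat_lit 43)
theorem cl37 : Clo.{u} io C5 [] 7 m4 M35 (mkB [(0,b36),(1,b30)]) := cl31.new (k := 0) (b := 0) (q := 5) (p := 6) (r := 200) (n := 1) (O := O34) (by decide +kernel) (lks := lk33) (by decide +kernel) (gens_of_lall2 (m := []) (by decide +kernel)) ix32 (by decide +kernel)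
noncomputable def b38 : ℕ := (nat_lit 106)
theorem cl39 : Clo.{u} io C5 [] 7 m4 M35 (mkB [(0,b36),(1,b38)]) := cl37.ops (os := [Op.inv 0]) (by decide +kernel) (by decide +kernel)
theorem ix40 : Idx.{u} io C5 [] [] 1 := (Idx.triv (Bound.nil) (by norm_num)).of_imp imp7
noncomputable def lk41 : List (List ℕ × List ℕ × Pf) := []
noncomputable def O42 : ℕ := (nat_lit 16)
noncomputable def M43 : ℕ := (nat_lit 123)
noncomputable def b44 : ℕ := (nat_lit 107)
theorem cl45 : Clo.{u} io C5 [] 7 m4 M43 (mkB [(0,b44),(1,b38)]) := cl39.new (k := 0) (b := 0) (q := 6) (p := 4) (r := 200) (n := 1) (O := O42) (by decide +kernel) (lks := lk41) (by decide +kernel) (gens_of_lall2 (m := []) (by decide +kernel)) ix40 (by decide +kernel)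
noncomputable def b46 : ℕ := (nat_lit 122)
theorem cl47 : Clo.{u} io C5 [] 7 m4 M43 (mkB [(0,b44),(1,b46)]) := cl45.ops (os := [Op.inv 0]) (by decide +kernel) (by decide +kernel)
theorem ix48 : Idx.{u} io C5 [] [] 1 := (Idx.triv (Bound.nil) (by norm_num)).of_imp imp7
noncomputable def lk49 : List (List ℕ × List ℕ × Pf) := []
noncomputable def O50 : ℕ := (nat_lit 4)
noncomputable def M51 : ℕ := (nat_lit 127)
noncomputable def b52 : ℕ := (nat_lit 123)
theorem cl53 : Clo.{u} io C5 [] 7 m4 M51 (mkB [(0,b52),(1,b46)]) := cl47.new (k := 0) (b := 0) (q := 4) (p := 2) (r := 200) (n := 1) (O := O50) (by decide +kernel) (lks := lk49) (by decide +kernel) (gens_of_lall2 (m := []) (by decide +kernel)) ix48 (by decide +kernel)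
noncomputable def b54 : ℕ := (nat_lit 127)
noncomputable def b55 : ℕ := (nat_lit 127)
theorem cl56 : Clo.{u} io C5 [] 7 m4 M51 (mkB [(0,b54),(1,b55)]) := cl53.ops (os := [Op.inv 0,Op.rel 0 [] 1 [1,1,1,1,1] [([],1)],Op.inv 0]) (by decide +kernel) (by decide +kernel)
theorem sat58 : Sat io C5 (finG m4ok) := m4s0.fin (k := 3) (by decide +kernel)
theorem bd57 : Bound.{u} io C5 [0,1] 7 := cl56.bound (by decide +kernel) sat58 ((Bound.nil).of_imp imp7)
noncomputable def m59n0 : Net := (Net.cons (nat_lit 32) (nat_lit 0xa8c34f94)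
  (Net.cons (nat_lit 16) (nat_lit 0x3d2b00005fa1)
  (Net.cons (nat_lit 8) (nat_lit 0x46009d00eb0000)
  (Net.cons (nat_lit 4) (nat_lit 0x70c0106080b060c)
  (Net.cons (nat_lit 2) (nat_lit 0x1013130111313031)
  (Net.cons (nat_lit 1) (nat_lit 0x4151444141150415)
  (Net.cons (nat_lit 2) (nat_lit 0x2202202200200)
  (Net.cons (nat_lit 4) (nat_lit 0x60a080602000400)
  (Net.cons (nat_lit 8) (nat_lit 0xae0070006e0078)
  (Net.cons (nat_lit 16) (nat_lit 0x564800000a56)
  (Net.cons (nat_lit 32) (nat_lit 0x46f58b38)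
  Net.nil)))))))))))
noncomputable def m59n1 : Net := (Net.cons (nat_lit 32) (nat_lit 0x46f58b38)
  (Net.cons (nat_lit 16) (nat_lit 0xa9b30000f5a9)
  (Net.cons (nat_lit 8) (nat_lit 0x8f00ae00780091)
  (Net.cons (nat_lit 4) (nat_lit 0x606090a0c020f02)
  (Net.cons (nat_lit 2) (nat_lit 0x2131032132322131)
  (Net.cons (nat_lit 1) (nat_lit 0x4411115404455414)
  (Net.cons (nat_lit 2) (nat_lit 0x202020000000022)
  (Net.cons (nat_lit 4) (nat_lit 0x60a080c04080408)
  (Net.cons (nat_lit 8) (nat_lit 0x62004600000014)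
  (Net.cons (nat_lit 16) (nat_lit 0x42d40000a05e)
  (Net.cons (nat_lit 32) (nat_lit 0xa8c34f94)
  Net.nil)))))))))))
noncomputable def m59n2 : Net := (Net.cons (nat_lit 32) (nat_lit 0x924db095)
  (Net.cons (nat_lit 16) (nat_lit 0x890b0000dd72)
  (Net.cons (nat_lit 8) (nat_lit 0x1d0020003600c2)
  (Net.cons (nat_lit 4) (nat_lit 0xb00060408080207)
  (Net.cons (nat_lit 2) (nat_lit 0x2120032021131223)
  (Net.cons (nat_lit 1) (nat_lit 0x4451541444510441)
  (Net.cons (nat_lit 2) (nat_lit 0x2000000002020002)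
  (Net.cons (nat_lit 4) (nat_lit 0xe04060c0c020406)
  (Net.cons (nat_lit 8) (nat_lit 0xb400a600ec00b8)
  (Net.cons (nat_lit 16) (nat_lit 0x413000004482)
  (Net.cons (nat_lit 32) (nat_lit 0xb413e418)
  Net.nil)))))))))))
noncomputable def m59n3 : Net := (Net.cons (nat_lit 32) (nat_lit 0x4bec1be7)
  (Net.cons (nat_lit 16) (nat_lit 0x6c8e00003ecf)
  (Net.cons (nat_lit 8) (nat_lit 0x74009000a6004b)
  (Net.cons (nat_lit 4) (nat_lit 0x5080409060c0401)
  (Net.cons (nat_lit 2) (nat_lit 0x3003101003001032)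
  (Net.cons (nat_lit 1) (nat_lit 0x1544044451145114)
  (Net.cons (nat_lit 2) (nat_lit 0x20200200022)
  (Net.cons (nat_lit 4) (nat_lit 0xe0c020a06040004)
  (Net.cons (nat_lit 8) (nat_lit 0x400c0002000e2)
  (Net.cons (nat_lit 16) (nat_lit 0x9b52000076b4)
  (Net.cons (nat_lit 32) (nat_lit 0x6db24f6a)
  Net.nil)))))))))))
noncomputable def m59l : List Net := [m59n0,m59n1,m59n2,m59n3]
noncomputable abbrev m59 : ℕ → Net := lk Net.nil m59l
theorem m59ok : NetsOk 64 m59 vT := netsOk_of (by decide +kernel)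
theorem m59s0 : Sat io [] (finG m59ok) := fin_sat_nil _ (k := 6) (n := 6) (by decide +kernel)
noncomputable def r1 : List ℕ := [2,2,2,2]
noncomputable def r2 : List ℕ := [2,0,2,0,2,0,2,0,2,0,2,0,2,0]
noncomputable def r3 : List ℕ := [2,1,2,1,2,1,2,1,2,1,2,1,2,1]
noncomputable def r4 : List ℕ := [2,1,2,1,1,3,0,0,0]
noncomputable def m60n0 : Net := (Net.cons (nat_lit 32) (nat_lit 0xcca2b294)
  (Net.cons (nat_lit 16) (nat_lit 0x7bca00007882)
  (Net.cons (nat_lit 8) (nat_lit 0x3d00b0002000b8)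
  (Net.cons (nat_lit 4) (nat_lit 0xa0c05030f0f0f04)
  (Net.cons (nat_lit 2) (nat_lit 0x11311121123022)
  (Net.cons (nat_lit 1) (nat_lit 0x4144550115104410)
  (Net.cons (nat_lit 2) (nat_lit 0x222000200200220)
  (Net.cons (nat_lit 4) (nat_lit 0x200000a02080a02)
  (Net.cons (nat_lit 8) (nat_lit 0x8007200a8004a)
  (Net.cons (nat_lit 16) (nat_lit 0x215000003ef0)
  (Net.cons (nat_lit 32) (nat_lit 0xaea76d80)
  Net.nil)))))))))))
noncomputable def m60n1 : Net := (Net.cons (nat_lit 32) (nat_lit 0xaea76d80)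
  (Net.cons (nat_lit 16) (nat_lit 0xbea7000042c2)
  (Net.cons (nat_lit 8) (nat_lit 0x7200f700bc001e)
  (Net.cons (nat_lit 4) (nat_lit 0xa05050e0d050700)
  (Net.cons (nat_lit 2) (nat_lit 0x3213110120232230)
  (Net.cons (nat_lit 1) (nat_lit 0x5541110411400154)
  (Net.cons (nat_lit 2) (nat_lit 0x22220202000000)
  (Net.cons (nat_lit 4) (nat_lit 0x400060800000a)
  (Net.cons (nat_lit 8) (nat_lit 0xb000c2006400fa)
  (Net.cons (nat_lit 16) (nat_lit 0x43c0000b40c)
  (Net.cons (nat_lit 32) (nat_lit 0xcca2b294)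
  Net.nil)))))))))))
noncomputable def m60n2 : Net := (Net.cons (nat_lit 32) (nat_lit 0x1a8842cc)
  (Net.cons (nat_lit 16) (nat_lit 0x27c000006bd9)
  (Net.cons (nat_lit 8) (nat_lit 0x5000200d40069)
  (Net.cons (nat_lit 4) (nat_lit 0xd03010708060601)
  (Net.cons (nat_lit 2) (nat_lit 0x3022022110312111)
  (Net.cons (nat_lit 1) (nat_lit 0x5414054541510441)
  (Net.cons (nat_lit 2) (nat_lit 0x222002022020020)
  (Net.cons (nat_lit 4) (nat_lit 0x40c0e0808020c0e)
  (Net.cons (nat_lit 8) (nat_lit 0x480086009200fa)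
  (Net.cons (nat_lit 16) (nat_lit 0x39c80000a644)
  (Net.cons (nat_lit 32) (nat_lit 0x3036d4a8)
  Net.nil)))))))))))
noncomputable def m60n3 : Net := (Net.cons (nat_lit 32) (nat_lit 0x3036d4a8)
  (Net.cons (nat_lit 16) (nat_lit 0x3bcc000059bb)
  (Net.cons (nat_lit 8) (nat_lit 0xb600c600210092)
  (Net.cons (nat_lit 4) (nat_lit 0x30b0107080c0802)
  (Net.cons (nat_lit 2) (nat_lit 0x2223102230231231)
  (Net.cons (nat_lit 1) (nat_lit 0x4145505401411154)
  (Net.cons (nat_lit 2) (nat_lit 0x2200000200022002)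
  (Net.cons (nat_lit 4) (nat_lit 0xc020e0800060806)
  (Net.cons (nat_lit 8) (nat_lit 0xaa0040001200d4)
  (Net.cons (nat_lit 16) (nat_lit 0x678000009426)
  (Net.cons (nat_lit 32) (nat_lit 0x1a8842cc)
  Net.nil)))))))))))
noncomputable def m60l : List Net := [m60n0,m60n1,m60n2,m60n3]
noncomputable abbrev m60 : ℕ → Net := lk Net.nil m60l
theorem m60ok : NetsOk 64 m60 vT := netsOk_of (by decide +kernel)
theorem m60s0 : Sat io [] (finG m60ok) := fin_sat_nil _ (k := 6) (n := 6) (by decide +kernel)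
noncomputable def C61 : List (List ℕ) := [r0,r1,r2,r3,r4]
theorem cl62 : Clo.{u} io C61 [0,1] 64 m60 1 (mkB []) := Clo.start (by decide +kernel)
theorem imp63 : Imp.{u} io C61 C5 := Imp.of_chk (pfs := [[([],1)]]) (by decide +kernel)
theorem ix64 : Idx.{u} io C61 [0,1] [] 7 := (Idx.triv bd57 (by norm_num)).of_imp imp63
noncomputable def lk65 : List (List ℕ × List ℕ × Pf) := []
noncomputable def O66 : ℕ := (nat_lit 0x20191a)
noncomputable def M67 : ℕ := (nat_lit 0x20191b)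
noncomputable def b68 : ℕ := (nat_lit 1)
theorem cl69 : Clo.{u} io C61 [0,1] 64 m60 M67 (mkB [(2,b68)]) := cl62.new (k := 3) (b := 2) (q := 0) (p := 1) (r := 200) (n := 7) (O := O66) (by decide +kernel) (lks := lk65) (by decide +kernel) (gens_of_lall2 (m := []) (by decide +kernel)) ix64 (by decide +kernel)
noncomputable def b70 : ℕ := (nat_lit 17)
noncomputable def b71 : ℕ := (nat_lit 4098)
theorem cl72 : Clo.{u} io C61 [0,1] 64 m60 M67 (mkB [(2,b70),(3,b71)]) := cl69.ops (os := [Op.inv 2,Op.rel 2 [0,0,0] 2 [0,0,3,0] [([2,0,0,3,0,3],9)],Op.inv 2]) (by decide +kernel) (by decide +kernel)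
theorem ix73 : Idx.{u} io C61 [0,1] [] 7 := (Idx.triv bd57 (by norm_num)).of_imp imp63
noncomputable def lk74 : List (List ℕ × List ℕ × Pf) := []
noncomputable def O75 : ℕ := (nat_lit 0x600000090000c020)
noncomputable def M76 : ℕ := (nat_lit 0x600000090020d93b)
noncomputable def b77 : ℕ := (nat_lit 19)
theorem cl78 : Clo.{u} io C61 [0,1] 64 m60 M76 (mkB [(2,b77),(3,b71)]) := cl72.new (k := 3) (b := 2) (q := 1) (p := 5) (r := 200) (n := 7) (O := O75) (by decide +kernel) (lks := lk74) (by decide +kernel) (gens_of_lall2 (m := []) (by decide +kernel)) ix73 (by decide +kernel)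
noncomputable def b79 : ℕ := (nat_lit 4130)
theorem cl80 : Clo.{u} io C61 [0,1] 64 m60 M76 (mkB [(2,b77),(3,b79)]) := cl78.ops (os := [Op.inv 2]) (by decide +kernel) (by decide +kernel)
theorem ix81 : Idx.{u} io C61 [0,1] [] 7 := (Idx.triv bd57 (by norm_num)).of_imp imp63
noncomputable def lk82 : List (List ℕ × List ℕ × Pf) := []
noncomputable def O83 : ℕ := (nat_lit 0x840000500c4)
noncomputable def M84 : ℕ := (nat_lit 0x600008490025d9ff)
noncomputable def b85 : ℕ := (nat_lit 51)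
theorem cl86 : Clo.{u} io C61 [0,1] 64 m60 M84 (mkB [(2,b85),(3,b79)]) := cl80.new (k := 3) (b := 2) (q := 5) (p := 2) (r := 200) (n := 7) (O := O83) (by decide +kernel) (lks := lk82) (by decide +kernel) (gens_of_lall2 (m := []) (by decide +kernel)) ix81 (by decide +kernel)
noncomputable def b87 : ℕ := (nat_lit 0x50037)
noncomputable def b88 : ℕ := (nat_lit 0x201067)
theorem cl89 : Clo.{u} io C61 [0,1] 64 m60 M84 (mkB [(2,b87),(3,b88)]) := cl86.ops (os := [Op.inv 2,Op.rel 2 [] 3 [3,3] [([],3)],Op.inv 2,Op.rel 2 [1,1,1] 2 [1,2,1,1] [([],8)],Op.inv 2,Op.rel 3 [0,0] 3 [0,0,0,2,1] [([3,0,0,0],8)],Op.inv 3]) (by decide +kernel) (by decide +kernel)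
theorem ix90 : Idx.{u} io C61 [0,1] [] 7 := (Idx.triv bd57 (by norm_num)).of_imp imp63
noncomputable def lk91 : List (List ℕ × List ℕ × Pf) := []
noncomputable def O92 : ℕ := (nat_lit 0x822008003000200)
noncomputable def M93 : ℕ := (nat_lit 0x682208c90325dbff)
noncomputable def b94 : ℕ := (nat_lit 0x5003f)
theorem cl95 : Clo.{u} io C61 [0,1] 64 m60 M93 (mkB [(2,b94),(3,b88)]) := cl89.new (k := 3) (b := 2) (q := 3) (p := 9) (r := 200) (n := 7) (O := O92) (by decide +kernel) (lks := lk91) (by decide +kernel) (gens_of_lall2 (m := []) (by decide +kernel)) ix90 (by decide +kernel)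
noncomputable def b96 : ℕ := (nat_lit 0x225003f)
noncomputable def b97 : ℕ := (nat_lit 0x2000001201267)
theorem cl98 : Clo.{u} io C61 [0,1] 64 m60 M93 (mkB [(2,b96),(3,b97)]) := cl95.ops (os := [Op.inv 2,Op.rel 2 [0,0,0] 2 [0,0,3,0] [([2,0,0,3,0,3],9)],Op.inv 2,Op.rel 2 [0,0,0] 2 [0,0,3,0] [([2,0,0,3,0,3],9)],Op.inv 2]) (by decide +kernel) (by decide +kernel)
theorem ix99 : Idx.{u} io C61 [0,1] [] 7 := (Idx.triv bd57 (by norm_num)).of_imp imp63
noncomputable def lk100 : List (List ℕ × List ℕ × Pf) := []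
noncomputable def O101 : ℕ := (nat_lit 0x480000258000400)
noncomputable def M102 : ℕ := (nat_lit 0x6ca208cb5b25dfff)
noncomputable def b103 : ℕ := (nat_lit 0x225103f)
theorem cl104 : Clo.{u} io C61 [0,1] 64 m60 M102 (mkB [(2,b103),(3,b97)]) := cl98.new (k := 3) (b := 2) (q := 12) (p := 27) (r := 200) (n := 7) (O := O101) (by decide +kernel) (lks := lk100) (by decide +kernel) (gens_of_lall2 (m := []) (by decide +kernel)) ix99 (by decide +kernel)
noncomputable def b105 : ℕ := (nat_lit 0x20225143f)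
noncomputable def b106 : ℕ := (nat_lit 0x200200000920126f)
theorem cl107 : Clo.{u} io C61 [0,1] 64 m60 M102 (mkB [(2,b105),(3,b106)]) := cl104.ops (os := [Op.inv 2,Op.rel 2 [0,0,0] 2 [0,0,3,0] [([2,0,0,3,0,3],9)],Op.inv 2,Op.rel 2 [1,1,1] 2 [1,2,1,1] [([],8)],Op.inv 2]) (by decide +kernel) (by decide +kernel)
theorem ix108 : Idx.{u} io C61 [0,1] [] 7 := (Idx.triv bd57 (by norm_num)).of_imp imp63
noncomputable def lk109 : List (List ℕ × List ℕ × Pf) := []
noncomputable def O110 : ℕ := (nat_lit 0x1010400480802000)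
noncomputable def M111 : ℕ := (nat_lit 0x7cb248cfdba5ffff)
noncomputable def b112 : ℕ := (nat_lit 0x20a25143f)
theorem cl113 : Clo.{u} io C61 [0,1] 64 m60 M111 (mkB [(2,b112),(3,b106)]) := cl107.new (k := 3) (b := 2) (q := 27) (p := 13) (r := 200) (n := 7) (O := O110) (by decide +kernel) (lks := lk109) (by decide +kernel) (gens_of_lall2 (m := []) (by decide +kernel)) ix108 (by decide +kernel)
noncomputable def b114 : ℕ := (nat_lit 0x1000060a25343f)
noncomputable def b115 : ℕ := (nat_lit 0x200200400920727f)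
theorem cl116 : Clo.{u} io C61 [0,1] 64 m60 M111 (mkB [(2,b114),(3,b115)]) := cl113.ops (os := [Op.inv 2,Op.rel 2 [] 3 [3,3] [([],3)],Op.inv 2,Op.rel 3 [0,0] 3 [0,0,0,2,1] [([3,0,0,0],8)],Op.inv 3,Op.rel 3 [0,0] 3 [0,0,0,2,1] [([3,0,0,0],8)],Op.inv 3]) (by decide +kernel) (by decide +kernel)
theorem ix117 : Idx.{u} io C61 [0,1] [] 7 := (Idx.triv bd57 (by norm_num)).of_imp imp63
noncomputable def lk118 : List (List ℕ × List ℕ × Pf) := []
noncomputable def O119 : ℕ := (nat_lit 0x4031004420000)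
noncomputable def M120 : ℕ := (nat_lit 0x7cb64bdfdfe7ffff)
noncomputable def b121 : ℕ := (nat_lit 0x1000060a25353f)
theorem cl122 : Clo.{u} io C61 [0,1] 64 m60 M120 (mkB [(2,b121),(3,b115)]) := cl116.new (k := 3) (b := 2) (q := 8) (p := 22) (r := 200) (n := 7) (O := O119) (by decide +kernel) (lks := lk118) (by decide +kernel) (gens_of_lall2 (m := []) (by decide +kernel)) ix117 (by decide +kernel)
noncomputable def b123 : ℕ := (nat_lit 0x1408060a25b53f)
noncomputable def b124 : ℕ := (nat_lit 0x208201500960727f)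
theorem cl125 : Clo.{u} io C61 [0,1] 64 m60 M120 (mkB [(2,b123),(3,b124)]) := cl122.ops (os := [Op.inv 2,Op.rel 2 [0,0,0] 2 [0,0,3,0] [([2,0,0,3,0,3],9)],Op.inv 2,Op.rel 2 [1,1,1] 2 [1,2,1,1] [([],8)],Op.inv 2]) (by decide +kernel) (by decide +kernel)
theorem ix126 : Idx.{u} io C61 [0,1] [] 7 := (Idx.triv bd57 (by norm_num)).of_imp imp63
noncomputable def lk127 : List (List ℕ × List ℕ × Pf) := []
noncomputable def O128 : ℕ := (nat_lit 0x8040342000080000)
noncomputable def M129 : ℕ := (nat_lit 0xfcf67fffdfefffff)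
noncomputable def b130 : ℕ := (nat_lit 0x1408060a25b5bf)
theorem cl131 : Clo.{u} io C61 [0,1] 64 m60 M129 (mkB [(2,b130),(3,b124)]) := cl125.new (k := 3) (b := 2) (q := 7) (p := 19) (r := 200) (n := 7) (O := O128) (by decide +kernel) (lks := lk127) (by decide +kernel) (gens_of_lall2 (m := []) (by decide +kernel)) ix126 (by decide +kernel)
noncomputable def b132 : ℕ := (nat_lit 0x4140a070a27b5bf)
noncomputable def b133 : ℕ := (nat_lit 0x20c225700968727f)
theorem cl134 : Clo.{u} io C61 [0,1] 64 m60 M129 (mkB [(2,b132),(3,b133)]) := cl131.ops (os := [Op.inv 2,Op.rel 2 [0,0,0] 2 [0,0,3,0] [([2,0,0,3,0,3],9)],Op.inv 2,Op.rel 2 [1,1,1] 2 [1,2,1,1] [([],8)],Op.inv 2,Op.rel 2 [1,1,1] 2 [1,2,1,1] [([],8)],Op.inv 2,Op.rel 2 [1,1,1] 2 [1,2,1,1] [([],8)],Op.inv 2]) (by decide +kernel) (by decide +kernel)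
theorem ix135 : Idx.{u} io C61 [0,1] [] 7 := (Idx.triv bd57 (by norm_num)).of_imp imp63
noncomputable def lk136 : List (List ℕ × List ℕ × Pf) := []
noncomputable def O137 : ℕ := (nat_lit 0x309800020100000)
noncomputable def M138 : ℕ := (nat_lit 0xffffffffffffffff)
noncomputable def b139 : ℕ := (nat_lit 0x4140a070a27bdbf)
theorem cl140 : Clo.{u} io C61 [0,1] 64 m60 M138 (mkB [(2,b139),(3,b133)]) := cl134.new (k := 3) (b := 2) (q := 11) (p := 29) (r := 200) (n := 7) (O := O137) (by decide +kernel) (lks := lk136) (by decide +kernel) (gens_of_lall2 (m := []) (by decide +kernel)) ix135 (by decide +kernel)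
noncomputable def b141 : ℕ := (nat_lit 0xffffffffffffffff)
noncomputable def b142 : ℕ := (nat_lit 0xffffffffffffffff)
theorem cl143 : Clo.{u} io C61 [0,1] 64 m60 M138 (mkB [(2,b141),(3,b142)]) := cl140.ops (os := [Op.inv 2,Op.rel 2 [0,0,0] 2 [0,0,3,0] [([2,0,0,3,0,3],9)],Op.inv 2,Op.rel 2 [1,1,1] 2 [1,2,1,1] [([],8)],Op.inv 2,Op.rel 3 [0,0] 3 [0,0,0,2,1] [([3,0,0,0],8)],Op.inv 3,Op.rel 3 [0,0] 3 [0,0,0,2,1] [([3,0,0,0],8)],Op.inv 3,Op.rel 2 [0,0,0] 2 [0,0,3,0] [([2,0,0,3,0,3],9)],Op.inv 2,Op.rel 2 [1] 3 [0,3,0,3,0,3,0,3,0,3,0] [([3],7)],Op.inv 2,Op.rel 2 [] 3 [3,3] [([],3)],Op.inv 2,Op.rel 2 [0,0,0] 2 [0,0,3,0] [([2,0,0,3,0,3],9)],Op.inv 2,Op.rel 2 [] 3 [3,3] [([],3)],Op.inv 2,Op.rel 2 [0,0,0] 2 [0,0,3,0] [([2,0,0,3,0,3],9)],Op.inv 2,Op.rel 2 [] 3 [3,3] [([],3)],Op.inv 2,Op.rel 2 [0,0,0] 2 [0,0,3,0] [([2,0,0,3,0,3],9)],Op.inv 2,Op.rel 2 [1,1,1] 2 [1,2,1,1] [([],8)],Op.inv 2,Op.rel 2 [] 3 [3,3] [([],3)],Op.inv 2,Op.rel 2 [0] 3 [1,3,1,3,1,3,1,3,1,3,1]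 [([3],5)],Op.inv 2,Op.rel 2 [] 3 [3,3] [([],3)],Op.inv 2,Op.rel 2 [0,0,0] 2 [0,0,3,0] [([2,0,0,3,0,3],9)],Op.inv 2,Op.rel 2 [] 3 [3,3] [([],3)],Op.inv 2]) (by decide +kernel) (by decide +kernel)
theorem sat145 : Sat io C61 (finG m60ok) := m60s0.fin (k := 6) (by decide +kernel)
theorem bd144 : Bound.{u} io C61 [0,1,2,3] 448 := cl143.bound (by decide +kernel) sat145 (bd57.of_imp imp63)
noncomputable def r5 : List ℕ := [4,4]
noncomputable def r6 : List ℕ := [4,0,4,0,4,0,4,0]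
noncomputable def r7 : List ℕ := [5,1,1,3,0,4,1,1,3,0]
noncomputable def r8 : List ℕ := [5,0,3,1,4,0,4,0,0,0,3,0,0,3]
noncomputable def m146n0 : Net := (Net.cons (nat_lit 40) (nat_lit 0x9b8deb5910)
  (Net.cons (nat_lit 20) (nat_lit 0xc401b0000023750)
  (Net.cons (nat_lit 10) (nat_lit 0x354001cb0011a00390)
  (Net.cons (nat_lit 5) (nat_lit 0x380c038130000500400)
  (Net.cons (nat_lit 1) (nat_lit 0x80000000020400)
  (Net.cons (nat_lit 1) (nat_lit 0xa500000010052800)
  (Net.cons (nat_lit 1) (nat_lit 0x85214250048029020)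
  (Net.cons (nat_lit 1) (nat_lit 0x1014250842029481284a)
  (Net.cons (nat_lit 1) (nat_lit 0x280842142421020080a4)
  (Net.cons (nat_lit 5) (nat_lit 0x3812000060200400810)
  (Net.cons (nat_lit 10) (nat_lit 0x3420018e0010a00130)
  (Net.cons (nat_lit 20) (nat_lit 0xcd8d00000007454)
  (Net.cons (nat_lit 40) (nat_lit 0x9b8c035520)
  Net.nil)))))))))))))
noncomputable def m146n1 : Net := (Net.cons (nat_lit 40) (nat_lit 0x9b8c035520)
  (Net.cons (nat_lit 20) (nat_lit 0x3272f0000007474)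
  (Net.cons (nat_lit 10) (nat_lit 0x271003420033900130)
  (Net.cons (nat_lit 5) (nat_lit 0x6400038120740605810)
  (Net.cons (nat_lit 1) (nat_lit 0x40028000)
  (Net.cons (nat_lit 1) (nat_lit 0x140000020080050800)
  (Net.cons (nat_lit 1) (nat_lit 0x204852808521000290a4)
  (Net.cons (nat_lit 1) (nat_lit 0x109421014a428485204a)
  (Net.cons (nat_lit 1) (nat_lit 0x284a5000810140129420)
  (Net.cons (nat_lit 5) (nat_lit 0x300e0380c0600401000)
  (Net.cons (nat_lit 10) (nat_lit 0x234003540033400390)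
  (Net.cons (nat_lit 20) (nat_lit 0x3bfe40000023550)
  (Net.cons (nat_lit 40) (nat_lit 0x9b8deb5910)
  Net.nil)))))))))))))
noncomputable def m146n2 : Net := (Net.cons (nat_lit 40) (nat_lit 0x54c53cb4d4)
  (Net.cons (nat_lit 20) (nat_lit 0xf673a0000057352)
  (Net.cons (nat_lit 10) (nat_lit 0x129001580016c00336)
  (Net.cons (nat_lit 5) (nat_lit 0x101607016030170480e)
  (Net.cons (nat_lit 1) (nat_lit 0x4080000002000480)
  (Net.cons (nat_lit 1) (nat_lit 0x4290a100000004002940)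
  (Net.cons (nat_lit 1) (nat_lit 0x290852000000080210a0)
  (Net.cons (nat_lit 1) (nat_lit 0x1294a501401214052940)
  (Net.cons (nat_lit 1) (nat_lit 0x21085284010008421420)
  (Net.cons (nat_lit 5) (nat_lit 0x101607810000000680a)
  (Net.cons (nat_lit 10) (nat_lit 0x200011a0031000116)
  (Net.cons (nat_lit 20) (nat_lit 0xf272a00000d736a)
  (Net.cons (nat_lit 40) (nat_lit 0x54c4ff12de)
  Net.nil)))))))))))))
noncomputable def m146n3 : Net := (Net.cons (nat_lit 40) (nat_lit 0x54c4ff12de)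
  (Net.cons (nat_lit 20) (nat_lit 0xf272a00000d736e)
  (Net.cons (nat_lit 10) (nat_lit 0xe90011a0031000116)
  (Net.cons (nat_lit 5) (nat_lit 0x80c078100601f0680a)
  (Net.cons (nat_lit 1) (nat_lit 0x1400000000000000420)
  (Net.cons (nat_lit 1) (nat_lit 0x12942400000000802940)
  (Net.cons (nat_lit 1) (nat_lit 0x214842800000004210a0)
  (Net.cons (nat_lit 1) (nat_lit 0x5294a501405000a52940)
  (Net.cons (nat_lit 1) (nat_lit 0x9084284010008521480)
  (Net.cons (nat_lit 5) (nat_lit 0x400007016050080480e)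
  (Net.cons (nat_lit 10) (nat_lit 0x3a0001580016c00336)
  (Net.cons (nat_lit 20) (nat_lit 0xf673a0000055352)
  (Net.cons (nat_lit 40) (nat_lit 0x54c53cb4d4)
  Net.nil)))))))))))))
noncomputable def m146n4 : Net := (Net.cons (nat_lit 40) (nat_lit 0xab08042a00)
  (Net.cons (nat_lit 20) (nat_lit 0x996000000066ec0)
  (Net.cons (nat_lit 10) (nat_lit 0x6a003060015200248)
  (Net.cons (nat_lit 5) (nat_lit 0xd030130401c00009)
  (Net.cons (nat_lit 1) (nat_lit 0x20000000000020001)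
  (Net.cons (nat_lit 1) (nat_lit 0x4802800000005294a)
  (Net.cons (nat_lit 1) (nat_lit 0x200a5290800100029084)
  (Net.cons (nat_lit 1) (nat_lit 0x4014a12842509085294a)
  (Net.cons (nat_lit 1) (nat_lit 0x21481280040102121024)
  (Net.cons (nat_lit 5) (nat_lit 0x180200c040000001a)
  (Net.cons (nat_lit 10) (nat_lit 0x6a003060004200248)
  (Net.cons (nat_lit 20) (nat_lit 0x996000000066ac0)
  (Net.cons (nat_lit 40) (nat_lit 0xab08042a00)
  Net.nil)))))))))))))
noncomputable def m146n5 : Net := (Net.cons (nat_lit 40) (nat_lit 0xab08042a00)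
  (Net.cons (nat_lit 20) (nat_lit 0x996000000066ec0)
  (Net.cons (nat_lit 10) (nat_lit 0x6a003060015200248)
  (Net.cons (nat_lit 5) (nat_lit 0xd030130401c00009)
  (Net.cons (nat_lit 1) (nat_lit 0x20000000000020001)
  (Net.cons (nat_lit 1) (nat_lit 0x4802800000005294a)
  (Net.cons (nat_lit 1) (nat_lit 0x200a5290800100029084)
  (Net.cons (nat_lit 1) (nat_lit 0x4014a12842509085294a)
  (Net.cons (nat_lit 1) (nat_lit 0x21481280040102121024)
  (Net.cons (nat_lit 5) (nat_lit 0x180200c040000001a)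
  (Net.cons (nat_lit 10) (nat_lit 0x6a003060004200248)
  (Net.cons (nat_lit 20) (nat_lit 0x996000000066ac0)
  (Net.cons (nat_lit 40) (nat_lit 0xab08042a00)
  Net.nil)))))))))))))
noncomputable def m146l : List Net := [m146n0,m146n1,m146n2,m146n3,m146n4,m146n5]
noncomputable abbrev m146 : ℕ → Net := lk Net.nil m146l
theorem m146ok : NetsOk 65 m146 vT := netsOk_of (by decide +kernel)
theorem m146s0 : Sat io [] (finG m146ok) := fin_sat_nil _ (k := 7) (n := 6) (by decide +kernel)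
noncomputable def C147 : List (List ℕ) := [r0,r1,r2,r3,r4,r5,r6,r7,r8]
theorem cl148 : Clo.{u} io C147 [0,1,2,3] 65 m146 1 (mkB []) := Clo.start (by decide +kernel)
theorem imp149 : Imp.{u} io C147 C61 := Imp.of_chk (pfs := [[([],1)],[([],3)],[([],5)],[([],7)],[([],9)]]) (by decide +kernel)
theorem der151 : Der 64 (finX 64) (cl (finG m59ok) [[1,1,3,0]]) (fun _ => Net.nil) := Der.zero (finModel m59ok).inj
noncomputable def x152 : Net := (Net.cons (nat_lit 32) (nat_lit 0xf4a6d9d4)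
  (Net.cons (nat_lit 16) (nat_lit 0xfd4d00002abe)
  (Net.cons (nat_lit 8) (nat_lit 0xb7002a008f0044)
  (Net.cons (nat_lit 4) (nat_lit 0x7070a0200070607)
  (Net.cons (nat_lit 2) (nat_lit 0x1220332210333113)
  (Net.cons (nat_lit 1) (nat_lit 0x5105144104415154)
  (Net.cons (nat_lit 2) (nat_lit 0x220200020200)
  (Net.cons (nat_lit 4) (nat_lit 0xe00000808060a06)
  (Net.cons (nat_lit 8) (nat_lit 0x1a00fc00820050)
  (Net.cons (nat_lit 16) (nat_lit 0xb03000007f08)
  (Net.cons (nat_lit 32) (nat_lit 0x7d2f1b96)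
  Net.nil)))))))))))
noncomputable def ns153 : ℕ → Net := upd (fun _ => Net.nil) 0 x152
theorem der154 : Der 64 (finX 64) (cl (finG m59ok) [[1,1,3,0]]) ns153 := der151.add (wp_mem_cl (w := [1,1,3,0]) (by decide)) ((finModel m59ok).toIsPre.rep_word (k := 6) (w := [1,1,3,0]) (n := x152) (by decide +kernel)) 0
noncomputable def L155 : Lev := Lev.cons 0 7 [[0]] Lev.nil
theorem lc156 : Lev.chk 64 3 ns153 vT 100 L155 = true := by decide +kernel
theorem lb157 : 7 ≤ Nat.card (cl (finG m59ok) [[1,1,3,0]]) := le_of_eq_of_le (by decide +kernel) (der154.card_ge lc156)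
theorem sat158 : Sat io C61 (finG m59ok) := m59s0.fin (k := 6) (by decide +kernel)
theorem ix150 : Idx.{u} io C147 [0,1,2,3] [[1,1,3,0]] 64 := (Idx.of bd144 sat158 (by decide +kernel) lb157 (by decide +kernel)).of_imp imp149
noncomputable def lk159 : List (List ℕ × List ℕ × Pf) := [([1,1,3,0],[1,2,0,0],[([4],15)])]
noncomputable def O160 : ℕ := (nat_lit 0x1fffffffffffffffe)
noncomputable def M161 : ℕ := (nat_lit 0x1ffffffffffffffff)
noncomputable def b162 : ℕ := (nat_lit 1)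
theorem cl163 : Clo.{u} io C147 [0,1,2,3] 65 m146 M161 (mkB [(4,b162)]) := cl148.new (k := 4) (b := 4) (q := 0) (p := 1) (r := 200) (n := 64) (O := O160) (by decide +kernel) (lks := lk159) (by decide +kernel) (gens_of_lall2 (m := [[0]]) (by decide +kernel)) ix150 (by decide +kernel)
noncomputable def b164 : ℕ := (nat_lit 0x1ffffffffffffffff)
noncomputable def b165 : ℕ := (nat_lit 0x1ffffffffffffffff)
theorem cl166 : Clo.{u} io C147 [0,1,2,3] 65 m146 M161 (mkB [(4,b164),(5,b165)]) := cl163.ops (os := [Op.inv 4,Op.rel 4 [] 5 [] [([],11)],Op.inv 4,Op.rel 5 [0,0,0,3,0,0,3] 5 [1,5,0,2,1] [([5,1,5,0,2,1,4],17)],Op.ext 5 4 [([1,1,3,0],[1,2,0,0],[([5,1,2,0,0,4],15)]),([1,2,0,0],[1,1,3,0],[([],14)])],Op.inv 5,Op.rel 4 [] 5 [] [([],11)],Op.inv 4,Op.rel 4 [0] 5 [1,5,1,5,1] [([5],13)],Op.ext 4 4 [([1,1,3,0],[1,2,0,0],[([4],15)]),([1,2,0,0],[1,1,3,0],[([4,1,1,3,0],14)])],Op.inv 4,Op.rel 4 [] 5 [] [([],11)],Op.inv 4,Op.rel 4 [0] 5 [1,5,1,5,1] [([5],13)],Op.ext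 4 4 [([1,1,3,0],[1,2,0,0],[([4],15)]),([1,2,0,0],[1,1,3,0],[([4,1,1,3,0],14)])],Op.inv 4,Op.rel 4 [0] 5 [1,5,1,5,1] [([5],13)],Op.ext 4 4 [([1,1,3,0],[1,2,0,0],[([4],15)]),([1,2,0,0],[1,1,3,0],[([4,1,1,3,0],14)])],Op.inv 4,Op.rel 4 [] 5 [] [([],11)],Op.inv 4]) (by decide +kernel) (by decide +kernel)
theorem sat168 : Sat io C147 (finG m146ok) := m146s0.fin (k := 7) (by decide +kernel)
theorem bd167 : Bound.{u} io C147 [0,1,2,3,4,5] 29120 := cl166.bound (by decide +kernel) sat168 (bd144.of_imp imp149)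
abbrev GZ : Type := ↥(cl (finG m2ok) (lw [0,1,2,3,4,5]))
theorem allZ : ∀ l, finG m2ok l ∈ (cl (finG m2ok) (lw [0,1,2,3,4,5])) := finG_mem_all _ (by decide +kernel)
noncomputable def gZ : ℕ → GZ := subA _ _ allZ
theorem sat169 : Sat io C147 (finG m2ok) := m2s0.fin (k := 7) (by decide +kernel)
noncomputable abbrev RZ : List (List ℕ) := C147
theorem satZ : Sat io RZ gZ := sat169.subA _
theorem topZ : cl gZ (lw [0,1,2,3,4,5]) = ⊤ := cl_subA _
theorem modelZ : IsModel 65 (finX 65) gZ m2 vT := (finModel m2ok).subA _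
theorem faithZ : Faith GZ 65 (finX 65) := (faith_fin 65).sub _
theorem der170 : Der 65 (finX 65) (cl (finG m2ok) (lw [0,1,2,3,4,5])) (resN m2 [0,1,2,3,4,5]) := Der.letters (finModel m2ok) _
noncomputable def L171 : Lev := Lev.cons 1 7 [[0],[1]] Lev.nil
noncomputable def L172 : Lev := Lev.cons 31 64 [[2],[3]] L171
noncomputable def L173 : Lev := Lev.cons 0 65 [[4],[5]] L172
theorem lc174 : Lev.chk 65 4 (resN m2 [0,1,2,3,4,5]) vT 100 L173 = true := by decide +kernel
theorem bdZ : Bound.{u} io RZ [0,1,2,3,4,5] 29120 := bd167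
theorem cardZ : Nat.card GZ = 29120 := le_antisymm (bdZ.{0}.fin sat169) (le_of_eq_of_le (by decide +kernel) (der170.card_ge lc174))
noncomputable def baseZ : List ℕ := [0,31,1]
theorem basedZ : Based 65 (finX 65) (⊤ : Subgroup GZ) baseZ := (der170.based lc174 (le_of_eq_of_le cardZ (by decide +kernel))).sub
noncomputable def eqvZ : List ℕ → List ℕ → Bool := eqBc m2 baseZ
theorem heqZ : ∀ u w, eqvZ u w = true → wp gZ u = wp gZ w := basedZ.eqv modelZ.toIsPre
theorem hgeZ : ∀ l, llen il ≤ l → gZ l = 1 := fun l h => Subtype.ext (finG_eq_one m2ok (n := 6) (by decide +kernel) l (le_of_eq_of_le (by decide +kernel) h))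
theorem s0Z : Sat io [] gZ := satZ.nil
noncomputable def cvZ : List (List ℕ) := [[0,3,4],[0,0,3,4,1]]
theorem der175 : Der 65 (finX 65) (cl gZ cvZ) (fun _ => Net.nil) := Der.zero modelZ.inj
noncomputable def x176 : Net := (Net.cons (nat_lit 40) (nat_lit 0x973c4e044b)
  (Net.cons (nat_lit 20) (nat_lit 0x3ec000000fbecf)
  (Net.cons (nat_lit 10) (nat_lit 0x24900064000c5000b1)
  (Net.cons (nat_lit 5) (nat_lit 0x4010000020100400402)
  (Net.cons (nat_lit 1) (nat_lit 1)
  (Net.cons (nat_lit 1) (nat_lit 0x52800000001010202802)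
  (Net.cons (nat_lit 1) (nat_lit 0x21405200202848401024)
  (Net.cons (nat_lit 1) (nat_lit 0x52902521421094802848)
  (Net.cons (nat_lit 1) (nat_lit 0x80010a52102500485)
  (Net.cons (nat_lit 5) (nat_lit 0x602010018040000a)
  (Net.cons (nat_lit 10) (nat_lit 0x258002600024a001a0)
  (Net.cons (nat_lit 20) (nat_lit 0x14ccc0000093ef8)
  (Net.cons (nat_lit 40) (nat_lit 0x973d2ac0e0)
  Net.nil)))))))))))))
noncomputable def ns177 : ℕ → Net := upd (fun _ => Net.nil) 0 x176
theorem der178 : Der 65 (finX 65) (cl gZ cvZ) ns177 := der175.add (wp_mem_cl (w := [0,3,4]) (by decide)) (modelZ.toIsPre.rep_word (k := 7) (w := [0,3,4]) (n := x176) (by decide +kernel)) 0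
noncomputable def x179 : Net := (Net.cons (nat_lit 40) (nat_lit 0xaa6d6aeb9c)
  (Net.cons (nat_lit 20) (nat_lit 0x5759400000ce20e)
  (Net.cons (nat_lit 10) (nat_lit 0x3c4002320013c000e7)
  (Net.cons (nat_lit 5) (nat_lit 0x4c100501b0400c06c0e)
  (Net.cons (nat_lit 1) (nat_lit 0x1080002000100000)
  (Net.cons (nat_lit 1) (nat_lit 0x1025000a5000250800)
  (Net.cons (nat_lit 1) (nat_lit 0x1484214042808421480)
  (Net.cons (nat_lit 1) (nat_lit 0x408485084a5210a50842)
  (Net.cons (nat_lit 1) (nat_lit 0x20080084a02000009404)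
  (Net.cons (nat_lit 5) (nat_lit 0x81a050180481406004)
  (Net.cons (nat_lit 10) (nat_lit 0x21c0029200208001a2)
  (Net.cons (nat_lit 20) (nat_lit 0x5d75600000daa1e)
  (Net.cons (nat_lit 40) (nat_lit 0xaa6d1b4974)
  Net.nil)))))))))))))
noncomputable def ns180 : ℕ → Net := upd ns177 1 x179
theorem der181 : Der 65 (finX 65) (cl gZ cvZ) ns180 := der178.add (wp_mem_cl (w := [0,0,3,4,1]) (by decide)) (modelZ.toIsPre.rep_word (k := 7) (w := [0,0,3,4,1]) (n := x179) (by decide +kernel)) 1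
noncomputable def x182 : Net := (Net.cons (nat_lit 40) (nat_lit 0xa49367fe20)
  (Net.cons (nat_lit 20) (nat_lit 0x7e2730000002862)
  (Net.cons (nat_lit 10) (nat_lit 0x15a00131001190003c)
  (Net.cons (nat_lit 5) (nat_lit 0x580b018000181000014)
  (Net.cons (nat_lit 1) (nat_lit 0x81204000000100000)
  (Net.cons (nat_lit 1) (nat_lit 0x1214a508000000a02000)
  (Net.cons (nat_lit 1) (nat_lit 0x210a5290040008501404)
  (Net.cons (nat_lit 1) (nat_lit 0x5294a520081204a12802)
  (Net.cons (nat_lit 1) (nat_lit 0x90a1094050808121420)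
  (Net.cons (nat_lit 5) (nat_lit 0x5808018000181c00004)
  (Net.cons (nat_lit 10) (nat_lit 0x52001a400170002fc)
  (Net.cons (nat_lit 20) (nat_lit 0x7a24c0000003af4)
  (Net.cons (nat_lit 40) (nat_lit 0xa493d307ce)
  Net.nil)))))))))))))
noncomputable def x182s : ℕ → Net := upd ns180 2 x182
theorem der183 : Der 65 (finX 65) (cl gZ cvZ) x182s := der181.ext (k := 7) (w := [1,0,1,1,1,0,0]) 2 (by decide +kernel)
noncomputable def x184 : Net := (Net.cons (nat_lit 40) (nat_lit 0x7e9ec11a5e)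
  (Net.cons (nat_lit 20) (nat_lit 0xe60b800000a3702)
  (Net.cons (nat_lit 10) (nat_lit 0x22e001490009f00374)
  (Net.cons (nat_lit 5) (nat_lit 0x601002c05060140480a)
  (Net.cons (nat_lit 1) (nat_lit 0x20000000010000000000)
  (Net.cons (nat_lit 1) (nat_lit 0x5010a128420280802048)
  (Net.cons (nat_lit 1) (nat_lit 0x280a4294840140501084)
  (Net.cons (nat_lit 1) (nat_lit 0x1084a1290a428020290a)
  (Net.cons (nat_lit 1) (nat_lit 0x80812802400081004a4)
  (Net.cons (nat_lit 5) (nat_lit 0x481003816020140001c)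
  (Net.cons (nat_lit 10) (nat_lit 0x254000000009e00112)
  (Net.cons (nat_lit 20) (nat_lit 0xee0320000023502)
  (Net.cons (nat_lit 40) (nat_lit 0x7e9f385b0e)
  Net.nil)))))))))))))
noncomputable def x184s : ℕ → Net := upd x182s 3 x184
theorem der185 : Der 65 (finX 65) (cl gZ cvZ) x184s := der183.ext (k := 7) (w := [1,1,0,1,0,1,0,0]) 3 (by decide +kernel)
noncomputable def L186 : Lev := Lev.cons 1 7 [[3]] Lev.nil
noncomputable def L187 : Lev := Lev.cons 43 64 [[2]] L186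
noncomputable def L188 : Lev := Lev.cons 0 65 [[0],[1]] L187
theorem lc189 : Lev.chk 65 4 x184s vT 100 L188 = true := by decide +kernel
theorem lb190 : 29120 ≤ Nat.card (cl gZ cvZ) := le_of_eq_of_le (by decide +kernel) (der185.card_ge lc189)
theorem simpleZ : IsSimpleGroup GZ := modelZ.simple faithZ topZ (ws := [[1],[5,2,0,0,2,0,4]]) (r := 300) (p0 := 0) (l := [(41,[4])]) (by decide +kernel) (p := 13) (by norm_num) cardZ (by norm_num) (pow_one_of heqZ (a := [0,3,4]) (by decide +kernel)) (ncl_top s0Z (cs := [[],[0]]) (by decide +kernel) cardZ lb190)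
noncomputable def mZ : List (List ℕ) := [[7,21,382,2147],[4,41,188,3955],[1,14,102,925],[1,14,99,949],[2071,327,1054,4083],[2071,327,1054,4083]]
noncomputable def iZ : List (List ℕ) := [[4,41,188,3955],[7,21,382,2147],[1,14,99,949],[1,14,102,925],[2071,327,1054,4083],[2071,327,1054,4083]]
theorem isoZ {F : Type u} [Field F] [Fintype F] (hF : Fintype.card F = 8) : Nonempty (GZ ≃* Lie.Sz F 4) := by
  haveI : CharP F 2 := charP_of_card (k := 3) Nat.prime_two hF
  obtain ⟨ω, hω⟩ := exists_w8 hF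
  have hs := sem8 hω
  obtain ⟨g, hg⟩ := mrep_Sz hω (e := 4) (ml := mZ) (inv := iZ) (by decide +kernel)
  have hc : Nat.card (Lie.Sz F 4) = 29120 := by
    exact (S1163.result (m := 1) le_rfl hF).1
  exact bdZ.equivU satZ (hg.sat (il := il) (Rl := RZ) (by decide +kernel)) topZ cardZ simpleZ hc (u := [0]) (w := []) (by decide +kernel) (hg.nev (inj8 hω) (i := 0) (j := 0) (by decide +kernel))

end Cfsg.Agent.H6.Cl.Sz8
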