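import Cfsg.Agent.H6.Sch7
import Cfsg.Agent.H6.F25
import Cfsg.Agent.S0280
set_option maxRecDepth 100000
set_option Elab.async false
namespace Cfsg.Agent.H6.Cl.U35
open Cfsg.Agent.H6
universe u

noncomputable def il : List ℕ := [1,0,3,2,5,4,7,6]
noncomputable abbrev io : ℕ → ℕ := iota il
noncomputable def C1 : List (List ℕ) := []
noncomputable def m2n0 : Net := (Net.cons (nat_lit 64) (nat_lit 0x6e7b3c37c9f6e1c4)
  (Net.cons (nat_lit 32) (nat_lit 0x8cf6ed30000000004dee7179)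
  (Net.cons (nat_lit 16) (nat_lit 0xf92000007cff00003ba3000011dc)
  (Net.cons (nat_lit 8) (nat_lit 0x9600fb00f5000f00e000500096003d)
  (Net.cons (nat_lit 4) (nat_lit 0xc0101030c0a000f05030f0102010f0b)
  (Net.cons (nat_lit 2) (nat_lit 0x21123111132232233210123020312022)
  (Net.cons (nat_lit 1) (nat_lit 0x44151551045401411041440015405004)
  (Net.cons (nat_lit 2) (nat_lit 0x2002020202220020200000000002)
  (Net.cons (nat_lit 4) (nat_lit 0xc060a0c000a0e060204040800080008)
  (Net.cons (nat_lit 8) (nat_lit 0x2000c000ce00d20000001400b6002c)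
  (Net.cons (nat_lit 16) (nat_lit 0x7b8000050c00000e7e800000b2e)
  (Net.cons (nat_lit 32) (nat_lit 0xa218cb7800000000c17b8a08)
  (Net.cons (nat_lit 64) (nat_lit 0x54c6fed5adf8df92)
  Net.nil)))))))))))))
noncomputable def m2n1 : Net := (Net.cons (nat_lit 64) (nat_lit 0x54c6fed5adf8df92)
  (Net.cons (nat_lit 32) (nat_lit 0xa218cb78000000006a945cf6)
  (Net.cons (nat_lit 16) (nat_lit 0x7b80000af3b00000b2e00000816)
  (Net.cons (nat_lit 8) (nat_lit 0x28003f002d003100a7001d001c0005)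
  (Net.cons (nat_lit 4) (nat_lit 0xc090305090e0e0908070f070b0d070f)
  (Net.cons (nat_lit 2) (nat_lit 0x3131221123212111103002021112300)
  (Net.cons (nat_lit 1) (nat_lit 0x41544554440154015101044101404011)
  (Net.cons (nat_lit 2) (nat_lit 0x22022000020202000200022202200002)
  (Net.cons (nat_lit 4) (nat_lit 0xc0e0c0e00000800000e000400040408)
  (Net.cons (nat_lit 8) (nat_lit 0x92000400f0000a00d2002400300020)
  (Net.cons (nat_lit 16) (nat_lit 0xf92000008100000011dc0000b45c)
  (Net.cons (nat_lit 32) (nat_lit 0x8cf6ed3000000000c2119642)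
  (Net.cons (nat_lit 64) (nat_lit 0x6e7b3c37c9f6e1c4)
  Net.nil)))))))))))))
noncomputable def m2n2 : Net := (Net.cons (nat_lit 64) (nat_lit 0xc883aee9f2af74d2)
  (Net.cons (nat_lit 32) (nat_lit 0xf31402750000000095bfc088)
  (Net.cons (nat_lit 16) (nat_lit 0xccaf0000667b0000ed7c0000a82c)
  (Net.cons (nat_lit 8) (nat_lit 0x7000f100e1002200a300a900be008a)
  (Net.cons (nat_lit 4) (nat_lit 0x5000e070b0e010a0b010800020c0208)
  (Net.cons (nat_lit 2) (nat_lit 0x3121232201030023001023031232000)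
  (Net.cons (nat_lit 1) (nat_lit 0x10441014410445144041000050401551)
  (Net.cons (nat_lit 2) (nat_lit 0x200002000220222022000000202000)
  (Net.cons (nat_lit 4) (nat_lit 0x20c02080c0a0c06020e0800020c0208)
  (Net.cons (nat_lit 8) (nat_lit 0xce0000006000f400f000a000b6008a)
  (Net.cons (nat_lit 16) (nat_lit 0x9780000990e0000e95c0000a82c)
  (Net.cons (nat_lit 32) (nat_lit 0x7eabb0f00000000095bbc088)
  (Net.cons (nat_lit 64) (nat_lit 0xc883aee9f2af74d0)
  Net.nil)))))))))))))
noncomputable def m2n4 : Net := (Net.cons (nat_lit 64) (nat_lit 0x7607fcb43de1380d)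
  (Net.cons (nat_lit 32) (nat_lit 0x80a3c7a50000000050560d69)
  (Net.cons (nat_lit 16) (nat_lit 0x5a7800006a99000024270000b158)
  (Net.cons (nat_lit 8) (nat_lit 0x6100e400f400f6000e00de001c00ec)
  (Net.cons (nat_lit 4) (nat_lit 0xa0f0c080b09060d0c0e0903050a0302)
  (Net.cons (nat_lit 2) (nat_lit 0x22332022230221302133000330002)
  (Net.cons (nat_lit 1) (nat_lit 0x1514054445401014111505541501414)
  (Net.cons (nat_lit 2) (nat_lit 0x2002002200200022202000002000200)
  (Net.cons (nat_lit 4) (nat_lit 0xa0c0c080408060802080200040a0202)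
  (Net.cons (nat_lit 8) (nat_lit 0x8000e4009400f600bc001e00060000)
  (Net.cons (nat_lit 16) (nat_lit 0x407800007898000085b20000a258)
  (Net.cons (nat_lit 32) (nat_lit 0x82a3c5240000000050541f20)
  (Net.cons (nat_lit 64) (nat_lit 0x76273cb53de12804)
  Net.nil)))))))))))))
noncomputable def m2n6 : Net := (Net.cons (nat_lit 64) (nat_lit 0x568354af2dd6c01c)
  (Net.cons (nat_lit 32) (nat_lit 0x850b29aa00000000eff117be)
  (Net.cons (nat_lit 16) (nat_lit 0x6d780000c84300006a0600007093)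
  (Net.cons (nat_lit 8) (nat_lit 0xaa00d90053009e00f000da007b0099)
  (Net.cons (nat_lit 4) (nat_lit 0xe09050c0b0b05070804000c0004000a)
  (Net.cons (nat_lit 2) (nat_lit 0x2231131233133323301231032200222)
  (Net.cons (nat_lit 1) (nat_lit 0x10540514055114405151145554111114)
  (Net.cons (nat_lit 2) (nat_lit 0x20000002000202200002000002220022)
  (Net.cons (nat_lit 4) (nat_lit 0x8020a0400020a0400000a0808000000)
  (Net.cons (nat_lit 8) (nat_lit 0x92008e00c6009000fa00ea006200b2)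
  (Net.cons (nat_lit 16) (nat_lit 0xcd160000f4300000a7920000eb88)
  (Net.cons (nat_lit 32) (nat_lit 0xad97291000000000eb820f0c)
  (Net.cons (nat_lit 64) (nat_lit 0x7085548b0dd5c004)
  Net.nil)))))))))))))
noncomputable def m2l : List Net := [m2n0,m2n1,m2n2,m2n2,m2n4,m2n4,m2n6,m2n6]
noncomputable abbrev m2 : ℕ → Net := lk Net.nil m2l
theorem m2ok : NetsOk 126 m2 vT := netsOk_of (by decide +kernel)
theorem m2s0 : Sat io [] (finG m2ok) := fin_sat_nil _ (k := 7) (n := 8) (by decide +kernel)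
noncomputable def m3n0 : Net := (Net.cons (nat_lit 4) (nat_lit 12)
  (Net.cons (nat_lit 2) (nat_lit 49)
  (Net.cons (nat_lit 1) (nat_lit 1)
  (Net.cons (nat_lit 4) (nat_lit 10)
  Net.nil))))
noncomputable def m3n1 : Net := (Net.cons (nat_lit 4) (nat_lit 10)
  (Net.cons (nat_lit 2) (nat_lit 51)
  (Net.cons (nat_lit 1) (nat_lit 4)
  (Net.cons (nat_lit 2) (nat_lit 2)
  (Net.cons (nat_lit 4) (nat_lit 12)
  Net.nil)))))
noncomputable def m3l : List Net := [m3n0,m3n1]
noncomputable abbrev m3 : ℕ → Net := lk Net.nil m3l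
theorem m3ok : NetsOk 7 m3 vT := netsOk_of (by decide +kernel)
theorem m3s0 : Sat io [] (finG m3ok) := fin_sat_nil _ (k := 3) (n := 8) (by decide +kernel)
noncomputable def r0 : List ℕ := [0,0,0,0,0,0,0]
noncomputable def m4n0 : Net := (Net.cons (nat_lit 4) (nat_lit 12)
  (Net.cons (nat_lit 2) (nat_lit 49)
  (Net.cons (nat_lit 1) (nat_lit 1)
  (Net.cons (nat_lit 4) (nat_lit 10)
  Net.nil))))
noncomputable def m4n1 : Net := (Net.cons (nat_lit 4) (nat_lit 10)
  (Net.cons (nat_lit 2) (nat_lit 51)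
  (Net.cons (nat_lit 1) (nat_lit 4)
  (Net.cons (nat_lit 2) (nat_lit 2)
  (Net.cons (nat_lit 4) (nat_lit 12)
  Net.nil)))))
noncomputable def m4l : List Net := [m4n0,m4n1]
noncomputable abbrev m4 : ℕ → Net := lk Net.nil m4l
theorem m4ok : NetsOk 7 m4 vT := netsOk_of (by decide +kernel)
theorem m4s0 : Sat io [] (finG m4ok) := fin_sat_nil _ (k := 3) (n := 8) (by decide +kernel)
noncomputable def C5 : List (List ℕ) := [r0]
theorem cl6 : Clo.{u} io C5 [] 7 m4 1 (mkB []) := Clo.start (by decide +kernel)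
theorem imp7 : Imp.{u} io C5 C1 := Imp.of_chk (pfs := []) (by decide +kernel)
theorem ix8 : Idx.{u} io C5 [] [] 1 := (Idx.triv (Bound.nil) (by norm_num)).of_imp imp7
noncomputable def lk9 : List (List ℕ × List ℕ × Pf) := []
noncomputable def O10 : ℕ := (nat_lit 2)
noncomputable def M11 : ℕ := (nat_lit 3)
noncomputable def b12 : ℕ := (nat_lit 1)
theorem cl13 : Clo.{u} io C5 [] 7 m4 M11 (mkB [(0,b12)]) := cl6.new (k := 0) (b := 0) (q := 0) (p := 1) (r := 200) (n := 1) (O := O10) (by decide +kernel) (lks := lk9) (by decide +kernel) (gens_of_lall2 (m := []) (by decide +kernel)) ix8 (by decide +kernel)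
noncomputable def b14 : ℕ := (nat_lit 2)
theorem cl15 : Clo.{u} io C5 [] 7 m4 M11 (mkB [(0,b12),(1,b14)]) := cl13.ops (os := [Op.inv 0]) (by decide +kernel) (by decide +kernel)
theorem ix16 : Idx.{u} io C5 [] [] 1 := (Idx.triv (Bound.nil) (by norm_num)).of_imp imp7
noncomputable def lk17 : List (List ℕ × List ℕ × Pf) := []
noncomputable def O18 : ℕ := (nat_lit 8)
noncomputable def M19 : ℕ := (nat_lit 11)
noncomputable def b20 : ℕ := (nat_lit 3)
theorem cl21 : Clo.{u} io C5 [] 7 m4 M19 (mkB [(0,b20),(1,b14)]) := cl15.new (k := 0) (b := 0) (q := 1) (p := 3) (r := 200) (n := 1) (O := O18) (by decide +kernel) (lks := lk17) (by decide +kernel) (gens_of_lall2 (m := []) (by decide +kernel)) ix16 (by decide +kernel)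
noncomputable def b22 : ℕ := (nat_lit 10)
theorem cl23 : Clo.{u} io C5 [] 7 m4 M19 (mkB [(0,b20),(1,b22)]) := cl21.ops (os := [Op.inv 0]) (by decide +kernel) (by decide +kernel)
theorem ix24 : Idx.{u} io C5 [] [] 1 := (Idx.triv (Bound.nil) (by norm_num)).of_imp imp7
noncomputable def lk25 : List (List ℕ × List ℕ × Pf) := []
noncomputable def O26 : ℕ := (nat_lit 32)
noncomputable def M27 : ℕ := (nat_lit 43)
noncomputable def b28 : ℕ := (nat_lit 11)
theorem cl29 : Clo.{u} io C5 [] 7 m4 M27 (mkB [(0,b28),(1,b22)]) := cl23.new (k := 0) (b := 0) (q := 3) (p := 5) (r := 200) (n := 1) (O := O26) (by decide +kernel) (lks := lk25) (by decide +kernel) (gens_of_lall2 (m := []) (by decide +kernel)) ix24 (by decide +kernel)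
noncomputable def b30 : ℕ := (nat_lit 42)
theorem cl31 : Clo.{u} io C5 [] 7 m4 M27 (mkB [(0,b28),(1,b30)]) := cl29.ops (os := [Op.inv 0]) (by decide +kernel) (by decide +kernel)
theorem ix32 : Idx.{u} io C5 [] [] 1 := (Idx.triv (Bound.nil) (by norm_num)).of_imp imp7
noncomputable def lk33 : List (List ℕ × List ℕ × Pf) := []
noncomputable def O34 : ℕ := (nat_lit 64)
noncomputable def M35 : ℕ := (nat_lit 107)
noncomputable def b36 : ℕ := (nat_lit 43)
theorem cl37 : Clo.{u} io C5 [] 7 m4 M35 (mkB [(0,b36),(1,b30)]) := cl31.new (k := 0) (b := 0) (q := 5) (p := 6) (r := 200) (n := 1) (O := O34) (by decide +kernel) (lks := lk33) (by decide +kernel) (gens_of_lall2 (m := []) (by decide +kernel)) ix32 (by decide +kernel)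
noncomputable def b38 : ℕ := (nat_lit 106)
theorem cl39 : Clo.{u} io C5 [] 7 m4 M35 (mkB [(0,b36),(1,b38)]) := cl37.ops (os := [Op.inv 0]) (by decide +kernel) (by decide +kernel)
theorem ix40 : Idx.{u} io C5 [] [] 1 := (Idx.triv (Bound.nil) (by norm_num)).of_imp imp7
noncomputable def lk41 : List (List ℕ × List ℕ × Pf) := []
noncomputable def O42 : ℕ := (nat_lit 16)
noncomputable def M43 : ℕ := (nat_lit 123)
noncomputable def b44 : ℕ := (nat_lit 107)
theorem cl45 : Clo.{u} io C5 [] 7 m4 M43 (mkB [(0,b44),(1,b38)]) := cl39.new (k := 0) (b := 0) (q := 6) (p := 4) (r := 200) (n := 1) (O := O42) (by decide +kernel) (lks := lk41) (by decide +kernel) (gens_of_lall2 (m := []) (by decide +kernel)) ix40 (by decide +kernel)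
noncomputable def b46 : ℕ := (nat_lit 122)
theorem cl47 : Clo.{u} io C5 [] 7 m4 M43 (mkB [(0,b44),(1,b46)]) := cl45.ops (os := [Op.inv 0]) (by decide +kernel) (by decide +kernel)
theorem ix48 : Idx.{u} io C5 [] [] 1 := (Idx.triv (Bound.nil) (by norm_num)).of_imp imp7
noncomputable def lk49 : List (List ℕ × List ℕ × Pf) := []
noncomputable def O50 : ℕ := (nat_lit 4)
noncomputable def M51 : ℕ := (nat_lit 127)
noncomputable def b52 : ℕ := (nat_lit 123)
theorem cl53 : Clo.{u} io C5 [] 7 m4 M51 (mkB [(0,b52),(1,b46)]) := cl47.new (k := 0) (b := 0) (q := 4) (p := 2) (r := 200) (n := 1) (O := O50) (by decide +kernel) (lks := lk49) (by decide +kernel) (gens_of_lall2 (m := []) (by decide +kernel)) ix48 (by decide +kernel)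
noncomputable def b54 : ℕ := (nat_lit 127)
noncomputable def b55 : ℕ := (nat_lit 127)
theorem cl56 : Clo.{u} io C5 [] 7 m4 M51 (mkB [(0,b54),(1,b55)]) := cl53.ops (os := [Op.inv 0,Op.rel 0 [] 1 [1,1,1,1,1] [([],1)],Op.inv 0]) (by decide +kernel) (by decide +kernel)
theorem sat58 : Sat io C5 (finG m4ok) := m4s0.fin (k := 3) (by decide +kernel)
theorem bd57 : Bound.{u} io C5 [0,1] 7 := cl56.bound (by decide +kernel) sat58 ((Bound.nil).of_imp imp7)
noncomputable def m59n0 : Net := (Net.cons (nat_lit 24) (nat_lit 0xbc5201)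
  (Net.cons (nat_lit 12) (nat_lit 0x6960008b1)
  (Net.cons (nat_lit 6) (nat_lit 0x3902401202d)
  (Net.cons (nat_lit 3) (nat_lit 0x84140087004)
  (Net.cons (nat_lit 1) (nat_lit 0x1049000040)
  (Net.cons (nat_lit 1) (nat_lit 0x412092002090)
  (Net.cons (nat_lit 1) (nat_lit 0x208001001049)
  (Net.cons (nat_lit 3) (nat_lit 0x106002000104)
  (Net.cons (nat_lit 6) (nat_lit 0xa008022030)
  (Net.cons (nat_lit 12) (nat_lit 0xc30000ca2)
  (Net.cons (nat_lit 24) (nat_lit 0xbe0804)
  Net.nil)))))))))))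
noncomputable def m59n1 : Net := (Net.cons (nat_lit 24) (nat_lit 0x41f7fb)
  (Net.cons (nat_lit 12) (nat_lit 0x35d000623)
  (Net.cons (nat_lit 6) (nat_lit 0xf032023008)
  (Net.cons (nat_lit 3) (nat_lit 0x1040871461c2)
  (Net.cons (nat_lit 1) (nat_lit 0x201008208008)
  (Net.cons (nat_lit 1) (nat_lit 0x402010490412)
  (Net.cons (nat_lit 1) (nat_lit 0x41000040209)
  (Net.cons (nat_lit 3) (nat_lit 0x100000180084)
  (Net.cons (nat_lit 6) (nat_lit 0x12010018020)
  (Net.cons (nat_lit 12) (nat_lit 0x74e000f80)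
  (Net.cons (nat_lit 24) (nat_lit 0x43adfe)
  Net.nil)))))))))))
noncomputable def m59n2 : Net := (Net.cons (nat_lit 24) (nat_lit 0xffb100)
  (Net.cons (nat_lit 12) (nat_lit 0xda8000140)
  (Net.cons (nat_lit 6) (nat_lit 0x8004004022)
  (Net.cons (nat_lit 3) (nat_lit 0x7046007101)
  (Net.cons (nat_lit 1) (nat_lit 0x40000049000)
  (Net.cons (nat_lit 1) (nat_lit 0x80002092092)
  (Net.cons (nat_lit 1) (nat_lit 0x49008049200)
  (Net.cons (nat_lit 3) (nat_lit 0x6000100)
  (Net.cons (nat_lit 6) (nat_lit 0x8000004022)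
  (Net.cons (nat_lit 12) (nat_lit 0x128000140)
  (Net.cons (nat_lit 24) (nat_lit 0xffb100)
  Net.nil)))))))))))
noncomputable def m59l : List Net := [m59n0,m59n1,m59n2,m59n2]
noncomputable abbrev m59 : ℕ → Net := lk Net.nil m59l
theorem m59ok : NetsOk 42 m59 vT := netsOk_of (by decide +kernel)
theorem m59s0 : Sat io [] (finG m59ok) := fin_sat_nil _ (k := 6) (n := 8) (by decide +kernel)
noncomputable def r1 : List ℕ := [2,2]
noncomputable def r2 : List ℕ := [2,0,2,0,2,0,2,0]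
noncomputable def r3 : List ℕ := [2,0,0,2,0,0,2,0,0]
noncomputable def r4 : List ℕ := [3,1,1,1,3,0,3,0,2,1,2,0,0,0,2,1,1]
noncomputable def m60n0 : Net := (Net.cons (nat_lit 12) (nat_lit 2560)
  (Net.cons (nat_lit 6) (nat_lit 57388)
  (Net.cons (nat_lit 3) (nat_lit 0x1470c2)
  (Net.cons (nat_lit 1) (nat_lit 0x48000)
  (Net.cons (nat_lit 1) (nat_lit 0x90482)
  (Net.cons (nat_lit 1) (nat_lit 37384)
  (Net.cons (nat_lit 3) (nat_lit 0x100002)
  (Net.cons (nat_lit 6) (nat_lit 32802)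
  (Net.cons (nat_lit 12) (nat_lit 2176)
  Net.nil)))))))))
noncomputable def m60n1 : Net := (Net.cons (nat_lit 12) (nat_lit 2176)
  (Net.cons (nat_lit 6) (nat_lit 0x19022)
  (Net.cons (nat_lit 3) (nat_lit 0xc71c2)
  (Net.cons (nat_lit 1) (nat_lit 4160)
  (Net.cons (nat_lit 1) (nat_lit 0x402482)
  (Net.cons (nat_lit 1) (nat_lit 0x209008)
  (Net.cons (nat_lit 3) (nat_lit 8450)
  (Net.cons (nat_lit 6) (nat_lit 0x1c02c)
  (Net.cons (nat_lit 12) (nat_lit 2560)
  Net.nil)))))))))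
noncomputable def m60n2 : Net := (Net.cons (nat_lit 12) (nat_lit 1989)
  (Net.cons (nat_lit 6) (nat_lit 0x1e034)
  (Net.cons (nat_lit 3) (nat_lit 0x182080)
  (Net.cons (nat_lit 1) (nat_lit 32833)
  (Net.cons (nat_lit 1) (nat_lit 0x92092)
  (Net.cons (nat_lit 1) (nat_lit 0x41008)
  (Net.cons (nat_lit 3) (nat_lit 0x80182)
  (Net.cons (nat_lit 6) (nat_lit 0x3000e)
  (Net.cons (nat_lit 12) (nat_lit 2106)
  Net.nil)))))))))
noncomputable def m60l : List Net := [m60n0,m60n1,m60n2,m60n2]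
noncomputable abbrev m60 : ℕ → Net := lk Net.nil m60l
theorem m60ok : NetsOk 24 m60 vT := netsOk_of (by decide +kernel)
theorem m60s0 : Sat io [] (finG m60ok) := fin_sat_nil _ (k := 5) (n := 8) (by decide +kernel)
noncomputable def C61 : List (List ℕ) := [r0,r1,r2,r3,r4]
theorem cl62 : Clo.{u} io C61 [0,1] 24 m60 1 (mkB []) := Clo.start (by decide +kernel)
theorem imp63 : Imp.{u} io C61 C5 := Imp.of_chk (pfs := [[([],1)]]) (by decide +kernel)
theorem ix64 : Idx.{u} io C61 [0,1] [] 7 := (Idx.triv bd57 (by norm_num)).of_imp imp63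
noncomputable def lk65 : List (List ℕ × List ℕ × Pf) := []
noncomputable def O66 : ℕ := (nat_lit 1374)
noncomputable def M67 : ℕ := (nat_lit 1375)
noncomputable def b68 : ℕ := (nat_lit 1)
theorem cl69 : Clo.{u} io C61 [0,1] 24 m60 M67 (mkB [(2,b68)]) := cl62.new (k := 2) (b := 2) (q := 0) (p := 1) (r := 200) (n := 7) (O := O66) (by decide +kernel) (lks := lk65) (by decide +kernel) (gens_of_lall2 (m := []) (by decide +kernel)) ix64 (by decide +kernel)
noncomputable def b70 : ℕ := (nat_lit 83)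
noncomputable def b71 : ℕ := (nat_lit 83)
theorem cl72 : Clo.{u} io C61 [0,1] 24 m60 M67 (mkB [(2,b70),(3,b71)]) := cl69.ops (os := [Op.inv 2,Op.rel 2 [] 3 [] [([],3)],Op.inv 2,Op.rel 2 [0,0] 3 [1,1,3,1,1] [([3],7)],Op.inv 2,Op.rel 2 [] 3 [] [([],3)],Op.inv 2]) (by decide +kernel) (by decide +kernel)
theorem ix73 : Idx.{u} io C61 [0,1] [] 7 := (Idx.triv bd57 (by norm_num)).of_imp imp63
noncomputable def lk74 : List (List ℕ × List ℕ × Pf) := []
noncomputable def O75 : ℕ := (nat_lit 0x4aaa0)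
noncomputable def M76 : ℕ := (nat_lit 0x4afff)
noncomputable def b77 : ℕ := (nat_lit 87)
theorem cl78 : Clo.{u} io C61 [0,1] 24 m60 M76 (mkB [(2,b77),(3,b71)]) := cl72.new (k := 2) (b := 2) (q := 2) (p := 5) (r := 200) (n := 7) (O := O75) (by decide +kernel) (lks := lk74) (by decide +kernel) (gens_of_lall2 (m := []) (by decide +kernel)) ix73 (by decide +kernel)
noncomputable def b79 : ℕ := (nat_lit 2815)
noncomputable def b80 : ℕ := (nat_lit 2815)
theorem cl81 : Clo.{u} io C61 [0,1] 24 m60 M76 (mkB [(2,b79),(3,b80)]) := cl78.ops (os := [Op.inv 2,Op.rel 2 [] 3 [] [([],3)],Op.inv 2,Op.rel 2 [0] 3 [1,3,1,3,1] [([3],5)],Op.inv 2,Op.rel 2 [] 3 [] [([],3)],Op.inv 2,Op.rel 2 [0] 3 [1,3,1,3,1] [([3],5)],Op.inv 2,Op.rel 2 [] 3 [] [([],3)],Op.inv 2]) (by decide +kernel) (by decide +kernel)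
theorem der83 : Der 7 (finX 7) (cl (finG m3ok) [[1,1]]) (fun _ => Net.nil) := Der.zero (finModel m3ok).inj
noncomputable def x84 : Net := (Net.cons (nat_lit 4) (nat_lit 13)
  (Net.cons (nat_lit 2) (nat_lit 16)
  (Net.cons (nat_lit 1) (nat_lit 80)
  (Net.cons (nat_lit 4) (nat_lit 10)
  Net.nil))))
noncomputable def ns85 : ℕ → Net := upd (fun _ => Net.nil) 0 x84
theorem der86 : Der 7 (finX 7) (cl (finG m3ok) [[1,1]]) ns85 := der83.add (wp_mem_cl (w := [1,1]) (by decide)) ((finModel m3ok).toIsPre.rep_word (k := 3) (w := [1,1]) (n := x84) (by decide +kernel)) 0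
noncomputable def L87 : Lev := Lev.cons 0 7 [[0]] Lev.nil
theorem lc88 : Lev.chk 7 0 ns85 vT 100 L87 = true := by decide +kernel
theorem lb89 : 7 ≤ Nat.card (cl (finG m3ok) [[1,1]]) := le_of_eq_of_le (by decide +kernel) (der86.card_ge lc88)
theorem sat90 : Sat io C5 (finG m3ok) := m3s0.fin (k := 3) (by decide +kernel)
theorem ix82 : Idx.{u} io C61 [0,1] [[1,1]] 1 := (Idx.of bd57 sat90 (by decide +kernel) lb89 (by decide +kernel)).of_imp imp63
noncomputable def lk91 : List (List ℕ × List ℕ × Pf) := [([1,1],[1,1,1,3,0,3,1,2,1,2,0,0,0],[([3,1,1,1,3,0,3,1,2,1,2,0,0,0,2],9)])]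
noncomputable def O92 : ℕ := (nat_lit 0x800000)
noncomputable def M93 : ℕ := (nat_lit 0x84afff)
noncomputable def b94 : ℕ := (nat_lit 0x40aff)
theorem cl95 : Clo.{u} io C61 [0,1] 24 m60 M93 (mkB [(2,b79),(3,b94)]) := cl81.new (k := 2) (b := 3) (q := 18) (p := 23) (r := 200) (n := 1) (O := O92) (by decide +kernel) (lks := lk91) (by decide +kernel) (gens_of_lall2 (m := [[0]]) (by decide +kernel)) ix82 (by decide +kernel)
noncomputable def b96 : ℕ := (nat_lit 0x840aff)
noncomputable def b97 : ℕ := (nat_lit 0x840aff)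
theorem cl98 : Clo.{u} io C61 [0,1] 24 m60 M93 (mkB [(2,b96),(3,b97)]) := cl95.ops (os := [Op.inv 3,Op.rel 2 [] 3 [] [([],3)],Op.inv 2]) (by decide +kernel) (by decide +kernel)
theorem ix99 : Idx.{u} io C61 [0,1] [] 7 := (Idx.triv bd57 (by norm_num)).of_imp imp63
noncomputable def lk100 : List (List ℕ × List ℕ × Pf) := []
noncomputable def O101 : ℕ := (nat_lit 0x3b5000)
noncomputable def M102 : ℕ := (nat_lit 0xbfffff)
noncomputable def b103 : ℕ := (nat_lit 0x842aff)
theorem cl104 : Clo.{u} io C61 [0,1] 24 m60 M102 (mkB [(2,b103),(3,b97)]) := cl98.new (k := 2) (b := 2) (q := 13) (p := 19) (r := 200) (n := 7) (O := O101) (by decide +kernel) (lks := lk100) (by decide +kernel) (gens_of_lall2 (m := []) (by decide +kernel)) ix99 (by decide +kernel)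
noncomputable def b105 : ℕ := (nat_lit 0xbdffff)
noncomputable def b106 : ℕ := (nat_lit 0xbdffff)
theorem cl107 : Clo.{u} io C61 [0,1] 24 m60 M102 (mkB [(2,b105),(3,b106)]) := cl104.ops (os := [Op.inv 2,Op.rel 2 [] 3 [] [([],3)],Op.inv 2,Op.rel 2 [0] 3 [1,3,1,3,1] [([3],5)],Op.inv 2,Op.rel 2 [] 3 [] [([],3)],Op.inv 2,Op.rel 2 [0] 3 [1,3,1,3,1] [([3],5)],Op.inv 2,Op.rel 2 [] 3 [] [([],3)],Op.inv 2,Op.rel 2 [0,0] 3 [1,1,3,1,1] [([3],7)],Op.inv 2,Op.rel 2 [] 3 [] [([],3)],Op.inv 2]) (by decide +kernel) (by decide +kernel)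
theorem der109 : Der 7 (finX 7) (cl (finG m3ok) [[0]]) (fun _ => Net.nil) := Der.zero (finModel m3ok).inj
noncomputable def ns110 : ℕ → Net := upd (fun _ => Net.nil) 0 (m3 0)
theorem der111 : Der 7 (finX 7) (cl (finG m3ok) [[0]]) ns110 := der109.add (wp_mem_cl (w := [0]) (by decide)) (rep_letter (finModel m3ok) 0) 0
noncomputable def L112 : Lev := Lev.cons 0 7 [[0]] Lev.nil
theorem lc113 : Lev.chk 7 0 ns110 vT 100 L112 = true := by decide +kernel
theorem lb114 : 7 ≤ Nat.card (cl (finG m3ok) [[0]]) := le_of_eq_of_le (by decide +kernel) (der111.card_ge lc113)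
theorem ix108 : Idx.{u} io C61 [0,1] [[0]] 1 := (Idx.of bd57 sat90 (by decide +kernel) lb114 (by decide +kernel)).of_imp imp63
noncomputable def lk115 : List (List ℕ × List ℕ × Pf) := [([0],[1,2,0,0,0,2,0,0,3,1,1,1,3,0],[([2,1,2,0,0,0,2],9)])]
noncomputable def O116 : ℕ := (nat_lit 0x400000)
noncomputable def M117 : ℕ := (nat_lit 0xffffff)
noncomputable def b118 : ℕ := (nat_lit 0xbfffff)
theorem cl119 : Clo.{u} io C61 [0,1] 24 m60 M117 (mkB [(2,b118),(3,b106)]) := cl107.new (k := 2) (b := 2) (q := 17) (p := 22) (r := 200) (n := 1) (O := O116) (by decide +kernel) (lks := lk115) (by decide +kernel) (gens_of_lall2 (m := [[0]]) (by decide +kernel)) ix108 (by decide +kernel)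
noncomputable def b120 : ℕ := (nat_lit 0xffffff)
noncomputable def b121 : ℕ := (nat_lit 0xffffff)
theorem cl122 : Clo.{u} io C61 [0,1] 24 m60 M117 (mkB [(2,b120),(3,b121)]) := cl119.ops (os := [Op.inv 2,Op.rel 2 [] 3 [] [([],3)],Op.inv 2]) (by decide +kernel) (by decide +kernel)
theorem sat124 : Sat io C61 (finG m60ok) := m60s0.fin (k := 5) (by decide +kernel)
theorem bd123 : Bound.{u} io C61 [0,1,2,3] 168 := cl122.bound (by decide +kernel) sat124 (bd57.of_imp imp63)
noncomputable def m125n0 : Net := (Net.cons (nat_lit 64) (nat_lit 0x73a8192d0511ffd0)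
  (Net.cons (nat_lit 32) (nat_lit 0x6d898cc00000000b6acaee8)
  (Net.cons (nat_lit 16) (nat_lit 0x13e90000394100006049000009d8)
  (Net.cons (nat_lit 8) (nat_lit 0x9e00f6006f0062006f001400640004)
  (Net.cons (nat_lit 4) (nat_lit 0xb0a000e0d070d00090e0c030104020c)
  (Net.cons (nat_lit 2) (nat_lit 0x21010323321302322132201221021331)
  (Net.cons (nat_lit 1) (nat_lit 0x44510450415114411041514114541441)
  (Net.cons (nat_lit 2) (nat_lit 0x200000022000002020222020000)
  (Net.cons (nat_lit 4) (nat_lit 0x40c020002040a0600000e040c060602)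
  (Net.cons (nat_lit 8) (nat_lit 0xe2008c0036008a00a0001000b000a8)
  (Net.cons (nat_lit 16) (nat_lit 0x7a920000490a0000d98c00000c5a)
  (Net.cons (nat_lit 32) (nat_lit 0x234a76080000000032813eb2)
  (Net.cons (nat_lit 64) (nat_lit 0x52a94808deeae238)
  Net.nil)))))))))))))
noncomputable def m125n1 : Net := (Net.cons (nat_lit 64) (nat_lit 0x52a94808deeae238)
  (Net.cons (nat_lit 32) (nat_lit 0x234a76080000000032853eb2)
  (Net.cons (nat_lit 16) (nat_lit 0x846d0000b6f600000f2300002a5a)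
  (Net.cons (nat_lit 8) (nat_lit 0x8c00e1000900ce004e005e00b000a8)
  (Net.cons (nat_lit 4) (nat_lit 0x2000b0c020b090c0e0e060f06060302)
  (Net.cons (nat_lit 2) (nat_lit 0x1132001232132133312221033021233)
  (Net.cons (nat_lit 1) (nat_lit 0x1505450150141151111114141541114)
  (Net.cons (nat_lit 2) (nat_lit 0x200000000202002200202020002)
  (Net.cons (nat_lit 4) (nat_lit 0xe040a040e0406000408060204040c)
  (Net.cons (nat_lit 8) (nat_lit 0xf600ba00f2005000e4001000240044)
  (Net.cons (nat_lit 16) (nat_lit 0xec120000ceb6000011b200005998)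
  (Net.cons (nat_lit 32) (nat_lit 0x6d898cc00000000b6acae68)
  (Net.cons (nat_lit 64) (nat_lit 0x73a8192d0511ffd0)
  Net.nil)))))))))))))
noncomputable def m125n2 : Net := (Net.cons (nat_lit 64) (nat_lit 0xa73c9e9a97257510)
  (Net.cons (nat_lit 32) (nat_lit 0x6958295c00000000d7a4cf56)
  (Net.cons (nat_lit 16) (nat_lit 0x7710000098c80000363c0000c4a0)
  (Net.cons (nat_lit 8) (nat_lit 0xb8009400d800e8001f001b00480044)
  (Net.cons (nat_lit 4) (nat_lit 0xc080a000b050e02010e000408020e00)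
  (Net.cons (nat_lit 2) (nat_lit 0x20001203132232302132131300212003)
  (Net.cons (nat_lit 1) (nat_lit 0x14150450144001041141144115101115)
  (Net.cons (nat_lit 2) (nat_lit 0x200200022002002020200000202000)
  (Net.cons (nat_lit 4) (nat_lit 0xc08020004040e02000c040008000a00)
  (Net.cons (nat_lit 8) (nat_lit 0x80009400d800c800a000e400000044)
  (Net.cons (nat_lit 16) (nat_lit 0x7410000098c80000861c0000c4a0)
  (Net.cons (nat_lit 32) (nat_lit 0x6918295c0000000097a4cf56)
  (Net.cons (nat_lit 64) (nat_lit 0xa73c9e9a97257510)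
  Net.nil)))))))))))))
noncomputable def m125n4 : Net := (Net.cons (nat_lit 64) (nat_lit 0x7f07249998944260)
  (Net.cons (nat_lit 32) (nat_lit 0x432fef290000000081e21a60)
  (Net.cons (nat_lit 16) (nat_lit 0x9c6000008da9000054cc000035ce)
  (Net.cons (nat_lit 8) (nat_lit 0xaf0065002f0057005f009e003c00c8)
  (Net.cons (nat_lit 4) (nat_lit 0xe0c0f00050a020d05090a020c0e070d)
  (Net.cons (nat_lit 2) (nat_lit 0x12300213223012013003200320230202)
  (Net.cons (nat_lit 1) (nat_lit 0x54445405111444414001044005004444)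
  (Net.cons (nat_lit 2) (nat_lit 0x220200200000020000000000002002)
  (Net.cons (nat_lit 4) (nat_lit 0xa0e0008080c00060a08000c04080c)
  (Net.cons (nat_lit 8) (nat_lit 0x3c006400ac005400a000a4000000c8)
  (Net.cons (nat_lit 16) (nat_lit 0x9d600000b35a000054cc000035ce)
  (Net.cons (nat_lit 32) (nat_lit 0x522e78200000000081e21a60)
  (Net.cons (nat_lit 64) (nat_lit 0x7f07249998944260)
  Net.nil)))))))))))))
noncomputable def m125l : List Net := [m125n0,m125n1,m125n2,m125n2,m125n4,m125n4]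
noncomputable abbrev m125 : ℕ → Net := lk Net.nil m125l
theorem m125ok : NetsOk 126 m125 vT := netsOk_of (by decide +kernel)
theorem m125s0 : Sat io [] (finG m125ok) := fin_sat_nil _ (k := 7) (n := 8) (by decide +kernel)
noncomputable def r5 : List ℕ := [4,4]
noncomputable def r6 : List ℕ := [5,2,4,3]
noncomputable def r7 : List ℕ := [5,1,3,0,0,0,4,3,1,3,0,0,0,3]
noncomputable def r8 : List ℕ := [5,1,1,3,4,0,4,1,3,1,1]
noncomputable def m126n0 : Net := (Net.cons (nat_lit 8) (nat_lit 138)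
  (Net.cons (nat_lit 4) (nat_lit 520)
  (Net.cons (nat_lit 2) (nat_lit 4370)
  (Net.cons (nat_lit 1) (nat_lit 16660)
  (Net.cons (nat_lit 2) (nat_lit 8226)
  (Net.cons (nat_lit 4) (nat_lit 3596)
  (Net.cons (nat_lit 8) (nat_lit 168)
  Net.nil)))))))
noncomputable def m126n1 : Net := (Net.cons (nat_lit 8) (nat_lit 168)
  (Net.cons (nat_lit 4) (nat_lit 3596)
  (Net.cons (nat_lit 2) (nat_lit 4882)
  (Net.cons (nat_lit 1) (nat_lit 5188)
  (Net.cons (nat_lit 2) (nat_lit 8738)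
  (Net.cons (nat_lit 4) (nat_lit 520)
  (Net.cons (nat_lit 8) (nat_lit 138)
  Net.nil)))))))
noncomputable def m126n2 : Net := (Net.cons (nat_lit 8) (nat_lit 138)
  (Net.cons (nat_lit 4) (nat_lit 1034)
  (Net.cons (nat_lit 2) (nat_lit 8754)
  (Net.cons (nat_lit 1) (nat_lit 4356)
  (Net.cons (nat_lit 2) (nat_lit 8706)
  (Net.cons (nat_lit 4) (nat_lit 10)
  (Net.cons (nat_lit 8) (nat_lit 138)
  Net.nil)))))))
noncomputable def m126n4 : Net := (Net.cons (nat_lit 8) (nat_lit 1)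
  (Net.cons (nat_lit 4) (nat_lit 1028)
  (Net.cons (nat_lit 2) (nat_lit 512)
  (Net.cons (nat_lit 1) (nat_lit 273)
  (Net.cons (nat_lit 2) (nat_lit 2)
  (Net.cons (nat_lit 8) (nat_lit 10)
  Net.nil))))))
noncomputable def m126l : List Net := [m126n0,m126n1,m126n2,m126n2,m126n4,m126n4]
noncomputable abbrev m126 : ℕ → Net := lk Net.nil m126l
theorem m126ok : NetsOk 15 m126 vT := netsOk_of (by decide +kernel)
theorem m126s0 : Sat io [] (finG m126ok) := fin_sat_nil _ (k := 4) (n := 8) (by decide +kernel)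
noncomputable def C127 : List (List ℕ) := [r0,r1,r2,r3,r4,r5,r6,r7,r8]
theorem cl128 : Clo.{u} io C127 [0,1,2,3] 15 m126 1 (mkB []) := Clo.start (by decide +kernel)
theorem imp129 : Imp.{u} io C127 C61 := Imp.of_chk (pfs := [[([],1)],[([],3)],[([],5)],[([],7)],[([],9)]]) (by decide +kernel)
theorem der131 : Der 42 (finX 42) (cl (finG m59ok) [[2],[1,3,0,0,0]]) (fun _ => Net.nil) := Der.zero (finModel m59ok).inj
noncomputable def ns132 : ℕ → Net := upd (fun _ => Net.nil) 0 (m59 2)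
theorem der133 : Der 42 (finX 42) (cl (finG m59ok) [[2],[1,3,0,0,0]]) ns132 := der131.add (wp_mem_cl (w := [2]) (by decide)) (rep_letter (finModel m59ok) 2) 0
noncomputable def x134 : Net := (Net.cons (nat_lit 24) (nat_lit 0xc27d20)
  (Net.cons (nat_lit 12) (nat_lit 0x3cc000585)
  (Net.cons (nat_lit 6) (nat_lit 0xb03600e02a)
  (Net.cons (nat_lit 3) (nat_lit 0x180084087145)
  (Net.cons (nat_lit 1) (nat_lit 0x201001048048)
  (Net.cons (nat_lit 1) (nat_lit 0x492082090090)
  (Net.cons (nat_lit 1) (nat_lit 0x208009240001)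
  (Net.cons (nat_lit 3) (nat_lit 0x84104002004)
  (Net.cons (nat_lit 6) (nat_lit 0x12036010020)
  (Net.cons (nat_lit 12) (nat_lit 0x3f80007e2)
  (Net.cons (nat_lit 24) (nat_lit 0xc0c17c)
  Net.nil)))))))))))
noncomputable def ns135 : ℕ → Net := upd ns132 1 x134
theorem der136 : Der 42 (finX 42) (cl (finG m59ok) [[2],[1,3,0,0,0]]) ns135 := der133.add (wp_mem_cl (w := [1,3,0,0,0]) (by decide)) ((finModel m59ok).toIsPre.rep_word (k := 6) (w := [1,3,0,0,0]) (n := x134) (by decide +kernel)) 1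
noncomputable def L137 : Lev := Lev.cons 0 12 [[0],[1]] Lev.nil
theorem lc138 : Lev.chk 42 3 ns135 vT 100 L137 = true := by decide +kernel
theorem lb139 : 12 ≤ Nat.card (cl (finG m59ok) [[2],[1,3,0,0,0]]) := le_of_eq_of_le (by decide +kernel) (der136.card_ge lc138)
theorem sat140 : Sat io C61 (finG m59ok) := m59s0.fin (k := 6) (by decide +kernel)
theorem ix130 : Idx.{u} io C127 [0,1,2,3] [[2],[1,3,0,0,0]] 14 := (Idx.of bd123 sat140 (by decide +kernel) lb139 (by decide +kernel)).of_imp imp129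
noncomputable def lk141 : List (List ℕ × List ℕ × Pf) := [([2],[2],[([4],13)]),([1,3,0,0,0],[2,1,1,1,2,0,2],[([4],15)])]
noncomputable def O142 : ℕ := (nat_lit 32766)
noncomputable def M143 : ℕ := (nat_lit 32767)
noncomputable def b144 : ℕ := (nat_lit 1)
theorem cl145 : Clo.{u} io C127 [0,1,2,3] 15 m126 M143 (mkB [(4,b144)]) := cl128.new (k := 1) (b := 4) (q := 0) (p := 1) (r := 200) (n := 14) (O := O142) (by decide +kernel) (lks := lk141) (by decide +kernel) (gens_of_lall2 (m := [[0],[1]]) (by decide +kernel)) ix130 (by decide +kernel)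
noncomputable def b146 : ℕ := (nat_lit 32767)
noncomputable def b147 : ℕ := (nat_lit 32767)
theorem cl148 : Clo.{u} io C127 [0,1,2,3] 15 m126 M143 (mkB [(4,b146),(5,b147)]) := cl145.ops (os := [Op.inv 4,Op.rel 4 [] 5 [] [([],11)],Op.inv 4,Op.rel 5 [1,3,1,1] 5 [1,5,2,0,0] [([5,1,5,2,0,0,4],17)],Op.ext 5 3 [([3],[3],[([5,3,4],13)]),([2],[2],[([],12)]),([3,1,3,0,0,0,3],[1,1,1,2,0],[([5,1,1,1,2,0,4],15)]),([2,1,1,1,2,0,2],[1,3,0,0,0],[([],14)])],Op.inv 5,Op.rel 5 [1,3,1,1] 5 [1,5,2,0,0] [([5,1,5,2,0,0,4],17)],Op.inv 5]) (by decide +kernel) (by decide +kernel)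
theorem sat150 : Sat io C127 (finG m126ok) := m126s0.fin (k := 4) (by decide +kernel)
theorem bd149 : Bound.{u} io C127 [0,1,2,3,4,5] 2520 := cl148.bound (by decide +kernel) sat150 (bd123.of_imp imp129)
noncomputable def r9 : List ℕ := [6,6]
noncomputable def r10 : List ℕ := [6,2,6,2,6,2]
noncomputable def r11 : List ℕ := [7,1,2,0,6,1,1,1,3,0,0,5,0,3]
noncomputable def r12 : List ℕ := [6,3,0,0,7,1,1,3,0,3,1,5,1,1]
noncomputable def r13 : List ℕ := [6,1,2,0,7,1,1,1,3,0,0,5,0,3]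
noncomputable def r14 : List ℕ := [7,1,7,4,6,0,6,0,0,0,3,0,3,1,1]
noncomputable def m151n0 : Net := (Net.cons (nat_lit 32) (nat_lit 0x6c2c64f2)
  (Net.cons (nat_lit 16) (nat_lit 0xaf3e00007c32)
  (Net.cons (nat_lit 8) (nat_lit 0x8500420099000a)
  (Net.cons (nat_lit 4) (nat_lit 0xc09040e010c0308)
  (Net.cons (nat_lit 2) (nat_lit 0x2323120133012200)
  (Net.cons (nat_lit 1) (nat_lit 0x4410044514050104)
  (Net.cons (nat_lit 2) (nat_lit 0x200020022000202)
  (Net.cons (nat_lit 4) (nat_lit 0x800000a00060a0c)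
  (Net.cons (nat_lit 8) (nat_lit 0x80000200680018)
  (Net.cons (nat_lit 16) (nat_lit 0x831e0000ecf0)
  (Net.cons (nat_lit 32) (nat_lit 0x6c2f882c)
  Net.nil)))))))))))
noncomputable def m151n1 : Net := (Net.cons (nat_lit 32) (nat_lit 0x6c2f882c)
  (Net.cons (nat_lit 16) (nat_lit 0x823e0000ecf0)
  (Net.cons (nat_lit 8) (nat_lit 0x42002300920018)
  (Net.cons (nat_lit 4) (nat_lit 0x20c030c040f010c)
  (Net.cons (nat_lit 2) (nat_lit 0x2031310323012202)
  (Net.cons (nat_lit 1) (nat_lit 0x441414141141004)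
  (Net.cons (nat_lit 2) (nat_lit 0x200200222002000)
  (Net.cons (nat_lit 4) (nat_lit 0xa00040a0e0808)
  (Net.cons (nat_lit 8) (nat_lit 0x6400620060000a)
  (Net.cons (nat_lit 16) (nat_lit 0xee3e00007c32)
  (Net.cons (nat_lit 32) (nat_lit 0x6c2c64f2)
  Net.nil)))))))))))
noncomputable def m151n2 : Net := (Net.cons (nat_lit 32) (nat_lit 0x86500012)
  (Net.cons (nat_lit 16) (nat_lit 0x438800005190)
  (Net.cons (nat_lit 8) (nat_lit 0xd000a0002100a8)
  (Net.cons (nat_lit 4) (nat_lit 0x200040e020b0008)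
  (Net.cons (nat_lit 2) (nat_lit 0x3102220200000302)
  (Net.cons (nat_lit 1) (nat_lit 0x5040401101110000)
  (Net.cons (nat_lit 2) (nat_lit 0x200200000000)
  (Net.cons (nat_lit 4) (nat_lit 0x200040a02000008)
  (Net.cons (nat_lit 8) (nat_lit 0xd000a000000088)
  (Net.cons (nat_lit 16) (nat_lit 0x438800000190)
  (Net.cons (nat_lit 32) (nat_lit 0x86500012)
  Net.nil)))))))))))
noncomputable def m151n4 : Net := (Net.cons (nat_lit 32) (nat_lit 0x26600000)
  (Net.cons (nat_lit 16) (nat_lit 0x322800000a00)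
  (Net.cons (nat_lit 8) (nat_lit 0x32008000080054)
  (Net.cons (nat_lit 4) (nat_lit 0x408000e00010c02)
  (Net.cons (nat_lit 2) (nat_lit 0x2000230210000210)
  (Net.cons (nat_lit 1) (nat_lit 0x4050000101041104)
  (Net.cons (nat_lit 2) (nat_lit 0x2000000200000200)
  (Net.cons (nat_lit 4) (nat_lit 0x408000800000800)
  (Net.cons (nat_lit 8) (nat_lit 0x30008000080054)
  (Net.cons (nat_lit 16) (nat_lit 0x322800000a00)
  (Net.cons (nat_lit 32) (nat_lit 0x26600000)
  Net.nil)))))))))))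
noncomputable def m151n6 : Net := (Net.cons (nat_lit 32) (nat_lit 0x9824c084)
  (Net.cons (nat_lit 16) (nat_lit 0x3a2000002444)
  (Net.cons (nat_lit 8) (nat_lit 0x200d500c200c8)
  (Net.cons (nat_lit 4) (nat_lit 0x4090f00000400)
  (Net.cons (nat_lit 2) (nat_lit 0x2020102320110100)
  (Net.cons (nat_lit 1) (nat_lit 0x40040001001001)
  (Net.cons (nat_lit 2) (nat_lit 0x20000000000000)
  (Net.cons (nat_lit 4) (nat_lit 0x4080400000400)
  (Net.cons (nat_lit 8) (nat_lit 0x8400c20040)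
  (Net.cons (nat_lit 16) (nat_lit 0x322000002044)
  (Net.cons (nat_lit 32) (nat_lit 0x9824c084)
  Net.nil)))))))))))
noncomputable def m151l : List Net := [m151n0,m151n1,m151n2,m151n2,m151n4,m151n4,m151n6,m151n6]
noncomputable abbrev m151 : ℕ → Net := lk Net.nil m151l
theorem m151ok : NetsOk 50 m151 vT := netsOk_of (by decide +kernel)
theorem m151s0 : Sat io [] (finG m151ok) := fin_sat_nil _ (k := 6) (n := 8) (by decide +kernel)
noncomputable def C152 : List (List ℕ) := [r0,r1,r2,r3,r4,r5,r6,r7,r8,r9,r10,r11,r12,r13,r14]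
theorem cl153 : Clo.{u} io C152 [0,1,2,3,4,5] 50 m151 1 (mkB []) := Clo.start (by decide +kernel)
theorem imp154 : Imp.{u} io C152 C127 := Imp.of_chk (pfs := [[([],1)],[([],3)],[([],5)],[([],7)],[([],9)],[([],11)],[([],13)],[([],15)],[([],17)]]) (by decide +kernel)
theorem der156 : Der 126 (finX 126) (cl (finG m125ok) [[1,2,0],[1,1,3,0,3,1,5,1,1]]) (fun _ => Net.nil) := Der.zero (finModel m125ok).inj
noncomputable def x157 : Net := (Net.cons (nat_lit 64) (nat_lit 0xb1be662da8808110)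
  (Net.cons (nat_lit 32) (nat_lit 0xcde4d1c8000000002c669714)
  (Net.cons (nat_lit 16) (nat_lit 0x80a00000ffc00004fb000005e5e)
  (Net.cons (nat_lit 8) (nat_lit 0x7b0094009c0082005400fa007200e3)
  (Net.cons (nat_lit 4) (nat_lit 0xc08040f0a040800060c0c05070a0804)
  (Net.cons (nat_lit 2) (nat_lit 0x2222200030320131030023320030202)
  (Net.cons (nat_lit 1) (nat_lit 0x14144111100511000455144144454141)
  (Net.cons (nat_lit 2) (nat_lit 0x22022200000020000000020002000202)
  (Net.cons (nat_lit 4) (nat_lit 0x804040002040800040c040a080a0408)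
  (Net.cons (nat_lit 8) (nat_lit 0x40014001c0002005400fa0072000c)
  (Net.cons (nat_lit 16) (nat_lit 0x88200008b5c00004eb000004e5e)
  (Net.cons (nat_lit 32) (nat_lit 0xede41140000000002c669714)
  (Net.cons (nat_lit 64) (nat_lit 0xb1be642da8808110)
  Net.nil)))))))))))))
noncomputable def ns158 : ℕ → Net := upd (fun _ => Net.nil) 0 x157
theorem der159 : Der 126 (finX 126) (cl (finG m125ok) [[1,2,0],[1,1,3,0,3,1,5,1,1]]) ns158 := der156.add (wp_mem_cl (w := [1,2,0]) (by decide)) ((finModel m125ok).toIsPre.rep_word (k := 7) (w := [1,2,0]) (n := x157) (by decide +kernel)) 0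
noncomputable def x160 : Net := (Net.cons (nat_lit 64) (nat_lit 0x1acc8c57396e6332)
  (Net.cons (nat_lit 32) (nat_lit 0xa5f3a5bd000000002b9d8980)
  (Net.cons (nat_lit 16) (nat_lit 0x3b210000ad7e0000de5100005f4e)
  (Net.cons (nat_lit 8) (nat_lit 0xd008a0052007100e300a700d7006b)
  (Net.cons (nat_lit 4) (nat_lit 0x20c0e000902060f0c050a000002030c)
  (Net.cons (nat_lit 2) (nat_lit 0x3323101101203333021013030210322)
  (Net.cons (nat_lit 1) (nat_lit 0x15114044411515015451144510111405)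
  (Net.cons (nat_lit 2) (nat_lit 0x20020000000000200200020022000)
  (Net.cons (nat_lit 4) (nat_lit 0x808020e0a06020c0202060c0c0402)
  (Net.cons (nat_lit 8) (nat_lit 0x84007000d6005200f2006a00a80010)
  (Net.cons (nat_lit 16) (nat_lit 0xaebe0000f19c00009858000016a8)
  (Net.cons (nat_lit 32) (nat_lit 0x8ad8a790000000000b8bf590)
  (Net.cons (nat_lit 64) (nat_lit 0x48612abd16011f8)
  Net.nil)))))))))))))
noncomputable def ns161 : ℕ → Net := upd ns158 1 x160
theorem der162 : Der 126 (finX 126) (cl (finG m125ok) [[1,2,0],[1,1,3,0,3,1,5,1,1]]) ns161 := der159.add (wp_mem_cl (w := [1,1,3,0,3,1,5,1,1]) (by decide)) ((finModel m125ok).toIsPre.rep_word (k := 7) (w := [1,1,3,0,3,1,5,1,1]) (n := x160) (by decide +kernel)) 1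
noncomputable def L163 : Lev := Lev.cons 0 60 [[0],[1]] Lev.nil
theorem lc164 : Lev.chk 126 4 ns161 vT 100 L163 = true := by decide +kernel
theorem lb165 : 60 ≤ Nat.card (cl (finG m125ok) [[1,2,0],[1,1,3,0,3,1,5,1,1]]) := le_of_eq_of_le (by decide +kernel) (der162.card_ge lc164)
theorem sat166 : Sat io C127 (finG m125ok) := m125s0.fin (k := 7) (by decide +kernel)
theorem ix155 : Idx.{u} io C152 [0,1,2,3,4,5] [[1,2,0],[1,1,3,0,3,1,5,1,1]] 42 := (Idx.of bd149 sat166 (by decide +kernel) lb165 (by decide +kernel)).of_imp imp154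
noncomputable def lk167 : List (List ℕ × List ℕ × Pf) := [([1,2,0],[2,1,4,1,1,2,0,0,0],[([6],23)]),([1,1,3,0,3,1,5,1,1],[1,1,2],[([6,1,1,2,7],25)])]
noncomputable def O168 : ℕ := (nat_lit 0x3ffbbf7f3f77e)
noncomputable def M169 : ℕ := (nat_lit 0x3ffbbf7f3f77f)
noncomputable def b170 : ℕ := (nat_lit 1)
theorem cl171 : Clo.{u} io C152 [0,1,2,3,4,5] 50 m151 M169 (mkB [(6,b170)]) := cl153.new (k := 3) (b := 6) (q := 0) (p := 1) (r := 200) (n := 42) (O := O168) (by decide +kernel) (lks := lk167) (by decide +kernel) (gens_of_lall2 (m := [[0],[1]]) (by decide +kernel)) ix155 (by decide +kernel)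
noncomputable def b172 : ℕ := (nat_lit 0x3f79be7f2f773)
noncomputable def b173 : ℕ := (nat_lit 0x3f79be7f2f773)
theorem cl174 : Clo.{u} io C152 [0,1,2,3,4,5] 50 m151 M169 (mkB [(6,b172),(7,b173)]) := cl171.ops (os := [Op.inv 6,Op.rel 6 [] 7 [] [([],19)],Op.inv 6,Op.rel 6 [2] 7 [3,7,3] [([7],21)],Op.ext 6 4 [([1,1,3,0,3,1,5,1,1],[1,1,2],[([6,1,1,2,7],25)]),([0,0,4,0,2,1,2,0,0],[3,0,0],[([],24)]),([1,1,1,3,0,0,5,0,3],[1,3,0],[([6,1,3,0,7],27)]),([2,1,4,1,1,2,0,0,0],[1,2,0],[([],26)]),([1,2,0],[2,1,4,1,1,2,0,0,0],[([6],23)]),([1,3,0],[1,1,1,3,0,0,5,0,3],[([6,1,1,1,3,0,0,5,0,3],22)])],Op.inv 6,Op.rel 6 [2] 7 [3,7,3] [([7],21)],Op.ext 6 2 [([1,1,3,0,3,1,5,1,1],[1,1,2],[([6,1,1,2,7],25)]),([0,0,4,0,2,1,2,0,0],[3,0,0],[([],24)]),([1,1,1,3,0,0,5,0,3],[1,3,0],[([6,1,3,0,7],27)]),([2,1,4,1,1,2,0,0,0],[1,2,0],[([],26)]),([1,2,0],[2,1,4,1,1,2,0,0,0],[([6],23)]),([1,3,0],[1,1,1,3,0,0,5,0,3],[([6,1,1,1,3,0,0,5,0,3],22)])],Op.inv 6]) (by decide +kernel)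 (by decide +kernel)
theorem der176 : Der 126 (finX 126) (cl (finG m125ok) [[1,2,0],[3,1,3,0,0,5,0,3,3,0,0],[0,0,2,1,2,1,1,1,1,3,1,2,1,1,1,3,0,0,5,0,3]]) (fun _ => Net.nil) := Der.zero (finModel m125ok).inj
noncomputable def x177 : Net := (Net.cons (nat_lit 64) (nat_lit 0xb1be662da8808110)
  (Net.cons (nat_lit 32) (nat_lit 0xcde4d1c8000000002c669714)
  (Net.cons (nat_lit 16) (nat_lit 0x80a00000ffc00004fb000005e5e)
  (Net.cons (nat_lit 8) (nat_lit 0x7b0094009c0082005400fa007200e3)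
  (Net.cons (nat_lit 4) (nat_lit 0xc08040f0a040800060c0c05070a0804)
  (Net.cons (nat_lit 2) (nat_lit 0x2222200030320131030023320030202)
  (Net.cons (nat_lit 1) (nat_lit 0x14144111100511000455144144454141)
  (Net.cons (nat_lit 2) (nat_lit 0x22022200000020000000020002000202)
  (Net.cons (nat_lit 4) (nat_lit 0x804040002040800040c040a080a0408)
  (Net.cons (nat_lit 8) (nat_lit 0x40014001c0002005400fa0072000c)
  (Net.cons (nat_lit 16) (nat_lit 0x88200008b5c00004eb000004e5e)
  (Net.cons (nat_lit 32) (nat_lit 0xede41140000000002c669714)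
  (Net.cons (nat_lit 64) (nat_lit 0xb1be642da8808110)
  Net.nil)))))))))))))
noncomputable def ns178 : ℕ → Net := upd (fun _ => Net.nil) 0 x177
theorem der179 : Der 126 (finX 126) (cl (finG m125ok) [[1,2,0],[3,1,3,0,0,5,0,3,3,0,0],[0,0,2,1,2,1,1,1,1,3,1,2,1,1,1,3,0,0,5,0,3]]) ns178 := der176.add (wp_mem_cl (w := [1,2,0]) (by decide)) ((finModel m125ok).toIsPre.rep_word (k := 7) (w := [1,2,0]) (n := x177) (by decide +kernel)) 0
noncomputable def x180 : Net := (Net.cons (nat_lit 64) (nat_lit 0x74887a6e2ecbaff7)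
  (Net.cons (nat_lit 32) (nat_lit 0xc97f2ca100000000010dfee7)
  (Net.cons (nat_lit 16) (nat_lit 0xf2e3000031200000fc200000d38d)
  (Net.cons (nat_lit 8) (nat_lit 0xad0095003e002f00c7008500170024)
  (Net.cons (nat_lit 4) (nat_lit 0x9090208040b070f030e0d0502040605)
  (Net.cons (nat_lit 2) (nat_lit 0x13310031121231131033322003312011)
  (Net.cons (nat_lit 1) (nat_lit 0x54411440044541414105101445144441)
  (Net.cons (nat_lit 2) (nat_lit 0x2020020002222200200200202202)
  (Net.cons (nat_lit 4) (nat_lit 0x60a0e000008000e04080602020c0000)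
  (Net.cons (nat_lit 8) (nat_lit 0xd40066002a0044006c000400340080)
  (Net.cons (nat_lit 16) (nat_lit 0x2742000022240000d56c0000ee04)
  (Net.cons (nat_lit 32) (nat_lit 0x84a72b3c00000000bc461246)
  (Net.cons (nat_lit 64) (nat_lit 0x4e08028dd8ab19d0)
  Net.nil)))))))))))))
noncomputable def ns181 : ℕ → Net := upd ns178 1 x180
theorem der182 : Der 126 (finX 126) (cl (finG m125ok) [[1,2,0],[3,1,3,0,0,5,0,3,3,0,0],[0,0,2,1,2,1,1,1,1,3,1,2,1,1,1,3,0,0,5,0,3]]) ns181 := der179.add (wp_mem_cl (w := [3,1,3,0,0,5,0,3,3,0,0]) (by decide)) ((finModel m125ok).toIsPre.rep_word (k := 7) (w := [3,1,3,0,0,5,0,3,3,0,0]) (n := x180) (by decide +kernel)) 1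
noncomputable def x183 : Net := (Net.cons (nat_lit 64) (nat_lit 0x9a5a7a649743c14c)
  (Net.cons (nat_lit 32) (nat_lit 0x3cf82cdc00000000ae6605e4)
  (Net.cons (nat_lit 16) (nat_lit 0xb6fe00005b8500003b9100009377)
  (Net.cons (nat_lit 8) (nat_lit 0xf800af00170083005500b300150085)
  (Net.cons (nat_lit 4) (nat_lit 0x90705080301050307070e08020d0802)
  (Net.cons (nat_lit 2) (nat_lit 0x33122002011330120312312312013313)
  (Net.cons (nat_lit 1) (nat_lit 0x40115141515444415400440451454514)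
  (Net.cons (nat_lit 2) (nat_lit 0x200200000022220000200200002000)
  (Net.cons (nat_lit 4) (nat_lit 0x80c080c000600040800000000000002)
  (Net.cons (nat_lit 8) (nat_lit 0xe400bc00a600880034007200c600b0)
  (Net.cons (nat_lit 16) (nat_lit 0xb5320000f16a000058a20000e7a0)
  (Net.cons (nat_lit 32) (nat_lit 0x3339849600000000ed0c7248)
  (Net.cons (nat_lit 64) (nat_lit 0x8a5590098eb2a8a8)
  Net.nil)))))))))))))
noncomputable def ns184 : ℕ → Net := upd ns181 2 x183
theorem der185 : Der 126 (finX 126) (cl (finG m125ok) [[1,2,0],[3,1,3,0,0,5,0,3,3,0,0],[0,0,2,1,2,1,1,1,1,3,1,2,1,1,1,3,0,0,5,0,3]]) ns184 := der182.add (wp_mem_cl (w := [0,0,2,1,2,1,1,1,1,3,1,2,1,1,1,3,0,0,5,0,3]) (by decide)) ((finModel m125ok).toIsPre.rep_word (k := 7) (w := [0,0,2,1,2,1,1,1,1,3,1,2,1,1,1,3,0,0,5,0,3]) (n := x183) (by decide +kernel)) 2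
noncomputable def x186 : Net := (Net.cons (nat_lit 64) (nat_lit 0xf4660438240241fb)
  (Net.cons (nat_lit 32) (nat_lit 0x6c86e2d100000000064fd550)
  (Net.cons (nat_lit 16) (nat_lit 0xebaf0000a62f000076db0000eb31)
  (Net.cons (nat_lit 8) (nat_lit 0x9e00e900d4004d0076006c008800c3)
  (Net.cons (nat_lit 4) (nat_lit 0x80d0c080a070804040404070c040604)
  (Net.cons (nat_lit 2) (nat_lit 0x11033330212313001002231212032122)
  (Net.cons (nat_lit 1) (nat_lit 0x14015455011454101510010051454440)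
  (Net.cons (nat_lit 2) (nat_lit 0x20000200022202200000000000000220)
  (Net.cons (nat_lit 4) (nat_lit 0x20e02040c0a040a0408040c0e060204)
  (Net.cons (nat_lit 8) (nat_lit 0x8c004000a800e0000e0044000c00ec)
  (Net.cons (nat_lit 16) (nat_lit 0x833400002a1e0000733600009584)
  (Net.cons (nat_lit 32) (nat_lit 0xfe274e8800000000330c01ba)
  (Net.cons (nat_lit 64) (nat_lit 0xf39a551324aa4b14)
  Net.nil)))))))))))))
noncomputable def x186s : ℕ → Net := upd ns184 3 x186
theorem der187 : Der 126 (finX 126) (cl (finG m125ok) [[1,2,0],[3,1,3,0,0,5,0,3,3,0,0],[0,0,2,1,2,1,1,1,1,3,1,2,1,1,1,3,0,0,5,0,3]]) x186s := der185.ext (k := 7) (w := [1,2,0,1,0,1,2]) 3 (by decide +kernel)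
noncomputable def L188 : Lev := Lev.cons 0 4 [[0],[3]] Lev.nil
noncomputable def L189 : Lev := Lev.cons 31 90 [[1],[2]] L188
theorem lc190 : Lev.chk 126 4 x186s vT 100 L189 = true := by decide +kernel
theorem lb191 : 360 ≤ Nat.card (cl (finG m125ok) [[1,2,0],[3,1,3,0,0,5,0,3,3,0,0],[0,0,2,1,2,1,1,1,1,3,1,2,1,1,1,3,0,0,5,0,3]]) := le_of_eq_of_le (by decide +kernel) (der187.card_ge lc190)
theorem ix175 : Idx.{u} io C152 [0,1,2,3,4,5] [[1,2,0],[3,1,3,0,0,5,0,3,3,0,0],[0,0,2,1,2,1,1,1,1,3,1,2,1,1,1,3,0,0,5,0,3]] 7 := (Idx.of bd149 sat166 (by decide +kernel) lb191 (by decide +kernel)).of_imp imp154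
noncomputable def lk192 : List (List ℕ × List ℕ × Pf) := [([1,2,0],[2,1,4,1,1,2,0,0,0],[([7],27)]),([3,0,0],[0,0,4,0,2,1,2,0,0],[([7],25)]),([1,1,1,3,0,0,5,0,3],[1,3,0],[([7,1,3,0,6],23)]),([0,0,2,1,2,1,1,1],[1,7,4,6,0],[([],28)]),([1,3,0],[1,1,1,3,0,0,5,0,3],[([7,1,1,1,3,0,0,5,0,3],26)]),([1,1,2],[1,1,3,0,3,1,5,1,1],[([7,1,1,3,0,3,1,5,1,1],24)])]
noncomputable def O193 : ℕ := (nat_lit 0x44080c0880)
noncomputable def M194 : ℕ := (nat_lit 0x3ffffffffffff)
noncomputable def b195 : ℕ := (nat_lit 0x3f79be7f2f777)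
theorem cl196 : Clo.{u} io C152 [0,1,2,3,4,5] 50 m151 M194 (mkB [(6,b172),(7,b195)]) := cl174.new (k := 3) (b := 7) (q := 2) (p := 7) (r := 200) (n := 7) (O := O193) (by decide +kernel) (lks := lk192) (by decide +kernel) (gens_of_lall2 (m := [[0],[1,2,1],[3,4,5,2]]) (by decide +kernel)) ix175 (by decide +kernel)
noncomputable def b197 : ℕ := (nat_lit 0x3ffffffffffff)
noncomputable def b198 : ℕ := (nat_lit 0x3ffffffffffff)
theorem cl199 : Clo.{u} io C152 [0,1,2,3,4,5] 50 m151 M194 (mkB [(6,b197),(7,b198)]) := cl196.ops (os := [Op.ext 7 2 [([1,1,1,3,0,0,5,0,3],[1,3,0],[([7,1,3,0,6],23)]),([2,1,4,1,1,2,0,0,0],[1,2,0],[([],22)]),([3,0,0],[0,0,4,0,2,1,2,0,0],[([7],25)]),([1,1,2],[1,1,3,0,3,1,5,1,1],[([7,1,1,3,0,3,1,5,1,1],24)]),([1,2,0],[2,1,4,1,1,2,0,0,0],[([7],27)]),([1,3,0],[1,1,1,3,0,0,5,0,3],[([7,1,1,1,3,0,0,5,0,3],26)])],Op.inv 7,Op.rel 6 [] 7 [] [([],19)],Op.inv 6,Op.rel 6 [2] 7 [3,7,3] [([7],21)],Op.inv 6]) (by decide +kernel) (by decide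 +kernel)
theorem sat201 : Sat io C152 (finG m151ok) := m151s0.fin (k := 6) (by decide +kernel)
theorem bd200 : Bound.{u} io C152 [0,1,2,3,4,5,6,7] 126000 := cl199.bound (by decide +kernel) sat201 (bd149.of_imp imp154)
abbrev GU : Type := ↥(cl (finG m2ok) (lw [0,1,2,3,4,5,6,7]))
theorem allU : ∀ l, finG m2ok l ∈ (cl (finG m2ok) (lw [0,1,2,3,4,5,6,7])) := finG_mem_all _ (by decide +kernel)
noncomputable def gU : ℕ → GU := subA _ _ allU
theorem sat202 : Sat io C152 (finG m2ok) := m2s0.fin (k := 7) (by decide +kernel)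
noncomputable abbrev RU : List (List ℕ) := C152
theorem satU : Sat io RU gU := sat202.subA _
theorem topU : cl gU (lw [0,1,2,3,4,5,6,7]) = ⊤ := cl_subA _
theorem modelU : IsModel 126 (finX 126) gU m2 vT := (finModel m2ok).subA _
theorem faithU : Faith GU 126 (finX 126) := (faith_fin 126).sub _
theorem der203 : Der 126 (finX 126) (cl (finG m2ok) (lw [0,1,2,3,4,5,6,7])) (resN m2 [0,1,2,3,4,5,6,7]) := Der.letters (finModel m2ok) _
noncomputable def x204 : Net := (Net.cons (nat_lit 64) (nat_lit 0x447833da5aa14d24)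
  (Net.cons (nat_lit 32) (nat_lit 0xf91becf40000000063a3f636)
  (Net.cons (nat_lit 16) (nat_lit 0x38910000bf160000611300008ca6)
  (Net.cons (nat_lit 8) (nat_lit 0x8a00b100a300b5000a006b003e00a0)
  (Net.cons (nat_lit 4) (nat_lit 0x705030b060c0e0a0b06060c08040b02)
  (Net.cons (nat_lit 2) (nat_lit 0x13023120300111123130231001233112)
  (Net.cons (nat_lit 1) (nat_lit 0x14501540440104544144505014114510)
  (Net.cons (nat_lit 2) (nat_lit 0x2002000220200020000000002002000)
  (Net.cons (nat_lit 4) (nat_lit 0x6020e0002060008080c06000800060a)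
  (Net.cons (nat_lit 8) (nat_lit 0x160084008400a200e200a2009c0074)
  (Net.cons (nat_lit 16) (nat_lit 0x8e420000ce480000aa5000002da0)
  (Net.cons (nat_lit 32) (nat_lit 0xcec3ab1200000000cb162d78)
  (Net.cons (nat_lit 64) (nat_lit 0x6af0de351d758c20)
  Net.nil)))))))))))))
noncomputable def x204s : ℕ → Net := upd (resN m2 [0,1,2,3,4,5,6,7]) 8 x204
theorem der205 : Der 126 (finX 126) (cl (finG m2ok) (lw [0,1,2,3,4,5,6,7])) x204s := der203.ext (k := 7) (w := [2,1,2,0,0,4]) 8 (by decide +kernel)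
noncomputable def x206 : Net := (Net.cons (nat_lit 64) (nat_lit 0x7b14b38fecdea472)
  (Net.cons (nat_lit 32) (nat_lit 0x74b41c1c00000000de25a3d0)
  (Net.cons (nat_lit 16) (nat_lit 0x60ec000061760000a5c900004e20)
  (Net.cons (nat_lit 8) (nat_lit 0x4300cd005d00ce001000fc00a40000)
  (Net.cons (nat_lit 4) (nat_lit 0x50608080f0b0a0508090c0909090208)
  (Net.cons (nat_lit 2) (nat_lit 0x31120123122012321123030203020112)
  (Net.cons (nat_lit 1) (nat_lit 0x40504114411011111410014154110144)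
  (Net.cons (nat_lit 2) (nat_lit 0x20000200222020202220002200000202)
  (Net.cons (nat_lit 4) (nat_lit 0x40002080804000802040c0400000a)
  (Net.cons (nat_lit 8) (nat_lit 0x3000f400b00034003c00380084001a)
  (Net.cons (nat_lit 16) (nat_lit 0x1b4a0000de2400007d8200007faa)
  (Net.cons (nat_lit 32) (nat_lit 0xfe59150000000005c8f1bc6)
  (Net.cons (nat_lit 64) (nat_lit 0x7e49d67b7bfb8b46)
  Net.nil)))))))))))))
noncomputable def x206s : ℕ → Net := upd x204s 9 x206
theorem der207 : Der 126 (finX 126) (cl (finG m2ok) (lw [0,1,2,3,4,5,6,7])) x206s := der205.ext (k := 7) (w := [0,4,1,1,6,4,0]) 9 (by decide +kernel)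
noncomputable def x208 : Net := (Net.cons (nat_lit 64) (nat_lit 0xf7afa6c8e86adbfe)
  (Net.cons (nat_lit 32) (nat_lit 0x5a5a42bb00000000e5a54486)
  (Net.cons (nat_lit 16) (nat_lit 0x4c06000094d000001e1b00003916)
  (Net.cons (nat_lit 8) (nat_lit 0x43004900210064002200a4003f00e4)
  (Net.cons (nat_lit 4) (nat_lit 0x507070700020a0c060c0009000b000a)
  (Net.cons (nat_lit 2) (nat_lit 0x32200332332331222131320303132100)
  (Net.cons (nat_lit 1) (nat_lit 0x44115540144110414005010411400410)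
  (Net.cons (nat_lit 2) (nat_lit 0x222220200000020202200020)
  (Net.cons (nat_lit 4) (nat_lit 0xc00040c00020000040200040c08)
  (Net.cons (nat_lit 8) (nat_lit 0x160050007a001400100076002c00f0)
  (Net.cons (nat_lit 16) (nat_lit 0x987400000b2800007300000001c4)
  (Net.cons (nat_lit 32) (nat_lit 0xba99314e00000000cf64bbc0)
  (Net.cons (nat_lit 64) (nat_lit 0xd5c3829bdbcf6208)
  Net.nil)))))))))))))
noncomputable def x208s : ℕ → Net := upd x206s 10 x208
theorem der209 : Der 126 (finX 126) (cl (finG m2ok) (lw [0,1,2,3,4,5,6,7])) x208s := der207.ext (k := 7) (w := [9,8,8,9,8,8,9,8,9,9,9,8,8,9]) 10 (by decide +kernel)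
noncomputable def L210 : Lev := Lev.cons 2 8 [[8],[10]] Lev.nil
noncomputable def L211 : Lev := Lev.cons 19 125 [[9]] L210
noncomputable def L212 : Lev := Lev.cons 0 126 [[0],[1],[2],[3],[4],[5],[6],[7]] L211
theorem lc213 : Lev.chk 126 4 x208s vT 100 L212 = true := by decide +kernel
theorem bdU : Bound.{u} io RU [0,1,2,3,4,5,6,7] 126000 := bd200
theorem cardU : Nat.card GU = 126000 := le_antisymm (bdU.{0}.fin sat202) (le_of_eq_of_le (by decide +kernel) (der209.card_ge lc213))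
noncomputable def baseU : List ℕ := [0,19,2]
theorem basedU : Based 126 (finX 126) (⊤ : Subgroup GU) baseU := (der209.based lc213 (le_of_eq_of_le cardU (by decide +kernel))).sub
noncomputable def eqvU : List ℕ → List ℕ → Bool := eqBc m2 baseU
theorem heqU : ∀ u w, eqvU u w = true → wp gU u = wp gU w := basedU.eqv modelU.toIsPre
theorem hgeU : ∀ l, llen il ≤ l → gU l = 1 := fun l h => Subtype.ext (finG_eq_one m2ok (n := 8) (by decide +kernel) l (le_of_eq_of_le (by decide +kernel) h))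
theorem s0U : Sat io [] gU := satU.nil
noncomputable def cvU : List (List ℕ) := [[0],[6,0,7]]
theorem der214 : Der 126 (finX 126) (cl gU cvU) (fun _ => Net.nil) := Der.zero modelU.inj
noncomputable def ns215 : ℕ → Net := upd (fun _ => Net.nil) 0 (m2 0)
theorem der216 : Der 126 (finX 126) (cl gU cvU) ns215 := der214.add (wp_mem_cl (w := [0]) (by decide)) (rep_letter modelU 0) 0
noncomputable def x217 : Net := (Net.cons (nat_lit 64) (nat_lit 0xe25c8acb5c528351)
  (Net.cons (nat_lit 32) (nat_lit 0xbd2986f4000000002e58d328)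
  (Net.cons (nat_lit 16) (nat_lit 0xc8800000a7ea00001ae00000d459)
  (Net.cons (nat_lit 8) (nat_lit 0x7c000100b700410029004900a20039)
  (Net.cons (nat_lit 4) (nat_lit 0x8050002060009050f0e080206060804)
  (Net.cons (nat_lit 2) (nat_lit 0x21202130212232003033220330222122)
  (Net.cons (nat_lit 1) (nat_lit 0x10140411514441440114140401101041)
  (Net.cons (nat_lit 2) (nat_lit 0x20020002000000200022200002200002)
  (Net.cons (nat_lit 4) (nat_lit 0x804080a06000e080e04060004080402)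
  (Net.cons (nat_lit 8) (nat_lit 0x1a005200b000c0001400dc005400d0)
  (Net.cons (nat_lit 16) (nat_lit 0xc14000007af400002bc800001234)
  (Net.cons (nat_lit 32) (nat_lit 0xb159f122000000003ffcea82)
  (Net.cons (nat_lit 64) (nat_lit 0xde07154b7a7944ea)
  Net.nil)))))))))))))
noncomputable def ns218 : ℕ → Net := upd ns215 1 x217
theorem der219 : Der 126 (finX 126) (cl gU cvU) ns218 := der216.add (wp_mem_cl (w := [6,0,7]) (by decide)) (modelU.toIsPre.rep_word (k := 7) (w := [6,0,7]) (n := x217) (by decide +kernel)) 1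
noncomputable def x220 : Net := (Net.cons (nat_lit 64) (nat_lit 0x619697005c09dd32)
  (Net.cons (nat_lit 32) (nat_lit 0xba107b0c000000004b6f1ec8)
  (Net.cons (nat_lit 16) (nat_lit 0xe3ba000009cc00004094000074d6)
  (Net.cons (nat_lit 8) (nat_lit 0x4000da001a0075009800e000b00008)
  (Net.cons (nat_lit 4) (nat_lit 0x102090f0805050c0f0b0202010f0b0c)
  (Net.cons (nat_lit 2) (nat_lit 0x213133101332202022031312010132)
  (Net.cons (nat_lit 1) (nat_lit 0x41414414415041145115140511050104)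
  (Net.cons (nat_lit 2) (nat_lit 0x20020002200022000220220020000200)
  (Net.cons (nat_lit 4) (nat_lit 0xe0404000c0c0a0e0c0c080a040e0a08)
  (Net.cons (nat_lit 8) (nat_lit 0x5400f000500046004000e000a6003a)
  (Net.cons (nat_lit 16) (nat_lit 0xcb000007668000090e400005262)
  (Net.cons (nat_lit 32) (nat_lit 0xf91bc10400000000f25fa846)
  (Net.cons (nat_lit 64) (nat_lit 0x66d59c6ef88bbe50)
  Net.nil)))))))))))))
noncomputable def x220s : ℕ → Net := upd ns218 2 x220
theorem der221 : Der 126 (finX 126) (cl gU cvU) x220s := der219.ext (k := 7) (w := [0,0,1,0,1,0]) 2 (by decide +kernel)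
noncomputable def x222 : Net := (Net.cons (nat_lit 64) (nat_lit 0x951a772cc00b6fde)
  (Net.cons (nat_lit 32) (nat_lit 0x92a64731000000006e978832)
  (Net.cons (nat_lit 16) (nat_lit 0x766200001e5600008aed0000dd3a)
  (Net.cons (nat_lit 8) (nat_lit 0x46007600df000200b100c100cc0008)
  (Net.cons (nat_lit 4) (nat_lit 0x6090c010a0b0f01000e08060c050b0c)
  (Net.cons (nat_lit 2) (nat_lit 0x2120302231030013332310123023320)
  (Net.cons (nat_lit 1) (nat_lit 0x15140014110540501054541150410414)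
  (Net.cons (nat_lit 2) (nat_lit 0x20220000220000000000020000220220)
  (Net.cons (nat_lit 4) (nat_lit 0x20c0c0208080a0a000a0a0400000004)
  (Net.cons (nat_lit 8) (nat_lit 0xe2005c001600be00a000d8004400bc)
  (Net.cons (nat_lit 16) (nat_lit 0x5cc00000bf6c000090c000005858)
  (Net.cons (nat_lit 32) (nat_lit 0xa0f28d320000000049f3bcd8)
  (Net.cons (nat_lit 64) (nat_lit 0xa6aa0983e9011ed8)
  Net.nil)))))))))))))
noncomputable def x222s : ℕ → Net := upd x220s 3 x222
theorem der223 : Der 126 (finX 126) (cl gU cvU) x222s := der221.ext (k := 7) (w := [0,0,0,0,0,1,0,1,1,0]) 3 (by decide +kernel)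
noncomputable def L224 : Lev := Lev.cons 1 8 [[3]] Lev.nil
noncomputable def L225 : Lev := Lev.cons 4 125 [[2]] L224
noncomputable def L226 : Lev := Lev.cons 0 126 [[0],[1]] L225
theorem lc227 : Lev.chk 126 4 x222s vT 100 L226 = true := by decide +kernel
theorem lb228 : 126000 ≤ Nat.card (cl gU cvU) := le_of_eq_of_le (by decide +kernel) (der223.card_ge lc227)
theorem simpleU : IsSimpleGroup GU := modelU.simple faithU topU (ws := [[0,0,0,4,6,2],[1,1,5,0,6,4,0,0]]) (r := 300) (p0 := 0) (l := [(32,[4])]) (by decide +kernel) (p := 7) (by norm_num) cardU (by norm_num) (pow_one_of heqU (a := [0]) (by decide +kernel)) (ncl_top s0U (cs := [[],[6]]) (by decide +kernel) cardU lb228)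
noncomputable def mU : List (List ℕ) := [[14186,2915,3392],[7766,9662,12607],[4450,13031,10985],[9900,12028,7647],[5902,3141,1774],[5902,3141,1774],[18,4525,15575],[13,5525,6175]]
noncomputable def fU : List (List (List ℕ)) := [[[101,25,625],[1,40,642],[1,13775,625],[1,25,825],[13326,4400,625]],[[201,25,625],[1,37,632],[1,1900,625],[1,25,950],[10076,12525,625]],[[526,25,625],[1,31,635],[1,650,625],[1,25,900],[6501,13775,625]],[[76,25,625],[1,28,647],[1,8150,625],[1,25,900],[14576,6275,625]],[[551,25,625],[1,41,649],[1,12525,625],[1,25,875],[13401,25,625]],[[551,25,625],[1,41,649],[1,12525,625],[1,25,875],[13401,25,625]],[[1,29,625],[451,25,625],[1,43,625],[1,11275,625],[1,25,1200],[5526,650,625]],[[1,29,625],[326,25,625],[1,38,625],[1,10650,625],[1,25,1175],[4526,2525,625]]]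
theorem isoU {F : Type u} [Field F] [Fintype F] (hF : Fintype.card F = 25) : Nonempty (GU ≃* PSU 3 F 5) := by
  haveI : CharP F 5 := charP_of_card (k := 2) Nat.prime_five hF
  obtain ⟨ω, hω⟩ := exists_w25 hF
  have hs := sem25 hω
  haveI : Fact (Nat.Prime 5) := ⟨Nat.prime_five⟩
  obtain ⟨g, hg⟩ := mrep_SU (n := 3) hs (frobenius F 5) (fun _ => rfl) (ml := mU) (fs := fU) (by decide +kernel)
  have hc : Nat.card (PSU 3 F 5) = 126000 := by
    have := S0280.result (q := 5) hF 3 (by norm_num)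
    simp only [Finset.prod_range_succ] at this
    norm_num at this; omega
  exact bdU.equivU satU (hg.psat (il := il) (Rl := RU) (by decide +kernel)) topU cardU simpleU hc (u := [0]) (w := []) (by decide +kernel) (ne_one_quot_center (v := [2]) (hg.nev (inj25 hω) (i := 0) (j := 0) (by decide +kernel)))

end Cfsg.Agent.H6.Cl.U35
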