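import Cfsg.Agent.H6.ClU1
import Cfsg.Agent.H6.CeA
set_option maxRecDepth 100000
set_option Elab.async false
namespace Cfsg.Agent.H6.Cl.U35
open Cfsg.Agent.H6
universe u

theorem odA : Der 126 (finX 126) (cl gU (lw [0,1,2,3,4,5,6,7])) (resN m2 [0,1,2,3,4,5,6,7]) := Der.letters modelU _
noncomputable def x9001 : Net := (Net.cons (nat_lit 64) (nat_lit 0x6e7b3c37c9f6e1c4)
  (Net.cons (nat_lit 32) (nat_lit 0x8cf6ed30000000004dee7179)
  (Net.cons (nat_lit 16) (nat_lit 0xf92000007cff00003ba3000011dc)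
  (Net.cons (nat_lit 8) (nat_lit 0x9600fb00f5000f00e000500096003d)
  (Net.cons (nat_lit 4) (nat_lit 0xc0101030c0a000f05030f0102010f0b)
  (Net.cons (nat_lit 2) (nat_lit 0x21123111132232233210123020312022)
  (Net.cons (nat_lit 1) (nat_lit 0x44151551045401411041440015405004)
  (Net.cons (nat_lit 2) (nat_lit 0x2002020202220020200000000002)
  (Net.cons (nat_lit 4) (nat_lit 0xc060a0c000a0e060204040800080008)
  (Net.cons (nat_lit 8) (nat_lit 0x2000c000ce00d20000001400b6002c)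
  (Net.cons (nat_lit 16) (nat_lit 0x7b8000050c00000e7e800000b2e)
  (Net.cons (nat_lit 32) (nat_lit 0xa218cb7800000000c17b8a08)
  (Net.cons (nat_lit 64) (nat_lit 0x54c6fed5adf8df92)
  Net.nil)))))))))))))
noncomputable def x9001s : ℕ → Net := upd (resN m2 [0,1,2,3,4,5,6,7]) 8 x9001
theorem der9002 : Der 126 (finX 126) (cl gU (lw [0,1,2,3,4,5,6,7])) x9001s := odA.ext (k := 7) (w := [0]) 8 (by decide +kernel)
noncomputable def x9003 : Net := (Net.cons (nat_lit 64) (nat_lit 0x2fd0eb056eb17e28)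
  (Net.cons (nat_lit 32) (nat_lit 0x9647fe1d0000000005f19c12)
  (Net.cons (nat_lit 16) (nat_lit 0xfcdb0000b98300000aa60000fe78)
  (Net.cons (nat_lit 8) (nat_lit 0x96000c00c80061004c004300c400b6)
  (Net.cons (nat_lit 4) (nat_lit 0x706080c0a070a0f030d010d0e030c02)
  (Net.cons (nat_lit 2) (nat_lit 0x30222133202130101021231123231000)
  (Net.cons (nat_lit 1) (nat_lit 0x54140441411040144041141441054140)
  (Net.cons (nat_lit 2) (nat_lit 0x2020220000000020022022022002000)
  (Net.cons (nat_lit 4) (nat_lit 0xe020408000e040004000e080a0008)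
  (Net.cons (nat_lit 8) (nat_lit 0x66000400b8003200360098000200a6)
  (Net.cons (nat_lit 16) (nat_lit 0xf11000008b5c000093080000f294)
  (Net.cons (nat_lit 32) (nat_lit 0x81649c0800000000229d2648)
  (Net.cons (nat_lit 64) (nat_lit 0x3daa706e8566988)
  Net.nil)))))))))))))
noncomputable def x9003s : ℕ → Net := upd x9001s 9 x9003
theorem der9004 : Der 126 (finX 126) (cl gU (lw [0,1,2,3,4,5,6,7])) x9003s := der9002.ext (k := 7) (w := [1,1,1,4,6,1,1]) 9 (by decide +kernel)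
noncomputable def x9005 : Net := (Net.cons (nat_lit 64) (nat_lit 0x841066b0abf75914)
  (Net.cons (nat_lit 32) (nat_lit 0xf82136ab000000003dd8305e)
  (Net.cons (nat_lit 16) (nat_lit 0x875e00008ed40000f8090000281c)
  (Net.cons (nat_lit 8) (nat_lit 0x1a009000740010004700bf007700b2)
  (Net.cons (nat_lit 4) (nat_lit 0xc060c0b0f0808070807050a040c0500)
  (Net.cons (nat_lit 2) (nat_lit 0x3210303212131311032311231211030)
  (Net.cons (nat_lit 1) (nat_lit 0x45110401451144144541144405104114)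
  (Net.cons (nat_lit 2) (nat_lit 0x20020202000002202000222200002222)
  (Net.cons (nat_lit 4) (nat_lit 0x80c04080400080800060a0a08080204)
  (Net.cons (nat_lit 8) (nat_lit 0x1400b400d800a0000200dc00020060)
  (Net.cons (nat_lit 16) (nat_lit 0x16c00000a11c0000a1a8000028cc)
  (Net.cons (nat_lit 32) (nat_lit 0xe9d5886000000000323051cc)
  (Net.cons (nat_lit 64) (nat_lit 0x8f58e6c4f7a945b0)
  Net.nil)))))))))))))
noncomputable def x9005s : ℕ → Net := upd x9003s 10 x9005
theorem der9006 : Der 126 (finX 126) (cl gU (lw [0,1,2,3,4,5,6,7])) x9005s := der9004.ext (k := 7) (w := [1,6,1,5,0,2]) 10 (by decide +kernel)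
noncomputable def x9007 : Net := (Net.cons (nat_lit 64) (nat_lit 0x61c3a93d71ef424e)
  (Net.cons (nat_lit 32) (nat_lit 0x8aa8e1a600000000285028f6)
  (Net.cons (nat_lit 16) (nat_lit 0xc4ab0000d56e0000e5a30000cc30)
  (Net.cons (nat_lit 8) (nat_lit 0xfb006100c5000f00b6008700010096)
  (Net.cons (nat_lit 4) (nat_lit 0xb0b03040805080f0e09030c08060706)
  (Net.cons (nat_lit 2) (nat_lit 0x3120230030101302020201030132212)
  (Net.cons (nat_lit 1) (nat_lit 0x4151004415140144544154540504544)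
  (Net.cons (nat_lit 2) (nat_lit 0x2002002220020222000202020000022)
  (Net.cons (nat_lit 4) (nat_lit 0x408000204000a0804040200020a0202)
  (Net.cons (nat_lit 8) (nat_lit 0xa0004400fa004800920002006800e2)
  (Net.cons (nat_lit 16) (nat_lit 0x69c40000b5600000ef2400001584)
  (Net.cons (nat_lit 32) (nat_lit 0xc4d0cf2e0000000092c624aa)
  (Net.cons (nat_lit 64) (nat_lit 0x50b2dc6fb0a38c7c)
  Net.nil)))))))))))))
noncomputable def x9007s : ℕ → Net := upd x9005s 11 x9007
theorem der9008 : Der 126 (finX 126) (cl gU (lw [0,1,2,3,4,5,6,7])) x9007s := der9006.ext (k := 7) (w := [9,10,10,9,10,9,9,10,9,9,10,10,10,9]) 11 (by decide +kernel)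
theorem nokA : NetsOk 126 x9007s vT := der9008.elim fun _ h => h.1.ok
noncomputable def chA3 : Ch := []
noncomputable def chAD2 : ℕ := (nat_lit 0x80200800000100204c00000000)
noncomputable def chA2 : Ch := (38, chAD2, [11]) :: chA3
theorem chAok2 : ChnL GU 126 (finX 126) x9007s chA2 8 := ChnL.cons2 (l0 := [11]) (n := 8) (B := 1) (k := 4) (rr := 300) ChnL.nil (by decide +kernel) (by decide +kernel)
noncomputable def chAD1 : ℕ := (nat_lit 0x3ffffffffffffffffffffffffffffffe)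
noncomputable def chA1 : Ch := (28, chAD1, [9,10,11]) :: chA2
theorem chAok1 : ChnL GU 126 (finX 126) x9007s chA1 1000 := ChnL.cons2 (l0 := [9,10]) (n := 125) (B := 8) (k := 4) (rr := 300) chAok2 (by decide +kernel) (by decide +kernel)
noncomputable def chAD0 : ℕ := (nat_lit 0x3fffffffffffffffffffffffffffffff)
noncomputable def chA0 : Ch := (0, chAD0, [0,1,2,3,4,5,6,7,9,10,11]) :: chA1
theorem chAok0 : ChnL GU 126 (finX 126) x9007s chA0 126000 := ChnL.cons2 (l0 := [0,1,2,3,4,5,6,7]) (n := 126) (B := 1000) (k := 4) (rr := 300) chAok1 (by decide +kernel) (by decide +kernel)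
noncomputable def flA : List (List ℕ × ℕ) := []
theorem fokA : (spC 126 x9007s 8 (lw [0,1]) flA).FixOk := SP.fixOk_of _ nokA (k := 7) (by decide +kernel)
noncomputable def cm9009T : BT := (BT.br [[0]] (BT.kid 0 [] (BT.frc 0 [8] [] (BT.frc 0 [8] [] BT.live)) (BT.kid 9 [2] (BT.frc 0 [8] [10,10,11,9,10] (BT.out 0 [8])) (BT.kid 32 [4] (BT.frc 0 [8] [9,9,10,11,9] (BT.out 0 [8])) (BT.kid 40 [6] (BT.frc 0 [8] [10,9,10,9] (BT.frc 0 [8] [11] (BT.nc 8 0))) (BT.kid 72 [0,2] (BT.frc 0 [8] [9,9,10,10,10] (BT.out 0 [8])) (BT.kid 104 [0,4] (BT.frc 0 [8] [9,9,10,11,11,10] (BT.out 0 [8])) (BT.kid 58 [0,9] (BT.frc 0 [8] [9,9,9,11,11,9] (BT.out 0 [8])) (BT.kid 76 [0,11] (BT.frc 0 [8] [9,10,10,11] (BT.out 0 [8])) (BT.kid 48 [1,4] (BT.frc 0 [8] [9,9,9] (BT.out 0 [8])) (BT.kid 63 [1,6] (BT.frc 0 [8] [9,11,9,11,11] (BT.out 0 [8])) (BT.kid 33 [1,10] (BT.frc 0 [8] [10,9,10,11] (BT.out 0 [8])) (BT.kid 51 [2,6] (BT.frc 0 [8] [10,9,11,10] (BT.out 0 [8])) (BT.kid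 11 [2,9] (BT.frc 0 [8] [9,9,10,10,11] (BT.out 0 [8])) (BT.kid 62 [4,6] (BT.frc 0 [8] [9,10,9,11,9] (BT.out 0 [8])) (BT.kid 60 [4,11] (BT.frc 0 [8] [9,9,10,9] (BT.out 0 [8])) (BT.kid 124 [6,4] (BT.frc 0 [8] [9,11,10,10,9] (BT.out 0 [8])) (BT.kid 73 [0,2,9] (BT.frc 0 [8] [9,10,9,9,10] (BT.out 0 [8])) (BT.kid 94 [0,4,6] (BT.frc 0 [8] [10,10,11,9] (BT.out 0 [8])) BT.nil)))))))))))))))))))
theorem cm9009 : (spC 126 x9007s 8 (lw [0,1]) flA).Clm GU (finX 126) false 0 chA0 [] [] := SP.Clm.ofN (T := cm9009T) (by decide +kernel)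
theorem ceA : cl gU (lw [0,1]) = Subgroup.centralizer {wp gU [0]} := cent_eq_cl modelU cardU der9008 chAok0 fokA cm9009 (by decide +kernel)
theorem der9010 : Der 126 (finX 126) (cl gU (lw [0,1,2,3,4,5])) (fun _ => Net.nil) := Der.zero modelU.inj
noncomputable def ns9011 : ℕ → Net := upd (fun _ => Net.nil) 0 (m2 0)
theorem der9012 : Der 126 (finX 126) (cl gU (lw [0,1,2,3,4,5])) ns9011 := der9010.add (wp_mem_cl (w := [0]) (by decide)) (rep_letter modelU 0) 0
noncomputable def ns9013 : ℕ → Net := upd ns9011 1 (m2 1)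
theorem der9014 : Der 126 (finX 126) (cl gU (lw [0,1,2,3,4,5])) ns9013 := der9012.add (wp_mem_cl (w := [1]) (by decide)) (rep_letter modelU 1) 1
noncomputable def ns9015 : ℕ → Net := upd ns9013 2 (m2 2)
theorem der9016 : Der 126 (finX 126) (cl gU (lw [0,1,2,3,4,5])) ns9015 := der9014.add (wp_mem_cl (w := [2]) (by decide)) (rep_letter modelU 2) 2
noncomputable def ns9017 : ℕ → Net := upd ns9015 3 (m2 3)
theorem der9018 : Der 126 (finX 126) (cl gU (lw [0,1,2,3,4,5])) ns9017 := der9016.add (wp_mem_cl (w := [3]) (by decide)) (rep_letter modelU 3) 3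
noncomputable def ns9019 : ℕ → Net := upd ns9017 4 (m2 4)
theorem der9020 : Der 126 (finX 126) (cl gU (lw [0,1,2,3,4,5])) ns9019 := der9018.add (wp_mem_cl (w := [4]) (by decide)) (rep_letter modelU 4) 4
noncomputable def ns9021 : ℕ → Net := upd ns9019 5 (m2 5)
theorem der9022 : Der 126 (finX 126) (cl gU (lw [0,1,2,3,4,5])) ns9021 := der9020.add (wp_mem_cl (w := [5]) (by decide)) (rep_letter modelU 5) 5
noncomputable def x9023 : Net := (Net.cons (nat_lit 64) (nat_lit 0xd55f5653c2905908)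
  (Net.cons (nat_lit 32) (nat_lit 0x2eb2a7e000000003e0c7ebf)
  (Net.cons (nat_lit 16) (nat_lit 0x18a10000ecb70000a5fb00009d83)
  (Net.cons (nat_lit 8) (nat_lit 0xaf00c200e100b700ff005800550087)
  (Net.cons (nat_lit 4) (nat_lit 0x50b010500050605010b03030b0b0d02)
  (Net.cons (nat_lit 2) (nat_lit 0x3102111211331013103132220112120)
  (Net.cons (nat_lit 1) (nat_lit 0x44111514454415415401114115105405)
  (Net.cons (nat_lit 2) (nat_lit 0x20202000200220220200020200200200)
  (Net.cons (nat_lit 4) (nat_lit 0x80008040c02000c08000400020404)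
  (Net.cons (nat_lit 8) (nat_lit 0x6a006000e400e80078004000020024)
  (Net.cons (nat_lit 16) (nat_lit 0x50bc0000bd700000b50c0000ce60)
  (Net.cons (nat_lit 32) (nat_lit 0x22a8e752000000001116b1de)
  (Net.cons (nat_lit 64) (nat_lit 0xeddf6c78f5c8ec06)
  Net.nil)))))))))))))
noncomputable def x9023s : ℕ → Net := upd ns9021 6 x9023
theorem der9024 : Der 126 (finX 126) (cl gU (lw [0,1,2,3,4,5])) x9023s := der9022.ext (k := 7) (w := [1,2,4,1,2,0,0,0]) 6 (by decide +kernel)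
noncomputable def L9025 : Lev := Lev.cons 0 20 [[4],[5],[6]] Lev.nil
noncomputable def L9026 : Lev := Lev.cons 70 126 [[0],[1],[2],[3]] L9025
theorem lc9027 : Lev.chk 126 4 x9023s vT 100 L9026 = true := by decide +kernel
theorem lb9028 : 2520 ≤ Nat.card (cl gU (lw [0,1,2,3,4,5])) := le_of_eq_of_le (by decide +kernel) (der9024.card_ge lc9027)
theorem lbA7 : 2520 ≤ Nat.card (cl gU (lw [0,1,2,3,4,5])) := lb9028

end Cfsg.Agent.H6.Cl.U35
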