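import Cfsg.Agent.H6.Fi24b18
set_option maxRecDepth 100000
set_option Elab.async false
namespace Cfsg.Agent.H6.Fi
open Cfsg.Agent.H6
universe u

theorem rp1587 : Rng (slChk 920808 20 m1153 r70) 0 1 := Rng.of_chk (c := 1) (by decide +kernel)
theorem rp1588 : Rng (slChk 920808 20 m1153 r70) 1 2 := Rng.of_chk (c := 1) (by decide +kernel)
theorem rp1589 : Rng (slChk 920808 20 m1153 r70) 2 3 := Rng.of_chk (c := 1) (by decide +kernel)
theorem rp1590 : Rng (slChk 920808 20 m1153 r70) 3 4 := Rng.of_chk (c := 1) (by decide +kernel)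
theorem rp1591 : Rng (slChk 920808 20 m1153 r70) 4 5 := Rng.of_chk (c := 1) (by decide +kernel)
theorem rp1592 : Rng (slChk 920808 20 m1153 r70) 5 6 := Rng.of_chk (c := 1) (by decide +kernel)
theorem rp1593 : Rng (slChk 920808 20 m1153 r70) 6 7 := Rng.of_chk (c := 1) (by decide +kernel)
theorem rp1594 : Rng (slChk 920808 20 m1153 r70) 7 8 := Rng.of_chk (c := 1) (by decide +kernel)
theorem rp1595 : Rng (slChk 920808 20 m1153 r70) 8 9 := Rng.of_chk (c := 1) (by decide +kernel)
theorem rp1596 : Rng (slChk 920808 20 m1153 r70) 9 10 := Rng.of_chk (c := 1) (by decide +kernel)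
theorem rp1597 : Rng (slChk 920808 20 m1153 r70) 10 11 := Rng.of_chk (c := 1) (by decide +kernel)
theorem rp1598 : Rng (slChk 920808 20 m1153 r70) 11 12 := Rng.of_chk (c := 1) (by decide +kernel)
theorem rp1599 : Rng (slChk 920808 20 m1153 r70) 12 13 := Rng.of_chk (c := 1) (by decide +kernel)
theorem rp1600 : Rng (slChk 920808 20 m1153 r70) 13 14 := Rng.of_chk (c := 1) (by decide +kernel)
theorem rp1601 : Rng (slChk 920808 20 m1153 r70) 14 15 := Rng.of_chk (c := 1) (by decide +kernel)
theorem rp1602 : Rng (slChk 920808 20 m1153 r70) 15 16 := Rng.of_chk (c := 1) (by decide +kernel)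
theorem rp1603 : Rng (slChk 920808 20 m1153 r70) 16 17 := Rng.of_chk (c := 1) (by decide +kernel)
theorem rp1604 : Rng (slChk 920808 20 m1153 r70) 17 18 := Rng.of_chk (c := 1) (by decide +kernel)
theorem rp1605 : Rng (slChk 920808 20 m1153 r70) 18 19 := Rng.of_chk (c := 1) (by decide +kernel)
theorem rp1606 : Rng (slChk 920808 20 m1153 r70) 19 20 := Rng.of_chk (c := 1) (by decide +kernel)
theorem rl1586 : wp (finG m1153ok) r70 = 1 := fin_rel_of_rng _ (k := 20) (by norm_num) (((((((((((((((((((rp1587.trans rp1588).trans rp1589).trans rp1590).trans rp1591).trans rp1592).trans rp1593).trans rp1594).trans rp1595).trans rp1596).trans rp1597).trans rp1598).trans rp1599).trans rp1600).trans rp1601).trans rp1602).trans rp1603).trans rp1604).trans rp1605).trans rp1606)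
theorem rp1233 : Rng (slChk 920808 20 m1153 r10) 0 4 := Rng.of_chk (c := 4) (by decide +kernel)
theorem rp1234 : Rng (slChk 920808 20 m1153 r10) 4 8 := Rng.of_chk (c := 4) (by decide +kernel)
theorem rp1235 : Rng (slChk 920808 20 m1153 r10) 8 12 := Rng.of_chk (c := 4) (by decide +kernel)
theorem rp1236 : Rng (slChk 920808 20 m1153 r10) 12 16 := Rng.of_chk (c := 4) (by decide +kernel)
theorem rp1237 : Rng (slChk 920808 20 m1153 r10) 16 20 := Rng.of_chk (c := 4) (by decide +kernel)
theorem rl1232 : wp (finG m1153ok) r10 = 1 := fin_rel_of_rng _ (k := 20) (by norm_num) ((((rp1233.trans rp1234).trans rp1235).trans rp1236).trans rp1237)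
theorem rp1283 : Rng (slChk 920808 20 m1153 r18) 0 4 := Rng.of_chk (c := 4) (by decide +kernel)
theorem rp1284 : Rng (slChk 920808 20 m1153 r18) 4 8 := Rng.of_chk (c := 4) (by decide +kernel)
theorem rp1285 : Rng (slChk 920808 20 m1153 r18) 8 12 := Rng.of_chk (c := 4) (by decide +kernel)
theorem rp1286 : Rng (slChk 920808 20 m1153 r18) 12 16 := Rng.of_chk (c := 4) (by decide +kernel)
theorem rp1287 : Rng (slChk 920808 20 m1153 r18) 16 20 := Rng.of_chk (c := 4) (by decide +kernel)
theorem rl1282 : wp (finG m1153ok) r18 = 1 := fin_rel_of_rng _ (k := 20) (by norm_num) ((((rp1283.trans rp1284).trans rp1285).trans rp1286).trans rp1287)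
theorem rp1333 : Rng (slChk 920808 20 m1153 r26) 0 4 := Rng.of_chk (c := 4) (by decide +kernel)
theorem rp1334 : Rng (slChk 920808 20 m1153 r26) 4 8 := Rng.of_chk (c := 4) (by decide +kernel)
theorem rp1335 : Rng (slChk 920808 20 m1153 r26) 8 12 := Rng.of_chk (c := 4) (by decide +kernel)
theorem rp1336 : Rng (slChk 920808 20 m1153 r26) 12 16 := Rng.of_chk (c := 4) (by decide +kernel)
theorem rp1337 : Rng (slChk 920808 20 m1153 r26) 16 20 := Rng.of_chk (c := 4) (by decide +kernel)
theorem rl1332 : wp (finG m1153ok) r26 = 1 := fin_rel_of_rng _ (k := 20) (by norm_num) ((((rp1333.trans rp1334).trans rp1335).trans rp1336).trans rp1337)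
theorem rp1391 : Rng (slChk 920808 20 m1153 r35) 0 4 := Rng.of_chk (c := 4) (by decide +kernel)
theorem rp1392 : Rng (slChk 920808 20 m1153 r35) 4 8 := Rng.of_chk (c := 4) (by decide +kernel)
theorem rp1393 : Rng (slChk 920808 20 m1153 r35) 8 12 := Rng.of_chk (c := 4) (by decide +kernel)
theorem rp1394 : Rng (slChk 920808 20 m1153 r35) 12 16 := Rng.of_chk (c := 4) (by decide +kernel)
theorem rp1395 : Rng (slChk 920808 20 m1153 r35) 16 20 := Rng.of_chk (c := 4) (by decide +kernel)
theorem rl1390 : wp (finG m1153ok) r35 = 1 := fin_rel_of_rng _ (k := 20) (by norm_num) ((((rp1391.trans rp1392).trans rp1393).trans rp1394).trans rp1395)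
theorem rp1441 : Rng (slChk 920808 20 m1153 r43) 0 4 := Rng.of_chk (c := 4) (by decide +kernel)
theorem rp1442 : Rng (slChk 920808 20 m1153 r43) 4 8 := Rng.of_chk (c := 4) (by decide +kernel)
theorem rp1443 : Rng (slChk 920808 20 m1153 r43) 8 12 := Rng.of_chk (c := 4) (by decide +kernel)
theorem rp1444 : Rng (slChk 920808 20 m1153 r43) 12 16 := Rng.of_chk (c := 4) (by decide +kernel)
theorem rp1445 : Rng (slChk 920808 20 m1153 r43) 16 20 := Rng.of_chk (c := 4) (by decide +kernel)
theorem rl1440 : wp (finG m1153ok) r43 = 1 := fin_rel_of_rng _ (k := 20) (by norm_num) ((((rp1441.trans rp1442).trans rp1443).trans rp1444).trans rp1445)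
theorem rp1491 : Rng (slChk 920808 20 m1153 r51) 0 4 := Rng.of_chk (c := 4) (by decide +kernel)
theorem rp1492 : Rng (slChk 920808 20 m1153 r51) 4 8 := Rng.of_chk (c := 4) (by decide +kernel)
theorem rp1493 : Rng (slChk 920808 20 m1153 r51) 8 12 := Rng.of_chk (c := 4) (by decide +kernel)
theorem rp1494 : Rng (slChk 920808 20 m1153 r51) 12 16 := Rng.of_chk (c := 4) (by decide +kernel)
theorem rp1495 : Rng (slChk 920808 20 m1153 r51) 16 20 := Rng.of_chk (c := 4) (by decide +kernel)
theorem rl1490 : wp (finG m1153ok) r51 = 1 := fin_rel_of_rng _ (k := 20) (by norm_num) ((((rp1491.trans rp1492).trans rp1493).trans rp1494).trans rp1495)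
theorem rp1549 : Rng (slChk 920808 20 m1153 r60) 0 4 := Rng.of_chk (c := 4) (by decide +kernel)
theorem rp1550 : Rng (slChk 920808 20 m1153 r60) 4 8 := Rng.of_chk (c := 4) (by decide +kernel)
theorem rp1551 : Rng (slChk 920808 20 m1153 r60) 8 12 := Rng.of_chk (c := 4) (by decide +kernel)
theorem rp1552 : Rng (slChk 920808 20 m1153 r60) 12 16 := Rng.of_chk (c := 4) (by decide +kernel)
theorem rp1553 : Rng (slChk 920808 20 m1153 r60) 16 20 := Rng.of_chk (c := 4) (by decide +kernel)
theorem rl1548 : wp (finG m1153ok) r60 = 1 := fin_rel_of_rng _ (k := 20) (by norm_num) ((((rp1549.trans rp1550).trans rp1551).trans rp1552).trans rp1553)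

end Cfsg.Agent.H6.Fi
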