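import Cfsg.Agent.H6.Fi24b18
set_option maxRecDepth 100000
set_option Elab.async false
namespace Cfsg.Agent.H6.Fi
open Cfsg.Agent.H6
universe u

theorem rp1169 : Rng (slChk 920808 20 m1153 r0) 0 3 := Rng.of_chk (c := 3) (by decide +kernel)
theorem rp1170 : Rng (slChk 920808 20 m1153 r0) 3 6 := Rng.of_chk (c := 3) (by decide +kernel)
theorem rp1171 : Rng (slChk 920808 20 m1153 r0) 6 9 := Rng.of_chk (c := 3) (by decide +kernel)
theorem rp1172 : Rng (slChk 920808 20 m1153 r0) 9 12 := Rng.of_chk (c := 3) (by decide +kernel)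
theorem rp1173 : Rng (slChk 920808 20 m1153 r0) 12 15 := Rng.of_chk (c := 3) (by decide +kernel)
theorem rp1174 : Rng (slChk 920808 20 m1153 r0) 15 18 := Rng.of_chk (c := 3) (by decide +kernel)
theorem rp1175 : Rng (slChk 920808 20 m1153 r0) 18 20 := Rng.of_chk (c := 2) (by decide +kernel)
theorem rl1168 : wp (finG m1153ok) r0 = 1 := fin_rel_of_rng _ (k := 20) (by norm_num) ((((((rp1169.trans rp1170).trans rp1171).trans rp1172).trans rp1173).trans rp1174).trans rp1175)
theorem rp1409 : Rng (slChk 920808 20 m1153 r38) 0 3 := Rng.of_chk (c := 3) (by decide +kernel)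
theorem rp1410 : Rng (slChk 920808 20 m1153 r38) 3 6 := Rng.of_chk (c := 3) (by decide +kernel)
theorem rp1411 : Rng (slChk 920808 20 m1153 r38) 6 9 := Rng.of_chk (c := 3) (by decide +kernel)
theorem rp1412 : Rng (slChk 920808 20 m1153 r38) 9 12 := Rng.of_chk (c := 3) (by decide +kernel)
theorem rp1413 : Rng (slChk 920808 20 m1153 r38) 12 15 := Rng.of_chk (c := 3) (by decide +kernel)
theorem rp1414 : Rng (slChk 920808 20 m1153 r38) 15 18 := Rng.of_chk (c := 3) (by decide +kernel)
theorem rp1415 : Rng (slChk 920808 20 m1153 r38) 18 20 := Rng.of_chk (c := 2) (by decide +kernel)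
theorem rl1408 : wp (finG m1153ok) r38 = 1 := fin_rel_of_rng _ (k := 20) (by norm_num) ((((((rp1409.trans rp1410).trans rp1411).trans rp1412).trans rp1413).trans rp1414).trans rp1415)
theorem rp1189 : Rng (slChk 920808 20 m1153 r3) 0 4 := Rng.of_chk (c := 4) (by decide +kernel)
theorem rp1190 : Rng (slChk 920808 20 m1153 r3) 4 8 := Rng.of_chk (c := 4) (by decide +kernel)
theorem rp1191 : Rng (slChk 920808 20 m1153 r3) 8 12 := Rng.of_chk (c := 4) (by decide +kernel)
theorem rp1192 : Rng (slChk 920808 20 m1153 r3) 12 16 := Rng.of_chk (c := 4) (by decide +kernel)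
theorem rp1193 : Rng (slChk 920808 20 m1153 r3) 16 20 := Rng.of_chk (c := 4) (by decide +kernel)
theorem rl1188 : wp (finG m1153ok) r3 = 1 := fin_rel_of_rng _ (k := 20) (by norm_num) ((((rp1189.trans rp1190).trans rp1191).trans rp1192).trans rp1193)
theorem rp1247 : Rng (slChk 920808 20 m1153 r12) 0 4 := Rng.of_chk (c := 4) (by decide +kernel)
theorem rp1248 : Rng (slChk 920808 20 m1153 r12) 4 8 := Rng.of_chk (c := 4) (by decide +kernel)
theorem rp1249 : Rng (slChk 920808 20 m1153 r12) 8 12 := Rng.of_chk (c := 4) (by decide +kernel)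
theorem rp1250 : Rng (slChk 920808 20 m1153 r12) 12 16 := Rng.of_chk (c := 4) (by decide +kernel)
theorem rp1251 : Rng (slChk 920808 20 m1153 r12) 16 20 := Rng.of_chk (c := 4) (by decide +kernel)
theorem rl1246 : wp (finG m1153ok) r12 = 1 := fin_rel_of_rng _ (k := 20) (by norm_num) ((((rp1247.trans rp1248).trans rp1249).trans rp1250).trans rp1251)
theorem rp1289 : Rng (slChk 920808 20 m1153 r19) 0 4 := Rng.of_chk (c := 4) (by decide +kernel)
theorem rp1290 : Rng (slChk 920808 20 m1153 r19) 4 8 := Rng.of_chk (c := 4) (by decide +kernel)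
theorem rp1291 : Rng (slChk 920808 20 m1153 r19) 8 12 := Rng.of_chk (c := 4) (by decide +kernel)
theorem rp1292 : Rng (slChk 920808 20 m1153 r19) 12 16 := Rng.of_chk (c := 4) (by decide +kernel)
theorem rp1293 : Rng (slChk 920808 20 m1153 r19) 16 20 := Rng.of_chk (c := 4) (by decide +kernel)
theorem rl1288 : wp (finG m1153ok) r19 = 1 := fin_rel_of_rng _ (k := 20) (by norm_num) ((((rp1289.trans rp1290).trans rp1291).trans rp1292).trans rp1293)
theorem rp1339 : Rng (slChk 920808 20 m1153 r27) 0 4 := Rng.of_chk (c := 4) (by decide +kernel)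
theorem rp1340 : Rng (slChk 920808 20 m1153 r27) 4 8 := Rng.of_chk (c := 4) (by decide +kernel)
theorem rp1341 : Rng (slChk 920808 20 m1153 r27) 8 12 := Rng.of_chk (c := 4) (by decide +kernel)
theorem rp1342 : Rng (slChk 920808 20 m1153 r27) 12 16 := Rng.of_chk (c := 4) (by decide +kernel)
theorem rp1343 : Rng (slChk 920808 20 m1153 r27) 16 20 := Rng.of_chk (c := 4) (by decide +kernel)
theorem rl1338 : wp (finG m1153ok) r27 = 1 := fin_rel_of_rng _ (k := 20) (by norm_num) ((((rp1339.trans rp1340).trans rp1341).trans rp1342).trans rp1343)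
theorem rp1397 : Rng (slChk 920808 20 m1153 r36) 0 4 := Rng.of_chk (c := 4) (by decide +kernel)
theorem rp1398 : Rng (slChk 920808 20 m1153 r36) 4 8 := Rng.of_chk (c := 4) (by decide +kernel)
theorem rp1399 : Rng (slChk 920808 20 m1153 r36) 8 12 := Rng.of_chk (c := 4) (by decide +kernel)
theorem rp1400 : Rng (slChk 920808 20 m1153 r36) 12 16 := Rng.of_chk (c := 4) (by decide +kernel)
theorem rp1401 : Rng (slChk 920808 20 m1153 r36) 16 20 := Rng.of_chk (c := 4) (by decide +kernel)
theorem rl1396 : wp (finG m1153ok) r36 = 1 := fin_rel_of_rng _ (k := 20) (by norm_num) ((((rp1397.trans rp1398).trans rp1399).trans rp1400).trans rp1401)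
theorem rp1447 : Rng (slChk 920808 20 m1153 r44) 0 4 := Rng.of_chk (c := 4) (by decide +kernel)
theorem rp1448 : Rng (slChk 920808 20 m1153 r44) 4 8 := Rng.of_chk (c := 4) (by decide +kernel)
theorem rp1449 : Rng (slChk 920808 20 m1153 r44) 8 12 := Rng.of_chk (c := 4) (by decide +kernel)
theorem rp1450 : Rng (slChk 920808 20 m1153 r44) 12 16 := Rng.of_chk (c := 4) (by decide +kernel)
theorem rp1451 : Rng (slChk 920808 20 m1153 r44) 16 20 := Rng.of_chk (c := 4) (by decide +kernel)
theorem rl1446 : wp (finG m1153ok) r44 = 1 := fin_rel_of_rng _ (k := 20) (by norm_num) ((((rp1447.trans rp1448).trans rp1449).trans rp1450).trans rp1451)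
theorem rp1497 : Rng (slChk 920808 20 m1153 r52) 0 4 := Rng.of_chk (c := 4) (by decide +kernel)
theorem rp1498 : Rng (slChk 920808 20 m1153 r52) 4 8 := Rng.of_chk (c := 4) (by decide +kernel)
theorem rp1499 : Rng (slChk 920808 20 m1153 r52) 8 12 := Rng.of_chk (c := 4) (by decide +kernel)
theorem rp1500 : Rng (slChk 920808 20 m1153 r52) 12 16 := Rng.of_chk (c := 4) (by decide +kernel)
theorem rp1501 : Rng (slChk 920808 20 m1153 r52) 16 20 := Rng.of_chk (c := 4) (by decide +kernel)
theorem rl1496 : wp (finG m1153ok) r52 = 1 := fin_rel_of_rng _ (k := 20) (by norm_num) ((((rp1497.trans rp1498).trans rp1499).trans rp1500).trans rp1501)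
theorem rp1555 : Rng (slChk 920808 20 m1153 r61) 0 4 := Rng.of_chk (c := 4) (by decide +kernel)
theorem rp1556 : Rng (slChk 920808 20 m1153 r61) 4 8 := Rng.of_chk (c := 4) (by decide +kernel)
theorem rp1557 : Rng (slChk 920808 20 m1153 r61) 8 12 := Rng.of_chk (c := 4) (by decide +kernel)
theorem rp1558 : Rng (slChk 920808 20 m1153 r61) 12 16 := Rng.of_chk (c := 4) (by decide +kernel)
theorem rp1559 : Rng (slChk 920808 20 m1153 r61) 16 20 := Rng.of_chk (c := 4) (by decide +kernel)
theorem rl1554 : wp (finG m1153ok) r61 = 1 := fin_rel_of_rng _ (k := 20) (by norm_num) ((((rp1555.trans rp1556).trans rp1557).trans rp1558).trans rp1559)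

end Cfsg.Agent.H6.Fi
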