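import Cfsg.Agent.H6.Fi24b18
set_option maxRecDepth 100000
set_option Elab.async false
namespace Cfsg.Agent.H6.Fi
open Cfsg.Agent.H6
universe u

theorem rp1225 : Rng (slChk 920808 20 m1153 r9) 0 3 := Rng.of_chk (c := 3) (by decide +kernel)
theorem rp1226 : Rng (slChk 920808 20 m1153 r9) 3 6 := Rng.of_chk (c := 3) (by decide +kernel)
theorem rp1227 : Rng (slChk 920808 20 m1153 r9) 6 9 := Rng.of_chk (c := 3) (by decide +kernel)
theorem rp1228 : Rng (slChk 920808 20 m1153 r9) 9 12 := Rng.of_chk (c := 3) (by decide +kernel)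
theorem rp1229 : Rng (slChk 920808 20 m1153 r9) 12 15 := Rng.of_chk (c := 3) (by decide +kernel)
theorem rp1230 : Rng (slChk 920808 20 m1153 r9) 15 18 := Rng.of_chk (c := 3) (by decide +kernel)
theorem rp1231 : Rng (slChk 920808 20 m1153 r9) 18 20 := Rng.of_chk (c := 2) (by decide +kernel)
theorem rl1224 : wp (finG m1153ok) r9 = 1 := fin_rel_of_rng _ (k := 20) (by norm_num) ((((((rp1225.trans rp1226).trans rp1227).trans rp1228).trans rp1229).trans rp1230).trans rp1231)
theorem rp1453 : Rng (slChk 920808 20 m1153 r45) 0 3 := Rng.of_chk (c := 3) (by decide +kernel)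
theorem rp1454 : Rng (slChk 920808 20 m1153 r45) 3 6 := Rng.of_chk (c := 3) (by decide +kernel)
theorem rp1455 : Rng (slChk 920808 20 m1153 r45) 6 9 := Rng.of_chk (c := 3) (by decide +kernel)
theorem rp1456 : Rng (slChk 920808 20 m1153 r45) 9 12 := Rng.of_chk (c := 3) (by decide +kernel)
theorem rp1457 : Rng (slChk 920808 20 m1153 r45) 12 15 := Rng.of_chk (c := 3) (by decide +kernel)
theorem rp1458 : Rng (slChk 920808 20 m1153 r45) 15 18 := Rng.of_chk (c := 3) (by decide +kernel)
theorem rp1459 : Rng (slChk 920808 20 m1153 r45) 18 20 := Rng.of_chk (c := 2) (by decide +kernel)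
theorem rl1452 : wp (finG m1153ok) r45 = 1 := fin_rel_of_rng _ (k := 20) (by norm_num) ((((((rp1453.trans rp1454).trans rp1455).trans rp1456).trans rp1457).trans rp1458).trans rp1459)
theorem rp1195 : Rng (slChk 920808 20 m1153 r4) 0 4 := Rng.of_chk (c := 4) (by decide +kernel)
theorem rp1196 : Rng (slChk 920808 20 m1153 r4) 4 8 := Rng.of_chk (c := 4) (by decide +kernel)
theorem rp1197 : Rng (slChk 920808 20 m1153 r4) 8 12 := Rng.of_chk (c := 4) (by decide +kernel)
theorem rp1198 : Rng (slChk 920808 20 m1153 r4) 12 16 := Rng.of_chk (c := 4) (by decide +kernel)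
theorem rp1199 : Rng (slChk 920808 20 m1153 r4) 16 20 := Rng.of_chk (c := 4) (by decide +kernel)
theorem rl1194 : wp (finG m1153ok) r4 = 1 := fin_rel_of_rng _ (k := 20) (by norm_num) ((((rp1195.trans rp1196).trans rp1197).trans rp1198).trans rp1199)
theorem rp1253 : Rng (slChk 920808 20 m1153 r13) 0 4 := Rng.of_chk (c := 4) (by decide +kernel)
theorem rp1254 : Rng (slChk 920808 20 m1153 r13) 4 8 := Rng.of_chk (c := 4) (by decide +kernel)
theorem rp1255 : Rng (slChk 920808 20 m1153 r13) 8 12 := Rng.of_chk (c := 4) (by decide +kernel)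
theorem rp1256 : Rng (slChk 920808 20 m1153 r13) 12 16 := Rng.of_chk (c := 4) (by decide +kernel)
theorem rp1257 : Rng (slChk 920808 20 m1153 r13) 16 20 := Rng.of_chk (c := 4) (by decide +kernel)
theorem rl1252 : wp (finG m1153ok) r13 = 1 := fin_rel_of_rng _ (k := 20) (by norm_num) ((((rp1253.trans rp1254).trans rp1255).trans rp1256).trans rp1257)
theorem rp1295 : Rng (slChk 920808 20 m1153 r20) 0 4 := Rng.of_chk (c := 4) (by decide +kernel)
theorem rp1296 : Rng (slChk 920808 20 m1153 r20) 4 8 := Rng.of_chk (c := 4) (by decide +kernel)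
theorem rp1297 : Rng (slChk 920808 20 m1153 r20) 8 12 := Rng.of_chk (c := 4) (by decide +kernel)
theorem rp1298 : Rng (slChk 920808 20 m1153 r20) 12 16 := Rng.of_chk (c := 4) (by decide +kernel)
theorem rp1299 : Rng (slChk 920808 20 m1153 r20) 16 20 := Rng.of_chk (c := 4) (by decide +kernel)
theorem rl1294 : wp (finG m1153ok) r20 = 1 := fin_rel_of_rng _ (k := 20) (by norm_num) ((((rp1295.trans rp1296).trans rp1297).trans rp1298).trans rp1299)
theorem rp1345 : Rng (slChk 920808 20 m1153 r28) 0 4 := Rng.of_chk (c := 4) (by decide +kernel)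
theorem rp1346 : Rng (slChk 920808 20 m1153 r28) 4 8 := Rng.of_chk (c := 4) (by decide +kernel)
theorem rp1347 : Rng (slChk 920808 20 m1153 r28) 8 12 := Rng.of_chk (c := 4) (by decide +kernel)
theorem rp1348 : Rng (slChk 920808 20 m1153 r28) 12 16 := Rng.of_chk (c := 4) (by decide +kernel)
theorem rp1349 : Rng (slChk 920808 20 m1153 r28) 16 20 := Rng.of_chk (c := 4) (by decide +kernel)
theorem rl1344 : wp (finG m1153ok) r28 = 1 := fin_rel_of_rng _ (k := 20) (by norm_num) ((((rp1345.trans rp1346).trans rp1347).trans rp1348).trans rp1349)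
theorem rp1403 : Rng (slChk 920808 20 m1153 r37) 0 4 := Rng.of_chk (c := 4) (by decide +kernel)
theorem rp1404 : Rng (slChk 920808 20 m1153 r37) 4 8 := Rng.of_chk (c := 4) (by decide +kernel)
theorem rp1405 : Rng (slChk 920808 20 m1153 r37) 8 12 := Rng.of_chk (c := 4) (by decide +kernel)
theorem rp1406 : Rng (slChk 920808 20 m1153 r37) 12 16 := Rng.of_chk (c := 4) (by decide +kernel)
theorem rp1407 : Rng (slChk 920808 20 m1153 r37) 16 20 := Rng.of_chk (c := 4) (by decide +kernel)
theorem rl1402 : wp (finG m1153ok) r37 = 1 := fin_rel_of_rng _ (k := 20) (by norm_num) ((((rp1403.trans rp1404).trans rp1405).trans rp1406).trans rp1407)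
theorem rp1461 : Rng (slChk 920808 20 m1153 r46) 0 4 := Rng.of_chk (c := 4) (by decide +kernel)
theorem rp1462 : Rng (slChk 920808 20 m1153 r46) 4 8 := Rng.of_chk (c := 4) (by decide +kernel)
theorem rp1463 : Rng (slChk 920808 20 m1153 r46) 8 12 := Rng.of_chk (c := 4) (by decide +kernel)
theorem rp1464 : Rng (slChk 920808 20 m1153 r46) 12 16 := Rng.of_chk (c := 4) (by decide +kernel)
theorem rp1465 : Rng (slChk 920808 20 m1153 r46) 16 20 := Rng.of_chk (c := 4) (by decide +kernel)
theorem rl1460 : wp (finG m1153ok) r46 = 1 := fin_rel_of_rng _ (k := 20) (by norm_num) ((((rp1461.trans rp1462).trans rp1463).trans rp1464).trans rp1465)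
theorem rp1511 : Rng (slChk 920808 20 m1153 r54) 0 4 := Rng.of_chk (c := 4) (by decide +kernel)
theorem rp1512 : Rng (slChk 920808 20 m1153 r54) 4 8 := Rng.of_chk (c := 4) (by decide +kernel)
theorem rp1513 : Rng (slChk 920808 20 m1153 r54) 8 12 := Rng.of_chk (c := 4) (by decide +kernel)
theorem rp1514 : Rng (slChk 920808 20 m1153 r54) 12 16 := Rng.of_chk (c := 4) (by decide +kernel)
theorem rp1515 : Rng (slChk 920808 20 m1153 r54) 16 20 := Rng.of_chk (c := 4) (by decide +kernel)
theorem rl1510 : wp (finG m1153ok) r54 = 1 := fin_rel_of_rng _ (k := 20) (by norm_num) ((((rp1511.trans rp1512).trans rp1513).trans rp1514).trans rp1515)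
theorem rp1561 : Rng (slChk 920808 20 m1153 r62) 0 4 := Rng.of_chk (c := 4) (by decide +kernel)
theorem rp1562 : Rng (slChk 920808 20 m1153 r62) 4 8 := Rng.of_chk (c := 4) (by decide +kernel)
theorem rp1563 : Rng (slChk 920808 20 m1153 r62) 8 12 := Rng.of_chk (c := 4) (by decide +kernel)
theorem rp1564 : Rng (slChk 920808 20 m1153 r62) 12 16 := Rng.of_chk (c := 4) (by decide +kernel)
theorem rp1565 : Rng (slChk 920808 20 m1153 r62) 16 20 := Rng.of_chk (c := 4) (by decide +kernel)
theorem rl1560 : wp (finG m1153ok) r62 = 1 := fin_rel_of_rng _ (k := 20) (by norm_num) ((((rp1561.trans rp1562).trans rp1563).trans rp1564).trans rp1565)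

end Cfsg.Agent.H6.Fi
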