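import Cfsg.Agent.H6.Fi24b18
set_option maxRecDepth 100000
set_option Elab.async false
namespace Cfsg.Agent.H6.Fi
open Cfsg.Agent.H6
universe u

theorem rp1239 : Rng (slChk 920808 20 m1153 r11) 0 3 := Rng.of_chk (c := 3) (by decide +kernel)
theorem rp1240 : Rng (slChk 920808 20 m1153 r11) 3 6 := Rng.of_chk (c := 3) (by decide +kernel)
theorem rp1241 : Rng (slChk 920808 20 m1153 r11) 6 9 := Rng.of_chk (c := 3) (by decide +kernel)
theorem rp1242 : Rng (slChk 920808 20 m1153 r11) 9 12 := Rng.of_chk (c := 3) (by decide +kernel)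
theorem rp1243 : Rng (slChk 920808 20 m1153 r11) 12 15 := Rng.of_chk (c := 3) (by decide +kernel)
theorem rp1244 : Rng (slChk 920808 20 m1153 r11) 15 18 := Rng.of_chk (c := 3) (by decide +kernel)
theorem rp1245 : Rng (slChk 920808 20 m1153 r11) 18 20 := Rng.of_chk (c := 2) (by decide +kernel)
theorem rl1238 : wp (finG m1153ok) r11 = 1 := fin_rel_of_rng _ (k := 20) (by norm_num) ((((((rp1239.trans rp1240).trans rp1241).trans rp1242).trans rp1243).trans rp1244).trans rp1245)
theorem rp1503 : Rng (slChk 920808 20 m1153 r53) 0 3 := Rng.of_chk (c := 3) (by decide +kernel)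
theorem rp1504 : Rng (slChk 920808 20 m1153 r53) 3 6 := Rng.of_chk (c := 3) (by decide +kernel)
theorem rp1505 : Rng (slChk 920808 20 m1153 r53) 6 9 := Rng.of_chk (c := 3) (by decide +kernel)
theorem rp1506 : Rng (slChk 920808 20 m1153 r53) 9 12 := Rng.of_chk (c := 3) (by decide +kernel)
theorem rp1507 : Rng (slChk 920808 20 m1153 r53) 12 15 := Rng.of_chk (c := 3) (by decide +kernel)
theorem rp1508 : Rng (slChk 920808 20 m1153 r53) 15 18 := Rng.of_chk (c := 3) (by decide +kernel)
theorem rp1509 : Rng (slChk 920808 20 m1153 r53) 18 20 := Rng.of_chk (c := 2) (by decide +kernel)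
theorem rl1502 : wp (finG m1153ok) r53 = 1 := fin_rel_of_rng _ (k := 20) (by norm_num) ((((((rp1503.trans rp1504).trans rp1505).trans rp1506).trans rp1507).trans rp1508).trans rp1509)
theorem rp1201 : Rng (slChk 920808 20 m1153 r5) 0 4 := Rng.of_chk (c := 4) (by decide +kernel)
theorem rp1202 : Rng (slChk 920808 20 m1153 r5) 4 8 := Rng.of_chk (c := 4) (by decide +kernel)
theorem rp1203 : Rng (slChk 920808 20 m1153 r5) 8 12 := Rng.of_chk (c := 4) (by decide +kernel)
theorem rp1204 : Rng (slChk 920808 20 m1153 r5) 12 16 := Rng.of_chk (c := 4) (by decide +kernel)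
theorem rp1205 : Rng (slChk 920808 20 m1153 r5) 16 20 := Rng.of_chk (c := 4) (by decide +kernel)
theorem rl1200 : wp (finG m1153ok) r5 = 1 := fin_rel_of_rng _ (k := 20) (by norm_num) ((((rp1201.trans rp1202).trans rp1203).trans rp1204).trans rp1205)
theorem rp1259 : Rng (slChk 920808 20 m1153 r14) 0 4 := Rng.of_chk (c := 4) (by decide +kernel)
theorem rp1260 : Rng (slChk 920808 20 m1153 r14) 4 8 := Rng.of_chk (c := 4) (by decide +kernel)
theorem rp1261 : Rng (slChk 920808 20 m1153 r14) 8 12 := Rng.of_chk (c := 4) (by decide +kernel)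
theorem rp1262 : Rng (slChk 920808 20 m1153 r14) 12 16 := Rng.of_chk (c := 4) (by decide +kernel)
theorem rp1263 : Rng (slChk 920808 20 m1153 r14) 16 20 := Rng.of_chk (c := 4) (by decide +kernel)
theorem rl1258 : wp (finG m1153ok) r14 = 1 := fin_rel_of_rng _ (k := 20) (by norm_num) ((((rp1259.trans rp1260).trans rp1261).trans rp1262).trans rp1263)
theorem rp1309 : Rng (slChk 920808 20 m1153 r22) 0 4 := Rng.of_chk (c := 4) (by decide +kernel)
theorem rp1310 : Rng (slChk 920808 20 m1153 r22) 4 8 := Rng.of_chk (c := 4) (by decide +kernel)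
theorem rp1311 : Rng (slChk 920808 20 m1153 r22) 8 12 := Rng.of_chk (c := 4) (by decide +kernel)
theorem rp1312 : Rng (slChk 920808 20 m1153 r22) 12 16 := Rng.of_chk (c := 4) (by decide +kernel)
theorem rp1313 : Rng (slChk 920808 20 m1153 r22) 16 20 := Rng.of_chk (c := 4) (by decide +kernel)
theorem rl1308 : wp (finG m1153ok) r22 = 1 := fin_rel_of_rng _ (k := 20) (by norm_num) ((((rp1309.trans rp1310).trans rp1311).trans rp1312).trans rp1313)
theorem rp1351 : Rng (slChk 920808 20 m1153 r29) 0 4 := Rng.of_chk (c := 4) (by decide +kernel)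
theorem rp1352 : Rng (slChk 920808 20 m1153 r29) 4 8 := Rng.of_chk (c := 4) (by decide +kernel)
theorem rp1353 : Rng (slChk 920808 20 m1153 r29) 8 12 := Rng.of_chk (c := 4) (by decide +kernel)
theorem rp1354 : Rng (slChk 920808 20 m1153 r29) 12 16 := Rng.of_chk (c := 4) (by decide +kernel)
theorem rp1355 : Rng (slChk 920808 20 m1153 r29) 16 20 := Rng.of_chk (c := 4) (by decide +kernel)
theorem rl1350 : wp (finG m1153ok) r29 = 1 := fin_rel_of_rng _ (k := 20) (by norm_num) ((((rp1351.trans rp1352).trans rp1353).trans rp1354).trans rp1355)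
theorem rp1417 : Rng (slChk 920808 20 m1153 r39) 0 4 := Rng.of_chk (c := 4) (by decide +kernel)
theorem rp1418 : Rng (slChk 920808 20 m1153 r39) 4 8 := Rng.of_chk (c := 4) (by decide +kernel)
theorem rp1419 : Rng (slChk 920808 20 m1153 r39) 8 12 := Rng.of_chk (c := 4) (by decide +kernel)
theorem rp1420 : Rng (slChk 920808 20 m1153 r39) 12 16 := Rng.of_chk (c := 4) (by decide +kernel)
theorem rp1421 : Rng (slChk 920808 20 m1153 r39) 16 20 := Rng.of_chk (c := 4) (by decide +kernel)
theorem rl1416 : wp (finG m1153ok) r39 = 1 := fin_rel_of_rng _ (k := 20) (by norm_num) ((((rp1417.trans rp1418).trans rp1419).trans rp1420).trans rp1421)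
theorem rp1467 : Rng (slChk 920808 20 m1153 r47) 0 4 := Rng.of_chk (c := 4) (by decide +kernel)
theorem rp1468 : Rng (slChk 920808 20 m1153 r47) 4 8 := Rng.of_chk (c := 4) (by decide +kernel)
theorem rp1469 : Rng (slChk 920808 20 m1153 r47) 8 12 := Rng.of_chk (c := 4) (by decide +kernel)
theorem rp1470 : Rng (slChk 920808 20 m1153 r47) 12 16 := Rng.of_chk (c := 4) (by decide +kernel)
theorem rp1471 : Rng (slChk 920808 20 m1153 r47) 16 20 := Rng.of_chk (c := 4) (by decide +kernel)
theorem rl1466 : wp (finG m1153ok) r47 = 1 := fin_rel_of_rng _ (k := 20) (by norm_num) ((((rp1467.trans rp1468).trans rp1469).trans rp1470).trans rp1471)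
theorem rp1517 : Rng (slChk 920808 20 m1153 r55) 0 4 := Rng.of_chk (c := 4) (by decide +kernel)
theorem rp1518 : Rng (slChk 920808 20 m1153 r55) 4 8 := Rng.of_chk (c := 4) (by decide +kernel)
theorem rp1519 : Rng (slChk 920808 20 m1153 r55) 8 12 := Rng.of_chk (c := 4) (by decide +kernel)
theorem rp1520 : Rng (slChk 920808 20 m1153 r55) 12 16 := Rng.of_chk (c := 4) (by decide +kernel)
theorem rp1521 : Rng (slChk 920808 20 m1153 r55) 16 20 := Rng.of_chk (c := 4) (by decide +kernel)
theorem rl1516 : wp (finG m1153ok) r55 = 1 := fin_rel_of_rng _ (k := 20) (by norm_num) ((((rp1517.trans rp1518).trans rp1519).trans rp1520).trans rp1521)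
theorem rp1567 : Rng (slChk 920808 20 m1153 r63) 0 4 := Rng.of_chk (c := 4) (by decide +kernel)
theorem rp1568 : Rng (slChk 920808 20 m1153 r63) 4 8 := Rng.of_chk (c := 4) (by decide +kernel)
theorem rp1569 : Rng (slChk 920808 20 m1153 r63) 8 12 := Rng.of_chk (c := 4) (by decide +kernel)
theorem rp1570 : Rng (slChk 920808 20 m1153 r63) 12 16 := Rng.of_chk (c := 4) (by decide +kernel)
theorem rp1571 : Rng (slChk 920808 20 m1153 r63) 16 20 := Rng.of_chk (c := 4) (by decide +kernel)
theorem rl1566 : wp (finG m1153ok) r63 = 1 := fin_rel_of_rng _ (k := 20) (by norm_num) ((((rp1567.trans rp1568).trans rp1569).trans rp1570).trans rp1571)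

end Cfsg.Agent.H6.Fi
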