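import Cfsg.Agent.H6.Fi24b18
set_option maxRecDepth 100000
set_option Elab.async false
namespace Cfsg.Agent.H6.Fi
open Cfsg.Agent.H6
universe u

theorem rp1301 : Rng (slChk 920808 20 m1153 r21) 0 3 := Rng.of_chk (c := 3) (by decide +kernel)
theorem rp1302 : Rng (slChk 920808 20 m1153 r21) 3 6 := Rng.of_chk (c := 3) (by decide +kernel)
theorem rp1303 : Rng (slChk 920808 20 m1153 r21) 6 9 := Rng.of_chk (c := 3) (by decide +kernel)
theorem rp1304 : Rng (slChk 920808 20 m1153 r21) 9 12 := Rng.of_chk (c := 3) (by decide +kernel)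
theorem rp1305 : Rng (slChk 920808 20 m1153 r21) 12 15 := Rng.of_chk (c := 3) (by decide +kernel)
theorem rp1306 : Rng (slChk 920808 20 m1153 r21) 15 18 := Rng.of_chk (c := 3) (by decide +kernel)
theorem rp1307 : Rng (slChk 920808 20 m1153 r21) 18 20 := Rng.of_chk (c := 2) (by decide +kernel)
theorem rl1300 : wp (finG m1153ok) r21 = 1 := fin_rel_of_rng _ (k := 20) (by norm_num) ((((((rp1301.trans rp1302).trans rp1303).trans rp1304).trans rp1305).trans rp1306).trans rp1307)
theorem rp1523 : Rng (slChk 920808 20 m1153 r56) 0 3 := Rng.of_chk (c := 3) (by decide +kernel)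
theorem rp1524 : Rng (slChk 920808 20 m1153 r56) 3 6 := Rng.of_chk (c := 3) (by decide +kernel)
theorem rp1525 : Rng (slChk 920808 20 m1153 r56) 6 9 := Rng.of_chk (c := 3) (by decide +kernel)
theorem rp1526 : Rng (slChk 920808 20 m1153 r56) 9 12 := Rng.of_chk (c := 3) (by decide +kernel)
theorem rp1527 : Rng (slChk 920808 20 m1153 r56) 12 15 := Rng.of_chk (c := 3) (by decide +kernel)
theorem rp1528 : Rng (slChk 920808 20 m1153 r56) 15 18 := Rng.of_chk (c := 3) (by decide +kernel)
theorem rp1529 : Rng (slChk 920808 20 m1153 r56) 18 20 := Rng.of_chk (c := 2) (by decide +kernel)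
theorem rl1522 : wp (finG m1153ok) r56 = 1 := fin_rel_of_rng _ (k := 20) (by norm_num) ((((((rp1523.trans rp1524).trans rp1525).trans rp1526).trans rp1527).trans rp1528).trans rp1529)
theorem rp1207 : Rng (slChk 920808 20 m1153 r6) 0 4 := Rng.of_chk (c := 4) (by decide +kernel)
theorem rp1208 : Rng (slChk 920808 20 m1153 r6) 4 8 := Rng.of_chk (c := 4) (by decide +kernel)
theorem rp1209 : Rng (slChk 920808 20 m1153 r6) 8 12 := Rng.of_chk (c := 4) (by decide +kernel)
theorem rp1210 : Rng (slChk 920808 20 m1153 r6) 12 16 := Rng.of_chk (c := 4) (by decide +kernel)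
theorem rp1211 : Rng (slChk 920808 20 m1153 r6) 16 20 := Rng.of_chk (c := 4) (by decide +kernel)
theorem rl1206 : wp (finG m1153ok) r6 = 1 := fin_rel_of_rng _ (k := 20) (by norm_num) ((((rp1207.trans rp1208).trans rp1209).trans rp1210).trans rp1211)
theorem rp1265 : Rng (slChk 920808 20 m1153 r15) 0 4 := Rng.of_chk (c := 4) (by decide +kernel)
theorem rp1266 : Rng (slChk 920808 20 m1153 r15) 4 8 := Rng.of_chk (c := 4) (by decide +kernel)
theorem rp1267 : Rng (slChk 920808 20 m1153 r15) 8 12 := Rng.of_chk (c := 4) (by decide +kernel)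
theorem rp1268 : Rng (slChk 920808 20 m1153 r15) 12 16 := Rng.of_chk (c := 4) (by decide +kernel)
theorem rp1269 : Rng (slChk 920808 20 m1153 r15) 16 20 := Rng.of_chk (c := 4) (by decide +kernel)
theorem rl1264 : wp (finG m1153ok) r15 = 1 := fin_rel_of_rng _ (k := 20) (by norm_num) ((((rp1265.trans rp1266).trans rp1267).trans rp1268).trans rp1269)
theorem rp1315 : Rng (slChk 920808 20 m1153 r23) 0 4 := Rng.of_chk (c := 4) (by decide +kernel)
theorem rp1316 : Rng (slChk 920808 20 m1153 r23) 4 8 := Rng.of_chk (c := 4) (by decide +kernel)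
theorem rp1317 : Rng (slChk 920808 20 m1153 r23) 8 12 := Rng.of_chk (c := 4) (by decide +kernel)
theorem rp1318 : Rng (slChk 920808 20 m1153 r23) 12 16 := Rng.of_chk (c := 4) (by decide +kernel)
theorem rp1319 : Rng (slChk 920808 20 m1153 r23) 16 20 := Rng.of_chk (c := 4) (by decide +kernel)
theorem rl1314 : wp (finG m1153ok) r23 = 1 := fin_rel_of_rng _ (k := 20) (by norm_num) ((((rp1315.trans rp1316).trans rp1317).trans rp1318).trans rp1319)
theorem rp1365 : Rng (slChk 920808 20 m1153 r31) 0 4 := Rng.of_chk (c := 4) (by decide +kernel)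
theorem rp1366 : Rng (slChk 920808 20 m1153 r31) 4 8 := Rng.of_chk (c := 4) (by decide +kernel)
theorem rp1367 : Rng (slChk 920808 20 m1153 r31) 8 12 := Rng.of_chk (c := 4) (by decide +kernel)
theorem rp1368 : Rng (slChk 920808 20 m1153 r31) 12 16 := Rng.of_chk (c := 4) (by decide +kernel)
theorem rp1369 : Rng (slChk 920808 20 m1153 r31) 16 20 := Rng.of_chk (c := 4) (by decide +kernel)
theorem rl1364 : wp (finG m1153ok) r31 = 1 := fin_rel_of_rng _ (k := 20) (by norm_num) ((((rp1365.trans rp1366).trans rp1367).trans rp1368).trans rp1369)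
theorem rp1423 : Rng (slChk 920808 20 m1153 r40) 0 4 := Rng.of_chk (c := 4) (by decide +kernel)
theorem rp1424 : Rng (slChk 920808 20 m1153 r40) 4 8 := Rng.of_chk (c := 4) (by decide +kernel)
theorem rp1425 : Rng (slChk 920808 20 m1153 r40) 8 12 := Rng.of_chk (c := 4) (by decide +kernel)
theorem rp1426 : Rng (slChk 920808 20 m1153 r40) 12 16 := Rng.of_chk (c := 4) (by decide +kernel)
theorem rp1427 : Rng (slChk 920808 20 m1153 r40) 16 20 := Rng.of_chk (c := 4) (by decide +kernel)
theorem rl1422 : wp (finG m1153ok) r40 = 1 := fin_rel_of_rng _ (k := 20) (by norm_num) ((((rp1423.trans rp1424).trans rp1425).trans rp1426).trans rp1427)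
theorem rp1473 : Rng (slChk 920808 20 m1153 r48) 0 4 := Rng.of_chk (c := 4) (by decide +kernel)
theorem rp1474 : Rng (slChk 920808 20 m1153 r48) 4 8 := Rng.of_chk (c := 4) (by decide +kernel)
theorem rp1475 : Rng (slChk 920808 20 m1153 r48) 8 12 := Rng.of_chk (c := 4) (by decide +kernel)
theorem rp1476 : Rng (slChk 920808 20 m1153 r48) 12 16 := Rng.of_chk (c := 4) (by decide +kernel)
theorem rp1477 : Rng (slChk 920808 20 m1153 r48) 16 20 := Rng.of_chk (c := 4) (by decide +kernel)
theorem rl1472 : wp (finG m1153ok) r48 = 1 := fin_rel_of_rng _ (k := 20) (by norm_num) ((((rp1473.trans rp1474).trans rp1475).trans rp1476).trans rp1477)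
theorem rp1531 : Rng (slChk 920808 20 m1153 r57) 0 4 := Rng.of_chk (c := 4) (by decide +kernel)
theorem rp1532 : Rng (slChk 920808 20 m1153 r57) 4 8 := Rng.of_chk (c := 4) (by decide +kernel)
theorem rp1533 : Rng (slChk 920808 20 m1153 r57) 8 12 := Rng.of_chk (c := 4) (by decide +kernel)
theorem rp1534 : Rng (slChk 920808 20 m1153 r57) 12 16 := Rng.of_chk (c := 4) (by decide +kernel)
theorem rp1535 : Rng (slChk 920808 20 m1153 r57) 16 20 := Rng.of_chk (c := 4) (by decide +kernel)
theorem rl1530 : wp (finG m1153ok) r57 = 1 := fin_rel_of_rng _ (k := 20) (by norm_num) ((((rp1531.trans rp1532).trans rp1533).trans rp1534).trans rp1535)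
theorem rp1573 : Rng (slChk 920808 20 m1153 r64) 0 4 := Rng.of_chk (c := 4) (by decide +kernel)
theorem rp1574 : Rng (slChk 920808 20 m1153 r64) 4 8 := Rng.of_chk (c := 4) (by decide +kernel)
theorem rp1575 : Rng (slChk 920808 20 m1153 r64) 8 12 := Rng.of_chk (c := 4) (by decide +kernel)
theorem rp1576 : Rng (slChk 920808 20 m1153 r64) 12 16 := Rng.of_chk (c := 4) (by decide +kernel)
theorem rp1577 : Rng (slChk 920808 20 m1153 r64) 16 20 := Rng.of_chk (c := 4) (by decide +kernel)
theorem rl1572 : wp (finG m1153ok) r64 = 1 := fin_rel_of_rng _ (k := 20) (by norm_num) ((((rp1573.trans rp1574).trans rp1575).trans rp1576).trans rp1577)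

end Cfsg.Agent.H6.Fi
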