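import Cfsg.Agent.H6.Fi24b18
set_option maxRecDepth 100000
set_option Elab.async false
namespace Cfsg.Agent.H6.Fi
open Cfsg.Agent.H6
universe u

theorem rp1357 : Rng (slChk 920808 20 m1153 r30) 0 3 := Rng.of_chk (c := 3) (by decide +kernel)
theorem rp1358 : Rng (slChk 920808 20 m1153 r30) 3 6 := Rng.of_chk (c := 3) (by decide +kernel)
theorem rp1359 : Rng (slChk 920808 20 m1153 r30) 6 9 := Rng.of_chk (c := 3) (by decide +kernel)
theorem rp1360 : Rng (slChk 920808 20 m1153 r30) 9 12 := Rng.of_chk (c := 3) (by decide +kernel)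
theorem rp1361 : Rng (slChk 920808 20 m1153 r30) 12 15 := Rng.of_chk (c := 3) (by decide +kernel)
theorem rp1362 : Rng (slChk 920808 20 m1153 r30) 15 18 := Rng.of_chk (c := 3) (by decide +kernel)
theorem rp1363 : Rng (slChk 920808 20 m1153 r30) 18 20 := Rng.of_chk (c := 2) (by decide +kernel)
theorem rl1356 : wp (finG m1153ok) r30 = 1 := fin_rel_of_rng _ (k := 20) (by norm_num) ((((((rp1357.trans rp1358).trans rp1359).trans rp1360).trans rp1361).trans rp1362).trans rp1363)
theorem rp1579 : Rng (slChk 920808 20 m1153 r65) 0 3 := Rng.of_chk (c := 3) (by decide +kernel)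
theorem rp1580 : Rng (slChk 920808 20 m1153 r65) 3 6 := Rng.of_chk (c := 3) (by decide +kernel)
theorem rp1581 : Rng (slChk 920808 20 m1153 r65) 6 9 := Rng.of_chk (c := 3) (by decide +kernel)
theorem rp1582 : Rng (slChk 920808 20 m1153 r65) 9 12 := Rng.of_chk (c := 3) (by decide +kernel)
theorem rp1583 : Rng (slChk 920808 20 m1153 r65) 12 15 := Rng.of_chk (c := 3) (by decide +kernel)
theorem rp1584 : Rng (slChk 920808 20 m1153 r65) 15 18 := Rng.of_chk (c := 3) (by decide +kernel)
theorem rp1585 : Rng (slChk 920808 20 m1153 r65) 18 20 := Rng.of_chk (c := 2) (by decide +kernel)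
theorem rl1578 : wp (finG m1153ok) r65 = 1 := fin_rel_of_rng _ (k := 20) (by norm_num) ((((((rp1579.trans rp1580).trans rp1581).trans rp1582).trans rp1583).trans rp1584).trans rp1585)
theorem rp1213 : Rng (slChk 920808 20 m1153 r7) 0 4 := Rng.of_chk (c := 4) (by decide +kernel)
theorem rp1214 : Rng (slChk 920808 20 m1153 r7) 4 8 := Rng.of_chk (c := 4) (by decide +kernel)
theorem rp1215 : Rng (slChk 920808 20 m1153 r7) 8 12 := Rng.of_chk (c := 4) (by decide +kernel)
theorem rp1216 : Rng (slChk 920808 20 m1153 r7) 12 16 := Rng.of_chk (c := 4) (by decide +kernel)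
theorem rp1217 : Rng (slChk 920808 20 m1153 r7) 16 20 := Rng.of_chk (c := 4) (by decide +kernel)
theorem rl1212 : wp (finG m1153ok) r7 = 1 := fin_rel_of_rng _ (k := 20) (by norm_num) ((((rp1213.trans rp1214).trans rp1215).trans rp1216).trans rp1217)
theorem rp1271 : Rng (slChk 920808 20 m1153 r16) 0 4 := Rng.of_chk (c := 4) (by decide +kernel)
theorem rp1272 : Rng (slChk 920808 20 m1153 r16) 4 8 := Rng.of_chk (c := 4) (by decide +kernel)
theorem rp1273 : Rng (slChk 920808 20 m1153 r16) 8 12 := Rng.of_chk (c := 4) (by decide +kernel)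
theorem rp1274 : Rng (slChk 920808 20 m1153 r16) 12 16 := Rng.of_chk (c := 4) (by decide +kernel)
theorem rp1275 : Rng (slChk 920808 20 m1153 r16) 16 20 := Rng.of_chk (c := 4) (by decide +kernel)
theorem rl1270 : wp (finG m1153ok) r16 = 1 := fin_rel_of_rng _ (k := 20) (by norm_num) ((((rp1271.trans rp1272).trans rp1273).trans rp1274).trans rp1275)
theorem rp1321 : Rng (slChk 920808 20 m1153 r24) 0 4 := Rng.of_chk (c := 4) (by decide +kernel)
theorem rp1322 : Rng (slChk 920808 20 m1153 r24) 4 8 := Rng.of_chk (c := 4) (by decide +kernel)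
theorem rp1323 : Rng (slChk 920808 20 m1153 r24) 8 12 := Rng.of_chk (c := 4) (by decide +kernel)
theorem rp1324 : Rng (slChk 920808 20 m1153 r24) 12 16 := Rng.of_chk (c := 4) (by decide +kernel)
theorem rp1325 : Rng (slChk 920808 20 m1153 r24) 16 20 := Rng.of_chk (c := 4) (by decide +kernel)
theorem rl1320 : wp (finG m1153ok) r24 = 1 := fin_rel_of_rng _ (k := 20) (by norm_num) ((((rp1321.trans rp1322).trans rp1323).trans rp1324).trans rp1325)
theorem rp1371 : Rng (slChk 920808 20 m1153 r32) 0 4 := Rng.of_chk (c := 4) (by decide +kernel)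
theorem rp1372 : Rng (slChk 920808 20 m1153 r32) 4 8 := Rng.of_chk (c := 4) (by decide +kernel)
theorem rp1373 : Rng (slChk 920808 20 m1153 r32) 8 12 := Rng.of_chk (c := 4) (by decide +kernel)
theorem rp1374 : Rng (slChk 920808 20 m1153 r32) 12 16 := Rng.of_chk (c := 4) (by decide +kernel)
theorem rp1375 : Rng (slChk 920808 20 m1153 r32) 16 20 := Rng.of_chk (c := 4) (by decide +kernel)
theorem rl1370 : wp (finG m1153ok) r32 = 1 := fin_rel_of_rng _ (k := 20) (by norm_num) ((((rp1371.trans rp1372).trans rp1373).trans rp1374).trans rp1375)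
theorem rp1429 : Rng (slChk 920808 20 m1153 r41) 0 4 := Rng.of_chk (c := 4) (by decide +kernel)
theorem rp1430 : Rng (slChk 920808 20 m1153 r41) 4 8 := Rng.of_chk (c := 4) (by decide +kernel)
theorem rp1431 : Rng (slChk 920808 20 m1153 r41) 8 12 := Rng.of_chk (c := 4) (by decide +kernel)
theorem rp1432 : Rng (slChk 920808 20 m1153 r41) 12 16 := Rng.of_chk (c := 4) (by decide +kernel)
theorem rp1433 : Rng (slChk 920808 20 m1153 r41) 16 20 := Rng.of_chk (c := 4) (by decide +kernel)
theorem rl1428 : wp (finG m1153ok) r41 = 1 := fin_rel_of_rng _ (k := 20) (by norm_num) ((((rp1429.trans rp1430).trans rp1431).trans rp1432).trans rp1433)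
theorem rp1479 : Rng (slChk 920808 20 m1153 r49) 0 4 := Rng.of_chk (c := 4) (by decide +kernel)
theorem rp1480 : Rng (slChk 920808 20 m1153 r49) 4 8 := Rng.of_chk (c := 4) (by decide +kernel)
theorem rp1481 : Rng (slChk 920808 20 m1153 r49) 8 12 := Rng.of_chk (c := 4) (by decide +kernel)
theorem rp1482 : Rng (slChk 920808 20 m1153 r49) 12 16 := Rng.of_chk (c := 4) (by decide +kernel)
theorem rp1483 : Rng (slChk 920808 20 m1153 r49) 16 20 := Rng.of_chk (c := 4) (by decide +kernel)
theorem rl1478 : wp (finG m1153ok) r49 = 1 := fin_rel_of_rng _ (k := 20) (by norm_num) ((((rp1479.trans rp1480).trans rp1481).trans rp1482).trans rp1483)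
theorem rp1537 : Rng (slChk 920808 20 m1153 r58) 0 4 := Rng.of_chk (c := 4) (by decide +kernel)
theorem rp1538 : Rng (slChk 920808 20 m1153 r58) 4 8 := Rng.of_chk (c := 4) (by decide +kernel)
theorem rp1539 : Rng (slChk 920808 20 m1153 r58) 8 12 := Rng.of_chk (c := 4) (by decide +kernel)
theorem rp1540 : Rng (slChk 920808 20 m1153 r58) 12 16 := Rng.of_chk (c := 4) (by decide +kernel)
theorem rp1541 : Rng (slChk 920808 20 m1153 r58) 16 20 := Rng.of_chk (c := 4) (by decide +kernel)
theorem rl1536 : wp (finG m1153ok) r58 = 1 := fin_rel_of_rng _ (k := 20) (by norm_num) ((((rp1537.trans rp1538).trans rp1539).trans rp1540).trans rp1541)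

end Cfsg.Agent.H6.Fi
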