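import Cfsg.Agent.H6.Fi24b18
set_option maxRecDepth 100000
set_option Elab.async false
namespace Cfsg.Agent.H6.Fi
open Cfsg.Agent.H6
universe u

theorem rp1377 : Rng (slChk 920808 20 m1153 r33) 0 3 := Rng.of_chk (c := 3) (by decide +kernel)
theorem rp1378 : Rng (slChk 920808 20 m1153 r33) 3 6 := Rng.of_chk (c := 3) (by decide +kernel)
theorem rp1379 : Rng (slChk 920808 20 m1153 r33) 6 9 := Rng.of_chk (c := 3) (by decide +kernel)
theorem rp1380 : Rng (slChk 920808 20 m1153 r33) 9 12 := Rng.of_chk (c := 3) (by decide +kernel)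
theorem rp1381 : Rng (slChk 920808 20 m1153 r33) 12 15 := Rng.of_chk (c := 3) (by decide +kernel)
theorem rp1382 : Rng (slChk 920808 20 m1153 r33) 15 18 := Rng.of_chk (c := 3) (by decide +kernel)
theorem rp1383 : Rng (slChk 920808 20 m1153 r33) 18 20 := Rng.of_chk (c := 2) (by decide +kernel)
theorem rl1376 : wp (finG m1153ok) r33 = 1 := fin_rel_of_rng _ (k := 20) (by norm_num) ((((((rp1377.trans rp1378).trans rp1379).trans rp1380).trans rp1381).trans rp1382).trans rp1383)
theorem rp1177 : Rng (slChk 920808 20 m1153 r1) 0 4 := Rng.of_chk (c := 4) (by decide +kernel)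
theorem rp1178 : Rng (slChk 920808 20 m1153 r1) 4 8 := Rng.of_chk (c := 4) (by decide +kernel)
theorem rp1179 : Rng (slChk 920808 20 m1153 r1) 8 12 := Rng.of_chk (c := 4) (by decide +kernel)
theorem rp1180 : Rng (slChk 920808 20 m1153 r1) 12 16 := Rng.of_chk (c := 4) (by decide +kernel)
theorem rp1181 : Rng (slChk 920808 20 m1153 r1) 16 20 := Rng.of_chk (c := 4) (by decide +kernel)
theorem rl1176 : wp (finG m1153ok) r1 = 1 := fin_rel_of_rng _ (k := 20) (by norm_num) ((((rp1177.trans rp1178).trans rp1179).trans rp1180).trans rp1181)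
theorem rp1183 : Rng (slChk 920808 20 m1153 r2) 0 4 := Rng.of_chk (c := 4) (by decide +kernel)
theorem rp1184 : Rng (slChk 920808 20 m1153 r2) 4 8 := Rng.of_chk (c := 4) (by decide +kernel)
theorem rp1185 : Rng (slChk 920808 20 m1153 r2) 8 12 := Rng.of_chk (c := 4) (by decide +kernel)
theorem rp1186 : Rng (slChk 920808 20 m1153 r2) 12 16 := Rng.of_chk (c := 4) (by decide +kernel)
theorem rp1187 : Rng (slChk 920808 20 m1153 r2) 16 20 := Rng.of_chk (c := 4) (by decide +kernel)
theorem rl1182 : wp (finG m1153ok) r2 = 1 := fin_rel_of_rng _ (k := 20) (by norm_num) ((((rp1183.trans rp1184).trans rp1185).trans rp1186).trans rp1187)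
theorem rp1219 : Rng (slChk 920808 20 m1153 r8) 0 4 := Rng.of_chk (c := 4) (by decide +kernel)
theorem rp1220 : Rng (slChk 920808 20 m1153 r8) 4 8 := Rng.of_chk (c := 4) (by decide +kernel)
theorem rp1221 : Rng (slChk 920808 20 m1153 r8) 8 12 := Rng.of_chk (c := 4) (by decide +kernel)
theorem rp1222 : Rng (slChk 920808 20 m1153 r8) 12 16 := Rng.of_chk (c := 4) (by decide +kernel)
theorem rp1223 : Rng (slChk 920808 20 m1153 r8) 16 20 := Rng.of_chk (c := 4) (by decide +kernel)
theorem rl1218 : wp (finG m1153ok) r8 = 1 := fin_rel_of_rng _ (k := 20) (by norm_num) ((((rp1219.trans rp1220).trans rp1221).trans rp1222).trans rp1223)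
theorem rp1277 : Rng (slChk 920808 20 m1153 r17) 0 4 := Rng.of_chk (c := 4) (by decide +kernel)
theorem rp1278 : Rng (slChk 920808 20 m1153 r17) 4 8 := Rng.of_chk (c := 4) (by decide +kernel)
theorem rp1279 : Rng (slChk 920808 20 m1153 r17) 8 12 := Rng.of_chk (c := 4) (by decide +kernel)
theorem rp1280 : Rng (slChk 920808 20 m1153 r17) 12 16 := Rng.of_chk (c := 4) (by decide +kernel)
theorem rp1281 : Rng (slChk 920808 20 m1153 r17) 16 20 := Rng.of_chk (c := 4) (by decide +kernel)
theorem rl1276 : wp (finG m1153ok) r17 = 1 := fin_rel_of_rng _ (k := 20) (by norm_num) ((((rp1277.trans rp1278).trans rp1279).trans rp1280).trans rp1281)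
theorem rp1327 : Rng (slChk 920808 20 m1153 r25) 0 4 := Rng.of_chk (c := 4) (by decide +kernel)
theorem rp1328 : Rng (slChk 920808 20 m1153 r25) 4 8 := Rng.of_chk (c := 4) (by decide +kernel)
theorem rp1329 : Rng (slChk 920808 20 m1153 r25) 8 12 := Rng.of_chk (c := 4) (by decide +kernel)
theorem rp1330 : Rng (slChk 920808 20 m1153 r25) 12 16 := Rng.of_chk (c := 4) (by decide +kernel)
theorem rp1331 : Rng (slChk 920808 20 m1153 r25) 16 20 := Rng.of_chk (c := 4) (by decide +kernel)
theorem rl1326 : wp (finG m1153ok) r25 = 1 := fin_rel_of_rng _ (k := 20) (by norm_num) ((((rp1327.trans rp1328).trans rp1329).trans rp1330).trans rp1331)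
theorem rp1385 : Rng (slChk 920808 20 m1153 r34) 0 4 := Rng.of_chk (c := 4) (by decide +kernel)
theorem rp1386 : Rng (slChk 920808 20 m1153 r34) 4 8 := Rng.of_chk (c := 4) (by decide +kernel)
theorem rp1387 : Rng (slChk 920808 20 m1153 r34) 8 12 := Rng.of_chk (c := 4) (by decide +kernel)
theorem rp1388 : Rng (slChk 920808 20 m1153 r34) 12 16 := Rng.of_chk (c := 4) (by decide +kernel)
theorem rp1389 : Rng (slChk 920808 20 m1153 r34) 16 20 := Rng.of_chk (c := 4) (by decide +kernel)
theorem rl1384 : wp (finG m1153ok) r34 = 1 := fin_rel_of_rng _ (k := 20) (by norm_num) ((((rp1385.trans rp1386).trans rp1387).trans rp1388).trans rp1389)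
theorem rp1435 : Rng (slChk 920808 20 m1153 r42) 0 4 := Rng.of_chk (c := 4) (by decide +kernel)
theorem rp1436 : Rng (slChk 920808 20 m1153 r42) 4 8 := Rng.of_chk (c := 4) (by decide +kernel)
theorem rp1437 : Rng (slChk 920808 20 m1153 r42) 8 12 := Rng.of_chk (c := 4) (by decide +kernel)
theorem rp1438 : Rng (slChk 920808 20 m1153 r42) 12 16 := Rng.of_chk (c := 4) (by decide +kernel)
theorem rp1439 : Rng (slChk 920808 20 m1153 r42) 16 20 := Rng.of_chk (c := 4) (by decide +kernel)
theorem rl1434 : wp (finG m1153ok) r42 = 1 := fin_rel_of_rng _ (k := 20) (by norm_num) ((((rp1435.trans rp1436).trans rp1437).trans rp1438).trans rp1439)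
theorem rp1485 : Rng (slChk 920808 20 m1153 r50) 0 4 := Rng.of_chk (c := 4) (by decide +kernel)
theorem rp1486 : Rng (slChk 920808 20 m1153 r50) 4 8 := Rng.of_chk (c := 4) (by decide +kernel)
theorem rp1487 : Rng (slChk 920808 20 m1153 r50) 8 12 := Rng.of_chk (c := 4) (by decide +kernel)
theorem rp1488 : Rng (slChk 920808 20 m1153 r50) 12 16 := Rng.of_chk (c := 4) (by decide +kernel)
theorem rp1489 : Rng (slChk 920808 20 m1153 r50) 16 20 := Rng.of_chk (c := 4) (by decide +kernel)
theorem rl1484 : wp (finG m1153ok) r50 = 1 := fin_rel_of_rng _ (k := 20) (by norm_num) ((((rp1485.trans rp1486).trans rp1487).trans rp1488).trans rp1489)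
theorem rp1543 : Rng (slChk 920808 20 m1153 r59) 0 4 := Rng.of_chk (c := 4) (by decide +kernel)
theorem rp1544 : Rng (slChk 920808 20 m1153 r59) 4 8 := Rng.of_chk (c := 4) (by decide +kernel)
theorem rp1545 : Rng (slChk 920808 20 m1153 r59) 8 12 := Rng.of_chk (c := 4) (by decide +kernel)
theorem rp1546 : Rng (slChk 920808 20 m1153 r59) 12 16 := Rng.of_chk (c := 4) (by decide +kernel)
theorem rp1547 : Rng (slChk 920808 20 m1153 r59) 16 20 := Rng.of_chk (c := 4) (by decide +kernel)
theorem rl1542 : wp (finG m1153ok) r59 = 1 := fin_rel_of_rng _ (k := 20) (by norm_num) ((((rp1543.trans rp1544).trans rp1545).trans rp1546).trans rp1547)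

end Cfsg.Agent.H6.Fi
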