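import Cfsg.Agent.H6.Fi24b31
import Cfsg.Agent.H6.Fi23b1
set_option maxRecDepth 100000
set_option Elab.async false
namespace Cfsg.Agent.H6.Fi
open Cfsg.Agent.H6
universe u

def cdFi24 : List (Spor.Fi24.Gen × Bool) := [(.a,true),(.b,true),(.c,true),(.d,true),(.e,true),(.f,true),(.g,true),(.h,true),(.i,true),(.j,true),(.k,true),(.l,true)]
def idxFi24 : Spor.Fi24.Gen → ℕ
  | .l => 11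
  | .k => 10
  | .a => 0
  | .b => 1
  | .c => 2
  | .d => 3
  | .e => 4
  | .f => 5
  | .g => 6
  | .j => 9
  | .h => 7
  | .i => 8
noncomputable def RFi24 : List (List ℕ) := [[11,11],[11,10,11,10,11,10],[11,0,11,0],[11,1,11,1],[11,2,11,2],[11,3,11,3],[11,4,11,4],[11,7,11,7],[11,5,11,5],[11,6,11,6],[11,9,11,9],[11,8,11,8],[10,11,10,11,10,11],[10,10],[10,0,10,0,10,0],[10,1,10,1],[10,2,10,2],[10,3,10,3],[10,4,10,4],[10,7,10,7],[10,5,10,5],[10,6,10,6],[10,9,10,9],[10,8,10,8],[0,11,0,11],[0,10,0,10,0,10],[0,0],[0,1,0,1,0,1],[0,2,0,2],[0,3,0,3],[0,4,0,4],[0,7,0,7],[0,5,0,5],[0,6,0,6],[0,9,0,9],[0,8,0,8],[1,11,1,11],[1,10,1,10],[1,0,1,0,1,0],[1,1],[1,2,1,2,1,2],[1,3,1,3],[1,4,1,4],[1,7,1,7],[1,5,1,5],[1,6,1,6],[1,9,1,9],[1,8,1,8],[2,11,2,11],[2,10,2,10],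[2,0,2,0],[2,1,2,1,2,1],[2,2],[2,3,2,3,2,3],[2,4,2,4],[2,7,2,7],[2,5,2,5],[2,6,2,6],[2,9,2,9],[2,8,2,8],[3,11,3,11],[3,10,3,10],[3,0,3,0],[3,1,3,1],[3,2,3,2,3,2],[3,3],[3,4,3,4,3,4],[3,7,3,7,3,7],[3,5,3,5],[3,6,3,6],[3,9,3,9],[3,8,3,8],[4,11,4,11],[4,10,4,10],[4,0,4,0],[4,1,4,1],[4,2,4,2],[4,3,4,3,4,3],[4,4],[4,7,4,7],[4,5,4,5,4,5],[4,6,4,6],[4,9,4,9],[4,8,4,8],[7,11,7,11],[7,10,7,10],[7,0,7,0],[7,1,7,1],[7,2,7,2],[7,3,7,3,7,3],[7,4,7,4],[7,7],[7,5,7,5],[7,6,7,6],[7,9,7,9],[7,8,7,8,7,8],[5,11,5,11],[5,10,5,10],[5,0,5,0],[5,1,5,1],[5,2,5,2],[5,3,5,3],[5,4,5,4,5,4],[5,7,5,7],[5,5],[5,6,5,6,5,6],[5,9,5,9],[5,8,5,8],[6,11,6,11],[6,10,6,10],[6,0,6,0],[6,1,6,1],[6,2,6,2],[6,3,6,3],[6,4,6,4],[6,7,6,7],[6,5,6,5,6,5],[6,6],[6,9,6,9,6,9],[6,8,6,8],[9,11,9,11],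[9,10,9,10],[9,0,9,0],[9,1,9,1],[9,2,9,2],[9,3,9,3],[9,4,9,4],[9,7,9,7],[9,5,9,5],[9,6,9,6,9,6],[9,9],[9,8,9,8],[8,11,8,11],[8,10,8,10],[8,0,8,0],[8,1,8,1],[8,2,8,2],[8,3,8,3],[8,4,8,4],[8,7,8,7,8,7],[8,5,8,5],[8,6,8,6],[8,9,8,9],[8,8],[11,7,5,4,3,2,1,0,7,5,4,3,2,1,0,7,5,4,3,2,1,0,7,5,4,3,2,1,0,7,5,4,3,2,1,0,7,5,4,3,2,1,0,7,5,4,3,2,1,0,7,5,4,3,2,1,0,7,5,4,3,2,1,0],[3,2,1,0,10,11,3,4,5,6,9,3,7,8,3,2,1,0,10,11,3,4,5,6,9,3,7,8,3,2,1,0,10,11,3,4,5,6,9,3,7,8,3,2,1,0,10,11,3,4,5,6,9,3,7,8,3,2,1,0,10,11,3,4,5,6,9,3,7,8,3,2,1,0,10,11,3,4,5,6,9,3,7,8,3,2,1,0,10,11,3,4,5,6,9,3,7,8,3,2,1,0,10,11,3,4,5,6,9,3,7,8,3,2,1,0,10,11,3,4,5,6,9,3,7,8,3,2,1,0,10,11,3,4,5,6,9,3,7,8,3,2,1,0,10,11,3,4,5,6,9,3,7,8,3,2,1,0,10,11,3,4,5,6,9,3,7,8,3,2,1,0,10,11,3,4,5,6,9,3,7,8,3,2,1,0,10,11,3,4,5,6,9,3,7,8,3,2,1,0,10,11,3,4,5,6,9,3,7,8,3,2,1,0,10,11,3,4,5,6,9,3,7,8,3,2,1,0,10,11,3,4,5,6,9,3,7,8]]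
theorem hRFi24 : (relList Spor.Fi24.edges Spor.Fi24.extra).map (lets io idxFi24) = RFi24 := by decide +kernel
theorem hvFi24 : invOk Spor.Fi24.edges cdFi24 il := by decide +kernel
theorem hiFi24 : ∀ x, cdFi24[idxFi24 x]? = some (x, true) := by intro x; cases x <;> rfl
noncomputable def gFi24 : ℕ → Spor.Fi24 := presG Spor.Fi24.edges Spor.Fi24.extra cdFi24
theorem satFi24 : Sat io RFi24 gFi24 := presG_sat hvFi24 hiFi24 hRFi24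
noncomputable def C200001 : List (List ℕ) := [r0,r1,r2,r3,r4,r5,r6,r7,r8,r9,r10,r11,r12,r13,r14,r15,r16,r17,r18,r19,r20,r21,r22,r23,r24,r25,r26,r27,r28,r29,r30,r31,r32,r33,r34,r35,r36,r37,r38,r39,r40,r41,r42,r43,r44,r45,r46,r47,r48,r49,r50,r51,r52,r53,r54,r55,r56,r57,r58,r59,r60,r61,r62,r63,r64,r65,r70,r71]

end Cfsg.Agent.H6.Fi
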