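import Cfsg.Agent.H6.Fi24c12
set_option maxRecDepth 100000
set_option Elab.async false
namespace Cfsg.Agent.H6.Fi
open Cfsg.Agent.H6
universe u

theorem rp200234 : Rng (slChk 306936 19 m200002 r70) 0 1 := Rng.of_chk (c := 1) (by decide +kernel)
theorem rp200235 : Rng (slChk 306936 19 m200002 r70) 1 2 := Rng.of_chk (c := 1) (by decide +kernel)
theorem rp200236 : Rng (slChk 306936 19 m200002 r70) 2 3 := Rng.of_chk (c := 1) (by decide +kernel)
theorem rp200237 : Rng (slChk 306936 19 m200002 r70) 3 4 := Rng.of_chk (c := 1) (by decide +kernel)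
theorem rp200238 : Rng (slChk 306936 19 m200002 r70) 4 5 := Rng.of_chk (c := 1) (by decide +kernel)
theorem rp200239 : Rng (slChk 306936 19 m200002 r70) 5 6 := Rng.of_chk (c := 1) (by decide +kernel)
theorem rp200240 : Rng (slChk 306936 19 m200002 r70) 6 7 := Rng.of_chk (c := 1) (by decide +kernel)
theorem rp200241 : Rng (slChk 306936 19 m200002 r70) 7 8 := Rng.of_chk (c := 1) (by decide +kernel)
theorem rp200242 : Rng (slChk 306936 19 m200002 r70) 8 9 := Rng.of_chk (c := 1) (by decide +kernel)
theorem rp200243 : Rng (slChk 306936 19 m200002 r70) 9 10 := Rng.of_chk (c := 1) (by decide +kernel)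
theorem rp200244 : Rng (slChk 306936 19 m200002 r70) 10 11 := Rng.of_chk (c := 1) (by decide +kernel)
theorem rp200245 : Rng (slChk 306936 19 m200002 r70) 11 12 := Rng.of_chk (c := 1) (by decide +kernel)
theorem rp200246 : Rng (slChk 306936 19 m200002 r70) 12 13 := Rng.of_chk (c := 1) (by decide +kernel)
theorem rp200247 : Rng (slChk 306936 19 m200002 r70) 13 14 := Rng.of_chk (c := 1) (by decide +kernel)
theorem rp200248 : Rng (slChk 306936 19 m200002 r70) 14 15 := Rng.of_chk (c := 1) (by decide +kernel)
theorem rp200249 : Rng (slChk 306936 19 m200002 r70) 15 16 := Rng.of_chk (c := 1) (by decide +kernel)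
theorem rp200250 : Rng (slChk 306936 19 m200002 r70) 16 17 := Rng.of_chk (c := 1) (by decide +kernel)
theorem rp200251 : Rng (slChk 306936 19 m200002 r70) 17 18 := Rng.of_chk (c := 1) (by decide +kernel)
theorem rp200252 : Rng (slChk 306936 19 m200002 r70) 18 19 := Rng.of_chk (c := 1) (by decide +kernel)
theorem rl200233 : wp (finG m200002ok) r70 = 1 := fin_rel_of_rng _ (k := 19) (by norm_num) ((((((((((((((((((rp200234.trans rp200235).trans rp200236).trans rp200237).trans rp200238).trans rp200239).trans rp200240).trans rp200241).trans rp200242).trans rp200243).trans rp200244).trans rp200245).trans rp200246).trans rp200247).trans rp200248).trans rp200249).trans rp200250).trans rp200251).trans rp200252)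
theorem rp200230 : Rng (slChk 306936 19 m200002 r65) 0 9 := Rng.of_chk (c := 9) (by decide +kernel)
theorem rp200231 : Rng (slChk 306936 19 m200002 r65) 9 18 := Rng.of_chk (c := 9) (by decide +kernel)
theorem rp200232 : Rng (slChk 306936 19 m200002 r65) 18 19 := Rng.of_chk (c := 1) (by decide +kernel)
theorem rl200229 : wp (finG m200002ok) r65 = 1 := fin_rel_of_rng _ (k := 19) (by norm_num) ((rp200230.trans rp200231).trans rp200232)
theorem rp200047 : Rng (slChk 306936 19 m200002 r7) 0 14 := Rng.of_chk (c := 14) (by decide +kernel)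
theorem rp200048 : Rng (slChk 306936 19 m200002 r7) 14 19 := Rng.of_chk (c := 5) (by decide +kernel)
theorem rl200046 : wp (finG m200002ok) r7 = 1 := fin_rel_of_rng _ (k := 19) (by norm_num) (rp200047.trans rp200048)
theorem rp200067 : Rng (slChk 306936 19 m200002 r13) 0 14 := Rng.of_chk (c := 14) (by decide +kernel)
theorem rp200068 : Rng (slChk 306936 19 m200002 r13) 14 19 := Rng.of_chk (c := 5) (by decide +kernel)
theorem rl200066 : wp (finG m200002ok) r13 = 1 := fin_rel_of_rng _ (k := 19) (by norm_num) (rp200067.trans rp200068)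
theorem rp200079 : Rng (slChk 306936 19 m200002 r17) 0 14 := Rng.of_chk (c := 14) (by decide +kernel)
theorem rp200080 : Rng (slChk 306936 19 m200002 r17) 14 19 := Rng.of_chk (c := 5) (by decide +kernel)
theorem rl200078 : wp (finG m200002ok) r17 = 1 := fin_rel_of_rng _ (k := 19) (by norm_num) (rp200079.trans rp200080)
theorem rp200095 : Rng (slChk 306936 19 m200002 r22) 0 14 := Rng.of_chk (c := 14) (by decide +kernel)
theorem rp200096 : Rng (slChk 306936 19 m200002 r22) 14 19 := Rng.of_chk (c := 5) (by decide +kernel)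
theorem rl200094 : wp (finG m200002ok) r22 = 1 := fin_rel_of_rng _ (k := 19) (by norm_num) (rp200095.trans rp200096)
theorem rp200107 : Rng (slChk 306936 19 m200002 r26) 0 14 := Rng.of_chk (c := 14) (by decide +kernel)
theorem rp200108 : Rng (slChk 306936 19 m200002 r26) 14 19 := Rng.of_chk (c := 5) (by decide +kernel)
theorem rl200106 : wp (finG m200002ok) r26 = 1 := fin_rel_of_rng _ (k := 19) (by norm_num) (rp200107.trans rp200108)
theorem rp200123 : Rng (slChk 306936 19 m200002 r31) 0 14 := Rng.of_chk (c := 14) (by decide +kernel)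
theorem rp200124 : Rng (slChk 306936 19 m200002 r31) 14 19 := Rng.of_chk (c := 5) (by decide +kernel)
theorem rl200122 : wp (finG m200002ok) r31 = 1 := fin_rel_of_rng _ (k := 19) (by norm_num) (rp200123.trans rp200124)
theorem rp200139 : Rng (slChk 306936 19 m200002 r36) 0 14 := Rng.of_chk (c := 14) (by decide +kernel)
theorem rp200140 : Rng (slChk 306936 19 m200002 r36) 14 19 := Rng.of_chk (c := 5) (by decide +kernel)
theorem rl200138 : wp (finG m200002ok) r36 = 1 := fin_rel_of_rng _ (k := 19) (by norm_num) (rp200139.trans rp200140)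
theorem rp200155 : Rng (slChk 306936 19 m200002 r41) 0 14 := Rng.of_chk (c := 14) (by decide +kernel)
theorem rp200156 : Rng (slChk 306936 19 m200002 r41) 14 19 := Rng.of_chk (c := 5) (by decide +kernel)
theorem rl200154 : wp (finG m200002ok) r41 = 1 := fin_rel_of_rng _ (k := 19) (by norm_num) (rp200155.trans rp200156)
theorem rp200171 : Rng (slChk 306936 19 m200002 r46) 0 14 := Rng.of_chk (c := 14) (by decide +kernel)
theorem rp200172 : Rng (slChk 306936 19 m200002 r46) 14 19 := Rng.of_chk (c := 5) (by decide +kernel)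
theorem rl200170 : wp (finG m200002ok) r46 = 1 := fin_rel_of_rng _ (k := 19) (by norm_num) (rp200171.trans rp200172)
theorem rp200183 : Rng (slChk 306936 19 m200002 r50) 0 14 := Rng.of_chk (c := 14) (by decide +kernel)
theorem rp200184 : Rng (slChk 306936 19 m200002 r50) 14 19 := Rng.of_chk (c := 5) (by decide +kernel)
theorem rl200182 : wp (finG m200002ok) r50 = 1 := fin_rel_of_rng _ (k := 19) (by norm_num) (rp200183.trans rp200184)
theorem rp200199 : Rng (slChk 306936 19 m200002 r55) 0 14 := Rng.of_chk (c := 14) (by decide +kernel)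
theorem rp200200 : Rng (slChk 306936 19 m200002 r55) 14 19 := Rng.of_chk (c := 5) (by decide +kernel)
theorem rl200198 : wp (finG m200002ok) r55 = 1 := fin_rel_of_rng _ (k := 19) (by norm_num) (rp200199.trans rp200200)
theorem rp200215 : Rng (slChk 306936 19 m200002 r60) 0 14 := Rng.of_chk (c := 14) (by decide +kernel)
theorem rp200216 : Rng (slChk 306936 19 m200002 r60) 14 19 := Rng.of_chk (c := 5) (by decide +kernel)
theorem rl200214 : wp (finG m200002ok) r60 = 1 := fin_rel_of_rng _ (k := 19) (by norm_num) (rp200215.trans rp200216)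
theorem rp200227 : Rng (slChk 306936 19 m200002 r64) 0 14 := Rng.of_chk (c := 14) (by decide +kernel)
theorem rp200228 : Rng (slChk 306936 19 m200002 r64) 14 19 := Rng.of_chk (c := 5) (by decide +kernel)
theorem rl200226 : wp (finG m200002ok) r64 = 1 := fin_rel_of_rng _ (k := 19) (by norm_num) (rp200227.trans rp200228)

end Cfsg.Agent.H6.Fi
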