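import Cfsg.Agent.H6.Fi24c12
set_option maxRecDepth 100000
set_option Elab.async false
namespace Cfsg.Agent.H6.Fi
open Cfsg.Agent.H6
universe u

theorem rp200254 : Rng (slChk 306936 19 m200002 r71) 0 1 := Rng.of_chk (c := 1) (by decide +kernel)
theorem rp200255 : Rng (slChk 306936 19 m200002 r71) 1 2 := Rng.of_chk (c := 1) (by decide +kernel)
theorem rp200256 : Rng (slChk 306936 19 m200002 r71) 2 3 := Rng.of_chk (c := 1) (by decide +kernel)
theorem rp200257 : Rng (slChk 306936 19 m200002 r71) 3 4 := Rng.of_chk (c := 1) (by decide +kernel)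
theorem rp200258 : Rng (slChk 306936 19 m200002 r71) 4 5 := Rng.of_chk (c := 1) (by decide +kernel)
theorem rp200259 : Rng (slChk 306936 19 m200002 r71) 5 6 := Rng.of_chk (c := 1) (by decide +kernel)
theorem rp200260 : Rng (slChk 306936 19 m200002 r71) 6 7 := Rng.of_chk (c := 1) (by decide +kernel)
theorem rp200261 : Rng (slChk 306936 19 m200002 r71) 7 8 := Rng.of_chk (c := 1) (by decide +kernel)
theorem rp200262 : Rng (slChk 306936 19 m200002 r71) 8 9 := Rng.of_chk (c := 1) (by decide +kernel)
theorem rp200263 : Rng (slChk 306936 19 m200002 r71) 9 10 := Rng.of_chk (c := 1) (by decide +kernel)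
theorem rp200264 : Rng (slChk 306936 19 m200002 r71) 10 11 := Rng.of_chk (c := 1) (by decide +kernel)
theorem rp200265 : Rng (slChk 306936 19 m200002 r71) 11 12 := Rng.of_chk (c := 1) (by decide +kernel)
theorem rp200266 : Rng (slChk 306936 19 m200002 r71) 12 13 := Rng.of_chk (c := 1) (by decide +kernel)
theorem rp200267 : Rng (slChk 306936 19 m200002 r71) 13 14 := Rng.of_chk (c := 1) (by decide +kernel)
theorem rp200268 : Rng (slChk 306936 19 m200002 r71) 14 15 := Rng.of_chk (c := 1) (by decide +kernel)
theorem rp200269 : Rng (slChk 306936 19 m200002 r71) 15 16 := Rng.of_chk (c := 1) (by decide +kernel)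
theorem rp200270 : Rng (slChk 306936 19 m200002 r71) 16 17 := Rng.of_chk (c := 1) (by decide +kernel)
theorem rp200271 : Rng (slChk 306936 19 m200002 r71) 17 18 := Rng.of_chk (c := 1) (by decide +kernel)
theorem rp200272 : Rng (slChk 306936 19 m200002 r71) 18 19 := Rng.of_chk (c := 1) (by decide +kernel)
theorem rl200253 : wp (finG m200002ok) r71 = 1 := fin_rel_of_rng _ (k := 19) (by norm_num) ((((((((((((((((((rp200254.trans rp200255).trans rp200256).trans rp200257).trans rp200258).trans rp200259).trans rp200260).trans rp200261).trans rp200262).trans rp200263).trans rp200264).trans rp200265).trans rp200266).trans rp200267).trans rp200268).trans rp200269).trans rp200270).trans rp200271).trans rp200272)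
theorem rp200029 : Rng (slChk 306936 19 m200002 r1) 0 14 := Rng.of_chk (c := 14) (by decide +kernel)
theorem rp200030 : Rng (slChk 306936 19 m200002 r1) 14 19 := Rng.of_chk (c := 5) (by decide +kernel)
theorem rl200028 : wp (finG m200002ok) r1 = 1 := fin_rel_of_rng _ (k := 19) (by norm_num) (rp200029.trans rp200030)
theorem rp200038 : Rng (slChk 306936 19 m200002 r4) 0 14 := Rng.of_chk (c := 14) (by decide +kernel)
theorem rp200039 : Rng (slChk 306936 19 m200002 r4) 14 19 := Rng.of_chk (c := 5) (by decide +kernel)
theorem rl200037 : wp (finG m200002ok) r4 = 1 := fin_rel_of_rng _ (k := 19) (by norm_num) (rp200038.trans rp200039)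
theorem rp200050 : Rng (slChk 306936 19 m200002 r8) 0 14 := Rng.of_chk (c := 14) (by decide +kernel)
theorem rp200051 : Rng (slChk 306936 19 m200002 r8) 14 19 := Rng.of_chk (c := 5) (by decide +kernel)
theorem rl200049 : wp (finG m200002ok) r8 = 1 := fin_rel_of_rng _ (k := 19) (by norm_num) (rp200050.trans rp200051)
theorem rp200070 : Rng (slChk 306936 19 m200002 r14) 0 14 := Rng.of_chk (c := 14) (by decide +kernel)
theorem rp200071 : Rng (slChk 306936 19 m200002 r14) 14 19 := Rng.of_chk (c := 5) (by decide +kernel)
theorem rl200069 : wp (finG m200002ok) r14 = 1 := fin_rel_of_rng _ (k := 19) (by norm_num) (rp200070.trans rp200071)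
theorem rp200082 : Rng (slChk 306936 19 m200002 r18) 0 14 := Rng.of_chk (c := 14) (by decide +kernel)
theorem rp200083 : Rng (slChk 306936 19 m200002 r18) 14 19 := Rng.of_chk (c := 5) (by decide +kernel)
theorem rl200081 : wp (finG m200002ok) r18 = 1 := fin_rel_of_rng _ (k := 19) (by norm_num) (rp200082.trans rp200083)
theorem rp200098 : Rng (slChk 306936 19 m200002 r23) 0 14 := Rng.of_chk (c := 14) (by decide +kernel)
theorem rp200099 : Rng (slChk 306936 19 m200002 r23) 14 19 := Rng.of_chk (c := 5) (by decide +kernel)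
theorem rl200097 : wp (finG m200002ok) r23 = 1 := fin_rel_of_rng _ (k := 19) (by norm_num) (rp200098.trans rp200099)
theorem rp200110 : Rng (slChk 306936 19 m200002 r27) 0 14 := Rng.of_chk (c := 14) (by decide +kernel)
theorem rp200111 : Rng (slChk 306936 19 m200002 r27) 14 19 := Rng.of_chk (c := 5) (by decide +kernel)
theorem rl200109 : wp (finG m200002ok) r27 = 1 := fin_rel_of_rng _ (k := 19) (by norm_num) (rp200110.trans rp200111)
theorem rp200126 : Rng (slChk 306936 19 m200002 r32) 0 14 := Rng.of_chk (c := 14) (by decide +kernel)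
theorem rp200127 : Rng (slChk 306936 19 m200002 r32) 14 19 := Rng.of_chk (c := 5) (by decide +kernel)
theorem rl200125 : wp (finG m200002ok) r32 = 1 := fin_rel_of_rng _ (k := 19) (by norm_num) (rp200126.trans rp200127)
theorem rp200142 : Rng (slChk 306936 19 m200002 r37) 0 14 := Rng.of_chk (c := 14) (by decide +kernel)
theorem rp200143 : Rng (slChk 306936 19 m200002 r37) 14 19 := Rng.of_chk (c := 5) (by decide +kernel)
theorem rl200141 : wp (finG m200002ok) r37 = 1 := fin_rel_of_rng _ (k := 19) (by norm_num) (rp200142.trans rp200143)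
theorem rp200158 : Rng (slChk 306936 19 m200002 r42) 0 14 := Rng.of_chk (c := 14) (by decide +kernel)
theorem rp200159 : Rng (slChk 306936 19 m200002 r42) 14 19 := Rng.of_chk (c := 5) (by decide +kernel)
theorem rl200157 : wp (finG m200002ok) r42 = 1 := fin_rel_of_rng _ (k := 19) (by norm_num) (rp200158.trans rp200159)
theorem rp200174 : Rng (slChk 306936 19 m200002 r47) 0 14 := Rng.of_chk (c := 14) (by decide +kernel)
theorem rp200175 : Rng (slChk 306936 19 m200002 r47) 14 19 := Rng.of_chk (c := 5) (by decide +kernel)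
theorem rl200173 : wp (finG m200002ok) r47 = 1 := fin_rel_of_rng _ (k := 19) (by norm_num) (rp200174.trans rp200175)
theorem rp200186 : Rng (slChk 306936 19 m200002 r51) 0 14 := Rng.of_chk (c := 14) (by decide +kernel)
theorem rp200187 : Rng (slChk 306936 19 m200002 r51) 14 19 := Rng.of_chk (c := 5) (by decide +kernel)
theorem rl200185 : wp (finG m200002ok) r51 = 1 := fin_rel_of_rng _ (k := 19) (by norm_num) (rp200186.trans rp200187)
theorem rp200206 : Rng (slChk 306936 19 m200002 r57) 0 14 := Rng.of_chk (c := 14) (by decide +kernel)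
theorem rp200207 : Rng (slChk 306936 19 m200002 r57) 14 19 := Rng.of_chk (c := 5) (by decide +kernel)
theorem rl200205 : wp (finG m200002ok) r57 = 1 := fin_rel_of_rng _ (k := 19) (by norm_num) (rp200206.trans rp200207)
theorem rp200218 : Rng (slChk 306936 19 m200002 r61) 0 14 := Rng.of_chk (c := 14) (by decide +kernel)
theorem rp200219 : Rng (slChk 306936 19 m200002 r61) 14 19 := Rng.of_chk (c := 5) (by decide +kernel)
theorem rl200217 : wp (finG m200002ok) r61 = 1 := fin_rel_of_rng _ (k := 19) (by norm_num) (rp200218.trans rp200219)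

end Cfsg.Agent.H6.Fi
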