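import Cfsg.Agent.H6.Fi24c12
set_option maxRecDepth 100000
set_option Elab.async false
namespace Cfsg.Agent.H6.Fi
open Cfsg.Agent.H6
universe u

theorem rp200025 : Rng (slChk 306936 19 m200002 r0) 0 9 := Rng.of_chk (c := 9) (by decide +kernel)
theorem rp200026 : Rng (slChk 306936 19 m200002 r0) 9 18 := Rng.of_chk (c := 9) (by decide +kernel)
theorem rp200027 : Rng (slChk 306936 19 m200002 r0) 18 19 := Rng.of_chk (c := 1) (by decide +kernel)
theorem rl200024 : wp (finG m200002ok) r0 = 1 := fin_rel_of_rng _ (k := 19) (by norm_num) ((rp200025.trans rp200026).trans rp200027)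
theorem rp200060 : Rng (slChk 306936 19 m200002 r11) 0 9 := Rng.of_chk (c := 9) (by decide +kernel)
theorem rp200061 : Rng (slChk 306936 19 m200002 r11) 9 18 := Rng.of_chk (c := 9) (by decide +kernel)
theorem rp200062 : Rng (slChk 306936 19 m200002 r11) 18 19 := Rng.of_chk (c := 1) (by decide +kernel)
theorem rl200059 : wp (finG m200002ok) r11 = 1 := fin_rel_of_rng _ (k := 19) (by norm_num) ((rp200060.trans rp200061).trans rp200062)
theorem rp200119 : Rng (slChk 306936 19 m200002 r30) 0 9 := Rng.of_chk (c := 9) (by decide +kernel)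
theorem rp200120 : Rng (slChk 306936 19 m200002 r30) 9 18 := Rng.of_chk (c := 9) (by decide +kernel)
theorem rp200121 : Rng (slChk 306936 19 m200002 r30) 18 19 := Rng.of_chk (c := 1) (by decide +kernel)
theorem rl200118 : wp (finG m200002ok) r30 = 1 := fin_rel_of_rng _ (k := 19) (by norm_num) ((rp200119.trans rp200120).trans rp200121)
theorem rp200145 : Rng (slChk 306936 19 m200002 r38) 0 9 := Rng.of_chk (c := 9) (by decide +kernel)
theorem rp200146 : Rng (slChk 306936 19 m200002 r38) 9 18 := Rng.of_chk (c := 9) (by decide +kernel)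
theorem rp200147 : Rng (slChk 306936 19 m200002 r38) 18 19 := Rng.of_chk (c := 1) (by decide +kernel)
theorem rl200144 : wp (finG m200002ok) r38 = 1 := fin_rel_of_rng _ (k := 19) (by norm_num) ((rp200145.trans rp200146).trans rp200147)
theorem rp200192 : Rng (slChk 306936 19 m200002 r53) 0 9 := Rng.of_chk (c := 9) (by decide +kernel)
theorem rp200193 : Rng (slChk 306936 19 m200002 r53) 9 18 := Rng.of_chk (c := 9) (by decide +kernel)
theorem rp200194 : Rng (slChk 306936 19 m200002 r53) 18 19 := Rng.of_chk (c := 1) (by decide +kernel)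
theorem rl200191 : wp (finG m200002ok) r53 = 1 := fin_rel_of_rng _ (k := 19) (by norm_num) ((rp200192.trans rp200193).trans rp200194)
theorem rp200032 : Rng (slChk 306936 19 m200002 r2) 0 14 := Rng.of_chk (c := 14) (by decide +kernel)
theorem rp200033 : Rng (slChk 306936 19 m200002 r2) 14 19 := Rng.of_chk (c := 5) (by decide +kernel)
theorem rl200031 : wp (finG m200002ok) r2 = 1 := fin_rel_of_rng _ (k := 19) (by norm_num) (rp200032.trans rp200033)
theorem rp200041 : Rng (slChk 306936 19 m200002 r5) 0 14 := Rng.of_chk (c := 14) (by decide +kernel)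
theorem rp200042 : Rng (slChk 306936 19 m200002 r5) 14 19 := Rng.of_chk (c := 5) (by decide +kernel)
theorem rl200040 : wp (finG m200002ok) r5 = 1 := fin_rel_of_rng _ (k := 19) (by norm_num) (rp200041.trans rp200042)
theorem rp200057 : Rng (slChk 306936 19 m200002 r10) 0 14 := Rng.of_chk (c := 14) (by decide +kernel)
theorem rp200058 : Rng (slChk 306936 19 m200002 r10) 14 19 := Rng.of_chk (c := 5) (by decide +kernel)
theorem rl200056 : wp (finG m200002ok) r10 = 1 := fin_rel_of_rng _ (k := 19) (by norm_num) (rp200057.trans rp200058)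
theorem rp200073 : Rng (slChk 306936 19 m200002 r15) 0 14 := Rng.of_chk (c := 14) (by decide +kernel)
theorem rp200074 : Rng (slChk 306936 19 m200002 r15) 14 19 := Rng.of_chk (c := 5) (by decide +kernel)
theorem rl200072 : wp (finG m200002ok) r15 = 1 := fin_rel_of_rng _ (k := 19) (by norm_num) (rp200073.trans rp200074)
theorem rp200085 : Rng (slChk 306936 19 m200002 r19) 0 14 := Rng.of_chk (c := 14) (by decide +kernel)
theorem rp200086 : Rng (slChk 306936 19 m200002 r19) 14 19 := Rng.of_chk (c := 5) (by decide +kernel)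
theorem rl200084 : wp (finG m200002ok) r19 = 1 := fin_rel_of_rng _ (k := 19) (by norm_num) (rp200085.trans rp200086)
theorem rp200101 : Rng (slChk 306936 19 m200002 r24) 0 14 := Rng.of_chk (c := 14) (by decide +kernel)
theorem rp200102 : Rng (slChk 306936 19 m200002 r24) 14 19 := Rng.of_chk (c := 5) (by decide +kernel)
theorem rl200100 : wp (finG m200002ok) r24 = 1 := fin_rel_of_rng _ (k := 19) (by norm_num) (rp200101.trans rp200102)
theorem rp200113 : Rng (slChk 306936 19 m200002 r28) 0 14 := Rng.of_chk (c := 14) (by decide +kernel)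
theorem rp200114 : Rng (slChk 306936 19 m200002 r28) 14 19 := Rng.of_chk (c := 5) (by decide +kernel)
theorem rl200112 : wp (finG m200002ok) r28 = 1 := fin_rel_of_rng _ (k := 19) (by norm_num) (rp200113.trans rp200114)
theorem rp200133 : Rng (slChk 306936 19 m200002 r34) 0 14 := Rng.of_chk (c := 14) (by decide +kernel)
theorem rp200134 : Rng (slChk 306936 19 m200002 r34) 14 19 := Rng.of_chk (c := 5) (by decide +kernel)
theorem rl200132 : wp (finG m200002ok) r34 = 1 := fin_rel_of_rng _ (k := 19) (by norm_num) (rp200133.trans rp200134)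
theorem rp200149 : Rng (slChk 306936 19 m200002 r39) 0 14 := Rng.of_chk (c := 14) (by decide +kernel)
theorem rp200150 : Rng (slChk 306936 19 m200002 r39) 14 19 := Rng.of_chk (c := 5) (by decide +kernel)
theorem rl200148 : wp (finG m200002ok) r39 = 1 := fin_rel_of_rng _ (k := 19) (by norm_num) (rp200149.trans rp200150)
theorem rp200161 : Rng (slChk 306936 19 m200002 r43) 0 14 := Rng.of_chk (c := 14) (by decide +kernel)
theorem rp200162 : Rng (slChk 306936 19 m200002 r43) 14 19 := Rng.of_chk (c := 5) (by decide +kernel)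
theorem rl200160 : wp (finG m200002ok) r43 = 1 := fin_rel_of_rng _ (k := 19) (by norm_num) (rp200161.trans rp200162)
theorem rp200177 : Rng (slChk 306936 19 m200002 r48) 0 14 := Rng.of_chk (c := 14) (by decide +kernel)
theorem rp200178 : Rng (slChk 306936 19 m200002 r48) 14 19 := Rng.of_chk (c := 5) (by decide +kernel)
theorem rl200176 : wp (finG m200002ok) r48 = 1 := fin_rel_of_rng _ (k := 19) (by norm_num) (rp200177.trans rp200178)
theorem rp200189 : Rng (slChk 306936 19 m200002 r52) 0 14 := Rng.of_chk (c := 14) (by decide +kernel)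
theorem rp200190 : Rng (slChk 306936 19 m200002 r52) 14 19 := Rng.of_chk (c := 5) (by decide +kernel)
theorem rl200188 : wp (finG m200002ok) r52 = 1 := fin_rel_of_rng _ (k := 19) (by norm_num) (rp200189.trans rp200190)
theorem rp200209 : Rng (slChk 306936 19 m200002 r58) 0 14 := Rng.of_chk (c := 14) (by decide +kernel)
theorem rp200210 : Rng (slChk 306936 19 m200002 r58) 14 19 := Rng.of_chk (c := 5) (by decide +kernel)
theorem rl200208 : wp (finG m200002ok) r58 = 1 := fin_rel_of_rng _ (k := 19) (by norm_num) (rp200209.trans rp200210)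
theorem rp200221 : Rng (slChk 306936 19 m200002 r62) 0 14 := Rng.of_chk (c := 14) (by decide +kernel)
theorem rp200222 : Rng (slChk 306936 19 m200002 r62) 14 19 := Rng.of_chk (c := 5) (by decide +kernel)
theorem rl200220 : wp (finG m200002ok) r62 = 1 := fin_rel_of_rng _ (k := 19) (by norm_num) (rp200221.trans rp200222)

end Cfsg.Agent.H6.Fi
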