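import Cfsg.Agent.H6.Fi24c12
set_option maxRecDepth 100000
set_option Elab.async false
namespace Cfsg.Agent.H6.Fi
open Cfsg.Agent.H6
universe u

theorem rp200053 : Rng (slChk 306936 19 m200002 r9) 0 9 := Rng.of_chk (c := 9) (by decide +kernel)
theorem rp200054 : Rng (slChk 306936 19 m200002 r9) 9 18 := Rng.of_chk (c := 9) (by decide +kernel)
theorem rp200055 : Rng (slChk 306936 19 m200002 r9) 18 19 := Rng.of_chk (c := 1) (by decide +kernel)
theorem rl200052 : wp (finG m200002ok) r9 = 1 := fin_rel_of_rng _ (k := 19) (by norm_num) ((rp200053.trans rp200054).trans rp200055)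
theorem rp200091 : Rng (slChk 306936 19 m200002 r21) 0 9 := Rng.of_chk (c := 9) (by decide +kernel)
theorem rp200092 : Rng (slChk 306936 19 m200002 r21) 9 18 := Rng.of_chk (c := 9) (by decide +kernel)
theorem rp200093 : Rng (slChk 306936 19 m200002 r21) 18 19 := Rng.of_chk (c := 1) (by decide +kernel)
theorem rl200090 : wp (finG m200002ok) r21 = 1 := fin_rel_of_rng _ (k := 19) (by norm_num) ((rp200091.trans rp200092).trans rp200093)
theorem rp200129 : Rng (slChk 306936 19 m200002 r33) 0 9 := Rng.of_chk (c := 9) (by decide +kernel)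
theorem rp200130 : Rng (slChk 306936 19 m200002 r33) 9 18 := Rng.of_chk (c := 9) (by decide +kernel)
theorem rp200131 : Rng (slChk 306936 19 m200002 r33) 18 19 := Rng.of_chk (c := 1) (by decide +kernel)
theorem rl200128 : wp (finG m200002ok) r33 = 1 := fin_rel_of_rng _ (k := 19) (by norm_num) ((rp200129.trans rp200130).trans rp200131)
theorem rp200167 : Rng (slChk 306936 19 m200002 r45) 0 9 := Rng.of_chk (c := 9) (by decide +kernel)
theorem rp200168 : Rng (slChk 306936 19 m200002 r45) 9 18 := Rng.of_chk (c := 9) (by decide +kernel)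
theorem rp200169 : Rng (slChk 306936 19 m200002 r45) 18 19 := Rng.of_chk (c := 1) (by decide +kernel)
theorem rl200166 : wp (finG m200002ok) r45 = 1 := fin_rel_of_rng _ (k := 19) (by norm_num) ((rp200167.trans rp200168).trans rp200169)
theorem rp200202 : Rng (slChk 306936 19 m200002 r56) 0 9 := Rng.of_chk (c := 9) (by decide +kernel)
theorem rp200203 : Rng (slChk 306936 19 m200002 r56) 9 18 := Rng.of_chk (c := 9) (by decide +kernel)
theorem rp200204 : Rng (slChk 306936 19 m200002 r56) 18 19 := Rng.of_chk (c := 1) (by decide +kernel)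
theorem rl200201 : wp (finG m200002ok) r56 = 1 := fin_rel_of_rng _ (k := 19) (by norm_num) ((rp200202.trans rp200203).trans rp200204)
theorem rp200035 : Rng (slChk 306936 19 m200002 r3) 0 14 := Rng.of_chk (c := 14) (by decide +kernel)
theorem rp200036 : Rng (slChk 306936 19 m200002 r3) 14 19 := Rng.of_chk (c := 5) (by decide +kernel)
theorem rl200034 : wp (finG m200002ok) r3 = 1 := fin_rel_of_rng _ (k := 19) (by norm_num) (rp200035.trans rp200036)
theorem rp200044 : Rng (slChk 306936 19 m200002 r6) 0 14 := Rng.of_chk (c := 14) (by decide +kernel)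
theorem rp200045 : Rng (slChk 306936 19 m200002 r6) 14 19 := Rng.of_chk (c := 5) (by decide +kernel)
theorem rl200043 : wp (finG m200002ok) r6 = 1 := fin_rel_of_rng _ (k := 19) (by norm_num) (rp200044.trans rp200045)
theorem rp200064 : Rng (slChk 306936 19 m200002 r12) 0 14 := Rng.of_chk (c := 14) (by decide +kernel)
theorem rp200065 : Rng (slChk 306936 19 m200002 r12) 14 19 := Rng.of_chk (c := 5) (by decide +kernel)
theorem rl200063 : wp (finG m200002ok) r12 = 1 := fin_rel_of_rng _ (k := 19) (by norm_num) (rp200064.trans rp200065)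
theorem rp200076 : Rng (slChk 306936 19 m200002 r16) 0 14 := Rng.of_chk (c := 14) (by decide +kernel)
theorem rp200077 : Rng (slChk 306936 19 m200002 r16) 14 19 := Rng.of_chk (c := 5) (by decide +kernel)
theorem rl200075 : wp (finG m200002ok) r16 = 1 := fin_rel_of_rng _ (k := 19) (by norm_num) (rp200076.trans rp200077)
theorem rp200088 : Rng (slChk 306936 19 m200002 r20) 0 14 := Rng.of_chk (c := 14) (by decide +kernel)
theorem rp200089 : Rng (slChk 306936 19 m200002 r20) 14 19 := Rng.of_chk (c := 5) (by decide +kernel)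
theorem rl200087 : wp (finG m200002ok) r20 = 1 := fin_rel_of_rng _ (k := 19) (by norm_num) (rp200088.trans rp200089)
theorem rp200104 : Rng (slChk 306936 19 m200002 r25) 0 14 := Rng.of_chk (c := 14) (by decide +kernel)
theorem rp200105 : Rng (slChk 306936 19 m200002 r25) 14 19 := Rng.of_chk (c := 5) (by decide +kernel)
theorem rl200103 : wp (finG m200002ok) r25 = 1 := fin_rel_of_rng _ (k := 19) (by norm_num) (rp200104.trans rp200105)
theorem rp200116 : Rng (slChk 306936 19 m200002 r29) 0 14 := Rng.of_chk (c := 14) (by decide +kernel)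
theorem rp200117 : Rng (slChk 306936 19 m200002 r29) 14 19 := Rng.of_chk (c := 5) (by decide +kernel)
theorem rl200115 : wp (finG m200002ok) r29 = 1 := fin_rel_of_rng _ (k := 19) (by norm_num) (rp200116.trans rp200117)
theorem rp200136 : Rng (slChk 306936 19 m200002 r35) 0 14 := Rng.of_chk (c := 14) (by decide +kernel)
theorem rp200137 : Rng (slChk 306936 19 m200002 r35) 14 19 := Rng.of_chk (c := 5) (by decide +kernel)
theorem rl200135 : wp (finG m200002ok) r35 = 1 := fin_rel_of_rng _ (k := 19) (by norm_num) (rp200136.trans rp200137)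
theorem rp200152 : Rng (slChk 306936 19 m200002 r40) 0 14 := Rng.of_chk (c := 14) (by decide +kernel)
theorem rp200153 : Rng (slChk 306936 19 m200002 r40) 14 19 := Rng.of_chk (c := 5) (by decide +kernel)
theorem rl200151 : wp (finG m200002ok) r40 = 1 := fin_rel_of_rng _ (k := 19) (by norm_num) (rp200152.trans rp200153)
theorem rp200164 : Rng (slChk 306936 19 m200002 r44) 0 14 := Rng.of_chk (c := 14) (by decide +kernel)
theorem rp200165 : Rng (slChk 306936 19 m200002 r44) 14 19 := Rng.of_chk (c := 5) (by decide +kernel)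
theorem rl200163 : wp (finG m200002ok) r44 = 1 := fin_rel_of_rng _ (k := 19) (by norm_num) (rp200164.trans rp200165)
theorem rp200180 : Rng (slChk 306936 19 m200002 r49) 0 14 := Rng.of_chk (c := 14) (by decide +kernel)
theorem rp200181 : Rng (slChk 306936 19 m200002 r49) 14 19 := Rng.of_chk (c := 5) (by decide +kernel)
theorem rl200179 : wp (finG m200002ok) r49 = 1 := fin_rel_of_rng _ (k := 19) (by norm_num) (rp200180.trans rp200181)
theorem rp200196 : Rng (slChk 306936 19 m200002 r54) 0 14 := Rng.of_chk (c := 14) (by decide +kernel)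
theorem rp200197 : Rng (slChk 306936 19 m200002 r54) 14 19 := Rng.of_chk (c := 5) (by decide +kernel)
theorem rl200195 : wp (finG m200002ok) r54 = 1 := fin_rel_of_rng _ (k := 19) (by norm_num) (rp200196.trans rp200197)
theorem rp200212 : Rng (slChk 306936 19 m200002 r59) 0 14 := Rng.of_chk (c := 14) (by decide +kernel)
theorem rp200213 : Rng (slChk 306936 19 m200002 r59) 14 19 := Rng.of_chk (c := 5) (by decide +kernel)
theorem rl200211 : wp (finG m200002ok) r59 = 1 := fin_rel_of_rng _ (k := 19) (by norm_num) (rp200212.trans rp200213)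
theorem rp200224 : Rng (slChk 306936 19 m200002 r63) 0 14 := Rng.of_chk (c := 14) (by decide +kernel)
theorem rp200225 : Rng (slChk 306936 19 m200002 r63) 14 19 := Rng.of_chk (c := 5) (by decide +kernel)
theorem rl200223 : wp (finG m200002ok) r63 = 1 := fin_rel_of_rng _ (k := 19) (by norm_num) (rp200224.trans rp200225)

end Cfsg.Agent.H6.Fi
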