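import Cfsg.Agent.H6.TiA
import Cfsg.Agent.H6.Simp3
import Cfsg.Agent.H6.HeB1
import Cfsg.Agent.S0245
set_option maxRecDepth 100000
set_option Elab.async false
namespace Cfsg.Agent.H6.HeS4
open Cfsg.Agent.H6
universe u

noncomputable def il : List ℕ := [1,0,3,2,5,4]
noncomputable abbrev io : ℕ → ℕ := iota il
noncomputable def C1 : List (List ℕ) := []
noncomputable def m2n0 : Net := (Net.cons (nat_lit 48) (nat_lit 0xcf226aa617b)
  (Net.cons (nat_lit 24) (nat_lit 0x990ad9000000133ee5)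
  (Net.cons (nat_lit 12) (nat_lit 0x56a000c5000067100072f)
  (Net.cons (nat_lit 6) (nat_lit 0x2502903403603202003500c)
  (Net.cons (nat_lit 3) (nat_lit 0x186003004004040106085083)
  (Net.cons (nat_lit 1) (nat_lit 0x8000200248200208041008)
  (Net.cons (nat_lit 1) (nat_lit 0x412010402490400490082012)
  (Net.cons (nat_lit 1) (nat_lit 0x1041248200040201200048)
  (Net.cons (nat_lit 3) (nat_lit 0x2006104004000100102002)
  (Net.cons (nat_lit 6) (nat_lit 0x3002e00e032012028032034)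
  (Net.cons (nat_lit 12) (nat_lit 0xd28000a10000870000cd2)
  (Net.cons (nat_lit 24) (nat_lit 0x95c232000000623dd0)
  (Net.cons (nat_lit 48) (nat_lit 0xcf26164d1fe)
  Net.nil)))))))))))))
noncomputable def m2n1 : Net := (Net.cons (nat_lit 48) (nat_lit 0xf30d9e9b2e01)
  (Net.cons (nat_lit 24) (nat_lit 0xe5ebf60000006a3dcd)
  (Net.cons (nat_lit 12) (nat_lit 0x2e5000e47000a10000d28)
  (Net.cons (nat_lit 6) (nat_lit 0x3b00803c03400e032027011)
  (Net.cons (nat_lit 3) (nat_lit 0xc4144005002104004180040)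
  (Net.cons (nat_lit 1) (nat_lit 0x40000008200200040000)
  (Net.cons (nat_lit 1) (nat_lit 0x2492400012402490490080)
  (Net.cons (nat_lit 1) (nat_lit 0x201249041208248248008201)
  (Net.cons (nat_lit 3) (nat_lit 0x4000180082004004106100)
  (Net.cons (nat_lit 6) (nat_lit 0x1000001c004034036010016)
  (Net.cons (nat_lit 12) (nat_lit 0xe800009e6000c5000056a)
  (Net.cons (nat_lit 24) (nat_lit 0xd7e66a00000066f526)
  (Net.cons (nat_lit 48) (nat_lit 0xf30dd9559e84)
  Net.nil)))))))))))))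
noncomputable def m2n2 : Net := (Net.cons (nat_lit 48) (nat_lit 0x3c2699d32d58)
  (Net.cons (nat_lit 24) (nat_lit 0x74e9f80000004a1604)
  (Net.cons (nat_lit 12) (nat_lit 0xf720009c60005610009bc)
  (Net.cons (nat_lit 6) (nat_lit 0x300b00002102c03001a019)
  (Net.cons (nat_lit 3) (nat_lit 0x811001440c70440841c2147)
  (Net.cons (nat_lit 1) (nat_lit 0x1000000201000000001048)
  (Net.cons (nat_lit 1) (nat_lit 0x402400090402480002092490)
  (Net.cons (nat_lit 1) (nat_lit 0x248000001249000208001048)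
  (Net.cons (nat_lit 3) (nat_lit 0x104100104004000084000000)
  (Net.cons (nat_lit 6) (nat_lit 0x3c00000001a02c030028034)
  (Net.cons (nat_lit 12) (nat_lit 0xf720008c600056000088c)
  (Net.cons (nat_lit 24) (nat_lit 0x74e9f80000004a1604)
  (Net.cons (nat_lit 48) (nat_lit 0x3c2699d12d58)
  Net.nil)))))))))))))
noncomputable def m2n4 : Net := (Net.cons (nat_lit 48) (nat_lit 0xee5b8fd8a400)
  (Net.cons (nat_lit 24) (nat_lit 0x98552600000018b2b2)
  (Net.cons (nat_lit 12) (nat_lit 0x8660007de00058a000baa)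
  (Net.cons (nat_lit 6) (nat_lit 0x3e02003d01b002028033038)
  (Net.cons (nat_lit 3) (nat_lit 0x1010c0184106100101045002)
  (Net.cons (nat_lit 1) (nat_lit 0x209041040000000041040)
  (Net.cons (nat_lit 1) (nat_lit 0x12492082092400010492080)
  (Net.cons (nat_lit 1) (nat_lit 0x40049249001001040208241)
  (Net.cons (nat_lit 3) (nat_lit 0x100184100100000182002)
  (Net.cons (nat_lit 6) (nat_lit 0x3e020018030002028030018)
  (Net.cons (nat_lit 12) (nat_lit 0x8660007cc000580000ba8)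
  (Net.cons (nat_lit 24) (nat_lit 0x985526000000188230)
  (Net.cons (nat_lit 48) (nat_lit 0xee5b8ddc8400)
  Net.nil)))))))))))))
noncomputable def m2l : List Net := [m2n0,m2n1,m2n2,m2n2,m2n4,m2n4]
noncomputable abbrev m2 : ℕ → Net := lk Net.nil m2l
theorem m2ok : NetsOk 85 m2 vT := netsOk_of (by decide +kernel)
theorem m2s0 : Sat io [] (finG m2ok) := fin_sat_nil _ (k := 7) (n := 6) (by decide +kernel)
noncomputable def m3n0 : Net := (Net.cons (nat_lit 10) (nat_lit 960)
  (Net.cons (nat_lit 5) (nat_lit 10261)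
  (Net.cons (nat_lit 1) (nat_lit 4096)
  (Net.cons (nat_lit 1) (nat_lit 76032)
  (Net.cons (nat_lit 1) (nat_lit 0x294a5)
  (Net.cons (nat_lit 1) (nat_lit 0x50942)
  (Net.cons (nat_lit 1) (nat_lit 0x20004)
  (Net.cons (nat_lit 5) (nat_lit 10260)
  (Net.cons (nat_lit 10) (nat_lit 928)
  Net.nil)))))))))
noncomputable def m3n1 : Net := (Net.cons (nat_lit 10) (nat_lit 928)
  (Net.cons (nat_lit 5) (nat_lit 10250)
  (Net.cons (nat_lit 1) (nat_lit 0x20000)
  (Net.cons (nat_lit 1) (nat_lit 0x50802)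
  (Net.cons (nat_lit 1) (nat_lit 0x29484)
  (Net.cons (nat_lit 1) (nat_lit 75848)
  (Net.cons (nat_lit 1) (nat_lit 4261)
  (Net.cons (nat_lit 5) (nat_lit 10248)
  (Net.cons (nat_lit 10) (nat_lit 960)
  Net.nil)))))))))
noncomputable def m3l : List Net := [m3n0,m3n1]
noncomputable abbrev m3 : ℕ → Net := lk Net.nil m3l
theorem m3ok : NetsOk 17 m3 vT := netsOk_of (by decide +kernel)
theorem m3s0 : Sat io [] (finG m3ok) := fin_sat_nil _ (k := 5) (n := 6) (by decide +kernel)
noncomputable def r0 : List ℕ := [0,0,0,0,0,0,0,0,0,0,0,0,0,0,0,0,0]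
noncomputable def m4n0 : Net := (Net.cons (nat_lit 10) (nat_lit 960)
  (Net.cons (nat_lit 5) (nat_lit 10261)
  (Net.cons (nat_lit 1) (nat_lit 4096)
  (Net.cons (nat_lit 1) (nat_lit 76032)
  (Net.cons (nat_lit 1) (nat_lit 0x294a5)
  (Net.cons (nat_lit 1) (nat_lit 0x50942)
  (Net.cons (nat_lit 1) (nat_lit 0x20004)
  (Net.cons (nat_lit 5) (nat_lit 10260)
  (Net.cons (nat_lit 10) (nat_lit 928)
  Net.nil)))))))))
noncomputable def m4n1 : Net := (Net.cons (nat_lit 10) (nat_lit 928)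
  (Net.cons (nat_lit 5) (nat_lit 10250)
  (Net.cons (nat_lit 1) (nat_lit 0x20000)
  (Net.cons (nat_lit 1) (nat_lit 0x50802)
  (Net.cons (nat_lit 1) (nat_lit 0x29484)
  (Net.cons (nat_lit 1) (nat_lit 75848)
  (Net.cons (nat_lit 1) (nat_lit 4261)
  (Net.cons (nat_lit 5) (nat_lit 10248)
  (Net.cons (nat_lit 10) (nat_lit 960)
  Net.nil)))))))))
noncomputable def m4l : List Net := [m4n0,m4n1]
noncomputable abbrev m4 : ℕ → Net := lk Net.nil m4l
theorem m4ok : NetsOk 17 m4 vT := netsOk_of (by decide +kernel)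
theorem m4s0 : Sat io [] (finG m4ok) := fin_sat_nil _ (k := 5) (n := 6) (by decide +kernel)
noncomputable def C5 : List (List ℕ) := [r0]
theorem cl6 : Clo.{u} io C5 [] 17 m4 1 (mkB []) := Clo.start (by decide +kernel)
theorem imp7 : Imp.{u} io C5 C1 := Imp.of_chk (pfs := []) (by decide +kernel)
theorem ix8 : Idx.{u} io C5 [] [] 1 := (Idx.triv (Bound.nil) (by norm_num)).of_imp imp7
noncomputable def lk9 : List (List ℕ × List ℕ × Pf) := []
noncomputable def O10 : ℕ := (nat_lit 2)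
noncomputable def M11 : ℕ := (nat_lit 3)
noncomputable def b12 : ℕ := (nat_lit 1)
theorem cl13 : Clo.{u} io C5 [] 17 m4 M11 (mkB [(0,b12)]) := cl6.new (k := 2) (b := 0) (q := 0) (p := 1) (r := 200) (n := 1) (O := O10) (by decide +kernel) (lks := lk9) (by decide +kernel) (gens_of_lall2 (m := []) (by decide +kernel)) ix8 (by decide +kernel)
noncomputable def b14 : ℕ := (nat_lit 2)
theorem cl15 : Clo.{u} io C5 [] 17 m4 M11 (mkB [(0,b12),(1,b14)]) := cl13.ops (os := [Op.inv 0]) (by decide +kernel) (by decide +kernel)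
theorem ix16 : Idx.{u} io C5 [] [] 1 := (Idx.triv (Bound.nil) (by norm_num)).of_imp imp7
noncomputable def lk17 : List (List ℕ × List ℕ × Pf) := []
noncomputable def O18 : ℕ := (nat_lit 8)
noncomputable def M19 : ℕ := (nat_lit 11)
noncomputable def b20 : ℕ := (nat_lit 3)
theorem cl21 : Clo.{u} io C5 [] 17 m4 M19 (mkB [(0,b20),(1,b14)]) := cl15.new (k := 2) (b := 0) (q := 1) (p := 3) (r := 200) (n := 1) (O := O18) (by decide +kernel) (lks := lk17) (by decide +kernel) (gens_of_lall2 (m := []) (by decide +kernel)) ix16 (by decide +kernel)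
noncomputable def b22 : ℕ := (nat_lit 10)
theorem cl23 : Clo.{u} io C5 [] 17 m4 M19 (mkB [(0,b20),(1,b22)]) := cl21.ops (os := [Op.inv 0]) (by decide +kernel) (by decide +kernel)
theorem ix24 : Idx.{u} io C5 [] [] 1 := (Idx.triv (Bound.nil) (by norm_num)).of_imp imp7
noncomputable def lk25 : List (List ℕ × List ℕ × Pf) := []
noncomputable def O26 : ℕ := (nat_lit 32)
noncomputable def M27 : ℕ := (nat_lit 43)
noncomputable def b28 : ℕ := (nat_lit 11)
theorem cl29 : Clo.{u} io C5 [] 17 m4 M27 (mkB [(0,b28),(1,b22)]) := cl23.new (k := 2) (b := 0) (q := 3) (p := 5) (r := 200) (n := 1) (O := O26) (by decide +kernel) (lks := lk25) (by decide +kernel) (gens_of_lall2 (m := []) (by decide +kernel)) ix24 (by decide +kernel)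
noncomputable def b30 : ℕ := (nat_lit 42)
theorem cl31 : Clo.{u} io C5 [] 17 m4 M27 (mkB [(0,b28),(1,b30)]) := cl29.ops (os := [Op.inv 0]) (by decide +kernel) (by decide +kernel)
theorem ix32 : Idx.{u} io C5 [] [] 1 := (Idx.triv (Bound.nil) (by norm_num)).of_imp imp7
noncomputable def lk33 : List (List ℕ × List ℕ × Pf) := []
noncomputable def O34 : ℕ := (nat_lit 128)
noncomputable def M35 : ℕ := (nat_lit 171)
noncomputable def b36 : ℕ := (nat_lit 43)
theorem cl37 : Clo.{u} io C5 [] 17 m4 M35 (mkB [(0,b36),(1,b30)]) := cl31.new (k := 2) (b := 0) (q := 5) (p := 7) (r := 200) (n := 1) (O := O34) (by decide +kernel) (lks := lk33) (by decide +kernel) (gens_of_lall2 (m := []) (by decide +kernel)) ix32 (by decide +kernel)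
noncomputable def b38 : ℕ := (nat_lit 170)
theorem cl39 : Clo.{u} io C5 [] 17 m4 M35 (mkB [(0,b36),(1,b38)]) := cl37.ops (os := [Op.inv 0]) (by decide +kernel) (by decide +kernel)
theorem ix40 : Idx.{u} io C5 [] [] 1 := (Idx.triv (Bound.nil) (by norm_num)).of_imp imp7
noncomputable def lk41 : List (List ℕ × List ℕ × Pf) := []
noncomputable def O42 : ℕ := (nat_lit 512)
noncomputable def M43 : ℕ := (nat_lit 683)
noncomputable def b44 : ℕ := (nat_lit 171)
theorem cl45 : Clo.{u} io C5 [] 17 m4 M43 (mkB [(0,b44),(1,b38)]) := cl39.new (k := 2) (b := 0) (q := 7) (p := 9) (r := 200) (n := 1) (O := O42) (by decide +kernel) (lks := lk41) (by decide +kernel) (gens_of_lall2 (m := []) (by decide +kernel)) ix40 (by decide +kernel)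
noncomputable def b46 : ℕ := (nat_lit 682)
theorem cl47 : Clo.{u} io C5 [] 17 m4 M43 (mkB [(0,b44),(1,b46)]) := cl45.ops (os := [Op.inv 0]) (by decide +kernel) (by decide +kernel)
theorem ix48 : Idx.{u} io C5 [] [] 1 := (Idx.triv (Bound.nil) (by norm_num)).of_imp imp7
noncomputable def lk49 : List (List ℕ × List ℕ × Pf) := []
noncomputable def O50 : ℕ := (nat_lit 2048)
noncomputable def M51 : ℕ := (nat_lit 2731)
noncomputable def b52 : ℕ := (nat_lit 683)
theorem cl53 : Clo.{u} io C5 [] 17 m4 M51 (mkB [(0,b52),(1,b46)]) := cl47.new (k := 2) (b := 0) (q := 9) (p := 11) (r := 200) (n := 1) (O := O50) (by decide +kernel) (lks := lk49) (by decide +kernel) (gens_of_lall2 (m := []) (by decide +kernel)) ix48 (by decide +kernel)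
noncomputable def b54 : ℕ := (nat_lit 2730)
theorem cl55 : Clo.{u} io C5 [] 17 m4 M51 (mkB [(0,b52),(1,b54)]) := cl53.ops (os := [Op.inv 0]) (by decide +kernel) (by decide +kernel)
theorem ix56 : Idx.{u} io C5 [] [] 1 := (Idx.triv (Bound.nil) (by norm_num)).of_imp imp7
noncomputable def lk57 : List (List ℕ × List ℕ × Pf) := []
noncomputable def O58 : ℕ := (nat_lit 8192)
noncomputable def M59 : ℕ := (nat_lit 10923)
noncomputable def b60 : ℕ := (nat_lit 2731)
theorem cl61 : Clo.{u} io C5 [] 17 m4 M59 (mkB [(0,b60),(1,b54)]) := cl55.new (k := 2) (b := 0) (q := 11) (p := 13) (r := 200) (n := 1) (O := O58) (by decide +kernel) (lks := lk57) (by decide +kernel) (gens_of_lall2 (m := []) (by decide +kernel)) ix56 (by decide +kernel)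
noncomputable def b62 : ℕ := (nat_lit 10922)
theorem cl63 : Clo.{u} io C5 [] 17 m4 M59 (mkB [(0,b60),(1,b62)]) := cl61.ops (os := [Op.inv 0]) (by decide +kernel) (by decide +kernel)
theorem ix64 : Idx.{u} io C5 [] [] 1 := (Idx.triv (Bound.nil) (by norm_num)).of_imp imp7
noncomputable def lk65 : List (List ℕ × List ℕ × Pf) := []
noncomputable def O66 : ℕ := (nat_lit 32768)
noncomputable def M67 : ℕ := (nat_lit 43691)
noncomputable def b68 : ℕ := (nat_lit 10923)
theorem cl69 : Clo.{u} io C5 [] 17 m4 M67 (mkB [(0,b68),(1,b62)]) := cl63.new (k := 2) (b := 0) (q := 13) (p := 15) (r := 200) (n := 1) (O := O66) (by decide +kernel) (lks := lk65) (by decide +kernel) (gens_of_lall2 (m := []) (by decide +kernel)) ix64 (by decide +kernel)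
noncomputable def b70 : ℕ := (nat_lit 43690)
theorem cl71 : Clo.{u} io C5 [] 17 m4 M67 (mkB [(0,b68),(1,b70)]) := cl69.ops (os := [Op.inv 0]) (by decide +kernel) (by decide +kernel)
theorem ix72 : Idx.{u} io C5 [] [] 1 := (Idx.triv (Bound.nil) (by norm_num)).of_imp imp7
noncomputable def lk73 : List (List ℕ × List ℕ × Pf) := []
noncomputable def O74 : ℕ := (nat_lit 65536)
noncomputable def M75 : ℕ := (nat_lit 0x1aaab)
noncomputable def b76 : ℕ := (nat_lit 43691)
theorem cl77 : Clo.{u} io C5 [] 17 m4 M75 (mkB [(0,b76),(1,b70)]) := cl71.new (k := 2) (b := 0) (q := 15) (p := 16) (r := 200) (n := 1) (O := O74) (by decide +kernel) (lks := lk73) (by decide +kernel) (gens_of_lall2 (m := []) (by decide +kernel)) ix72 (by decide +kernel)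
noncomputable def b78 : ℕ := (nat_lit 0x1aaaa)
theorem cl79 : Clo.{u} io C5 [] 17 m4 M75 (mkB [(0,b76),(1,b78)]) := cl77.ops (os := [Op.inv 0]) (by decide +kernel) (by decide +kernel)
theorem ix80 : Idx.{u} io C5 [] [] 1 := (Idx.triv (Bound.nil) (by norm_num)).of_imp imp7
noncomputable def lk81 : List (List ℕ × List ℕ × Pf) := []
noncomputable def O82 : ℕ := (nat_lit 16384)
noncomputable def M83 : ℕ := (nat_lit 0x1eaab)
noncomputable def b84 : ℕ := (nat_lit 0x1aaab)
theorem cl85 : Clo.{u} io C5 [] 17 m4 M83 (mkB [(0,b84),(1,b78)]) := cl79.new (k := 2) (b := 0) (q := 16) (p := 14) (r := 200) (n := 1) (O := O82) (by decide +kernel) (lks := lk81) (by decide +kernel) (gens_of_lall2 (m := []) (by decide +kernel)) ix80 (by decide +kernel)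
noncomputable def b86 : ℕ := (nat_lit 0x1eaaa)
theorem cl87 : Clo.{u} io C5 [] 17 m4 M83 (mkB [(0,b84),(1,b86)]) := cl85.ops (os := [Op.inv 0]) (by decide +kernel) (by decide +kernel)
theorem ix88 : Idx.{u} io C5 [] [] 1 := (Idx.triv (Bound.nil) (by norm_num)).of_imp imp7
noncomputable def lk89 : List (List ℕ × List ℕ × Pf) := []
noncomputable def O90 : ℕ := (nat_lit 4096)
noncomputable def M91 : ℕ := (nat_lit 0x1faab)
noncomputable def b92 : ℕ := (nat_lit 0x1eaab)
theorem cl93 : Clo.{u} io C5 [] 17 m4 M91 (mkB [(0,b92),(1,b86)]) := cl87.new (k := 2) (b := 0) (q := 14) (p := 12) (r := 200) (n := 1) (O := O90) (by decide +kernel) (lks := lk89) (by decide +kernel) (gens_of_lall2 (m := []) (by decide +kernel)) ix88 (by decide +kernel)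
noncomputable def b94 : ℕ := (nat_lit 0x1faaa)
theorem cl95 : Clo.{u} io C5 [] 17 m4 M91 (mkB [(0,b92),(1,b94)]) := cl93.ops (os := [Op.inv 0]) (by decide +kernel) (by decide +kernel)
theorem ix96 : Idx.{u} io C5 [] [] 1 := (Idx.triv (Bound.nil) (by norm_num)).of_imp imp7
noncomputable def lk97 : List (List ℕ × List ℕ × Pf) := []
noncomputable def O98 : ℕ := (nat_lit 1024)
noncomputable def M99 : ℕ := (nat_lit 0x1feab)
noncomputable def b100 : ℕ := (nat_lit 0x1faab)
theorem cl101 : Clo.{u} io C5 [] 17 m4 M99 (mkB [(0,b100),(1,b94)]) := cl95.new (k := 2) (b := 0) (q := 12) (p := 10) (r := 200) (n := 1) (O := O98) (by decide +kernel) (lks := lk97) (by decide +kernel) (gens_of_lall2 (m := []) (by decide +kernel)) ix96 (by decide +kernel)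
noncomputable def b102 : ℕ := (nat_lit 0x1feaa)
theorem cl103 : Clo.{u} io C5 [] 17 m4 M99 (mkB [(0,b100),(1,b102)]) := cl101.ops (os := [Op.inv 0]) (by decide +kernel) (by decide +kernel)
theorem ix104 : Idx.{u} io C5 [] [] 1 := (Idx.triv (Bound.nil) (by norm_num)).of_imp imp7
noncomputable def lk105 : List (List ℕ × List ℕ × Pf) := []
noncomputable def O106 : ℕ := (nat_lit 256)
noncomputable def M107 : ℕ := (nat_lit 0x1ffab)
noncomputable def b108 : ℕ := (nat_lit 0x1feab)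
theorem cl109 : Clo.{u} io C5 [] 17 m4 M107 (mkB [(0,b108),(1,b102)]) := cl103.new (k := 2) (b := 0) (q := 10) (p := 8) (r := 200) (n := 1) (O := O106) (by decide +kernel) (lks := lk105) (by decide +kernel) (gens_of_lall2 (m := []) (by decide +kernel)) ix104 (by decide +kernel)
noncomputable def b110 : ℕ := (nat_lit 0x1ffaa)
theorem cl111 : Clo.{u} io C5 [] 17 m4 M107 (mkB [(0,b108),(1,b110)]) := cl109.ops (os := [Op.inv 0]) (by decide +kernel) (by decide +kernel)
theorem ix112 : Idx.{u} io C5 [] [] 1 := (Idx.triv (Bound.nil) (by norm_num)).of_imp imp7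
noncomputable def lk113 : List (List ℕ × List ℕ × Pf) := []
noncomputable def O114 : ℕ := (nat_lit 64)
noncomputable def M115 : ℕ := (nat_lit 0x1ffeb)
noncomputable def b116 : ℕ := (nat_lit 0x1ffab)
theorem cl117 : Clo.{u} io C5 [] 17 m4 M115 (mkB [(0,b116),(1,b110)]) := cl111.new (k := 2) (b := 0) (q := 8) (p := 6) (r := 200) (n := 1) (O := O114) (by decide +kernel) (lks := lk113) (by decide +kernel) (gens_of_lall2 (m := []) (by decide +kernel)) ix112 (by decide +kernel)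
noncomputable def b118 : ℕ := (nat_lit 0x1ffea)
theorem cl119 : Clo.{u} io C5 [] 17 m4 M115 (mkB [(0,b116),(1,b118)]) := cl117.ops (os := [Op.inv 0]) (by decide +kernel) (by decide +kernel)
theorem ix120 : Idx.{u} io C5 [] [] 1 := (Idx.triv (Bound.nil) (by norm_num)).of_imp imp7
noncomputable def lk121 : List (List ℕ × List ℕ × Pf) := []
noncomputable def O122 : ℕ := (nat_lit 16)
noncomputable def M123 : ℕ := (nat_lit 0x1fffb)
noncomputable def b124 : ℕ := (nat_lit 0x1ffeb)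
theorem cl125 : Clo.{u} io C5 [] 17 m4 M123 (mkB [(0,b124),(1,b118)]) := cl119.new (k := 2) (b := 0) (q := 6) (p := 4) (r := 200) (n := 1) (O := O122) (by decide +kernel) (lks := lk121) (by decide +kernel) (gens_of_lall2 (m := []) (by decide +kernel)) ix120 (by decide +kernel)
noncomputable def b126 : ℕ := (nat_lit 0x1fffa)
theorem cl127 : Clo.{u} io C5 [] 17 m4 M123 (mkB [(0,b124),(1,b126)]) := cl125.ops (os := [Op.inv 0]) (by decide +kernel) (by decide +kernel)
theorem ix128 : Idx.{u} io C5 [] [] 1 := (Idx.triv (Bound.nil) (by norm_num)).of_imp imp7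
noncomputable def lk129 : List (List ℕ × List ℕ × Pf) := []
noncomputable def O130 : ℕ := (nat_lit 4)
noncomputable def M131 : ℕ := (nat_lit 0x1ffff)
noncomputable def b132 : ℕ := (nat_lit 0x1fffb)
theorem cl133 : Clo.{u} io C5 [] 17 m4 M131 (mkB [(0,b132),(1,b126)]) := cl127.new (k := 2) (b := 0) (q := 4) (p := 2) (r := 200) (n := 1) (O := O130) (by decide +kernel) (lks := lk129) (by decide +kernel) (gens_of_lall2 (m := []) (by decide +kernel)) ix128 (by decide +kernel)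
noncomputable def b134 : ℕ := (nat_lit 0x1ffff)
noncomputable def b135 : ℕ := (nat_lit 0x1ffff)
theorem cl136 : Clo.{u} io C5 [] 17 m4 M131 (mkB [(0,b134),(1,b135)]) := cl133.ops (os := [Op.inv 0,Op.rel 0 [] 1 [1,1,1,1,1,1,1,1,1,1,1,1,1,1,1] [([],1)],Op.inv 0]) (by decide +kernel) (by decide +kernel)
theorem sat138 : Sat io C5 (finG m4ok) := m4s0.fin (k := 5) (by decide +kernel)
theorem bd137 : Bound.{u} io C5 [0,1] 17 := cl136.bound (by decide +kernel) sat138 ((Bound.nil).of_imp imp7)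
noncomputable def m139n0 : Net := (Net.cons (nat_lit 10) (nat_lit 384)
  (Net.cons (nat_lit 5) (nat_lit 27669)
  (Net.cons (nat_lit 1) (nat_lit 0x40940)
  (Net.cons (nat_lit 1) (nat_lit 0x214a5)
  (Net.cons (nat_lit 1) (nat_lit 0x50942)
  (Net.cons (nat_lit 1) (nat_lit 37892)
  (Net.cons (nat_lit 5) (nat_lit 16390)
  (Net.cons (nat_lit 10) (nat_lit 400)
  Net.nil))))))))
noncomputable def m139n1 : Net := (Net.cons (nat_lit 10) (nat_lit 400)
  (Net.cons (nat_lit 5) (nat_lit 15385)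
  (Net.cons (nat_lit 1) (nat_lit 1024)
  (Net.cons (nat_lit 1) (nat_lit 67594)
  (Net.cons (nat_lit 1) (nat_lit 0x29085)
  (Net.cons (nat_lit 1) (nat_lit 73802)
  (Net.cons (nat_lit 1) (nat_lit 0x290a0)
  (Net.cons (nat_lit 5) (nat_lit 4106)
  (Net.cons (nat_lit 10) (nat_lit 384)
  Net.nil)))))))))
noncomputable def m139n2 : Net := (Net.cons (nat_lit 10) (nat_lit 976)
  (Net.cons (nat_lit 5) (nat_lit 7170)
  (Net.cons (nat_lit 1) (nat_lit 1028)
  (Net.cons (nat_lit 1) (nat_lit 0x4080a)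
  (Net.cons (nat_lit 1) (nat_lit 0x21005)
  (Net.cons (nat_lit 1) (nat_lit 75786)
  (Net.cons (nat_lit 1) (nat_lit 0x28024)
  (Net.cons (nat_lit 5) (nat_lit 24578)
  (Net.cons (nat_lit 10) (nat_lit 976)
  Net.nil)))))))))
noncomputable def m139l : List Net := [m139n0,m139n1,m139n2,m139n2]
noncomputable abbrev m139 : ℕ → Net := lk Net.nil m139l
theorem m139ok : NetsOk 17 m139 vT := netsOk_of (by decide +kernel)
theorem m139s0 : Sat io [] (finG m139ok) := fin_sat_nil _ (k := 5) (n := 6) (by decide +kernel)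
noncomputable def r1 : List ℕ := [2,2]
noncomputable def r2 : List ℕ := [2,0,0,2,0,0,2,0,0]
noncomputable def r3 : List ℕ := [3,1,3,0,0,0,0,0,0,2,1,2,0,0,0,0,0,0]
noncomputable def r4 : List ℕ := [3,1,3,0,3,0,0,0,0,2,0,2,1,2,1,1,1,1]
noncomputable def m140n0 : Net := (Net.cons (nat_lit 128) (nat_lit 0xf84713fe0027ff0ae712771f0f4c04a8)
  (Net.cons (nat_lit 64) (nat_lit 0x44908b7f9dd6d13d000000000000000014325eed6d9f6e48)
  (Net.cons (nat_lit 32) (nat_lit 0x9d8ebaf1000000006f4ede0500000000de27abc700000000a5c32b9c)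
  (Net.cons (nat_lit 16) (nat_lit 0x2c300000846c0000ff530000b57c000021a3000012d80000f5740000e2f4)
  (Net.cons (nat_lit 8) (nat_lit 0x61003e005000e500c2000c001600a2005700280088002f0069008c0071006e)
  (Net.cons (nat_lit 4) (nat_lit 0x3090c08040b010d070b050a0b0a0507070e060c0102040200030e070d000704)
  (Net.cons (nat_lit 2) (nat_lit 0x3300120232103012033133012101030310231030001023311021033323131010)
  (Net.cons (nat_lit 1) (nat_lit 0x1444054140440104011015411541141511144015151010445101044140514110)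
  (Net.cons (nat_lit 2) (nat_lit 0x2002000020200200020020220022222002000020200000200200000220022220)
  (Net.cons (nat_lit 4) (nat_lit 0x2080c060a08040e04000c00080e04000c00000408020608040802060e000c0e)
  (Net.cons (nat_lit 8) (nat_lit 0x5000680080004200a400a000100018004200aa00b800dc0000004c00d800ac)
  (Net.cons (nat_lit 16) (nat_lit 0x1dee0000a6ee0000215a000095680000649400000040000031de0000da64)
  (Net.cons (nat_lit 32) (nat_lit 0x555964900000000027240eae00000000cd1f6afc000000008f474936)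
  (Net.cons (nat_lit 64) (nat_lit 0x449716cb704a5474000000000000000011327cf783f93b20)
  (Net.cons (nat_lit 128) (nat_lit 0xf847783dd5a7f9093f04f21e9acc7440)
  Net.nil)))))))))))))))
noncomputable def m140n1 : Net := (Net.cons (nat_lit 128) (nat_lit 0xfd6e71adc52ffb38fdd4e37a8358f520)
  (Net.cons (nat_lit 64) (nat_lit 0xc9d48a8c5828edf70000000000000000d5351d01968cb860)
  (Net.cons (nat_lit 32) (nat_lit 0x3314976b0000000052718c1c00000000595ed7520000000003d4e982)
  (Net.cons (nat_lit 16) (nat_lit 0xa1ca0000d23700006dd700001bd30000d12c000072240000b9fb000026e0)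
  (Net.cons (nat_lit 8) (nat_lit 0x1c006800bc00b2003200850034006f0086002a004300b4002f009d002e0012)
  (Net.cons (nat_lit 4) (nat_lit 0x200060e0806060f0a0b0309090e05020305010e050e0b090f07020602050904)
  (Net.cons (nat_lit 2) (nat_lit 0x2330222301322003311301111313020021321302201011013221132120313012)
  (Net.cons (nat_lit 1) (nat_lit 0x1004411501415440544411144500404110501115501551044114414410011044)
  (Net.cons (nat_lit 2) (nat_lit 0x2000220002000000020202002000002000002200000002020000002000020020)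
  (Net.cons (nat_lit 4) (nat_lit 0x4060c040c02000a0e0400020608000e0e080204040808080e0c0a0202080600)
  (Net.cons (nat_lit 8) (nat_lit 0x200200088004e006c00a8000c00a4004000040056004000b6009400440028)
  (Net.cons (nat_lit 16) (nat_lit 0x655800007b2800007090000016b4000050b20000a6a00000b93400001a20)
  (Net.cons (nat_lit 32) (nat_lit 0xd3d4c32a000000001734cbfc000000009cfac7b80000000003c67e84)
  (Net.cons (nat_lit 64) (nat_lit 0xf0fc519cbd00d3f80000000000000000d7b59f3c0db60e68)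
  (Net.cons (nat_lit 128) (nat_lit 0xfd6e1df368a2ff5acb10730b3e7c6aa0)
  Net.nil)))))))))))))))
noncomputable def m140n2 : Net := (Net.cons (nat_lit 128) (nat_lit 0xa7d09b9062833ef0900c5f8a12622a00)
  (Net.cons (nat_lit 64) (nat_lit 0x14e513e20c7b4a2200000000000000002dceb813584a7c88)
  (Net.cons (nat_lit 32) (nat_lit 0xcb55708c000000001bd24c3e00000000774f237000000000aed049e5)
  (Net.cons (nat_lit 16) (nat_lit 0x88660000cbd4000088b80000dfbd00008b520000a1cf000090ba00009ed5)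
  (Net.cons (nat_lit 8) (nat_lit 0xd3008f002b0042003000df00c4004f0065001c00c1008d0076005e00610051)
  (Net.cons (nat_lit 4) (nat_lit 0xe01090b080c01060700090905070e0307030804020206080a08000708000008)
  (Net.cons (nat_lit 2) (nat_lit 0x1130023030203302031223213201231003002133100121203213312133322230)
  (Net.cons (nat_lit 1) (nat_lit 0x1401515104041441444014110440411440544005041011545440055441101001)
  (Net.cons (nat_lit 2) (nat_lit 0x2200020200000202020000200220022200020000022022000200000020202000)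
  (Net.cons (nat_lit 4) (nat_lit 0x802080c060404080200020e040406000a000e0c020600000a0e06080a08)
  (Net.cons (nat_lit 8) (nat_lit 0x80002a000000420040008000a200200074005c0028008400540070003a0050)
  (Net.cons (nat_lit 16) (nat_lit 0x88660000cbc40000b9b000001e2800009f500000ecf800006a0c0000cfc2)
  (Net.cons (nat_lit 32) (nat_lit 0x4b55408800000000f810758200000000474734300000000074c2b036)
  (Net.cons (nat_lit 64) (nat_lit 0x14e513e20c7b4a2200000000000000002dcee8195a8a4c88)
  (Net.cons (nat_lit 128) (nat_lit 0xa7d09b9062833ef0900c5f8a12622a00)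
  Net.nil)))))))))))))))
noncomputable def m140l : List Net := [m140n0,m140n1,m140n2,m140n2]
noncomputable abbrev m140 : ℕ → Net := lk Net.nil m140l
theorem m140ok : NetsOk 240 m140 vT := netsOk_of (by decide +kernel)
theorem m140s0 : Sat io [] (finG m140ok) := fin_sat_nil _ (k := 8) (n := 6) (by decide +kernel)
noncomputable def C141 : List (List ℕ) := [r0,r1,r2,r3,r4]
theorem cl142 : Clo.{u} io C141 [0,1] 240 m140 1 (mkB []) := Clo.start (by decide +kernel)
theorem imp143 : Imp.{u} io C141 C5 := Imp.of_chk (pfs := [[([],1)]]) (by decide +kernel)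
theorem ix144 : Idx.{u} io C141 [0,1] [] 17 := (Idx.triv bd137 (by norm_num)).of_imp imp143
noncomputable def lk145 : List (List ℕ × List ℕ × Pf) := []
noncomputable def O146 : ℕ := (nat_lit 0x10000000400000800000020004000080200410495e)
noncomputable def M147 : ℕ := (nat_lit 0x10000000400000800000020004000080200410495f)
noncomputable def b148 : ℕ := (nat_lit 1)
theorem cl149 : Clo.{u} io C141 [0,1] 240 m140 M147 (mkB [(2,b148)]) := cl142.new (k := 5) (b := 2) (q := 0) (p := 1) (r := 200) (n := 17) (O := O146) (by decide +kernel) (lks := lk145) (by decide +kernel) (gens_of_lall2 (m := []) (by decide +kernel)) ix144 (by decide +kernel)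
noncomputable def b150 : ℕ := (nat_lit 83)
noncomputable def b151 : ℕ := (nat_lit 83)
theorem cl152 : Clo.{u} io C141 [0,1] 240 m140 M147 (mkB [(2,b150),(3,b151)]) := cl149.ops (os := [Op.inv 2,Op.rel 2 [] 3 [] [([],3)],Op.inv 2,Op.rel 2 [0,0] 3 [1,1,3,1,1] [([3],5)],Op.inv 2,Op.rel 2 [] 3 [] [([],3)],Op.inv 2]) (by decide +kernel) (by decide +kernel)
theorem ix153 : Idx.{u} io C141 [0,1] [] 17 := (Idx.triv bd137 (by norm_num)).of_imp imp143
noncomputable def lk154 : List (List ℕ × List ℕ × Pf) := []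
noncomputable def O155 : ℕ := (nat_lit 0x400000004000100000401002414536a0)
noncomputable def M156 : ℕ := (nat_lit 0x100000004040008000400210040040902245557fff)
noncomputable def b157 : ℕ := (nat_lit 87)
theorem cl158 : Clo.{u} io C141 [0,1] 240 m140 M156 (mkB [(2,b157),(3,b151)]) := cl152.new (k := 5) (b := 2) (q := 2) (p := 5) (r := 200) (n := 17) (O := O155) (by decide +kernel) (lks := lk154) (by decide +kernel) (gens_of_lall2 (m := []) (by decide +kernel)) ix153 (by decide +kernel)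
noncomputable def b159 : ℕ := (nat_lit 0x10100ff)
noncomputable def b160 : ℕ := (nat_lit 0x10100ff)
theorem cl161 : Clo.{u} io C141 [0,1] 240 m140 M156 (mkB [(2,b159),(3,b160)]) := cl158.ops (os := [Op.inv 2,Op.rel 2 [] 3 [] [([],3)],Op.inv 2,Op.rel 3 [0,0,0,0,0,0] 3 [0,3,1,1,1,1,1,1,2,0] [([3,0,3,1,1,1,1,1,1,2,0,2],7)],Op.inv 3,Op.rel 2 [] 3 [] [([],3)],Op.inv 2,Op.rel 2 [0,0] 3 [1,1,3,1,1] [([3],5)],Op.inv 2,Op.rel 2 [] 3 [] [([],3)],Op.inv 2]) (by decide +kernel) (by decide +kernel)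
theorem ix162 : Idx.{u} io C141 [0,1] [] 17 := (Idx.triv bd137 (by norm_num)).of_imp imp143
noncomputable def lk163 : List (List ℕ × List ℕ × Pf) := []
noncomputable def O164 : ℕ := (nat_lit 0x400000300000048001202010038430208000)
noncomputable def M165 : ℕ := (nat_lit 0x10000040404030800044821124205093a67575ffff)
noncomputable def b166 : ℕ := (nat_lit 0x10101ff)
theorem cl167 : Clo.{u} io C141 [0,1] 240 m140 M165 (mkB [(2,b166),(3,b160)]) := cl161.new (k := 5) (b := 2) (q := 8) (p := 15) (r := 200) (n := 17) (O := O164) (by decide +kernel) (lks := lk163) (by decide +kernel) (gens_of_lall2 (m := []) (by decide +kernel)) ix162 (by decide +kernel)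
noncomputable def b168 : ℕ := (nat_lit 0x4010581ff)
noncomputable def b169 : ℕ := (nat_lit 0x4010581ff)
theorem cl170 : Clo.{u} io C141 [0,1] 240 m140 M165 (mkB [(2,b168),(3,b169)]) := cl167.ops (os := [Op.inv 2,Op.rel 2 [] 3 [] [([],3)],Op.inv 2,Op.rel 2 [0,0] 3 [1,1,3,1,1] [([3],5)],Op.inv 2,Op.rel 2 [] 3 [] [([],3)],Op.inv 2]) (by decide +kernel) (by decide +kernel)
theorem ix171 : Idx.{u} io C141 [0,1] [] 17 := (Idx.triv bd137 (by norm_num)).of_imp imp143
noncomputable def lk172 : List (List ℕ × List ℕ × Pf) := []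
noncomputable def O173 : ℕ := (nat_lit 0x102080004000002000000400000200000010000040000500600182020000)
noncomputable def M174 : ℕ := (nat_lit 0x102080004000002000100400404240308010448251242550f3a7f777ffff)
noncomputable def b175 : ℕ := (nat_lit 0x4010583ff)
theorem cl176 : Clo.{u} io C141 [0,1] 240 m140 M174 (mkB [(2,b175),(3,b169)]) := cl170.new (k := 5) (b := 2) (q := 9) (p := 17) (r := 200) (n := 17) (O := O173) (by decide +kernel) (lks := lk172) (by decide +kernel) (gens_of_lall2 (m := []) (by decide +kernel)) ix171 (by decide +kernel)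
noncomputable def b177 : ℕ := (nat_lit 0x40307a3ff)
noncomputable def b178 : ℕ := (nat_lit 0x40307a3ff)
theorem cl179 : Clo.{u} io C141 [0,1] 240 m140 M174 (mkB [(2,b177),(3,b178)]) := cl176.ops (os := [Op.inv 2,Op.rel 2 [] 3 [] [([],3)],Op.inv 2,Op.rel 3 [1,1,1,1] 3 [0,3,1,3,1,1,1,1,2,1,2,0] [([3,0,3,1,3,1,1,1,1,2,1,2,0,2],9)],Op.inv 3,Op.rel 2 [] 3 [] [([],3)],Op.inv 2]) (by decide +kernel) (by decide +kernel)
theorem ix180 : Idx.{u} io C141 [0,1] [] 17 := (Idx.triv bd137 (by norm_num)).of_imp imp143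
noncomputable def lk181 : List (List ℕ × List ℕ × Pf) := []
noncomputable def O182 : ℕ := (nat_lit 0x2000040001010200000800100004000000040140000c1800880000)
noncomputable def M183 : ℕ := (nat_lit 0x102080204004002101120400484250308410448255256550ffbff7ffffff)
noncomputable def b184 : ℕ := (nat_lit 0x40307a7ff)
theorem cl185 : Clo.{u} io C141 [0,1] 240 m140 M183 (mkB [(2,b184),(3,b178)]) := cl179.new (k := 5) (b := 2) (q := 10) (p := 19) (r := 200) (n := 17) (O := O182) (by decide +kernel) (lks := lk181) (by decide +kernel) (gens_of_lall2 (m := []) (by decide +kernel)) ix180 (by decide +kernel)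
noncomputable def b186 : ℕ := (nat_lit 0x101000004038fb7ff)
noncomputable def b187 : ℕ := (nat_lit 0x101000004038fb7ff)
theorem cl188 : Clo.{u} io C141 [0,1] 240 m140 M183 (mkB [(2,b186),(3,b187)]) := cl185.ops (os := [Op.inv 2,Op.rel 2 [] 3 [] [([],3)],Op.inv 2,Op.rel 2 [0,0] 3 [1,1,3,1,1] [([3],5)],Op.inv 2,Op.rel 2 [] 3 [] [([],3)],Op.inv 2,Op.rel 2 [0,0] 3 [1,1,3,1,1] [([3],5)],Op.inv 2,Op.rel 2 [] 3 [] [([],3)],Op.inv 2]) (by decide +kernel) (by decide +kernel)
theorem ix189 : Idx.{u} io C141 [0,1] [] 17 := (Idx.triv bd137 (by norm_num)).of_imp imp143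
noncomputable def lk190 : List (List ℕ × List ℕ × Pf) := []
noncomputable def O191 : ℕ := (nat_lit 0x4000000018010300008000c004100100206004008000000)
noncomputable def M192 : ℕ := (nat_lit 0x10208020400404210112058058725038841c44c355356756ffffffffffff)
noncomputable def b193 : ℕ := (nat_lit 0x101000004038ff7ff)
theorem cl194 : Clo.{u} io C141 [0,1] 240 m140 M192 (mkB [(2,b193),(3,b187)]) := cl188.new (k := 5) (b := 2) (q := 14) (p := 27) (r := 200) (n := 17) (O := O191) (by decide +kernel) (lks := lk190) (by decide +kernel) (gens_of_lall2 (m := []) (by decide +kernel)) ix189 (by decide +kernel)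
noncomputable def b195 : ℕ := (nat_lit 0x800001010400440b9ff7ff)
noncomputable def b196 : ℕ := (nat_lit 0x800001010400440b9ff7ff)
theorem cl197 : Clo.{u} io C141 [0,1] 240 m140 M192 (mkB [(2,b195),(3,b196)]) := cl194.ops (os := [Op.inv 2,Op.rel 2 [] 3 [] [([],3)],Op.inv 2,Op.rel 2 [0,0] 3 [1,1,3,1,1] [([3],5)],Op.inv 2,Op.rel 2 [] 3 [] [([],3)],Op.inv 2,Op.rel 3 [0,0,0,0,0,0] 3 [0,3,1,1,1,1,1,1,2,0] [([3,0,3,1,1,1,1,1,1,2,0,2],7)],Op.inv 3,Op.rel 2 [] 3 [] [([],3)],Op.inv 2]) (by decide +kernel) (by decide +kernel)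
theorem ix198 : Idx.{u} io C141 [0,1] [] 17 := (Idx.triv bd137 (by norm_num)).of_imp imp143
noncomputable def lk199 : List (List ℕ × List ℕ × Pf) := []
noncomputable def O200 : ℕ := (nat_lit 0x204002000001000000800000040080460000883800080001000000000000)
noncomputable def M201 : ℕ := (nat_lit 0x3060822040050421019205805c72d07e841cccfb553d6757ffffffffffff)
noncomputable def b202 : ℕ := (nat_lit 0x800001010400440f9ff7ff)
theorem cl203 : Clo.{u} io C141 [0,1] 240 m140 M201 (mkB [(2,b202),(3,b196)]) := cl197.new (k := 5) (b := 2) (q := 26) (p := 48) (r := 200) (n := 17) (O := O200) (by decide +kernel) (lks := lk199) (by decide +kernel) (gens_of_lall2 (m := []) (by decide +kernel)) ix198 (by decide +kernel)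
noncomputable def b204 : ℕ := (nat_lit 0x8000000000008900001011500440f9ff7ff)
noncomputable def b205 : ℕ := (nat_lit 0x8000000000008900001011500440f9ff7ff)
theorem cl206 : Clo.{u} io C141 [0,1] 240 m140 M201 (mkB [(2,b204),(3,b205)]) := cl203.ops (os := [Op.inv 2,Op.rel 2 [] 3 [] [([],3)],Op.inv 2,Op.rel 2 [0,0] 3 [1,1,3,1,1] [([3],5)],Op.inv 2,Op.rel 2 [] 3 [] [([],3)],Op.inv 2,Op.rel 3 [0,0,0,0,0,0] 3 [0,3,1,1,1,1,1,1,2,0] [([3,0,3,1,1,1,1,1,1,2,0,2],7)],Op.inv 3,Op.rel 2 [] 3 [] [([],3)],Op.inv 2]) (by decide +kernel) (by decide +kernel)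
theorem ix207 : Idx.{u} io C141 [0,1] [] 17 := (Idx.triv bd137 (by norm_num)).of_imp imp143
noncomputable def lk208 : List (List ℕ × List ℕ × Pf) := []
noncomputable def O209 : ℕ := (nat_lit 0x4000010000840000020800102000023030020800088000000000000)
noncomputable def M210 : ℕ := (nat_lit 0x3060862040150429419205a0dc73d27e843fcffb75bd67dfffffffffffff)
noncomputable def b211 : ℕ := (nat_lit 0x8000000000008900001011500441f9ff7ff)
theorem cl212 : Clo.{u} io C141 [0,1] 240 m140 M210 (mkB [(2,b211),(3,b205)]) := cl206.new (k := 5) (b := 2) (q := 28) (p := 51) (r := 200) (n := 17) (O := O209) (by decide +kernel) (lks := lk208) (by decide +kernel) (gens_of_lall2 (m := []) (by decide +kernel)) ix207 (by decide +kernel)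
noncomputable def b213 : ℕ := (nat_lit 0x8000000002108906001059d10445f9ff7ff)
noncomputable def b214 : ℕ := (nat_lit 0x8000000002108906001059d10445f9ff7ff)
theorem cl215 : Clo.{u} io C141 [0,1] 240 m140 M210 (mkB [(2,b213),(3,b214)]) := cl212.ops (os := [Op.inv 2,Op.rel 2 [] 3 [] [([],3)],Op.inv 2,Op.rel 3 [1,1,1,1,1,1] 3 [1,3,0,0,0,0,0,0,2,1] [([],6)],Op.inv 3,Op.rel 2 [] 3 [] [([],3)],Op.inv 2,Op.rel 2 [0,0] 3 [1,1,3,1,1] [([3],5)],Op.inv 2,Op.rel 2 [] 3 [] [([],3)],Op.inv 2,Op.rel 3 [1,1,1,1,1,1] 3 [1,3,0,0,0,0,0,0,2,1] [([],6)],Op.inv 3,Op.rel 2 [] 3 [] [([],3)],Op.inv 2]) (by decide +kernel) (by decide +kernel)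
theorem ix216 : Idx.{u} io C141 [0,1] [] 17 := (Idx.triv bd137 (by norm_num)).of_imp imp143
noncomputable def lk217 : List (List ℕ × List ℕ × Pf) := []
noncomputable def O218 : ℕ := (nat_lit 0x14400004210001810300300400401020000000000000)
noncomputable def M219 : ℕ := (nat_lit 0x306086204015042955d205a4fd73d3ff873fffff75fd77ffffffffffffff)
noncomputable def b220 : ℕ := (nat_lit 0x8000000002108906001059d10447f9ff7ff)
theorem cl221 : Clo.{u} io C141 [0,1] 240 m140 M219 (mkB [(2,b220),(3,b214)]) := cl215.new (k := 5) (b := 2) (q := 29) (p := 53) (r := 200) (n := 17) (O := O218) (by decide +kernel) (lks := lk217) (by decide +kernel) (gens_of_lall2 (m := []) (by decide +kernel)) ix216 (by decide +kernel)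
noncomputable def b222 : ℕ := (nat_lit 0x48800000000210890600105bd10447f9ff7ff)
noncomputable def b223 : ℕ := (nat_lit 0x48800000000210890600105bd10447f9ff7ff)
theorem cl224 : Clo.{u} io C141 [0,1] 240 m140 M219 (mkB [(2,b222),(3,b223)]) := cl221.ops (os := [Op.inv 2,Op.rel 2 [] 3 [] [([],3)],Op.inv 2,Op.rel 2 [0,0] 3 [1,1,3,1,1] [([3],5)],Op.inv 2,Op.rel 2 [] 3 [] [([],3)],Op.inv 2]) (by decide +kernel) (by decide +kernel)
theorem ix225 : Idx.{u} io C141 [0,1] [] 17 := (Idx.triv bd137 (by norm_num)).of_imp imp143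
noncomputable def lk226 : List (List ℕ × List ℕ × Pf) := []
noncomputable def O227 : ℕ := (nat_lit 0x60008000002001000c0c0060c0000082020800000000000000)
noncomputable def M228 : ℕ := (nat_lit 0x30608620407504a955d225a5fd7fdfffe7fffffff7ff7fffffffffffffff)
noncomputable def b229 : ℕ := (nat_lit 0x48800000000210890600105bd10547f9ff7ff)
theorem cl230 : Clo.{u} io C141 [0,1] 240 m140 M228 (mkB [(2,b229),(3,b223)]) := cl224.new (k := 5) (b := 2) (q := 36) (p := 65) (r := 200) (n := 17) (O := O227) (by decide +kernel) (lks := lk226) (by decide +kernel) (gens_of_lall2 (m := []) (by decide +kernel)) ix225 (by decide +kernel)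
noncomputable def b231 : ℕ := (nat_lit 0x58800080020210a90e2030dbd34557f9ff7ff)
noncomputable def b232 : ℕ := (nat_lit 0x58800080020210a90e2030dbd34557f9ff7ff)
theorem cl233 : Clo.{u} io C141 [0,1] 240 m140 M228 (mkB [(2,b231),(3,b232)]) := cl230.ops (os := [Op.inv 2,Op.rel 2 [] 3 [] [([],3)],Op.inv 2,Op.rel 3 [1,1,1,1,1,1] 3 [1,3,0,0,0,0,0,0,2,1] [([],6)],Op.inv 3,Op.rel 2 [] 3 [] [([],3)],Op.inv 2,Op.rel 3 [1,1,1,1] 3 [0,3,1,3,1,1,1,1,2,1,2,0] [([3,0,3,1,3,1,1,1,1,2,1,2,0,2],9)],Op.inv 3,Op.rel 2 [] 3 [] [([],3)],Op.inv 2,Op.rel 2 [0,0,0,0] 2 [1,2,0,2,0,0,0,0,3,0,3,1] [([2,1,2,0,2],9)],Op.inv 2,Op.rel 2 [] 3 [] [([],3)],Op.inv 2,Op.rel 2 [0,0] 3 [1,1,3,1,1] [([3],5)],Op.inv 2,Op.rel 2 [] 3 [] [([],3)],Op.inv 2,Op.rel 3 [0,0,0,0,0,0] 3 [0,3,1,1,1,1,1,1,2,0] [([3,0,3,1,1,1,1,1,1,2,0,2],7)],Op.inv 3,Op.rel 2 [] 3 [] [([],3)],Op.inv 2]) (by decide +kernel) (by decide +kernel)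
theorem ix234 : Idx.{u} io C141 [0,1] [] 17 := (Idx.triv bd137 (by norm_num)).of_imp imp143
noncomputable def lk235 : List (List ℕ × List ℕ × Pf) := []
noncomputable def O236 : ℕ := (nat_lit 0x21010840002300200201000008020001800000008008000000000000000)
noncomputable def M237 : ℕ := (nat_lit 0x327096a4407734ab55f235a5fdffffffffffffffffffffffffffffffffff)
noncomputable def b238 : ℕ := (nat_lit 0x58800080020610a90e2030dbd34557f9ff7ff)
theorem cl239 : Clo.{u} io C141 [0,1] 240 m140 M237 (mkB [(2,b238),(3,b232)]) := cl233.new (k := 5) (b := 2) (q := 102) (p := 156) (r := 200) (n := 17) (O := O236) (by decide +kernel) (lks := lk235) (by decide +kernel) (gens_of_lall2 (m := []) (by decide +kernel)) ix234 (by decide +kernel)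
noncomputable def b240 : ℕ := (nat_lit 0x20000000022002000010058c8838002c610a92ea038dbd3c5d7f9ff7ff)
noncomputable def b241 : ℕ := (nat_lit 0x20000000022002000010058c8838002c610a92ea038dbd3c5d7f9ff7ff)
theorem cl242 : Clo.{u} io C141 [0,1] 240 m140 M237 (mkB [(2,b240),(3,b241)]) := cl239.ops (os := [Op.inv 2,Op.rel 2 [] 3 [] [([],3)],Op.inv 2,Op.rel 2 [0,0] 3 [1,1,3,1,1] [([3],5)],Op.inv 2,Op.rel 2 [] 3 [] [([],3)],Op.inv 2,Op.rel 3 [0,0,0,0,0,0] 3 [0,3,1,1,1,1,1,1,2,0] [([3,0,3,1,1,1,1,1,1,2,0,2],7)],Op.inv 3,Op.rel 2 [] 3 [] [([],3)],Op.inv 2,Op.rel 2 [0,0] 3 [1,1,3,1,1] [([3],5)],Op.inv 2,Op.rel 2 [] 3 [] [([],3)],Op.inv 2,Op.rel 2 [0,0] 3 [1,1,3,1,1] [([3],5)],Op.inv 2,Op.rel 2 [] 3 [] [([],3)],Op.inv 2,Op.rel 3 [1] 2 [0,0,0,0,3,0,3,1,3,1,1,1,1,2,1] [([2],9)],Op.inv 3,Op.rel 3 [0,0,0,0,0,0] 3 [0,3,1,1,1,1,1,1,2,0] [([3,0,3,1,1,1,1,1,1,2,0,2],7)],Op.inv 3,Op.rel 2 [] 3 [] [([],3)],Op.inv 2,Op.rel 2 [0,0] 3 [1,1,3,1,1] [([3],5)],Op.inv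 2,Op.rel 2 [] 3 [] [([],3)],Op.inv 2,Op.rel 3 [0,0,0,0,0,0] 3 [0,3,1,1,1,1,1,1,2,0] [([3,0,3,1,1,1,1,1,1,2,0,2],7)],Op.inv 3,Op.rel 2 [] 3 [] [([],3)],Op.inv 2]) (by decide +kernel) (by decide +kernel)
theorem der244 : Der 17 (finX 17) (cl (finG m3ok) [[0,0,0,0,0,0]]) (fun _ => Net.nil) := Der.zero (finModel m3ok).inj
noncomputable def x245 : Net := (Net.cons (nat_lit 10) (nat_lit 1002)
  (Net.cons (nat_lit 5) (nat_lit 28693)
  (Net.cons (nat_lit 1) (nat_lit 256)
  (Net.cons (nat_lit 1) (nat_lit 0x210a5)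
  (Net.cons (nat_lit 1) (nat_lit 0x42142)
  (Net.cons (nat_lit 1) (nat_lit 0x29404)
  (Net.cons (nat_lit 5) (nat_lit 20)
  (Net.cons (nat_lit 10) (nat_lit 980)
  Net.nil))))))))
noncomputable def ns246 : ℕ → Net := upd (fun _ => Net.nil) 0 x245
theorem der247 : Der 17 (finX 17) (cl (finG m3ok) [[0,0,0,0,0,0]]) ns246 := der244.add (wp_mem_cl (w := [0,0,0,0,0,0]) (by decide)) ((finModel m3ok).toIsPre.rep_word (k := 5) (w := [0,0,0,0,0,0]) (n := x245) (by decide +kernel)) 0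
noncomputable def L248 : Lev := Lev.cons 0 17 [[0]] Lev.nil
theorem lc249 : Lev.chk 17 2 ns246 vT 100 L248 = true := by decide +kernel
theorem lb250 : 17 ≤ Nat.card (cl (finG m3ok) [[0,0,0,0,0,0]]) := le_of_eq_of_le (by decide +kernel) (der247.card_ge lc249)
theorem sat251 : Sat io C5 (finG m3ok) := m3s0.fin (k := 5) (by decide +kernel)
theorem ix243 : Idx.{u} io C141 [0,1] [[0,0,0,0,0,0]] 1 := (Idx.of bd137 sat251 (by decide +kernel) lb250 (by decide +kernel)).of_imp imp143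
noncomputable def lk252 : List (List ℕ × List ℕ × Pf) := [([0,0,0,0,0,0],[0,2,1,1,1,1,1,1,3,0],[([2,0,2],7)])]
noncomputable def O253 : ℕ := (nat_lit 0x40000000000000000000000000000000000000000)
noncomputable def M254 : ℕ := (nat_lit 0x327096a4407734ab55f635a5fdffffffffffffffffffffffffffffffffff)
noncomputable def b255 : ℕ := (nat_lit 0x20000000022002000010058c8838003c610a92ea038dbd3c5d7f9ff7ff)
theorem cl256 : Clo.{u} io C141 [0,1] 240 m140 M254 (mkB [(2,b255),(3,b241)]) := cl242.new (k := 5) (b := 2) (q := 108) (p := 162) (r := 200) (n := 1) (O := O253) (by decide +kernel) (lks := lk252) (by decide +kernel) (gens_of_lall2 (m := [[0]]) (by decide +kernel)) ix243 (by decide +kernel)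
noncomputable def b257 : ℕ := (nat_lit 0x306080804002348255a43185bca8bb5bbc659bf7ffffffffffffffffffff)
noncomputable def b258 : ℕ := (nat_lit 0x306080804002348255a43185bca8bb5bbc659bf7ffffffffffffffffffff)
theorem cl259 : Clo.{u} io C141 [0,1] 240 m140 M254 (mkB [(2,b257),(3,b258)]) := cl256.ops (os := [Op.inv 2,Op.rel 2 [] 3 [] [([],3)],Op.inv 2,Op.rel 3 [0,0,0,0,0,0] 3 [0,3,1,1,1,1,1,1,2,0] [([3,0,3,1,1,1,1,1,1,2,0,2],7)],Op.inv 3,Op.rel 2 [] 3 [] [([],3)],Op.inv 2,Op.rel 2 [0,0] 3 [1,1,3,1,1] [([3],5)],Op.inv 2,Op.rel 2 [] 3 [] [([],3)],Op.inv 2,Op.rel 3 [0,0,0,0,0,0] 3 [0,3,1,1,1,1,1,1,2,0] [([3,0,3,1,1,1,1,1,1,2,0,2],7)],Op.inv 3,Op.rel 2 [] 3 [] [([],3)],Op.inv 2,Op.rel 2 [0,0] 3 [1,1,3,1,1] [([3],5)],Op.inv 2,Op.rel 2 [] 3 [] [([],3)],Op.inv 2,Op.rel 2 [0,0] 3 [1,1,3,1,1] [([3],5)],Op.inv 2,Op.rel 2 [] 3 [] [([],3)],Op.inv 2,Op.rel 3 [0,0,0,0,0,0] 3 [0,3,1,1,1,1,1,1,2,0] [([3,0,3,1,1,1,1,1,1,2,0,2],7)],Op.inv 3,Op.rel 2 [] 3 [] [([],3)],Op.inv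 2,Op.rel 2 [0,0] 3 [1,1,3,1,1] [([3],5)],Op.inv 2,Op.rel 2 [] 3 [] [([],3)],Op.inv 2,Op.rel 2 [0,0] 3 [1,1,3,1,1] [([3],5)],Op.inv 2,Op.rel 2 [] 3 [] [([],3)],Op.inv 2,Op.rel 2 [0,0] 3 [1,1,3,1,1] [([3],5)],Op.inv 2,Op.rel 2 [] 3 [] [([],3)],Op.inv 2,Op.rel 2 [0,0] 3 [1,1,3,1,1] [([3],5)],Op.inv 2,Op.rel 2 [] 3 [] [([],3)],Op.inv 2,Op.rel 2 [0,0] 3 [1,1,3,1,1] [([3],5)],Op.inv 2,Op.rel 2 [] 3 [] [([],3)],Op.inv 2,Op.rel 3 [0,0,0,0,0,0] 3 [0,3,1,1,1,1,1,1,2,0] [([3,0,3,1,1,1,1,1,1,2,0,2],7)],Op.inv 3,Op.rel 2 [] 3 [] [([],3)],Op.inv 2,Op.rel 2 [0,0] 3 [1,1,3,1,1] [([3],5)],Op.inv 2,Op.rel 2 [] 3 [] [([],3)],Op.inv 2,Op.rel 2 [0,0] 3 [1,1,3,1,1] [([3],5)],Op.inv 2,Op.rel 2 [] 3 [] [([],3)],Op.inv 2,Op.rel 3 [0,0,0,0,0,0] 3 [0,3,1,1,1,1,1,1,2,0] [([3,0,3,1,1,1,1,1,1,2,0,2],7)],Op.inv 3,Op.rel 2 [] 3 [] [([],3)],Op.inv 2,Op.rel 3 [0,0,0,0,0,0] 3 [0,3,1,1,1,1,1,1,2,0] [([3,0,3,1,1,1,1,1,1,2,0,2],7)],Op.inv 3,Op.rel 2 [] 3 [] [([],3)],Op.inv 2])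 (by decide +kernel) (by decide +kernel)
theorem ix260 : Idx.{u} io C141 [0,1] [] 17 := (Idx.triv bd137 (by norm_num)).of_imp imp143
noncomputable def lk261 : List (List ℕ × List ℕ × Pf) := []
noncomputable def O262 : ℕ := (nat_lit 0x80421480600c90402004010020000000000000000000000000000000000)
noncomputable def M263 : ℕ := (nat_lit 0x3a74b7ec4677fdaf57f675b5ffffffffffffffffffffffffffffffffffff)
noncomputable def b264 : ℕ := (nat_lit 0x306080804002348255a43185bca8bb5bbc659bffffffffffffffffffffff)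
theorem cl265 : Clo.{u} io C141 [0,1] 240 m140 M263 (mkB [(2,b264),(3,b258)]) := cl259.new (k := 5) (b := 2) (q := 83) (p := 137) (r := 200) (n := 17) (O := O262) (by decide +kernel) (lks := lk261) (by decide +kernel) (gens_of_lall2 (m := []) (by decide +kernel)) ix260 (by decide +kernel)
noncomputable def b266 : ℕ := (nat_lit 0x3274a1e84606fd8e57f471b5bfecfb5fbce5dbffffffffffffffffffffff)
noncomputable def b267 : ℕ := (nat_lit 0x3274a1e84606fd8e57f471b5bfecfb5fbce5dbffffffffffffffffffffff)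
theorem cl268 : Clo.{u} io C141 [0,1] 240 m140 M263 (mkB [(2,b266),(3,b267)]) := cl265.ops (os := [Op.inv 2,Op.rel 2 [] 3 [] [([],3)],Op.inv 2,Op.rel 2 [0,0] 3 [1,1,3,1,1] [([3],5)],Op.inv 2,Op.rel 2 [] 3 [] [([],3)],Op.inv 2,Op.rel 2 [0,0] 3 [1,1,3,1,1] [([3],5)],Op.inv 2,Op.rel 2 [] 3 [] [([],3)],Op.inv 2,Op.rel 2 [0,0] 3 [1,1,3,1,1] [([3],5)],Op.inv 2,Op.rel 2 [] 3 [] [([],3)],Op.inv 2,Op.rel 2 [0,0] 3 [1,1,3,1,1] [([3],5)],Op.inv 2,Op.rel 2 [] 3 [] [([],3)],Op.inv 2,Op.rel 2 [0,0] 3 [1,1,3,1,1] [([3],5)],Op.inv 2,Op.rel 2 [] 3 [] [([],3)],Op.inv 2,Op.rel 2 [0,0] 3 [1,1,3,1,1] [([3],5)],Op.inv 2,Op.rel 2 [] 3 [] [([],3)],Op.inv 2,Op.rel 2 [0,0] 3 [1,1,3,1,1] [([3],5)],Op.inv 2,Op.rel 2 [] 3 [] [([],3)],Op.inv 2,Op.rel 2 [0,0] 3 [1,1,3,1,1] [([3],5)],Op.inv 2,Op.rel 2 [] 3 [] [([],3)],Op.inv 2,Op.rel 2 [0,0] 3 [1,1,3,1,1] [([3],5)],Op.inv 2,Op.rel 2 [] 3 [] [([],3)],Op.inv 2]) (by decide +kernel) (by decide +kernel)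
theorem ix269 : Idx.{u} io C141 [0,1] [] 17 := (Idx.triv bd137 (by norm_num)).of_imp imp143
noncomputable def lk270 : List (List ℕ × List ℕ × Pf) := []
noncomputable def O271 : ℕ := (nat_lit 0xc58140108880001008018042000000000000000000000000000000000000)
noncomputable def M272 : ℕ := (nat_lit 0xfff5f7fccef7fdbf5ff7f5f7ffffffffffffffffffffffffffffffffffff)
noncomputable def b273 : ℕ := (nat_lit 0x3274a1e84606fd8e57f471b5bfecfb5fbce5dfffffffffffffffffffffff)
theorem cl274 : Clo.{u} io C141 [0,1] 240 m140 M272 (mkB [(2,b273),(3,b267)]) := cl268.new (k := 5) (b := 2) (q := 90) (p := 145) (r := 200) (n := 17) (O := O271) (by decide +kernel) (lks := lk270) (by decide +kernel) (gens_of_lall2 (m := []) (by decide +kernel)) ix269 (by decide +kernel)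
noncomputable def b275 : ℕ := (nat_lit 0xfff5f1ecce66fdbe5ff5f5f7bfedfb7fbfe7dfffffffffffffffffffffff)
noncomputable def b276 : ℕ := (nat_lit 0xfff5f1ecce66fdbe5ff5f5f7bfedfb7fbfe7dfffffffffffffffffffffff)
theorem cl277 : Clo.{u} io C141 [0,1] 240 m140 M272 (mkB [(2,b275),(3,b276)]) := cl274.ops (os := [Op.inv 2,Op.rel 2 [] 3 [] [([],3)],Op.inv 2,Op.rel 2 [0,0] 3 [1,1,3,1,1] [([3],5)],Op.inv 2,Op.rel 2 [] 3 [] [([],3)],Op.inv 2,Op.rel 3 [0,0,0,0,0,0] 3 [0,3,1,1,1,1,1,1,2,0] [([3,0,3,1,1,1,1,1,1,2,0,2],7)],Op.inv 3,Op.rel 2 [] 3 [] [([],3)],Op.inv 2,Op.rel 2 [0,0] 3 [1,1,3,1,1] [([3],5)],Op.inv 2,Op.rel 2 [] 3 [] [([],3)],Op.inv 2,Op.rel 2 [0,0] 3 [1,1,3,1,1] [([3],5)],Op.inv 2,Op.rel 2 [] 3 [] [([],3)],Op.inv 2,Op.rel 2 [0,0] 3 [1,1,3,1,1] [([3],5)],Op.inv 2,Op.rel 2 [] 3 [] [([],3)],Op.inv 2,Op.rel 2 [0,0] 3 [1,1,3,1,1] [([3],5)],Op.inv 2,Op.rel 2 [] 3 [] [([],3)],Op.inv 2,Op.rel 2 [0,0] 3 [1,1,3,1,1] [([3],5)],Op.inv 2,Op.rel 2 [] 3 []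 [([],3)],Op.inv 2]) (by decide +kernel) (by decide +kernel)
theorem ix278 : Idx.{u} io C141 [0,1] [] 17 := (Idx.triv bd137 (by norm_num)).of_imp imp143
noncomputable def lk279 : List (List ℕ × List ℕ × Pf) := []
noncomputable def O280 : ℕ := (nat_lit 0xa080331080240a0080a08000000000000000000000000000000000000)
noncomputable def M281 : ℕ := (nat_lit 0xffffffffffffffffffffffffffffffffffffffffffffffffffffffffffff)
noncomputable def b282 : ℕ := (nat_lit 0xfff5f1ecce66fdbe5ff5f5f7bfedfb7fbfe7ffffffffffffffffffffffff)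
theorem cl283 : Clo.{u} io C141 [0,1] 240 m140 M281 (mkB [(2,b282),(3,b276)]) := cl277.new (k := 5) (b := 2) (q := 93) (p := 147) (r := 200) (n := 17) (O := O280) (by decide +kernel) (lks := lk279) (by decide +kernel) (gens_of_lall2 (m := []) (by decide +kernel)) ix278 (by decide +kernel)
noncomputable def b284 : ℕ := (nat_lit 0xffffffffffffffffffffffffffffffffffffffffffffffffffffffffffff)
noncomputable def b285 : ℕ := (nat_lit 0xffffffffffffffffffffffffffffffffffffffffffffffffffffffffffff)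
theorem cl286 : Clo.{u} io C141 [0,1] 240 m140 M281 (mkB [(2,b284),(3,b285)]) := cl283.ops (os := [Op.inv 2,Op.rel 2 [] 3 [] [([],3)],Op.inv 2,Op.rel 2 [0,0] 3 [1,1,3,1,1] [([3],5)],Op.inv 2,Op.rel 2 [] 3 [] [([],3)],Op.inv 2,Op.rel 2 [0,0] 3 [1,1,3,1,1] [([3],5)],Op.inv 2,Op.rel 2 [] 3 [] [([],3)],Op.inv 2,Op.rel 2 [0,0] 3 [1,1,3,1,1] [([3],5)],Op.inv 2,Op.rel 2 [] 3 [] [([],3)],Op.inv 2,Op.rel 2 [0,0] 3 [1,1,3,1,1] [([3],5)],Op.inv 2,Op.rel 2 [] 3 [] [([],3)],Op.inv 2,Op.rel 2 [0,0] 3 [1,1,3,1,1] [([3],5)],Op.inv 2,Op.rel 2 [] 3 [] [([],3)],Op.inv 2,Op.rel 2 [0,0] 3 [1,1,3,1,1] [([3],5)],Op.inv 2,Op.rel 2 [] 3 [] [([],3)],Op.inv 2,Op.rel 2 [0,0] 3 [1,1,3,1,1] [([3],5)],Op.inv 2,Op.rel 2 [] 3 [] [([],3)],Op.inv 2,Op.rel 2 [0,0] 3 [1,1,3,1,1] [([3],5)],Op.inv 2,Op.rel 2 [] 3 [] [([],3)],Op.inv 2]) (by decide +kernel) (by decide +kernel)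
theorem sat288 : Sat io C141 (finG m140ok) := m140s0.fin (k := 8) (by decide +kernel)
theorem bd287 : Bound.{u} io C141 [0,1,2,3] 4080 := cl286.bound (by decide +kernel) sat288 (bd137.of_imp imp143)
noncomputable def r5 : List ℕ := [4,4]
noncomputable def r6 : List ℕ := [5,2,4,3]
noncomputable def r7 : List ℕ := [5,1,3,1,1,4,1,1,1,3,0,3,1,3,0]
noncomputable def r8 : List ℕ := [5,1,1,2,1,4,0,3,1,3,0,3,1,1,1]
noncomputable def r9 : List ℕ := [5,1,5,0,0,0,2,0,2,4,0,4,0,0,3,0,3,0]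
noncomputable def r10 : List ℕ := [5,1,3,0,5,0,3,1,1,4,0,4,0,4,0,0,0,3,0,3,0,3,0,3,1,3,1]
noncomputable def m289n0 : Net := (Net.cons (nat_lit 128) (nat_lit 0x9e4008646a7e370844a2aec1c34f1204)
  (Net.cons (nat_lit 64) (nat_lit 0xd858feeb98af71e1000000000000000038868be553cf49fa)
  (Net.cons (nat_lit 32) (nat_lit 0x883c7a34000000007b38d99500000000221755ca0000000004a097ca)
  (Net.cons (nat_lit 16) (nat_lit 0xd5f80000a9230000af9200003ffd00001cba000059ed00007d0a00006a08)
  (Net.cons (nat_lit 8) (nat_lit 0x3c00bc00b90006009b0058009200f5004c0038002b004d0055001300250012)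
  (Net.cons (nat_lit 4) (nat_lit 0x8080c000503050903060f020804060302070d0f0b00040c0f0f03000a03070e)
  (Net.cons (nat_lit 2) (nat_lit 0x2310103302323101013323210233022002232320223023110030210322222232)
  (Net.cons (nat_lit 1) (nat_lit 0x5400504144400000050100511414041114010414041041141411110514411414)
  (Net.cons (nat_lit 2) (nat_lit 0x202200000000000000020000000020220002020020222000020200000)
  (Net.cons (nat_lit 4) (nat_lit 0xa000c020c080004080204080a0a0000020c0408080c040c000800080a060002)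
  (Net.cons (nat_lit 8) (nat_lit 0xb800a0009000c000980088003000f000600012003a00800014003000680020)
  (Net.cons (nat_lit 16) (nat_lit 0xdbc000005d6a000049c00000a67800003e2c0000bd000000d81000002760)
  (Net.cons (nat_lit 32) (nat_lit 0x483cd85e00000000da5852c6000000005a3e79f80000000067d87534)
  (Net.cons (nat_lit 64) (nat_lit 0x4458775ef3a0236000000000000000005926c1f374862dbe)
  (Net.cons (nat_lit 128) (nat_lit 0x9e40861e480e7a8f0984dd32c4645a42)
  Net.nil)))))))))))))))
noncomputable def m289n1 : Net := (Net.cons (nat_lit 128) (nat_lit 0x9e40861e480e7a8f0984dd32c4645a42)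
  (Net.cons (nat_lit 64) (nat_lit 0x21c781c78a589ccd00000000000000005926e1f174862cfe)
  (Net.cons (nat_lit 32) (nat_lit 0x6fb6443b000000008bf3c64e00000000ccbdcde10000000063d87536)
  (Net.cons (nat_lit 16) (nat_lit 0xd8600002f020000e1300000e25400008dc8000046710000dd1000002f2a)
  (Net.cons (nat_lit 8) (nat_lit 0x81003a00af004a004700c900b400ec006b007400f6004700ed0094007100a0)
  (Net.cons (nat_lit 4) (nat_lit 0x203060a09060b020e0909090602030706010a0507070c03070f090e0b0e0f0e)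
  (Net.cons (nat_lit 2) (nat_lit 0x3130101203203023210213330210211000100213122310022130032010102032)
  (Net.cons (nat_lit 1) (nat_lit 0x4510045100040414101441041404011040441015444441005401054144500150)
  (Net.cons (nat_lit 2) (nat_lit 0x2000020000020022200202000202002020200000002022000000002202000200)
  (Net.cons (nat_lit 4) (nat_lit 0x40a020004000204000c00040e0c0e0408000808000200000008040a0a0808)
  (Net.cons (nat_lit 8) (nat_lit 0xb200e400a4004a007600c200d000540022006a00b800f4006a0030002c0010)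
  (Net.cons (nat_lit 16) (nat_lit 0x284000002988000034e20000781c000041700000072000007d1a00001a48)
  (Net.cons (nat_lit 32) (nat_lit 0xccb6686200000000d9f318e400000000dc377c680000000024a0d7ce)
  (Net.cons (nat_lit 64) (nat_lit 0x3fc73f14b374bc78000000000000000018868be153df09fa)
  (Net.cons (nat_lit 128) (nat_lit 0x9e4008646a7e370844a2aec1c34f1204)
  Net.nil)))))))))))))))
noncomputable def m289n2 : Net := (Net.cons (nat_lit 128) (nat_lit 0xe8163333cdd6961012f1330418412000)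
  (Net.cons (nat_lit 64) (nat_lit 0xad777f50cd44852000000000000000005a8109a21898a500)
  (Net.cons (nat_lit 32) (nat_lit 0x1a21f70000000000d87d0b200000000495ed72800000000b0056fe4)
  (Net.cons (nat_lit 16) (nat_lit 0x4cbc0000e0340000cefc0000a89000001a10000045c80000852e000075e8)
  (Net.cons (nat_lit 8) (nat_lit 0x240081007c008e00a800e4008000d600bb007a00c80014002c00e400240022)
  (Net.cons (nat_lit 4) (nat_lit 0x2090606040a070701080c0f080c01020c040d01030000070401080c030f0b02)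
  (Net.cons (nat_lit 2) (nat_lit 0x331200030022031220110330200220320003300002201332202032012213330)
  (Net.cons (nat_lit 1) (nat_lit 0x4541441055544414405001555054401045014144444150414144500551551454)
  (Net.cons (nat_lit 2) (nat_lit 0x20020000020220200000000000200020000000002200002202000000002000)
  (Net.cons (nat_lit 4) (nat_lit 0x2060802040a080800080400080000020c000200000000080400080c0808060a)
  (Net.cons (nat_lit 8) (nat_lit 0x8000100082002800e40080005600a0007a00c80014002c00e000200026)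
  (Net.cons (nat_lit 16) (nat_lit 0x4cbc000060240000cefc0000a89000001a10000045c80000852e0000b154)
  (Net.cons (nat_lit 32) (nat_lit 0x1a21f70000000000d85d0b200000000495ed7280000000095016fe4)
  (Net.cons (nat_lit 64) (nat_lit 0xad777f50cd4485200000000000000000588109a21898a500)
  (Net.cons (nat_lit 128) (nat_lit 0xe8163333cdd6961012f1330418412000)
  Net.nil)))))))))))))))
noncomputable def m289n4 : Net := (Net.cons (nat_lit 128) (nat_lit 0xae40f7efcefff4253a91046050000000)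
  (Net.cons (nat_lit 64) (nat_lit 0x816ad66dcacf95400000000000000000dd56a01aea412144)
  (Net.cons (nat_lit 32) (nat_lit 0x2ed2797200000000f48ca190000000005d18852500000000fb4dc08c)
  (Net.cons (nat_lit 16) (nat_lit 0x93bc0000697800009b090000eb6c00004f6b0000282d00001252000044c8)
  (Net.cons (nat_lit 8) (nat_lit 0x7800b300df00ca004d0062001f00f600f100130079005900ac004200700094)
  (Net.cons (nat_lit 4) (nat_lit 0x4040c00070a04040d040e0c040402050a0e070d010c060a0b09070d010a0f04)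
  (Net.cons (nat_lit 2) (nat_lit 0x2202100012213223123120333200321113003100203320312102121331331330)
  (Net.cons (nat_lit 1) (nat_lit 0x140014111545140511454410111411000100514051410005511511441001401)
  (Net.cons (nat_lit 2) (nat_lit 0x200000202000020022002220022220000200000002200000020000220002200)
  (Net.cons (nat_lit 4) (nat_lit 0xa0404000406040e04040804000004020002000006040a0004020e000600000c)
  (Net.cons (nat_lit 8) (nat_lit 0x4000d000a000c200d000ca0040005000a600220066000e00ac00740020003c)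
  (Net.cons (nat_lit 16) (nat_lit 0xb39600006a5c000065940000fb380000d7920000909000001212000044c8)
  (Net.cons (nat_lit 32) (nat_lit 0xa7d29a1800000000c40ca1a00000000081e75ada00000000fb4d6088)
  (Net.cons (nat_lit 64) (nat_lit 0x812ad66dcac714400000000000000000dd56a01aea412144)
  (Net.cons (nat_lit 128) (nat_lit 0xae40f7efcefff4253a91046050000000)
  Net.nil)))))))))))))))
noncomputable def m289l : List Net := [m289n0,m289n1,m289n2,m289n2,m289n4,m289n4]
noncomputable abbrev m289 : ℕ → Net := lk Net.nil m289l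
theorem m289ok : NetsOk 240 m289 vT := netsOk_of (by decide +kernel)
theorem m289s0 : Sat io [] (finG m289ok) := fin_sat_nil _ (k := 8) (n := 6) (by decide +kernel)
noncomputable def C290 : List (List ℕ) := [r0,r1,r2,r3,r4,r5,r6,r7,r8,r9,r10]
theorem cl291 : Clo.{u} io C290 [0,1,2,3] 240 m289 1 (mkB []) := Clo.start (by decide +kernel)
theorem imp292 : Imp.{u} io C290 C141 := Imp.of_chk (pfs := [[([],1)],[([],3)],[([],5)],[([],7)],[([],9)]]) (by decide +kernel)
theorem der294 : Der 17 (finX 17) (cl (finG m139ok) [[2],[1,3,1,1]]) (fun _ => Net.nil) := Der.zero (finModel m139ok).inj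
noncomputable def ns295 : ℕ → Net := upd (fun _ => Net.nil) 0 (m139 2)
theorem der296 : Der 17 (finX 17) (cl (finG m139ok) [[2],[1,3,1,1]]) ns295 := der294.add (wp_mem_cl (w := [2]) (by decide)) (rep_letter (finModel m139ok) 2) 0
noncomputable def x297 : Net := (Net.cons (nat_lit 10) (nat_lit 342)
  (Net.cons (nat_lit 5) (nat_lit 2056)
  (Net.cons (nat_lit 1) (nat_lit 10240)
  (Net.cons (nat_lit 1) (nat_lit 0x29080)
  (Net.cons (nat_lit 1) (nat_lit 76034)
  (Net.cons (nat_lit 1) (nat_lit 0x20420)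
  (Net.cons (nat_lit 5) (nat_lit 26)
  (Net.cons (nat_lit 10) (nat_lit 284)
  Net.nil))))))))
noncomputable def ns298 : ℕ → Net := upd ns295 1 x297
theorem der299 : Der 17 (finX 17) (cl (finG m139ok) [[2],[1,3,1,1]]) ns298 := der296.add (wp_mem_cl (w := [1,3,1,1]) (by decide)) ((finModel m139ok).toIsPre.rep_word (k := 5) (w := [1,3,1,1]) (n := x297) (by decide +kernel)) 1
noncomputable def L300 : Lev := Lev.cons 1 5 [[1]] Lev.nil
noncomputable def L301 : Lev := Lev.cons 0 16 [[0]] L300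
theorem lc302 : Lev.chk 17 2 ns298 vT 100 L301 = true := by decide +kernel
theorem lb303 : 80 ≤ Nat.card (cl (finG m139ok) [[2],[1,3,1,1]]) := le_of_eq_of_le (by decide +kernel) (der299.card_ge lc302)
theorem sat304 : Sat io C141 (finG m139ok) := m139s0.fin (k := 5) (by decide +kernel)
theorem ix293 : Idx.{u} io C290 [0,1,2,3] [[2],[1,3,1,1]] 51 := (Idx.of bd287 sat304 (by decide +kernel) lb303 (by decide +kernel)).of_imp imp292
noncomputable def lk305 : List (List ℕ × List ℕ × Pf) := [([2],[2],[([4],13)]),([1,3,1,1],[1,2,0,2,1,2,0,0,0],[([4],15)])]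
noncomputable def O306 : ℕ := (nat_lit 0xb9c80c00002800209400000250000466c00000ac000ac0002c02c018c53e)
noncomputable def M307 : ℕ := (nat_lit 0xb9c80c00002800209400000250000466c00000ac000ac0002c02c018c53f)
noncomputable def b308 : ℕ := (nat_lit 1)
theorem cl309 : Clo.{u} io C290 [0,1,2,3] 240 m289 M307 (mkB [(4,b308)]) := cl291.new (k := 5) (b := 4) (q := 0) (p := 1) (r := 200) (n := 51) (O := O306) (by decide +kernel) (lks := lk305) (by decide +kernel) (gens_of_lall2 (m := [[0],[1]]) (by decide +kernel)) ix293 (by decide +kernel)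
noncomputable def b310 : ℕ := (nat_lit 3)
noncomputable def b311 : ℕ := (nat_lit 3)
theorem cl312 : Clo.{u} io C290 [0,1,2,3] 240 m289 M307 (mkB [(4,b310),(5,b311)]) := cl309.ops (os := [Op.inv 4,Op.rel 4 [] 5 [] [([],11)],Op.inv 4]) (by decide +kernel) (by decide +kernel)
theorem der314 : Der 17 (finX 17) (cl (finG m139ok) [[0,0,0,2,0,2],[0,0,2,0,3,0,0,2,1,2,1]]) (fun _ => Net.nil) := Der.zero (finModel m139ok).inj
noncomputable def x315 : Net := (Net.cons (nat_lit 10) (nat_lit 239)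
  (Net.cons (nat_lit 5) (nat_lit 21516)
  (Net.cons (nat_lit 1) (nat_lit 1)
  (Net.cons (nat_lit 1) (nat_lit 0x4000a)
  (Net.cons (nat_lit 1) (nat_lit 0x28004)
  (Net.cons (nat_lit 1) (nat_lit 0x5094a)
  (Net.cons (nat_lit 1) (nat_lit 38016)
  (Net.cons (nat_lit 5) (nat_lit 20492)
  (Net.cons (nat_lit 10) (nat_lit 172)
  Net.nil)))))))))
noncomputable def ns316 : ℕ → Net := upd (fun _ => Net.nil) 0 x315
theorem der317 : Der 17 (finX 17) (cl (finG m139ok) [[0,0,0,2,0,2],[0,0,2,0,3,0,0,2,1,2,1]]) ns316 := der314.add (wp_mem_cl (w := [0,0,0,2,0,2]) (by decide)) ((finModel m139ok).toIsPre.rep_word (k := 5) (w := [0,0,0,2,0,2]) (n := x315) (by decide +kernel)) 0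
noncomputable def x318 : Net := (Net.cons (nat_lit 10) (nat_lit 53)
  (Net.cons (nat_lit 5) (nat_lit 16395)
  (Net.cons (nat_lit 1) (nat_lit 32)
  (Net.cons (nat_lit 1) (nat_lit 0x50140)
  (Net.cons (nat_lit 1) (nat_lit 0x21081)
  (Net.cons (nat_lit 1) (nat_lit 0x50942)
  (Net.cons (nat_lit 1) (nat_lit 36992)
  (Net.cons (nat_lit 5) (nat_lit 18460)
  (Net.cons (nat_lit 10) (nat_lit 28)
  Net.nil)))))))))
noncomputable def ns319 : ℕ → Net := upd ns316 1 x318
theorem der320 : Der 17 (finX 17) (cl (finG m139ok) [[0,0,0,2,0,2],[0,0,2,0,3,0,0,2,1,2,1]]) ns319 := der317.add (wp_mem_cl (w := [0,0,2,0,3,0,0,2,1,2,1]) (by decide)) ((finModel m139ok).toIsPre.rep_word (k := 5) (w := [0,0,2,0,3,0,0,2,1,2,1]) (n := x318) (by decide +kernel)) 1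
noncomputable def L321 : Lev := Lev.cons 0 5 [[1]] Lev.nil
noncomputable def L322 : Lev := Lev.cons 2 16 [[0]] L321
theorem lc323 : Lev.chk 17 2 ns319 vT 100 L322 = true := by decide +kernel
theorem lb324 : 80 ≤ Nat.card (cl (finG m139ok) [[0,0,0,2,0,2],[0,0,2,0,3,0,0,2,1,2,1]]) := le_of_eq_of_le (by decide +kernel) (der320.card_ge lc323)
theorem ix313 : Idx.{u} io C290 [0,1,2,3] [[0,0,0,2,0,2],[0,0,2,0,3,0,0,2,1,2,1]] 51 := (Idx.of bd287 sat304 (by decide +kernel) lb324 (by decide +kernel)).of_imp imp292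
noncomputable def lk325 : List (List ℕ × List ℕ × Pf) := [([0,0,0,2,0,2],[0,4,1,2,1,2,1,1,5,1],[([4,0,4],19)]),([0,0,2,0],[1,1,1,3,0,3,1,3,0],[([4,1,1,1,3,0,3,1,3,0],14)]),([3],[3],[([4,3],12)]),([1,1,2,1],[0,0,0,2,1,2,0,2,1],[([4],17)])]
noncomputable def O326 : ℕ := (nat_lit 0x40022000083010000404028000411000912814110141ad211611bc63ac0)
noncomputable def M327 : ℕ := (nat_lit 0xbdc82e0000ab01209440402a50041566c91281ed101edad23d63dbdeffff)
noncomputable def b328 : ℕ := (nat_lit 7)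
theorem cl329 : Clo.{u} io C290 [0,1,2,3] 240 m289 M327 (mkB [(4,b328),(5,b311)]) := cl312.new (k := 5) (b := 4) (q := 2) (p := 6) (r := 200) (n := 51) (O := O326) (by decide +kernel) (lks := lk325) (by decide +kernel) (gens_of_lall2 (m := [[0],[1,2,1,3]]) (by decide +kernel)) ix313 (by decide +kernel)
noncomputable def b330 : ℕ := (nat_lit 0x22000088012014000000000400000000018010181042390380084aff)
noncomputable def b331 : ℕ := (nat_lit 0x22000088012014000000000400000000018010181042390380084aff)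
theorem cl332 : Clo.{u} io C290 [0,1,2,3] 240 m289 M327 (mkB [(4,b330),(5,b331)]) := cl329.ops (os := [Op.ext 4 3 [([2],[2],[([4],13)]),([3],[3],[([4,3],12)]),([1,3,1,1],[1,2,0,2,1,2,0,0,0],[([4],15)]),([0,0,2,0],[1,1,1,3,0,3,1,3,0],[([4,1,1,1,3,0,3,1,3,0],14)]),([1,1,2,1],[0,0,0,2,1,2,0,2,1],[([4],17)]),([0,3,0,0],[0,3,1,3,0,3,1,1,1],[([4,0,3,1,3,0,3,1,1,1],16)])],Op.inv 4,Op.rel 4 [] 5 [] [([],11)],Op.inv 4,Op.rel 5 [0,0,0,3,0,3,0,3,0,3,1,3,1] 5 [1,5,1,5,0,0,2,1,4,1,2,0] [([5,1,5,1,5,0,0,2,1,4,1,2,0,4],21)],Op.inv 5,Op.rel 4 [] 5 [] [([],11)],Op.inv 4]) (by decide +kernel) (by decide +kernel)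
theorem der334 : Der 17 (finX 17) (cl (finG m139ok) [[2],[1,3,1,1],[0,0,0,2,0,2]]) (fun _ => Net.nil) := Der.zero (finModel m139ok).inj
noncomputable def ns335 : ℕ → Net := upd (fun _ => Net.nil) 0 (m139 2)
theorem der336 : Der 17 (finX 17) (cl (finG m139ok) [[2],[1,3,1,1],[0,0,0,2,0,2]]) ns335 := der334.add (wp_mem_cl (w := [2]) (by decide)) (rep_letter (finModel m139ok) 2) 0
noncomputable def x337 : Net := (Net.cons (nat_lit 10) (nat_lit 342)
  (Net.cons (nat_lit 5) (nat_lit 2056)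
  (Net.cons (nat_lit 1) (nat_lit 10240)
  (Net.cons (nat_lit 1) (nat_lit 0x29080)
  (Net.cons (nat_lit 1) (nat_lit 76034)
  (Net.cons (nat_lit 1) (nat_lit 0x20420)
  (Net.cons (nat_lit 5) (nat_lit 26)
  (Net.cons (nat_lit 10) (nat_lit 284)
  Net.nil))))))))
noncomputable def ns338 : ℕ → Net := upd ns335 1 x337
theorem der339 : Der 17 (finX 17) (cl (finG m139ok) [[2],[1,3,1,1],[0,0,0,2,0,2]]) ns338 := der336.add (wp_mem_cl (w := [1,3,1,1]) (by decide)) ((finModel m139ok).toIsPre.rep_word (k := 5) (w := [1,3,1,1]) (n := x337) (by decide +kernel)) 1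
noncomputable def x340 : Net := (Net.cons (nat_lit 10) (nat_lit 239)
  (Net.cons (nat_lit 5) (nat_lit 21516)
  (Net.cons (nat_lit 1) (nat_lit 1)
  (Net.cons (nat_lit 1) (nat_lit 0x4000a)
  (Net.cons (nat_lit 1) (nat_lit 0x28004)
  (Net.cons (nat_lit 1) (nat_lit 0x5094a)
  (Net.cons (nat_lit 1) (nat_lit 38016)
  (Net.cons (nat_lit 5) (nat_lit 20492)
  (Net.cons (nat_lit 10) (nat_lit 172)
  Net.nil)))))))))
noncomputable def ns341 : ℕ → Net := upd ns338 2 x340
theorem der342 : Der 17 (finX 17) (cl (finG m139ok) [[2],[1,3,1,1],[0,0,0,2,0,2]]) ns341 := der339.add (wp_mem_cl (w := [0,0,0,2,0,2]) (by decide)) ((finModel m139ok).toIsPre.rep_word (k := 5) (w := [0,0,0,2,0,2]) (n := x340) (by decide +kernel)) 2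
noncomputable def x343 : Net := (Net.cons (nat_lit 10) (nat_lit 859)
  (Net.cons (nat_lit 5) (nat_lit 11290)
  (Net.cons (nat_lit 1) (nat_lit 128)
  (Net.cons (nat_lit 1) (nat_lit 320)
  (Net.cons (nat_lit 1) (nat_lit 160)
  (Net.cons (nat_lit 1) (nat_lit 8256)
  (Net.cons (nat_lit 1) (nat_lit 1056)
  (Net.cons (nat_lit 5) (nat_lit 16408)
  (Net.cons (nat_lit 10) (nat_lit 818)
  Net.nil)))))))))
noncomputable def x343s : ℕ → Net := upd ns341 3 x343
theorem der344 : Der 17 (finX 17) (cl (finG m139ok) [[2],[1,3,1,1],[0,0,0,2,0,2]]) x343s := der342.ext (k := 5) (w := [2,1,0,1,0,1,1,2,2]) 3 (by decide +kernel)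
noncomputable def x345 : Net := (Net.cons (nat_lit 10) (nat_lit 598)
  (Net.cons (nat_lit 5) (nat_lit 9232)
  (Net.cons (nat_lit 1) (nat_lit 0x20020)
  (Net.cons (nat_lit 1) (nat_lit 0x50040)
  (Net.cons (nat_lit 1) (nat_lit 0x28084)
  (Net.cons (nat_lit 1) (nat_lit 0x50102)
  (Net.cons (nat_lit 1) (nat_lit 0x20424)
  (Net.cons (nat_lit 5) (nat_lit 24596)
  (Net.cons (nat_lit 10) (nat_lit 548)
  Net.nil)))))))))
noncomputable def x345s : ℕ → Net := upd x343s 4 x345
theorem der346 : Der 17 (finX 17) (cl (finG m139ok) [[2],[1,3,1,1],[0,0,0,2,0,2]]) x345s := der344.ext (k := 5) (w := [0,3,0,1,3]) 4 (by decide +kernel)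
noncomputable def L347 : Lev := Lev.cons 1 15 [[1],[4]] Lev.nil
noncomputable def L348 : Lev := Lev.cons 0 16 [[0],[3]] L347
noncomputable def L349 : Lev := Lev.cons 2 17 [[2]] L348
theorem lc350 : Lev.chk 17 2 x345s vT 100 L349 = true := by decide +kernel
theorem lb351 : 4080 ≤ Nat.card (cl (finG m139ok) [[2],[1,3,1,1],[0,0,0,2,0,2]]) := le_of_eq_of_le (by decide +kernel) (der346.card_ge lc350)
theorem ix333 : Idx.{u} io C290 [0,1,2,3] [[2],[1,3,1,1],[0,0,0,2,0,2]] 1 := (Idx.of bd287 sat304 (by decide +kernel) lb351 (by decide +kernel)).of_imp imp292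
noncomputable def lk352 : List (List ℕ × List ℕ × Pf) := [([2],[2],[([4],13)]),([1,3,1,1],[1,2,0,2,1,2,0,0,0],[([4],15)]),([0,0,0,2,0,2],[0,4,1,2,1,2,1,1,5,1],[([4,0,4],19)])]
noncomputable def O353 : ℕ := (nat_lit 0x400000000000000000000000000000000000000000000000000000000000)
noncomputable def M354 : ℕ := (nat_lit 0xfdc82e0000ab01209440402a50041566c91281ed101edad23d63dbdeffff)
noncomputable def b355 : ℕ := (nat_lit 0x40022000088012014000000000400000000018010181042390380084aff)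
theorem cl356 : Clo.{u} io C290 [0,1,2,3] 240 m289 M354 (mkB [(4,b355),(5,b331)]) := cl332.new (k := 5) (b := 4) (q := 234) (p := 238) (r := 200) (n := 1) (O := O353) (by decide +kernel) (lks := lk352) (by decide +kernel) (gens_of_lall2 (m := [[0],[1],[2]]) (by decide +kernel)) ix333 (by decide +kernel)
noncomputable def b357 : ℕ := (nat_lit 0xe40022000088012014000000000400000000018010181042390380084aff)
noncomputable def b358 : ℕ := (nat_lit 0xe40022000088012014000000000400000000018010181042390380084aff)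
theorem cl359 : Clo.{u} io C290 [0,1,2,3] 240 m289 M354 (mkB [(4,b357),(5,b358)]) := cl356.ops (os := [Op.inv 4,Op.rel 4 [] 5 [] [([],11)],Op.inv 4,Op.rel 5 [0,0,0,3,0,3,0,3,0,3,1,3,1] 5 [1,5,1,5,0,0,2,1,4,1,2,0] [([5,1,5,1,5,0,0,2,1,4,1,2,0,4],21)],Op.inv 5,Op.rel 4 [] 5 [] [([],11)],Op.inv 4]) (by decide +kernel) (by decide +kernel)
theorem der361 : Der 17 (finX 17) (cl (finG m139ok) [[0,3,0,0,0,3,0,0,0,3,0,3,1,1],[0,0,2,0,3,0,0,0,2,0,2,0,0,2,1,2,0,2,0]]) (fun _ => Net.nil) := Der.zero (finModel m139ok).inj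
noncomputable def x362 : Net := (Net.cons (nat_lit 10) (nat_lit 863)
  (Net.cons (nat_lit 5) (nat_lit 10251)
  (Net.cons (nat_lit 1) (nat_lit 0x50000)
  (Net.cons (nat_lit 1) (nat_lit 0x210a0)
  (Net.cons (nat_lit 1) (nat_lit 0x50842)
  (Net.cons (nat_lit 1) (nat_lit 37889)
  (Net.cons (nat_lit 5) (nat_lit 24584)
  (Net.cons (nat_lit 10) (nat_lit 812)
  Net.nil))))))))
noncomputable def ns363 : ℕ → Net := upd (fun _ => Net.nil) 0 x362
theorem der364 : Der 17 (finX 17) (cl (finG m139ok) [[0,3,0,0,0,3,0,0,0,3,0,3,1,1],[0,0,2,0,3,0,0,0,2,0,2,0,0,2,1,2,0,2,0]]) ns363 := der361.add (wp_mem_cl (w := [0,3,0,0,0,3,0,0,0,3,0,3,1,1]) (by decide)) ((finModel m139ok).toIsPre.rep_word (k := 5) (w := [0,3,0,0,0,3,0,0,0,3,0,3,1,1]) (n := x362) (by decide +kernel)) 0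
noncomputable def x365 : Net := (Net.cons (nat_lit 10) (nat_lit 654)
  (Net.cons (nat_lit 5) (nat_lit 2070)
  (Net.cons (nat_lit 1) (nat_lit 0x50140)
  (Net.cons (nat_lit 1) (nat_lit 0x204a0)
  (Net.cons (nat_lit 1) (nat_lit 0x52840)
  (Net.cons (nat_lit 1) (nat_lit 33920)
  (Net.cons (nat_lit 5) (nat_lit 22556)
  (Net.cons (nat_lit 10) (nat_lit 692)
  Net.nil))))))))
noncomputable def ns366 : ℕ → Net := upd ns363 1 x365
theorem der367 : Der 17 (finX 17) (cl (finG m139ok) [[0,3,0,0,0,3,0,0,0,3,0,3,1,1],[0,0,2,0,3,0,0,0,2,0,2,0,0,2,1,2,0,2,0]]) ns366 := der364.add (wp_mem_cl (w := [0,0,2,0,3,0,0,0,2,0,2,0,0,2,1,2,0,2,0]) (by decide)) ((finModel m139ok).toIsPre.rep_word (k := 5) (w := [0,0,2,0,3,0,0,0,2,0,2,0,0,2,1,2,0,2,0]) (n := x365) (by decide +kernel)) 1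
noncomputable def L368 : Lev := Lev.cons 0 5 [[0]] Lev.nil
noncomputable def L369 : Lev := Lev.cons 3 12 [[1]] L368

end Cfsg.Agent.H6.HeS4
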