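import Cfsg.Agent.H6.HeS1
set_option maxRecDepth 100000
set_option Elab.async false
namespace Cfsg.Agent.H6.HeS4
open Cfsg.Agent.H6
universe u

theorem lc370 : Lev.chk 17 2 ns366 vT 100 L369 = true := by decide +kernel
theorem lb371 : 60 ≤ Nat.card (cl (finG m139ok) [[0,3,0,0,0,3,0,0,0,3,0,3,1,1],[0,0,2,0,3,0,0,0,2,0,2,0,0,2,1,2,0,2,0]]) := le_of_eq_of_le (by decide +kernel) (der367.card_ge lc370)
theorem ix360 : Idx.{u} io C290 [0,1,2,3] [[0,3,0,0,0,3,0,0,0,3,0,3,1,1],[0,0,2,0,3,0,0,0,2,0,2,0,0,2,1,2,0,2,0]] 68 := (Idx.of bd287 sat304 (by decide +kernel) lb371 (by decide +kernel)).of_imp imp292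
noncomputable def lk372 : List (List ℕ × List ℕ × Pf) := [([0,3,0,0],[0,3,1,3,0,3,1,1,1],[([4,0,3,1,3,0,3,1,1,1],16)]),([1,3,1,1],[1,2,0,2,1,2,0,0,0],[([4],15)]),([0,0,2,0],[1,1,1,3,0,3,1,3,0],[([4,1,1,1,3,0,3,1,3,0],14)]),([3],[3],[([4,3],12)]),([0,0,0,2,0,2],[0,4,1,2,1,2,1,1,5,1],[([4,0,4],19)]),([1,1,2,1],[0,0,0,2,1,2,0,2,1],[([4],17)])]
noncomputable def O373 : ℕ := (nat_lit 0x610000440201e0024208185f9201824c93e12ede1252dc29c24210000)
noncomputable def M374 : ℕ := (nat_lit 0xfdce3e0004eb213e946460abd5fd357eeddbbffffdffffffffffffffffff)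
noncomputable def b375 : ℕ := (nat_lit 0xe40022000088012014000000000400000000018010181042390380084bff)
theorem cl376 : Clo.{u} io C290 [0,1,2,3] 240 m289 M374 (mkB [(4,b375),(5,b358)]) := cl359.new (k := 5) (b := 4) (q := 8) (p := 16) (r := 200) (n := 68) (O := O373) (by decide +kernel) (lks := lk372) (by decide +kernel) (gens_of_lall2 (m := [[0,0,0,1],[2,3,4,2,5,2]]) (by decide +kernel)) ix360 (by decide +kernel)
noncomputable def b377 : ℕ := (nat_lit 0xe58e3a0004c8213e1404002385b4343a0c993398f8d9b56efff7ffffffff)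
noncomputable def b378 : ℕ := (nat_lit 0xe58e3a0004c8213e1404002385b4343a0c993398f8d9b56efff7ffffffff)
theorem cl379 : Clo.{u} io C290 [0,1,2,3] 240 m289 M374 (mkB [(4,b377),(5,b378)]) := cl376.ops (os := [Op.ext 4 3 [([2],[2],[([4],13)]),([3],[3],[([4,3],12)]),([1,3,1,1],[1,2,0,2,1,2,0,0,0],[([4],15)]),([0,0,2,0],[1,1,1,3,0,3,1,3,0],[([4,1,1,1,3,0,3,1,3,0],14)]),([1,1,2,1],[0,0,0,2,1,2,0,2,1],[([4],17)]),([0,3,0,0],[0,3,1,3,0,3,1,1,1],[([4,0,3,1,3,0,3,1,1,1],16)])],Op.inv 4,Op.rel 4 [] 5 [] [([],11)],Op.inv 4,Op.rel 5 [0,0,0,3,0,3,0,3,0,3,1,3,1] 5 [1,5,1,5,0,0,2,1,4,1,2,0] [([5,1,5,1,5,0,0,2,1,4,1,2,0,4],21)],Op.ext 5 3 [([3],[3],[([5,3,4],13)]),([2],[2],[([],12)]),([1,1,1,3,0,3,1,3,0],[0,0,2,0],[([5,0,0,2,0,4],15)]),([1,2,0,2,1,2,0,0,0],[1,3,1,1],[([],14)]),([0,3,1,3,0,3,1,1,1],[0,3,0,0],[([5,0,3,0,0,4],17)]),([0,0,0,2,1,2,0,2,1],[1,1,2,1],[([],16)])],Op.inv 5,Op.rel 5 [0,0,3,0,3,0] 5 [1,5,3,1,3,1,1,1,4,0] [([5,1,5,3,1,3,1,1,1,4,0,4],19)],Op.ext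 5 3 [([3],[3],[([5,3,4],13)]),([2],[2],[([],12)]),([1,1,1,3,0,3,1,3,0],[0,0,2,0],[([5,0,0,2,0,4],15)]),([1,2,0,2,1,2,0,0,0],[1,3,1,1],[([],14)]),([0,3,1,3,0,3,1,1,1],[0,3,0,0],[([5,0,3,0,0,4],17)]),([0,0,0,2,1,2,0,2,1],[1,1,2,1],[([],16)])],Op.inv 5]) (by decide +kernel) (by decide +kernel)
theorem der381 : Der 17 (finX 17) (cl (finG m139ok) [[3,1,3,1,3,0,0,3,0,3,0,3,1,1],[1,1,2,0,0,2,0,2,0,0,2,0,0,0,0,2,0,2,1,1,2,1,2]]) (fun _ => Net.nil) := Der.zero (finModel m139ok).inj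
noncomputable def x382 : Net := (Net.cons (nat_lit 10) (nat_lit 867)
  (Net.cons (nat_lit 5) (nat_lit 1030)
  (Net.cons (nat_lit 1) (nat_lit 1024)
  (Net.cons (nat_lit 1) (nat_lit 0x40808)
  (Net.cons (nat_lit 1) (nat_lit 0x29005)
  (Net.cons (nat_lit 1) (nat_lit 75786)
  (Net.cons (nat_lit 1) (nat_lit 0x28024)
  (Net.cons (nat_lit 5) (nat_lit 18436)
  (Net.cons (nat_lit 10) (nat_lit 768)
  Net.nil)))))))))
noncomputable def ns383 : ℕ → Net := upd (fun _ => Net.nil) 0 x382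
theorem der384 : Der 17 (finX 17) (cl (finG m139ok) [[3,1,3,1,3,0,0,3,0,3,0,3,1,1],[1,1,2,0,0,2,0,2,0,0,2,0,0,0,0,2,0,2,1,1,2,1,2]]) ns383 := der381.add (wp_mem_cl (w := [3,1,3,1,3,0,0,3,0,3,0,3,1,1]) (by decide)) ((finModel m139ok).toIsPre.rep_word (k := 5) (w := [3,1,3,1,3,0,0,3,0,3,0,3,1,1]) (n := x382) (by decide +kernel)) 0
noncomputable def x385 : Net := (Net.cons (nat_lit 10) (nat_lit 800)
  (Net.cons (nat_lit 5) (nat_lit 14340)
  (Net.cons (nat_lit 1) (nat_lit 36864)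
  (Net.cons (nat_lit 1) (nat_lit 0x52800)
  (Net.cons (nat_lit 1) (nat_lit 0x21400)
  (Net.cons (nat_lit 1) (nat_lit 0x52808)
  (Net.cons (nat_lit 1) (nat_lit 0x29021)
  (Net.cons (nat_lit 5) (nat_lit 14336)
  (Net.cons (nat_lit 10) (nat_lit 800)
  Net.nil)))))))))
noncomputable def ns386 : ℕ → Net := upd ns383 1 x385
theorem der387 : Der 17 (finX 17) (cl (finG m139ok) [[3,1,3,1,3,0,0,3,0,3,0,3,1,1],[1,1,2,0,0,2,0,2,0,0,2,0,0,0,0,2,0,2,1,1,2,1,2]]) ns386 := der384.add (wp_mem_cl (w := [1,1,2,0,0,2,0,2,0,0,2,0,0,0,0,2,0,2,1,1,2,1,2]) (by decide)) ((finModel m139ok).toIsPre.rep_word (k := 5) (w := [1,1,2,0,0,2,0,2,0,0,2,0,0,0,0,2,0,2,1,1,2,1,2]) (n := x385) (by decide +kernel)) 1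
noncomputable def L388 : Lev := Lev.cons 0 5 [[0]] Lev.nil
noncomputable def L389 : Lev := Lev.cons 12 12 [[1]] L388
theorem lc390 : Lev.chk 17 2 ns386 vT 100 L389 = true := by decide +kernel
theorem lb391 : 60 ≤ Nat.card (cl (finG m139ok) [[3,1,3,1,3,0,0,3,0,3,0,3,1,1],[1,1,2,0,0,2,0,2,0,0,2,0,0,0,0,2,0,2,1,1,2,1,2]]) := le_of_eq_of_le (by decide +kernel) (der387.card_ge lc390)
theorem ix380 : Idx.{u} io C290 [0,1,2,3] [[3,1,3,1,3,0,0,3,0,3,0,3,1,1],[1,1,2,0,0,2,0,2,0,0,2,0,0,0,0,2,0,2,1,1,2,1,2]] 68 := (Idx.of bd287 sat304 (by decide +kernel) lb391 (by decide +kernel)).of_imp imp292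
noncomputable def lk392 : List (List ℕ × List ℕ × Pf) := [([3],[3],[([4,3],12)]),([1,3,1,1],[1,2,0,2,1,2,0,0,0],[([4],15)]),([0,3,0,0],[0,3,1,3,0,3,1,1,1],[([4,0,3,1,3,0,3,1,1,1],16)]),([1,1,2,1],[0,0,0,2,1,2,0,2,1],[([4],17)]),([0,0,0,2,0,2],[0,4,1,2,1,2,1,1,5,1],[([4,0,4],19)]),([0,0,2,0],[1,1,1,3,0,3,1,3,0],[([4,1,1,1,3,0,3,1,3,0],14)]),([2],[2],[([4],13)])]
noncomputable def O393 : ℕ := (nat_lit 0x231c1fffb14dec16b9b9f542a02ca811224400002000000000000000000)
noncomputable def M394 : ℕ := (nat_lit 0xffffffffffffffffffffffffffffffffffffffffffffffffffffffffffff)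
noncomputable def b395 : ℕ := (nat_lit 0xe58e3a0004c8213e1404002385b4343a0c993398f8d9b56effffffffffff)
theorem cl396 : Clo.{u} io C290 [0,1,2,3] 240 m289 M394 (mkB [(4,b395),(5,b378)]) := cl379.new (k := 5) (b := 4) (q := 35) (p := 73) (r := 200) (n := 68) (O := O393) (by decide +kernel) (lks := lk392) (by decide +kernel) (gens_of_lall2 (m := [[0,1,2,0,2,1],[3,4,5,4,3,6]]) (by decide +kernel)) ix380 (by decide +kernel)
noncomputable def b397 : ℕ := (nat_lit 0xffffffffffffffffffffffffffffffffffffffffffffffffffffffffffff)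
noncomputable def b398 : ℕ := (nat_lit 0xffffffffffffffffffffffffffffffffffffffffffffffffffffffffffff)
theorem cl399 : Clo.{u} io C290 [0,1,2,3] 240 m289 M394 (mkB [(4,b397),(5,b398)]) := cl396.ops (os := [Op.ext 4 3 [([2],[2],[([4],13)]),([3],[3],[([4,3],12)]),([1,3,1,1],[1,2,0,2,1,2,0,0,0],[([4],15)]),([0,0,2,0],[1,1,1,3,0,3,1,3,0],[([4,1,1,1,3,0,3,1,3,0],14)]),([1,1,2,1],[0,0,0,2,1,2,0,2,1],[([4],17)]),([0,3,0,0],[0,3,1,3,0,3,1,1,1],[([4,0,3,1,3,0,3,1,1,1],16)])],Op.inv 4,Op.rel 4 [] 5 [] [([],11)],Op.inv 4,Op.rel 5 [0,0,3,0,3,0] 5 [1,5,3,1,3,1,1,1,4,0] [([5,1,5,3,1,3,1,1,1,4,0,4],19)],Op.ext 5 3 [([3],[3],[([5,3,4],13)]),([2],[2],[([],12)]),([1,1,1,3,0,3,1,3,0],[0,0,2,0],[([5,0,0,2,0,4],15)]),([1,2,0,2,1,2,0,0,0],[1,3,1,1],[([],14)]),([0,3,1,3,0,3,1,1,1],[0,3,0,0],[([5,0,3,0,0,4],17)]),([0,0,0,2,1,2,0,2,1],[1,1,2,1],[([],16)])],Op.inv 5,Op.rel 5 [0,0,3,0,3,0] 5 [1,5,3,1,3,1,1,1,4,0] [([5,1,5,3,1,3,1,1,1,4,0,4],19)],Op.ext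 5 2 [([3],[3],[([5,3,4],13)]),([2],[2],[([],12)]),([1,1,1,3,0,3,1,3,0],[0,0,2,0],[([5,0,0,2,0,4],15)]),([1,2,0,2,1,2,0,0,0],[1,3,1,1],[([],14)]),([0,3,1,3,0,3,1,1,1],[0,3,0,0],[([5,0,3,0,0,4],17)]),([0,0,0,2,1,2,0,2,1],[1,1,2,1],[([],16)])],Op.inv 5]) (by decide +kernel) (by decide +kernel)
theorem sat401 : Sat io C290 (finG m289ok) := m289s0.fin (k := 8) (by decide +kernel)
theorem bd400 : Bound.{u} io C290 [0,1,2,3,4,5] 979200 := cl399.bound (by decide +kernel) sat401 (bd287.of_imp imp292)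
abbrev GS : Type := ↥(cl (finG m2ok) (lw [0,1,2,3,4,5]))
theorem allS : ∀ l, finG m2ok l ∈ (cl (finG m2ok) (lw [0,1,2,3,4,5])) := finG_mem_all _ (by decide +kernel)
noncomputable def gS : ℕ → GS := subA _ _ allS
theorem sat402 : Sat io C290 (finG m2ok) := m2s0.fin (k := 7) (by decide +kernel)
noncomputable abbrev RS : List (List ℕ) := C290
theorem satS : Sat io RS gS := sat402.subA _
theorem topS : cl gS (lw [0,1,2,3,4,5]) = ⊤ := cl_subA _
theorem modelS : IsModel 85 (finX 85) gS m2 vT := (finModel m2ok).subA _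
theorem faithS : Faith GS 85 (finX 85) := (faith_fin 85).sub _
theorem der403 : Der 85 (finX 85) (cl (finG m2ok) (lw [0,1,2,3,4,5])) (resN m2 [0,1,2,3,4,5]) := Der.letters (finModel m2ok) _
noncomputable def x404 : Net := (Net.cons (nat_lit 48) (nat_lit 0x16a5f62111e6)
  (Net.cons (nat_lit 24) (nat_lit 0xb1d8030000004672de)
  (Net.cons (nat_lit 12) (nat_lit 0x3ac000619000503000cb8)
  (Net.cons (nat_lit 6) (nat_lit 0x3002901802100103c02602a)
  (Net.cons (nat_lit 3) (nat_lit 0xc20020000800440c11000c4)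
  (Net.cons (nat_lit 1) (nat_lit 0x41201040008201200000000)
  (Net.cons (nat_lit 1) (nat_lit 0x92412080410412410400002)
  (Net.cons (nat_lit 1) (nat_lit 0x1208248048240241201008)
  (Net.cons (nat_lit 3) (nat_lit 0x2102082104184102002002)
  (Net.cons (nat_lit 6) (nat_lit 0x3202400000601401402a022)
  (Net.cons (nat_lit 12) (nat_lit 0x2f0000670000360000038)
  (Net.cons (nat_lit 24) (nat_lit 0xb3f16400000066261c)
  (Net.cons (nat_lit 48) (nat_lit 0x16b6485d3c82)
  Net.nil)))))))))))))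
noncomputable def x404s : ℕ → Net := upd (resN m2 [0,1,2,3,4,5]) 6 x404
theorem der405 : Der 85 (finX 85) (cl (finG m2ok) (lw [0,1,2,3,4,5])) x404s := der403.ext (k := 7) (w := [2,1,1,5,2,0,4]) 6 (by decide +kernel)
noncomputable def x406 : Net := (Net.cons (nat_lit 48) (nat_lit 0xb16f4ae75378)
  (Net.cons (nat_lit 24) (nat_lit 0x584cff000000157380)
  (Net.cons (nat_lit 12) (nat_lit 0x1bb000ff000058c00027c)
  (Net.cons (nat_lit 6) (nat_lit 0x801903201201403a023038)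
  (Net.cons (nat_lit 3) (nat_lit 0x21800060c5006142004146)
  (Net.cons (nat_lit 1) (nat_lit 0x8001201001048041200000)
  (Net.cons (nat_lit 1) (nat_lit 0x90402492082090092402002)
  (Net.cons (nat_lit 1) (nat_lit 0x200009008001008048201008)
  (Net.cons (nat_lit 3) (nat_lit 0x104002000104004004002006)
  (Net.cons (nat_lit 6) (nat_lit 0x2000802401200203202a030)
  (Net.cons (nat_lit 12) (nat_lit 0x43c000ee8000114000cf4)
  (Net.cons (nat_lit 24) (nat_lit 0x580a3c00000055f534)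
  (Net.cons (nat_lit 48) (nat_lit 0xb17f6e2622a2)
  Net.nil)))))))))))))
noncomputable def x406s : ℕ → Net := upd x404s 7 x406
theorem der407 : Der 85 (finX 85) (cl (finG m2ok) (lw [0,1,2,3,4,5])) x406s := der405.ext (k := 7) (w := [0,2,0,2,4,0,0,4,0,0]) 7 (by decide +kernel)
noncomputable def x408 : Net := (Net.cons (nat_lit 48) (nat_lit 0x2d73bf11bf3a)
  (Net.cons (nat_lit 24) (nat_lit 0xbddc5f0000006c9138)
  (Net.cons (nat_lit 12) (nat_lit 0xc77000188000d5200033e)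
  (Net.cons (nat_lit 6) (nat_lit 0x2900602800000b02c01c020)
  (Net.cons (nat_lit 3) (nat_lit 0xc41001410460830c0101100)
  (Net.cons (nat_lit 1) (nat_lit 0x1040200200040001208008)
  (Net.cons (nat_lit 1) (nat_lit 0x92082482400480082410410)
  (Net.cons (nat_lit 1) (nat_lit 0x208041041241001041209040)
  (Net.cons (nat_lit 3) (nat_lit 0x182102102082100180006004)
  (Net.cons (nat_lit 6) (nat_lit 0x6032020010000018022)
  (Net.cons (nat_lit 12) (nat_lit 0xcb200039c000b5a000f1e)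
  (Net.cons (nat_lit 24) (nat_lit 0x99e976000000bc0a54)
  (Net.cons (nat_lit 48) (nat_lit 0x2d63325f837e)
  Net.nil)))))))))))))
noncomputable def x408s : ℕ → Net := upd x406s 8 x408
theorem der409 : Der 85 (finX 85) (cl (finG m2ok) (lw [0,1,2,3,4,5])) x408s := der407.ext (k := 7) (w := [6,6,7,6,6,6,7,7,6,6,7,6,6,6,6]) 8 (by decide +kernel)
noncomputable def x410 : Net := (Net.cons (nat_lit 48) (nat_lit 0x5419c02dff10)
  (Net.cons (nat_lit 24) (nat_lit 0x3e0004000000302080)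
  (Net.cons (nat_lit 12) (nat_lit 0x260000e94000010000864)
  (Net.cons (nat_lit 6) (nat_lit 0x2002601802c008028008000)
  (Net.cons (nat_lit 3) (nat_lit 0x80140040042001186084100)
  (Net.cons (nat_lit 1) (nat_lit 0x200008000001200040201000)
  (Net.cons (nat_lit 1) (nat_lit 0x400090482402480080402000)
  (Net.cons (nat_lit 1) (nat_lit 0x200008008001200241201208)
  (Net.cons (nat_lit 3) (nat_lit 0x100000000000182004000)
  (Net.cons (nat_lit 6) (nat_lit 0x2002201802c008028008000)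
  (Net.cons (nat_lit 12) (nat_lit 0x260000e94000010000820)
  (Net.cons (nat_lit 24) (nat_lit 0x3e0004000000300080)
  (Net.cons (nat_lit 48) (nat_lit 0x5419402df910)
  Net.nil)))))))))))))
noncomputable def x410s : ℕ → Net := upd x408s 9 x410
theorem der411 : Der 85 (finX 85) (cl (finG m2ok) (lw [0,1,2,3,4,5])) x410s := der409.ext (k := 7) (w := [7,8,8,8,7,8,8,7]) 9 (by decide +kernel)
noncomputable def x412 : Net := (Net.cons (nat_lit 48) (nat_lit 0x459b6decc080)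
  (Net.cons (nat_lit 24) (nat_lit 0xe99b64000000412a80)
  (Net.cons (nat_lit 12) (nat_lit 0xa80000410000c3000064c)
  (Net.cons (nat_lit 6) (nat_lit 0x202b02802002400401e034)
  (Net.cons (nat_lit 3) (nat_lit 0x1000861020811060c0086044)
  (Net.cons (nat_lit 1) (nat_lit 0x40000040008001040048200)
  (Net.cons (nat_lit 1) (nat_lit 0x80000080012092480090480)
  (Net.cons (nat_lit 1) (nat_lit 0x241208240001001208248040)
  (Net.cons (nat_lit 3) (nat_lit 0x100082100006106100084180)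
  (Net.cons (nat_lit 6) (nat_lit 0x202002802002400401e034)
  (Net.cons (nat_lit 12) (nat_lit 0xa80000410000c30000608)
  (Net.cons (nat_lit 24) (nat_lit 0xe99a44000000412a80)
  (Net.cons (nat_lit 48) (nat_lit 0x459b6dec4080)
  Net.nil)))))))))))))
noncomputable def x412s : ℕ → Net := upd x410s 10 x412
theorem der413 : Der 85 (finX 85) (cl (finG m2ok) (lw [0,1,2,3,4,5])) x412s := der411.ext (k := 7) (w := [7,7,8,8,8,8,7,8]) 10 (by decide +kernel)
noncomputable def L414 : Lev := Lev.cons 2 4 [[9],[10]] Lev.nil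
noncomputable def L415 : Lev := Lev.cons 1 45 [[7],[8]] L414
noncomputable def L416 : Lev := Lev.cons 41 64 [[6]] L415
noncomputable def L417 : Lev := Lev.cons 0 85 [[0],[1],[2],[3],[4],[5]] L416
theorem lc418 : Lev.chk 85 4 x412s vT 100 L417 = true := by decide +kernel
theorem bdS : Bound.{u} io RS [0,1,2,3,4,5] 979200 := bd400
theorem cardS : Nat.card GS = 979200 := le_antisymm (bdS.{0}.fin sat402) (le_of_eq_of_le (by decide +kernel) (der413.card_ge lc418))
noncomputable def baseS : List ℕ := [0,41,1,2]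
theorem basedS : Based 85 (finX 85) (⊤ : Subgroup GS) baseS := (der413.based lc418 (le_of_eq_of_le cardS (by decide +kernel))).sub
noncomputable def eqvS : List ℕ → List ℕ → Bool := eqBc m2 baseS
theorem heqS : ∀ u w, eqvS u w = true → wp gS u = wp gS w := basedS.eqv modelS.toIsPre
theorem hgeS : ∀ l, llen il ≤ l → gS l = 1 := fun l h => Subtype.ext (finG_eq_one m2ok (n := 6) (by decide +kernel) l (le_of_eq_of_le (by decide +kernel) h))
theorem s0S : Sat io [] gS := satS.nil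
noncomputable def cvS : List (List ℕ) := [[0],[4,0,5]]
theorem der419 : Der 85 (finX 85) (cl gS cvS) (fun _ => Net.nil) := Der.zero modelS.inj
noncomputable def ns420 : ℕ → Net := upd (fun _ => Net.nil) 0 (m2 0)
theorem der421 : Der 85 (finX 85) (cl gS cvS) ns420 := der419.add (wp_mem_cl (w := [0]) (by decide)) (rep_letter modelS 0) 0
noncomputable def x422 : Net := (Net.cons (nat_lit 48) (nat_lit 0x8191fd7a3515)
  (Net.cons (nat_lit 24) (nat_lit 0x8519f7000000201583)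
  (Net.cons (nat_lit 12) (nat_lit 0x580004770003620000f7)
  (Net.cons (nat_lit 6) (nat_lit 0x1803202102803703d037020)
  (Net.cons (nat_lit 3) (nat_lit 0x1c0104040186004087004107)
  (Net.cons (nat_lit 1) (nat_lit 0x40040208008200000001208)
  (Net.cons (nat_lit 1) (nat_lit 0x80490410010490090092490)
  (Net.cons (nat_lit 1) (nat_lit 0x241240200201248209201)
  (Net.cons (nat_lit 3) (nat_lit 0x180100086080104004184080)
  (Net.cons (nat_lit 6) (nat_lit 0x1802602803003201c03c022)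
  (Net.cons (nat_lit 12) (nat_lit 0x580000e40005a6000d8c)
  (Net.cons (nat_lit 24) (nat_lit 0x48308000000081ba4)
  (Net.cons (nat_lit 48) (nat_lit 0x8184f7c3a644)
  Net.nil)))))))))))))
noncomputable def ns423 : ℕ → Net := upd ns420 1 x422
theorem der424 : Der 85 (finX 85) (cl gS cvS) ns423 := der421.add (wp_mem_cl (w := [4,0,5]) (by decide)) (modelS.toIsPre.rep_word (k := 7) (w := [4,0,5]) (n := x422) (by decide +kernel)) 1
noncomputable def x425 : Net := (Net.cons (nat_lit 48) (nat_lit 0x71e573ff1c0c)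
  (Net.cons (nat_lit 24) (nat_lit 0x78644000000655ad8)
  (Net.cons (nat_lit 12) (nat_lit 0xd33000f44000474000c46)
  (Net.cons (nat_lit 6) (nat_lit 0x102300d00001b00702e012)
  (Net.cons (nat_lit 3) (nat_lit 0x1010821471810831450c4182)
  (Net.cons (nat_lit 1) (nat_lit 0x40041008200001040200040)
  (Net.cons (nat_lit 1) (nat_lit 0x490082410482002090482090)
  (Net.cons (nat_lit 1) (nat_lit 0x248240201200049201040048)
  (Net.cons (nat_lit 3) (nat_lit 0x4102084180084004100002)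
  (Net.cons (nat_lit 6) (nat_lit 0x3002a00400202a030028030)
  (Net.cons (nat_lit 12) (nat_lit 0xe500005c60006700004ec)
  (Net.cons (nat_lit 24) (nat_lit 0x2621f6000000e74804)
  (Net.cons (nat_lit 48) (nat_lit 0x71fb885327ea)
  Net.nil)))))))))))))
noncomputable def x425s : ℕ → Net := upd ns423 2 x425
theorem der426 : Der 85 (finX 85) (cl gS cvS) x425s := der424.ext (k := 7) (w := [1,1,1,0,0,1]) 2 (by decide +kernel)
noncomputable def x427 : Net := (Net.cons (nat_lit 48) (nat_lit 0x5e17b91115c4)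
  (Net.cons (nat_lit 24) (nat_lit 0x54d1d6000000498d18)
  (Net.cons (nat_lit 12) (nat_lit 0x4440004df00009d000a0a)
  (Net.cons (nat_lit 6) (nat_lit 0x500a025008030014001016)
  (Net.cons (nat_lit 3) (nat_lit 0x1851400071020050c2005042)
  (Net.cons (nat_lit 1) (nat_lit 0x200000000000208208200)
  (Net.cons (nat_lit 1) (nat_lit 0x400410082490010412410410)
  (Net.cons (nat_lit 1) (nat_lit 0x40208008048201001209008)
  (Net.cons (nat_lit 3) (nat_lit 0x180006102002000084002104)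
  (Net.cons (nat_lit 6) (nat_lit 0x2e01a02a03201402001c)
  (Net.cons (nat_lit 12) (nat_lit 0x160000e3e000e88000240)
  (Net.cons (nat_lit 24) (nat_lit 0xed252000000e9e91a)
  (Net.cons (nat_lit 48) (nat_lit 0x5e006eeb2fa2)
  Net.nil)))))))))))))
noncomputable def x427s : ℕ → Net := upd x425s 3 x427
theorem der428 : Der 85 (finX 85) (cl gS cvS) x427s := der426.ext (k := 7) (w := [0,1,0,0,1,1,1]) 3 (by decide +kernel)
noncomputable def x429 : Net := (Net.cons (nat_lit 48) (nat_lit 0x6b6d4c5227c2)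
  (Net.cons (nat_lit 24) (nat_lit 0x21af75000000507e6e)
  (Net.cons (nat_lit 12) (nat_lit 0x6f600073c000135000518)
  (Net.cons (nat_lit 6) (nat_lit 0x2702603903f03300f01402c)
  (Net.cons (nat_lit 3) (nat_lit 0x3101085181004084144040)
  (Net.cons (nat_lit 1) (nat_lit 0x200201208048008248040048)
  (Net.cons (nat_lit 1) (nat_lit 0x480482412490490490090092)
  (Net.cons (nat_lit 1) (nat_lit 0x201009041040049008008)
  (Net.cons (nat_lit 3) (nat_lit 0x184004000004084180000)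
  (Net.cons (nat_lit 6) (nat_lit 0x2401c00e00c016008014024)
  (Net.cons (nat_lit 12) (nat_lit 0x47000074c0005720004b0)
  (Net.cons (nat_lit 24) (nat_lit 0x6ad294000000c46a3c)
  (Net.cons (nat_lit 48) (nat_lit 0x6b6b7dca41f8)
  Net.nil)))))))))))))
noncomputable def x429s : ℕ → Net := upd x427s 4 x429
theorem der430 : Der 85 (finX 85) (cl gS cvS) x429s := der428.ext (k := 7) (w := [2,2,2,2,3,3,3,3,2,2]) 4 (by decide +kernel)
noncomputable def x431 : Net := (Net.cons (nat_lit 48) (nat_lit 0x4049410c0890)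
  (Net.cons (nat_lit 24) (nat_lit 0xe00098000000b60200)
  (Net.cons (nat_lit 12) (nat_lit 0xd040000cc000954000568)
  (Net.cons (nat_lit 6) (nat_lit 0x20018030000000032030010)
  (Net.cons (nat_lit 3) (nat_lit 0x104180104082042006006084)
  (Net.cons (nat_lit 1) (nat_lit 0x201008008001001200000240)
  (Net.cons (nat_lit 1) (nat_lit 0x402090010002082402080490)
  (Net.cons (nat_lit 1) (nat_lit 0x201208048041001248001240)
  (Net.cons (nat_lit 3) (nat_lit 0x104180004080000006002004)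
  (Net.cons (nat_lit 6) (nat_lit 0x20018020000000032030010)
  (Net.cons (nat_lit 12) (nat_lit 0x9000000cc000954000540)
  (Net.cons (nat_lit 24) (nat_lit 0xe00098000000b60200)
  (Net.cons (nat_lit 48) (nat_lit 0x4049400c0890)
  Net.nil)))))))))))))
noncomputable def x431s : ℕ → Net := upd x429s 5 x431
theorem der432 : Der 85 (finX 85) (cl gS cvS) x431s := der430.ext (k := 7) (w := [4,3,3,3,4,3,3,3,3]) 5 (by decide +kernel)
noncomputable def x433 : Net := (Net.cons (nat_lit 48) (nat_lit 0x40032b14d024)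
  (Net.cons (nat_lit 24) (nat_lit 0xae4304000000665d30)
  (Net.cons (nat_lit 12) (nat_lit 0x626000469000e440002c4)
  (Net.cons (nat_lit 6) (nat_lit 0x2201601002600403a020030)
  (Net.cons (nat_lit 3) (nat_lit 0x80003080182080001104186)
  (Net.cons (nat_lit 1) (nat_lit 0x1040008008000041201008)
  (Net.cons (nat_lit 1) (nat_lit 0x2080010412082092482012)
  (Net.cons (nat_lit 1) (nat_lit 0x41240048200200248201048)
  (Net.cons (nat_lit 3) (nat_lit 0x84000080184080006100086)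
  (Net.cons (nat_lit 6) (nat_lit 0x2001601002800403a020030)
  (Net.cons (nat_lit 12) (nat_lit 0x606000068000a400002c4)
  (Net.cons (nat_lit 24) (nat_lit 0xae4304000000665d30)
  (Net.cons (nat_lit 48) (nat_lit 0x40132b94d020)
  Net.nil)))))))))))))
noncomputable def x433s : ℕ → Net := upd x431s 6 x433
theorem der434 : Der 85 (finX 85) (cl gS cvS) x433s := der432.ext (k := 7) (w := [3,4,4]) 6 (by decide +kernel)
noncomputable def L435 : Lev := Lev.cons 2 4 [[5],[6]] Lev.nil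
noncomputable def L436 : Lev := Lev.cons 1 45 [[3],[4]] L435
noncomputable def L437 : Lev := Lev.cons 16 64 [[2]] L436
noncomputable def L438 : Lev := Lev.cons 0 85 [[0],[1]] L437
theorem lc439 : Lev.chk 85 4 x433s vT 100 L438 = true := by decide +kernel
theorem lb440 : 979200 ≤ Nat.card (cl gS cvS) := le_of_eq_of_le (by decide +kernel) (der434.card_ge lc439)
theorem simpleS : IsSimpleGroup GS := modelS.simple faithS topS (ws := [[0,5,1,1,4,2],[3,1,3,0,0,0,2]]) (r := 300) (p0 := 0) (l := [(1,[1]),(58,[4])]) (by decide +kernel) (p := 17) (by norm_num) cardS (by norm_num) (pow_one_of heqS (a := [0]) (by decide +kernel)) (ncl_top s0S (cs := [[],[4]]) (by decide +kernel) cardS lb440)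
noncomputable def mS : List (List ℕ) := [[116,168,195,234],[184,159,11,152],[205,249,84,189],[205,249,84,189],[137,39,220,99],[137,39,220,99]]
theorem isoS {F : Type u} [Field F] [Fintype F] (hF : Fintype.card F = 4) : Nonempty (GS ≃* Matrix.symplecticGroup (Fin 2) F) := by
  haveI : CharP F 2 := charP_of_card (k := 2) Nat.prime_two hF
  obtain ⟨ω, hω⟩ := exists_w4 hF
  have hs := sem4 hω
  obtain ⟨g, hg⟩ := mrep_Sp hs (ixSum 2) (hJ_of (e := 1) hs (hs.v1.trans (CharTwo.neg_eq 1).symm) (U := [16,64,1,4]) (by decide +kernel)) (ml := mS) (by decide +kernel)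
  have hc : Nat.card (Matrix.symplecticGroup (Fin 2) F) = 979200 := by
    exact (S0245.result hF 2).trans (by simp [Finset.prod_range_succ])
  exact bdS.equivU satS (hg.sat (il := il) (Rl := RS) (by decide +kernel)) topS cardS simpleS hc (u := [0]) (w := []) (by decide +kernel) (hg.nev (inj4 hω) (i := 0) (j := 0) (by decide +kernel))

end Cfsg.Agent.H6.HeS4
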