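/- Central extensions of a simple permutation group; the generators of 3·J₃. -/
import Cfsg.Agent.H6.Sch10
import Cfsg.Prelude.Def_Spor_J3

namespace Cfsg.Agent.H6
open Matrix
universe u

theorem Bound.equivS {G : Type} {X : Type u} [Group G] [Group X] [Finite G] {ι : ℕ → ℕ} {R : List (List ℕ)}
    {kl : List ℕ} {B : ℕ} {gens : ℕ → G} {gens' : ℕ → X} (hb : Bound.{u} ι R kl B) (s : Sat ι R gens)
    (s' : Sat ι R gens') (ht : cl gens (lw kl) = ⊤) (hB : Nat.card G = B) (hs : IsSimpleGroup G)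
    (ht' : cl gens' (lw kl) = ⊤) (hne : Nontrivial X) :
    ∃ e : G ≃* X, ∀ w, wok (tb (mkM kl)) w = true → e (wp gens w) = wp gens' w := by
  let e : G ≃* ULift.{u} G := MulEquiv.ulift.symm
  obtain ⟨φ, a, b⟩ := hb.homTop (s.map e.toMonoidHom) s'
    (by rw [← map_cl, ht, Subgroup.map_top_of_surjective _ e.surjective])
    (le_of_eq ((Nat.card_congr e.toEquiv).symm.trans hB).symm)
  have hsur : Function.Surjective φ := MonoidHom.range_eq_top.1 (a.trans ht')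
  have hs' := simple_congr e hs
  rcases hs'.eq_bot_or_eq_top_of_normal φ.ker inferInstance with h | h
  · refine ⟨e.trans (MulEquiv.ofBijective φ ⟨(MonoidHom.ker_eq_bot_iff φ).1 h, hsur⟩), fun w hw => ?_⟩
    rw [← b w hw, ← map_wp]; rfl
  · obtain ⟨x, hx⟩ := exists_ne (1 : X)
    obtain ⟨y, rfl⟩ := hsur x
    exact absurd (MonoidHom.mem_ker.1 (h ▸ Subgroup.mem_top y)) hx

theorem Bound.central_ext {G : Type} {T : Type u} [Group G] [Group T] [Finite G] {ι : ℕ → ℕ} {R : List (List ℕ)}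
    {kl : List ℕ} {B : ℕ} {gens : ℕ → G} {g : ℕ → T} (hb : Bound.{u} ι R kl B) (s : Sat ι R gens)
    (ht : cl gens (lw kl) = ⊤) (hB : Nat.card G = B) (hs : IsSimpleGroup G) {x y : G} (hxy : x * y ≠ y * x)
    (s0 : Sat ι [] g) (ht' : cl g (lw kl) = ⊤) {z : T} (hz : z ∈ Subgroup.center T)
    (hR : ∀ r ∈ R, wp g r ∈ Subgroup.zpowers z) {a b : T} (hab : a * b ≠ b * a) :
    Subgroup.center T = Subgroup.zpowers z ∧ ∃ e : G ≃* T ⧸ Subgroup.center T, ∀ w, wok (tb (mkM kl)) w = true →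
      e (wp gens w) = QuotientGroup.mk (wp g w) := by
  have hle : Subgroup.zpowers z ≤ Subgroup.center T := by simpa using hz
  haveI hn : (Subgroup.zpowers z).Normal := ⟨fun n h g => by
    have := Subgroup.mem_center_iff.1 (hle h) g
    rw [this, mul_inv_cancel_right]; exact h⟩
  let π := QuotientGroup.mk' (Subgroup.zpowers z)
  have s' : Sat ι R fun l => π (g l) := ⟨(s0.map π).inv, fun r hr => by
    rw [← map_wp]; exact (QuotientGroup.eq_one_iff _).2 (hR r hr)⟩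
  have ht2 : cl (fun l => π (g l)) (lw kl) = ⊤ := by
    rw [← map_cl, ht', Subgroup.map_top_of_surjective _ (QuotientGroup.mk'_surjective _)]
  have hnt : Nontrivial (T ⧸ Subgroup.zpowers z) := ⟨π a, 1, fun h =>
    hab (Subgroup.mem_center_iff.1 (hle ((QuotientGroup.eq_one_iff _).1 h)) b).symm⟩
  obtain ⟨e, he⟩ := hb.equivS s s' ht hB hs ht2 hnt
  have hc : Subgroup.center G = ⊥ := (hs.eq_bot_or_eq_top_of_normal _ inferInstance).resolve_right fun h =>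
    hxy (Subgroup.mem_center_iff.1 (h ▸ Subgroup.mem_top y) x)
  have heq : Subgroup.center T = Subgroup.zpowers z := le_antisymm (fun t h => by
    have : e.symm (π t) ∈ Subgroup.center G := Subgroup.mem_center_iff.2 fun w => by
      obtain ⟨v, rfl⟩ := e.symm.surjective w
      obtain ⟨v, rfl⟩ := QuotientGroup.mk'_surjective _ v
      rw [← map_mul, ← map_mul, ← map_mul, ← map_mul, Subgroup.mem_center_iff.1 h v]
    rw [hc, Subgroup.mem_bot, map_eq_one_iff _ e.symm.injective] at this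
    exact (QuotientGroup.eq_one_iff _).1 this) hle
  refine ⟨heq, e.trans (QuotientGroup.quotientMulEquivOfEq heq.symm), fun w hw => ?_⟩
  rw [MulEquiv.trans_apply, he w hw, ← map_wp]; rfl

theorem mem_zpowers_of_eqv {T : Type*} [Group T] {g : ℕ → T} {eqv : List ℕ → List ℕ → Bool}
    (he : ∀ u w, eqv u w = true → wp g u = wp g w) {u : List ℕ} {R : List (List ℕ)} {ks : List ℕ}
    (h : lall2 (fun r k => eqv r (lpow u k)) R ks = true) : ∀ r ∈ R, wp g r ∈ Subgroup.zpowers (wp g u) :=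
  forall_of_lall2 h fun r k e => by rw [he _ _ e, wp_lpow]; exact Subgroup.pow_mem _ (Subgroup.mem_zpowers _) _

namespace J3
open Spor
def ixF9 : Ix F9 9 := ⟨(finProdFinEquiv : Fin 3 × Fin 3 ≃ Fin (3 * 3))⟩
def cw (n : ZMod 3) : ℕ := n.val + 1
def uA (Z w z : F9) : ℕ := if w = z then cw (Z.1 * z.1 + Z.2 * z.2) else 0
def uE (Z w z : F9) : ℕ := if w = z then cw ((Z.1 - z.1) ^ 2 + (Z.2 - z.2) ^ 2) else 0
def uL (Z z : F9) : ℕ :=
  if z = 0 then 1 else if F9.div Z z = F9.I - F9.one then 2 else if F9.div Z z = -F9.I - F9.one then 3 else 1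
def uD (Z w z : F9) : ℕ := if w = z + Z then uL Z z else 0
def uB (Z w z : F9) : ℕ := if w = F9.mul Z z then 1 else 0
def uC (Z w z : F9) : ℕ := if z = 0 then (if w = 0 then 1 else 0)
  else if w = -F9.div Z z ∨ w = F9.mul F9.I (F9.div Z z) ∨ w = -F9.mul F9.I (F9.div Z z) then 1 else 0
variable {F : Type u} [Field F] [CharP F 2] {ω : F}

theorem v0 : val2 2 ω 0 = 0 := by simp [val2]
theorem v1 : val2 2 ω 1 = 1 := by simp [val2]
theorem v2 : val2 2 ω 2 = ω := by simp [val2]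
theorem v3 (h : ω ^ 2 + ω + 1 = 0) : val2 2 ω 3 = ω ^ 2 := by
  have h2 : (2 : F) = 0 := CharTwo.two_eq_zero
  simp only [val2]; norm_num
  linear_combination (-1 : F) * h + (ω + 1) * h2
theorem vcw (h : ω ^ 2 + ω + 1 = 0) (n : ZMod 3) : omegaPow F ω n = val2 2 ω (cw n) := by
  have : ∀ n : ZMod 3, n.val = 0 ∨ n.val = 1 ∨ n.val = 2 := by decide
  rcases this n with e | e | e <;> simp only [omegaPow, cw, e]
  · simp [v1]
  · simp [v2]
  · exact (v3 h).symm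
theorem eA (h : ω ^ 2 + ω + 1 = 0) (Z : F9) : j3A F ω Z = Matrix.of fun i j => val2 2 ω (uA Z i j) := by
  ext i j; by_cases e : i = j
  · subst e; simp [j3A, uA, vcw h]
  · simp [j3A, uA, e, v0]
theorem eE (h : ω ^ 2 + ω + 1 = 0) (Z : F9) : j3E F ω Z = Matrix.of fun i j => val2 2 ω (uE Z i j) := by
  ext i j; by_cases e : i = j
  · subst e; simp [j3E, uE, vcw h]
  · simp [j3E, uE, e, v0]
theorem eD (h : ω ^ 2 + ω + 1 = 0) (Z : F9) : j3D F ω Z = Matrix.of fun i j => val2 2 ω (uD Z i j) := by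
  ext i j; simp only [j3D, uD, uL, j3Lam, Matrix.of_apply]
  split_ifs <;> simp only [v0, v1, v2, v3 h]
theorem eB (Z : F9) : j3B F Z = Matrix.of fun i j => val2 2 ω (uB Z i j) := by
  ext i j; simp only [j3B, uB, Matrix.of_apply]
  split_ifs <;> simp only [v0, v1]
theorem eC (Z : F9) : j3C F Z = Matrix.of fun i j => val2 2 ω (uC Z i j) := by
  ext i j; simp only [j3C, uC, Matrix.of_apply]
  split_ifs <;> simp only [v0, v1]

def uAll : List (F9 → F9 → ℕ) :=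
  let zs : List F9 := [(0,0),(0,1),(0,2),(1,0),(1,1),(1,2),(2,0),(2,1),(2,2)]
  zs.map uA ++ zs.map uE ++ zs.map uD ++ zs.tail.map uB ++ zs.tail.map uC

theorem mem_gens (h : ω ^ 2 + ω + 1 = 0) (M : Matrix F9 F9 F) :
    M ∈ j3Gens F ω ↔ ∃ u ∈ uAll, M = Matrix.of fun i j => val2 2 ω (u i j) := by
  have a : ∀ Z : F9, Z ∈ ([(0,0),(0,1),(0,2),(1,0),(1,1),(1,2),(2,0),(2,1),(2,2)] : List F9) := by decide
  have b : ∀ Z : F9, Z ∈ ([(0,0),(0,1),(0,2),(1,0),(1,1),(1,2),(2,0),(2,1),(2,2)] : List F9).tail ↔ Z ≠ 0 := by decide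
  simp only [j3Gens, uAll, Set.mem_union, Set.mem_range, Set.mem_setOf_eq, List.mem_append, List.mem_map, a, b,
    true_and, eA h, eE h, eD h, eB (ω := ω), eC (ω := ω)]
  constructor
  · rintro ((((⟨Z, e⟩ | ⟨Z, e⟩) | ⟨Z, e⟩) | ⟨Z, h0, e⟩) | ⟨Z, h0, e⟩)
    exacts [⟨_, .inl (.inl (.inl (.inl ⟨Z, rfl⟩))), e.symm⟩, ⟨_, .inl (.inl (.inl (.inr ⟨Z, rfl⟩))), e.symm⟩,
      ⟨_, .inl (.inl (.inr ⟨Z, rfl⟩)), e.symm⟩, ⟨_, .inl (.inr ⟨Z, h0, rfl⟩), e⟩, ⟨_, .inr ⟨Z, h0, rfl⟩, e⟩]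
  · rintro ⟨_, ((((⟨Z, rfl⟩ | ⟨Z, rfl⟩) | ⟨Z, rfl⟩) | ⟨Z, h0, rfl⟩) | ⟨Z, h0, rfl⟩), e⟩
    exacts [.inl (.inl (.inl (.inl ⟨Z, e.symm⟩))), .inl (.inl (.inl (.inr ⟨Z, e.symm⟩))),
      .inl (.inl (.inr ⟨Z, e.symm⟩)), .inl (.inr ⟨Z, h0, e⟩), .inr ⟨Z, h0, e⟩]

abbrev rho (F : Type u) [Field F] (ω : F) : threeJ3 F ω →* Matrix F9 F9 F :=
  (Units.coeHom _).comp (threeJ3 F ω).subtype
theorem rho_inj : Function.Injective (rho F ω) := Units.val_injective.comp Subtype.val_injective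

def agree (X : List ℕ) (u : F9 → F9 → ℕ) : Prop := ∀ i j, ent 4 X (ixF9.ix i) (ixF9.ix j) = u i j
noncomputable instance instDecAgree (X : List ℕ) (u : F9 → F9 → ℕ) : Decidable (agree X u) := by unfold agree; infer_instance

theorem f2l {α β : Type} {r : α → β → Prop} {l : List α} {m : List β} (h : List.Forall₂ r l m) :
    (∀ a ∈ l, ∃ b ∈ m, r a b) ∧ ∀ b ∈ m, ∃ a ∈ l, r a b := by
  induction h with
  | nil => simp
  | cons h _ ih =>
    simp only [List.forall_mem_cons]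
    exact ⟨⟨⟨_, List.mem_cons_self, h⟩, fun a ha => (ih.1 a ha).imp fun _ x => ⟨List.mem_cons_of_mem _ x.1, x.2⟩⟩,
      ⟨_, List.mem_cons_self, h⟩, fun a ha => (ih.2 a ha).imp fun _ x => ⟨List.mem_cons_of_mem _ x.1, x.2⟩⟩

theorem base (h : ω ^ 2 + ω + 1 = 0) {ml inv : List (List ℕ)}
    (hc : band (lall (fun X => Nat.ble (llen X) 9) ml) (lall2 ((cd2 2 1 1).invC 9) ml inv) = true)
    (ha : ∀ X ∈ ml, ∃ u ∈ uAll, agree X u) :
    ∃ g, MRep ixF9 (cd2 2 1 1) (val2 2 ω) (rho F ω) g (lk (idm 4 9) ml) := by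
  rw [band_eq] at hc
  refine exists_mrep (sem4 h) rho_inj hc.1 fun X hX => ?_
  obtain ⟨g, hg⟩ := forall_of_lall2 (P := fun X => ∃ g : GL F9 F, (g : Matrix F9 F9 F) = toMat ixF9 4 (val2 2 ω) X) hc.2
    (fun _ _ e => (sem4 h).invC e) X hX
  obtain ⟨u, hu, e⟩ := ha X hX
  exact ⟨⟨g, Subgroup.subset_closure ((mem_gens h _).2 ⟨u, hu, hg.trans (toMat_of (c := cd2 2 1 1) u e)⟩)⟩, hg⟩

theorem top (h : ω ^ 2 + ω + 1 = 0) {g : ℕ → threeJ3 F ω} {ms : ℕ → List ℕ}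
    (hg : MRep ixF9 (cd2 2 1 1) (val2 2 ω) (rho F ω) g ms) {ml ws : List (List ℕ)} {kl : List ℕ}
    (ha : ∀ u ∈ uAll, ∃ X ∈ ml, agree X u)
    (hc : lall2 (fun X w => band (wok (tb (mkM kl)) w) ((cd2 2 1 1).isM 9 ms w X)) ml ws = true) :
    cl g (lw kl) = ⊤ := by
  have key : ∀ X ∈ ml, ∃ t ∈ cl g (lw kl), rho F ω t = toMat ixF9 4 (val2 2 ω) X :=
    forall_of_lall2 hc fun X w e => by
      rw [band_eq] at e
      exact ⟨_, wp_mem_lw e.1, hg.isM e.2⟩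
  have : threeJ3 F ω ≤ (cl g (lw kl)).map (threeJ3 F ω).subtype := (Subgroup.closure_le _).2 fun M hM => by
    obtain ⟨u, hu, e⟩ := (mem_gens h _).1 hM
    obtain ⟨X, hX, a⟩ := ha u hu
    obtain ⟨t, ht, e'⟩ := key X hX
    exact ⟨t, ht, Units.ext (e'.trans ((toMat_of (c := cd2 2 1 1) u a).trans e.symm))⟩
  refine eq_top_iff.2 fun t _ => ?_
  obtain ⟨t', h1, h2⟩ := this t.2
  exact (Subtype.ext h2 : t' = t) ▸ h1

end J3
end Cfsg.Agent.H6
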