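import Cfsg.Agent.H6.J3B7
set_option maxRecDepth 100000
set_option Elab.async false
namespace Cfsg.Agent.H6.J3
open Cfsg.Agent.H6
universe u

theorem cv677 : finG m641ok 4 * wp (finG m641ok) [7,8,6,5,9,7,9,6,8,4,7,8,6,5,9,7,9,6,8,4,7,8,6,5,9,7,9,6,8,4,7,8,6,5,9,7,9,6,8,4] = wp (finG m641ok) [7,8,6,5,9,7,9,6,8,4,7,8,6,5,9,7,9,6,8,4,7,8,6,5,9,7,9,6,8,4,7,8,6,5,9,7,9,6,8,4] * finG m641ok 4 := comm_of_eqv' (eqv_of_faith (finModel m641ok) (faith_fin 18468) 15) (us := [[7,8,6,5,9,7,9,6,8,4,7,8,6,5,9,7,9,6,8,4,7,8,6,5,9,7,9,6,8,4,7,8,6,5,9,7,9,6,8,4]]) (kl := [4]) (by decide +kernel) _ (List.mem_singleton_self _) _ (List.mem_singleton_self _)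

end Cfsg.Agent.H6.J3
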