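import Cfsg.Agent.H6.J3B8
import Cfsg.Agent.H6.J3B9
import Cfsg.Agent.H6.J3B10
set_option maxRecDepth 100000
set_option Elab.async false
namespace Cfsg.Agent.H6.J3
open Cfsg.Agent.H6
universe u

theorem rl680 : ∀ r ∈ us642, wp gJ r = 1 := rels_of_eqv heqJ (by decide +kernel)
theorem cov : HasCov GJ 3 := HasCov.of satJ m641s0 bd442 (le_of_eq_of_le (by norm_num) cardJ.ge) (top_of_card cardJ lb599) (cs := [([7,8,6],[5,9],4)]) (us := us642) (by decide +kernel) (by decide +kernel) rl680 (List.forall_mem_cons.2 ⟨(List.forall_mem_cons.2 ⟨cv675, (List.forall_mem_cons.2 ⟨(comm_io m641s0 (l := 0) rfl cv675), (List.forall_mem_cons.2 ⟨cv676, (List.forall_mem_cons.2 ⟨(comm_io m641s0 (l := 2) rfl cv676), (List.forall_mem_cons.2 ⟨cv677, (List.forall_mem_cons.2 ⟨(comm_io m641s0 (l := 4) rfl cv677), (List.forall_mem_cons.2 ⟨cv678, (List.forall_mem_cons.2 ⟨(comm_io m641s0 (l := 6) rfl cv678), (List.forall_mem_cons.2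 ⟨cv679, (List.forall_mem_cons.2 ⟨(comm_io m641s0 (l := 8) rfl cv679), (by simp)⟩)⟩)⟩)⟩)⟩)⟩)⟩)⟩)⟩)⟩), (by simp)⟩) cv674 lb649
theorem schur : HasCyclicSchurMultiplier GJ 3 := hasCyc_of (a := 0) (b := 1) (pm2.mono (by norm_num)) (pm3.mono (by norm_num)) (PM.ge5 cardJ (fl := [2,2,2,2,2,2,2,3,3,3,3,3,5,17,19]) (l := []) (by simp) (by decide +kernel)) cov (by norm_num)

end Cfsg.Agent.H6.J3
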