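import Cfsg.Agent.H6.J3B5
set_option maxRecDepth 100000
set_option Elab.async false
namespace Cfsg.Agent.H6.J3
open Cfsg.Agent.H6
universe u

theorem cv650 : wp (finG m641ok) [0,0,0,0,0] ∈ cl (finG m641ok) us642 := mem_cl_of_eqv (eqv_of_faith (finModel m641ok) (faith_fin 18468) 15) (R := [[0,0,0,0,0]]) (sl := [[]]) (by decide +kernel) _ (List.mem_singleton_self _)
theorem cv651 : wp (finG m641ok) [2,2,2] ∈ cl (finG m641ok) us642 := mem_cl_of_eqv (eqv_of_faith (finModel m641ok) (faith_fin 18468) 15) (R := [[2,2,2]]) (sl := [[]]) (by decide +kernel) _ (List.mem_singleton_self _)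
theorem cv652 : wp (finG m641ok) [3,0,2,1] ∈ cl (finG m641ok) us642 := mem_cl_of_eqv (eqv_of_faith (finModel m641ok) (faith_fin 18468) 15) (R := [[3,0,2,1]]) (sl := [[]]) (by decide +kernel) _ (List.mem_singleton_self _)
theorem cv653 : wp (finG m641ok) [4,4] ∈ cl (finG m641ok) us642 := mem_cl_of_eqv (eqv_of_faith (finModel m641ok) (faith_fin 18468) 15) (R := [[4,4]]) (sl := [[]]) (by decide +kernel) _ (List.mem_singleton_self _)
theorem cv654 : wp (finG m641ok) [4,2,4,2,4,2] ∈ cl (finG m641ok) us642 := mem_cl_of_eqv (eqv_of_faith (finModel m641ok) (faith_fin 18468) 15) (R := [[4,2,4,2,4,2]]) (sl := [[]]) (by decide +kernel) _ (List.mem_singleton_self _)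
theorem cv655 : wp (finG m641ok) [5,0,0,2,4,0,4,0,0,3] ∈ cl (finG m641ok) us642 := mem_cl_of_eqv (eqv_of_faith (finModel m641ok) (faith_fin 18468) 15) (R := [[5,0,0,2,4,0,4,0,0,3]]) (sl := [[]]) (by decide +kernel) _ (List.mem_singleton_self _)
theorem cv656 : wp (finG m641ok) [6,6] ∈ cl (finG m641ok) us642 := mem_cl_of_eqv (eqv_of_faith (finModel m641ok) (faith_fin 18468) 15) (R := [[6,6]]) (sl := [[]]) (by decide +kernel) _ (List.mem_singleton_self _)
theorem cv657 : wp (finG m641ok) [6,2,4,6,2,4,6,2,4] ∈ cl (finG m641ok) us642 := mem_cl_of_eqv (eqv_of_faith (finModel m641ok) (faith_fin 18468) 15) (R := [[6,2,4,6,2,4,6,2,4]]) (sl := [[]]) (by decide +kernel) _ (List.mem_singleton_self _)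
theorem cv658 : wp (finG m641ok) [7,0,6,0] ∈ cl (finG m641ok) us642 := mem_cl_of_eqv (eqv_of_faith (finModel m641ok) (faith_fin 18468) 15) (R := [[7,0,6,0]]) (sl := [[]]) (by decide +kernel) _ (List.mem_singleton_self _)
theorem cv659 : wp (finG m641ok) [7,2,6,2] ∈ cl (finG m641ok) us642 := mem_cl_of_eqv (eqv_of_faith (finModel m641ok) (faith_fin 18468) 15) (R := [[7,2,6,2]]) (sl := [[]]) (by decide +kernel) _ (List.mem_singleton_self _)
theorem cv660 : wp (finG m641ok) [8,8,8] ∈ cl (finG m641ok) us642 := mem_cl_of_eqv (eqv_of_faith (finModel m641ok) (faith_fin 18468) 15) (R := [[8,8,8]]) (sl := [[]]) (by decide +kernel) _ (List.mem_singleton_self _)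
theorem cv661 : wp (finG m641ok) [9,2,8,3] ∈ cl (finG m641ok) us642 := mem_cl_of_eqv (eqv_of_faith (finModel m641ok) (faith_fin 18468) 15) (R := [[9,2,8,3]]) (sl := [[]]) (by decide +kernel) _ (List.mem_singleton_self _)
theorem cv662 : wp (finG m641ok) [9,4,8,2,4,3] ∈ cl (finG m641ok) us642 := mem_cl_of_eqv (eqv_of_faith (finModel m641ok) (faith_fin 18468) 15) (R := [[9,4,8,2,4,3]]) (sl := [[]]) (by decide +kernel) _ (List.mem_singleton_self _)
theorem cv663 : wp (finG m641ok) [9,1,5,0,8,1,5,0] ∈ cl (finG m641ok) us642 := mem_cl_of_eqv (eqv_of_faith (finModel m641ok) (faith_fin 18468) 15) (R := [[9,1,5,0,8,1,5,0]]) (sl := [[]]) (by decide +kernel) _ (List.mem_singleton_self _)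
theorem cv664 : wp (finG m641ok) [9,0,4,1,8,0,5,1,4] ∈ cl (finG m641ok) us642 := mem_cl_of_eqv (eqv_of_faith (finModel m641ok) (faith_fin 18468) 15) (R := [[9,0,4,1,8,0,5,1,4]]) (sl := [[]]) (by decide +kernel) _ (List.mem_singleton_self _)
theorem cv665 : wp (finG m641ok) [8,0,0,8,0,0,2] ∈ cl (finG m641ok) us642 := mem_cl_of_eqv (eqv_of_faith (finModel m641ok) (faith_fin 18468) 15) (R := [[8,0,0,8,0,0,2]]) (sl := [[]]) (by decide +kernel) _ (List.mem_singleton_self _)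
theorem cv666 : wp (finG m641ok) [8,1,7,8,1,7,8,6,9,1,8,2,6] ∈ cl (finG m641ok) us642 := mem_cl_of_eqv (eqv_of_faith (finModel m641ok) (faith_fin 18468) 15) (R := [[8,1,7,8,1,7,8,6,9,1,8,2,6]]) (sl := [[]]) (by decide +kernel) _ (List.mem_singleton_self _)
theorem cv667 : wp (finG m641ok) [9,1,8,7,8,6,0,8,6,0,8,6,2] ∈ cl (finG m641ok) us642 := mem_cl_of_eqv (eqv_of_faith (finModel m641ok) (faith_fin 18468) 15) (R := [[9,1,8,7,8,6,0,8,6,0,8,6,2]]) (sl := [[]]) (by decide +kernel) _ (List.mem_singleton_self _)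
theorem cv668 : wp (finG m641ok) [8,7,5,1,9,7,8,7,1,1,9,6,8,0,4,6,9,4] ∈ cl (finG m641ok) us642 := mem_cl_of_eqv (eqv_of_faith (finModel m641ok) (faith_fin 18468) 15) (R := [[8,7,5,1,9,7,8,7,1,1,9,6,8,0,4,6,9,4]]) (sl := [[]]) (by decide +kernel) _ (List.mem_singleton_self _)
theorem cv669 : wp (finG m641ok) [8,7,5,1,9,7,8,0,6,1,9,6,8,0,4,6,9,5] ∈ cl (finG m641ok) us642 := mem_cl_of_eqv (eqv_of_faith (finModel m641ok) (faith_fin 18468) 15) (R := [[8,7,5,1,9,7,8,0,6,1,9,6,8,0,4,6,9,5]]) (sl := [[]]) (by decide +kernel) _ (List.mem_singleton_self _)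
theorem cv670 : wp (finG m641ok) [9,7,5,0,5,9,7,9,6,8,6,8,4,1,4,6,8,0,5,1] ∈ cl (finG m641ok) us642 := mem_cl_of_eqv (eqv_of_faith (finModel m641ok) (faith_fin 18468) 15) (R := [[9,7,5,0,5,9,7,9,6,8,6,8,4,1,4,6,8,0,5,1]]) (sl := [[]]) (by decide +kernel) _ (List.mem_singleton_self _)
theorem cv671 : wp (finG m641ok) [9,1,7,5,9,1,7,8,7,9,6,0,8,4,6,0,8,2,1,4,3,0] ∈ cl (finG m641ok) us642 := mem_cl_of_eqv (eqv_of_faith (finModel m641ok) (faith_fin 18468) 15) (R := [[9,1,7,5,9,1,7,8,7,9,6,0,8,4,6,0,8,2,1,4,3,0]]) (sl := [[]]) (by decide +kernel) _ (List.mem_singleton_self _)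
theorem cv672 : wp (finG m641ok) [8,1,7,5,8,7,8,7,3,0,9,6,9,4,6,0,9,5,2,0,4,1,5,3] ∈ cl (finG m641ok) us642 := mem_cl_of_eqv (eqv_of_faith (finModel m641ok) (faith_fin 18468) 15) (R := [[8,1,7,5,8,7,8,7,3,0,9,6,9,4,6,0,9,5,2,0,4,1,5,3]]) (sl := [[]]) (by decide +kernel) _ (List.mem_singleton_self _)
theorem cv673 : wp (finG m641ok) [9,7,5,0,9,7,5,7,5,1,5,9,6,4,1,8,6,0,8,0,5,6,5,1,1] ∈ cl (finG m641ok) us642 := mem_cl_of_eqv (eqv_of_faith (finModel m641ok) (faith_fin 18468) 15) (R := [[9,7,5,0,9,7,5,7,5,1,5,9,6,4,1,8,6,0,8,0,5,6,5,1,1]]) (sl := [[0]]) (by decide +kernel) _ (List.mem_singleton_self _)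

end Cfsg.Agent.H6.J3
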