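import Cfsg.Agent.H6.J3B6
set_option maxRecDepth 100000
set_option Elab.async false
namespace Cfsg.Agent.H6.J3
open Cfsg.Agent.H6
universe u

theorem cv674 : ∀ r ∈ C122, wp (finG m641ok) r ∈ cl (finG m641ok) us642 := (List.forall_mem_cons.2 ⟨cv650, (List.forall_mem_cons.2 ⟨cv651, (List.forall_mem_cons.2 ⟨cv652, (List.forall_mem_cons.2 ⟨cv653, (List.forall_mem_cons.2 ⟨cv654, (List.forall_mem_cons.2 ⟨cv655, (List.forall_mem_cons.2 ⟨cv656, (List.forall_mem_cons.2 ⟨cv657, (List.forall_mem_cons.2 ⟨cv658, (List.forall_mem_cons.2 ⟨cv659, (List.forall_mem_cons.2 ⟨cv660, (List.forall_mem_cons.2 ⟨cv661, (List.forall_mem_cons.2 ⟨cv662, (List.forall_mem_cons.2 ⟨cv663, (List.forall_mem_cons.2 ⟨cv664, (List.forall_mem_cons.2 ⟨cv665, (List.forall_mem_cons.2 ⟨cv666, (List.forall_mem_cons.2 ⟨cv667, (List.forall_mem_cons.2 ⟨cv668,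 (List.forall_mem_cons.2 ⟨cv669, (List.forall_mem_cons.2 ⟨cv670, (List.forall_mem_cons.2 ⟨cv671, (List.forall_mem_cons.2 ⟨cv672, (List.forall_mem_cons.2 ⟨cv673, (by simp)⟩)⟩)⟩)⟩)⟩)⟩)⟩)⟩)⟩)⟩)⟩)⟩)⟩)⟩)⟩)⟩)⟩)⟩)⟩)⟩)⟩)⟩)⟩)⟩)

end Cfsg.Agent.H6.J3
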