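import Cfsg.Agent.H6.J3C2
set_option maxRecDepth 100000
set_option Elab.async false
namespace Cfsg.Agent.H6.J3
open Cfsg.Agent.H6
universe u

noncomputable def cm70015T : BT := (BT.br [[0]] (BT.kid 0 [] (BT.frc 0 [0] [] (BT.frc 0 [0,0] [] BT.live)) (BT.kid 1174 [1] (BT.out 0 [0]) (BT.kid 2294 [2] (BT.out 0 [0]) (BT.kid 2515 [0,2] (BT.out 0 [0]) (BT.kid 5243 [0,3] (BT.out 0 [0]) (BT.kid 667 [0,4] (BT.out 0 [0]) (BT.kid 6126 [0,5] (BT.out 0 [0]) (BT.kid 1382 [0,6] (BT.out 0 [0]) (BT.kid 3882 [1,1] (BT.out 0 [0]) (BT.kid 2191 [1,2] (BT.out 0 [0]) (BT.kid 889 [1,3] (BT.out 0 [0]) (BT.kid 5435 [1,4] (BT.out 0 [0]) (BT.kid 5148 [1,5] (BT.out 0 [0]) (BT.kid 3422 [1,6] (BT.out 0 [0]) (BT.kid 1634 [2,1] (BT.out 0 [0]) (BT.kid 1601 [2,3] (BT.out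 0 [0]) (BT.kid 3724 [2,4] (BT.out 0 [0]) (BT.kid 4549 [2,5] (BT.out 0 [0]) (BT.kid 2173 [2,6] (BT.out 0 [0]) (BT.kid 1439 [0,0,2] (BT.out 0 [0]) (BT.kid 5168 [0,0,3] (BT.out 0 [0]) (BT.kid 3837 [0,0,4] (BT.out 0 [0]) (BT.kid 4049 [0,0,5] (BT.out 0 [0]) (BT.kid 5155 [0,0,6] (BT.out 0 [0]) (BT.kid 1283 [0,1,2] (BT.out 0 [0]) (BT.kid 3037 [0,1,4] (BT.out 0 [0]) (BT.kid 2434 [0,1,5] (BT.out 0 [0]) (BT.kid 305 [0,1,6] (BT.out 0 [0]) (BT.kid 2133 [0,2,1] (BT.out 0 [0]) (BT.kid 3240 [0,2,3] (BT.out 0 [0]) (BT.kid 2318 [0,2,4] (BT.out 0 [0]) (BT.kid 2983 [0,2,5] (BT.out 0 [0]) (BT.kid 4114 [0,2,6] (BT.out 0 [0]) (BT.kid 1024 [0,3,1] (BT.out 0 [0]) (BT.kid 4304 [0,3,2] (BT.out 0 [0]) (BT.kid 2986 [0,3,4] (BT.out 0 [0]) (BT.kid 2396 [0,3,6] (BT.out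 0 [0]) (BT.kid 2755 [0,4,1] (BT.out 0 [0]) (BT.kid 3709 [0,4,2] (BT.out 0 [0]) (BT.kid 3943 [0,4,3] (BT.out 0 [0]) (BT.kid 3871 [0,4,4] (BT.out 0 [0]) (BT.kid 5339 [0,4,5] (BT.out 0 [0]) (BT.kid 4809 [0,4,6] (BT.out 0 [0]) (BT.kid 5991 [0,5,5] (BT.out 0 [0]) (BT.kid 3523 [0,5,6] (BT.out 0 [0]) (BT.kid 991 [0,6,1] (BT.out 0 [0]) (BT.kid 1036 [0,6,2] (BT.out 0 [0]) (BT.kid 175 [0,6,3] (BT.out 0 [0]) (BT.kid 1639 [0,6,4] (BT.out 0 [0]) (BT.kid 4038 [0,6,6] (BT.out 0 [0]) (BT.kid 1310 [1,0,2] (BT.out 0 [0]) (BT.kid 1516 [1,0,3] (BT.out 0 [0]) (BT.kid 368 [1,0,5] (BT.out 0 [0]) (BT.kid 2978 [1,0,6] (BT.out 0 [0]) (BT.kid 5161 [1,1,1] (BT.out 0 [0]) (BT.kid 3761 [1,1,2] (BT.out 0 [0]) (BT.kid 2628 [1,1,3] (BT.out 0 [0]) (BT.kid 2134 [1,1,4]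 (BT.out 0 [0]) (BT.kid 5506 [1,1,5] (BT.out 0 [0]) (BT.kid 1082 [1,1,6] (BT.out 0 [0]) (BT.kid 5463 [1,2,3] (BT.out 0 [0]) (BT.kid 5451 [1,2,4] (BT.out 0 [0]) (BT.kid 2994 [1,2,5] (BT.out 0 [0]) (BT.kid 4326 [1,2,6] (BT.out 0 [0]) (BT.kid 4737 [1,3,1] (BT.out 0 [0]) (BT.kid 1883 [1,3,2] (BT.out 0 [0]) (BT.kid 3250 [1,3,3] (BT.out 0 [0]) (BT.kid 4335 [1,3,4] (BT.out 0 [0]) (BT.kid 4090 [1,3,5] (BT.out 0 [0]) (BT.kid 156 [1,3,6] (BT.out 0 [0]) (BT.kid 2595 [1,4,1] (BT.out 0 [0]) (BT.kid 5010 [1,4,2] (BT.out 0 [0]) (BT.kid 1088 [1,4,3] (BT.out 0 [0]) (BT.kid 252 [1,4,5] (BT.frc 0 [0] [3,4,6,5] (BT.out 0 [0,0])) (BT.kid 3021 [1,4,6] (BT.out 0 [0]) (BT.kid 262 [1,5,1] (BT.out 0 [0]) (BT.kid 5725 [1,5,2] (BT.out 0 [0]) (BT.kid 1118 [1,5,3] (BT.out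 0 [0]) (BT.kid 5955 [1,5,4] (BT.out 0 [0]) (BT.kid 1746 [1,5,5] (BT.out 0 [0]) (BT.kid 4106 [1,5,6] (BT.out 0 [0]) (BT.kid 4592 [1,6,2] (BT.out 0 [0]) (BT.kid 935 [1,6,3] (BT.out 0 [0]) (BT.kid 4781 [1,6,4] (BT.out 0 [0]) (BT.kid 3713 [1,6,5] (BT.frc 0 [0] [4,5] (BT.out 0 [0,0])) (BT.kid 785 [2,0,2] (BT.out 0 [0]) (BT.kid 5014 [2,0,5] (BT.out 0 [0]) (BT.kid 218 [2,0,6] (BT.out 0 [0]) (BT.kid 1701 [2,1,1] (BT.out 0 [0]) (BT.kid 2886 [2,1,2] (BT.out 0 [0]) (BT.kid 6022 [2,1,3] (BT.out 0 [0]) (BT.kid 1423 [2,1,5] (BT.out 0 [0]) (BT.kid 4084 [2,1,6] (BT.out 0 [0]) (BT.kid 64 [2,3,1] (BT.out 0 [0]) (BT.kid 1917 [2,3,2] (BT.out 0 [0]) (BT.kid 6034 [2,3,3] (BT.out 0 [0]) (BT.kid 2314 [2,3,6] (BT.out 0 [0]) (BT.kid 5021 [2,4,4] (BT.out 0 [0])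 (BT.kid 5020 [2,5,2] (BT.out 0 [0]) (BT.kid 4700 [2,5,4] (BT.out 0 [0]) (BT.kid 5933 [2,5,5] (BT.out 0 [0]) (BT.kid 3670 [2,5,6] (BT.out 0 [0]) (BT.kid 1357 [2,6,1] (BT.out 0 [0]) (BT.kid 2210 [2,6,2] (BT.out 0 [0]) (BT.kid 2807 [2,6,4] (BT.out 0 [0]) (BT.kid 230 [2,6,5] (BT.out 0 [0]) (BT.kid 1867 [2,6,6] (BT.out 0 [0]) (BT.kid 3227 [0,0,0,2] (BT.out 0 [0]) (BT.kid 3793 [0,0,0,3] (BT.out 0 [0]) (BT.kid 1529 [0,0,0,4] (BT.out 0 [0]) (BT.kid 564 [0,0,0,6] (BT.out 0 [0]) (BT.kid 2284 [0,0,1,2] (BT.out 0 [0]) (BT.kid 1874 [0,0,1,3] (BT.out 0 [0]) (BT.kid 3010 [0,0,1,6] (BT.out 0 [0]) (BT.kid 5682 [0,0,2,1] (BT.out 0 [0]) (BT.kid 269 [0,0,2,3] (BT.out 0 [0]) (BT.kid 4012 [0,0,2,6] (BT.out 0 [0]) (BT.kid 5063 [0,0,3,1] (BT.out 0 [0]) (BT.kid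 1080 [0,0,3,4] (BT.out 0 [0]) (BT.kid 2768 [0,0,3,6] (BT.out 0 [0]) (BT.kid 5580 [0,0,4,1] (BT.out 0 [0]) (BT.kid 4003 [0,0,4,2] (BT.out 0 [0]) (BT.kid 2749 [0,0,4,5] (BT.out 0 [0]) (BT.kid 1189 [0,0,4,6] (BT.out 0 [0]) (BT.kid 5707 [0,0,5,3] (BT.out 0 [0]) (BT.kid 2865 [0,0,5,4] (BT.out 0 [0]) (BT.kid 3426 [0,0,5,6] (BT.out 0 [0]) (BT.kid 2938 [0,0,6,1] (BT.out 0 [0]) (BT.kid 4733 [0,0,6,5] (BT.out 0 [0]) (BT.kid 6040 [0,0,6,6] (BT.out 0 [0]) (BT.kid 5062 [0,1,0,5] (BT.out 0 [0]) (BT.kid 1115 [0,1,1,2] (BT.out 0 [0]) (BT.kid 3114 [0,1,1,3] (BT.out 0 [0]) (BT.kid 774 [0,1,1,4] (BT.out 0 [0]) (BT.kid 775 [0,1,1,5] (BT.out 0 [0]) (BT.kid 2050 [0,1,1,6] (BT.out 0 [0]) (BT.kid 852 [0,1,2,3] (BT.out 0 [0]) (BT.kid 4874 [0,1,2,4] (BT.out 0 [0])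 (BT.kid 4328 [0,1,2,6] (BT.out 0 [0]) (BT.kid 2631 [0,1,3,2] (BT.out 0 [0]) (BT.kid 1342 [0,1,3,6] (BT.out 0 [0]) (BT.kid 176 [0,1,4,4] (BT.out 0 [0]) (BT.kid 5665 [0,1,4,5] (BT.out 0 [0]) (BT.kid 6037 [0,1,4,6] (BT.out 0 [0]) (BT.kid 669 [0,1,5,1] (BT.out 0 [0]) (BT.kid 1745 [0,1,5,2] (BT.out 0 [0]) (BT.kid 932 [0,1,5,3] (BT.out 0 [0]) (BT.kid 3424 [0,1,5,5] (BT.out 0 [0]) (BT.kid 255 [0,1,5,6] (BT.out 0 [0]) (BT.kid 2556 [0,1,6,1] (BT.out 0 [0]) (BT.kid 28 [0,1,6,4] (BT.out 0 [0]) (BT.kid 1579 [0,2,0,2] (BT.out 0 [0]) (BT.kid 1323 [0,2,0,5] (BT.out 0 [0]) (BT.kid 127 [0,2,0,6] (BT.out 0 [0]) (BT.kid 4098 [0,2,1,3] (BT.out 0 [0]) (BT.kid 1459 [0,2,1,4] (BT.out 0 [0]) (BT.kid 1016 [0,2,1,6] (BT.out 0 [0]) (BT.kid 3781 [0,2,3,1] (BT.out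 0 [0]) (BT.kid 2523 [0,2,3,4] (BT.out 0 [0]) (BT.kid 5043 [0,2,3,5] (BT.out 0 [0]) (BT.kid 3617 [0,2,3,6] (BT.out 0 [0]) (BT.kid 1793 [0,2,4,4] (BT.out 0 [0]) (BT.kid 1824 [0,2,4,6] (BT.out 0 [0]) (BT.kid 1845 [0,2,5,6] (BT.out 0 [0]) (BT.kid 5925 [0,2,6,2] (BT.out 0 [0]) (BT.kid 5894 [0,2,6,4] (BT.out 0 [0]) (BT.kid 4390 [0,2,6,5] (BT.out 0 [0]) (BT.kid 1476 [0,2,6,6] (BT.out 0 [0]) (BT.kid 1392 [0,3,0,4] (BT.out 0 [0]) (BT.kid 6134 [0,3,0,6] (BT.out 0 [0]) (BT.kid 5487 [0,3,1,1] (BT.out 0 [0]) (BT.kid 69 [0,3,1,2] (BT.out 0 [0]) (BT.kid 931 [0,3,2,3] (BT.out 0 [0]) (BT.kid 4046 [0,3,2,4] (BT.out 0 [0]) (BT.kid 1561 [0,3,3,2] (BT.out 0 [0]) (BT.kid 4181 [0,3,3,3] (BT.out 0 [0]) (BT.kid 1394 [0,3,3,6] (BT.out 0 [0]) (BT.kid 771 [0,3,4,1]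 (BT.out 0 [0]) (BT.kid 3663 [0,3,4,2] (BT.out 0 [0]) (BT.kid 1453 [0,3,4,6] (BT.out 0 [0]) (BT.kid 3978 [0,3,6,1] (BT.out 0 [0]) (BT.kid 1029 [0,3,6,2] (BT.out 0 [0]) (BT.kid 1511 [0,3,6,3] (BT.out 0 [0]) (BT.kid 1607 [0,3,6,6] (BT.out 0 [0]) (BT.kid 1205 [0,4,0,2] (BT.out 0 [0]) (BT.kid 1138 [0,4,0,5] (BT.out 0 [0]) (BT.kid 149 [0,4,1,1] (BT.out 0 [0]) (BT.kid 4037 [0,4,1,2] (BT.out 0 [0]) (BT.kid 1376 [0,4,1,3] (BT.out 0 [0]) (BT.kid 5075 [0,4,1,4] (BT.out 0 [0]) (BT.kid 1656 [0,4,2,1] (BT.out 0 [0]) (BT.kid 1542 [0,4,2,3] (BT.out 0 [0]) (BT.kid 5241 [0,4,2,6] (BT.out 0 [0]) (BT.kid 1987 [0,4,3,2] (BT.out 0 [0]) (BT.kid 4191 [0,4,3,4] (BT.out 0 [0]) (BT.kid 3635 [0,4,4,1] (BT.out 0 [0]) (BT.kid 3260 [0,4,4,2] (BT.out 0 [0]) (BT.kid 5646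 [0,4,4,4] (BT.out 0 [0]) (BT.kid 4517 [0,4,5,1] (BT.out 0 [0]) (BT.kid 3944 [0,4,5,5] (BT.out 0 [0]) (BT.kid 1260 [0,5,0,5] (BT.out 0 [0]) (BT.kid 5102 [0,5,1,5] (BT.out 0 [0]) (BT.kid 1539 [0,5,2,4] (BT.out 0 [0]) (BT.kid 4730 [0,5,2,6] (BT.out 0 [0]) (BT.kid 1805 [0,5,4,2] (BT.frc 0 [0] [3,3,6] (BT.out 0 [0,0])) (BT.kid 1380 [0,5,5,1] (BT.out 0 [0]) (BT.kid 4133 [0,5,6,6] (BT.out 0 [0]) (BT.kid 4917 [0,6,0,2] (BT.out 0 [0]) (BT.kid 3459 [0,6,0,3] (BT.out 0 [0]) (BT.kid 4264 [0,6,0,4] (BT.out 0 [0]) (BT.kid 3247 [0,6,1,3] (BT.out 0 [0]) (BT.kid 2875 [0,6,1,5] (BT.out 0 [0]) (BT.kid 3819 [0,6,1,6] (BT.out 0 [0]) (BT.kid 2476 [0,6,2,3] (BT.out 0 [0]) (BT.kid 2887 [0,6,3,1] (BT.out 0 [0]) (BT.kid 1964 [0,6,4,4] (BT.out 0 [0]) (BT.kid 4318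 [0,6,5,4] (BT.out 0 [0]) (BT.kid 3812 [1,0,0,6] (BT.out 0 [0]) (BT.kid 2973 [1,0,1,2] (BT.out 0 [0]) (BT.kid 2689 [1,0,2,1] (BT.out 0 [0]) (BT.kid 5090 [1,0,2,5] (BT.out 0 [0]) (BT.kid 2776 [1,0,3,4] (BT.out 0 [0]) (BT.kid 2860 [1,0,4,5] (BT.out 0 [0]) (BT.kid 132 [1,0,4,6] (BT.out 0 [0]) (BT.kid 3737 [1,0,5,1] (BT.out 0 [0]) (BT.kid 350 [1,0,5,4] (BT.out 0 [0]) (BT.kid 3668 [1,0,6,1] (BT.out 0 [0]) (BT.kid 1572 [1,0,6,5] (BT.out 0 [0]) (BT.kid 4055 [1,0,6,6] (BT.out 0 [0]) (BT.kid 2017 [1,1,3,2] (BT.out 0 [0]) (BT.kid 4667 [1,1,4,3] (BT.out 0 [0]) (BT.kid 1348 [1,1,6,6] (BT.out 0 [0]) (BT.kid 2719 [1,2,0,2] (BT.out 0 [0]) (BT.kid 1914 [1,2,4,1] (BT.out 0 [0]) (BT.kid 4806 [1,2,4,2] (BT.out 0 [0]) (BT.kid 569 [1,2,4,5] (BT.out 0 [0]) (BT.kid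 2185 [1,2,5,2] (BT.out 0 [0]) (BT.kid 1432 [1,2,6,6] (BT.out 0 [0]) (BT.kid 1068 [1,3,0,4] (BT.out 0 [0]) (BT.kid 5416 [1,3,0,5] (BT.out 0 [0]) (BT.kid 2455 [1,3,1,6] (BT.out 0 [0]) (BT.kid 779 [1,3,3,1] (BT.out 0 [0]) (BT.kid 2881 [1,3,3,3] (BT.out 0 [0]) (BT.kid 5371 [1,3,5,6] (BT.out 0 [0]) (BT.kid 5468 [1,3,6,2] (BT.out 0 [0]) (BT.kid 838 [1,4,1,1] (BT.out 0 [0]) (BT.kid 4237 [1,4,1,2] (BT.out 0 [0]) (BT.kid 5974 [1,4,1,3] (BT.out 0 [0]) (BT.kid 4309 [1,4,2,5] (BT.out 0 [0]) (BT.kid 2399 [1,4,3,3] (BT.out 0 [0]) (BT.kid 4767 [1,4,3,5] (BT.out 0 [0]) (BT.kid 4039 [1,4,4,3] (BT.out 0 [0]) (BT.kid 4017 [1,4,5,1] (BT.out 0 [0]) (BT.kid 522 [1,4,6,1] (BT.out 0 [0]) (BT.kid 4396 [1,5,0,3] (BT.out 0 [0]) (BT.kid 2747 [1,5,0,5] (BT.out 0 [0])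 (BT.kid 5758 [1,5,1,1] (BT.out 0 [0]) (BT.kid 5128 [1,5,2,1] (BT.out 0 [0]) (BT.kid 3375 [1,5,3,6] (BT.out 0 [0]) (BT.kid 4212 [1,5,4,6] (BT.out 0 [0]) (BT.kid 5153 [1,5,5,1] (BT.out 0 [0]) (BT.kid 3923 [1,5,5,2] (BT.out 0 [0]) (BT.kid 3251 [1,5,6,1] (BT.out 0 [0]) (BT.kid 2031 [1,5,6,4] (BT.out 0 [0]) (BT.kid 5648 [1,6,0,5] (BT.out 0 [0]) (BT.kid 6135 [1,6,0,6] (BT.out 0 [0]) (BT.kid 97 [1,6,1,3] (BT.out 0 [0]) (BT.kid 2091 [1,6,2,6] (BT.out 0 [0]) (BT.kid 3925 [1,6,3,1] (BT.out 0 [0]) (BT.kid 876 [1,6,3,5] (BT.out 0 [0]) (BT.kid 5537 [1,6,4,1] (BT.out 0 [0]) (BT.kid 284 [1,6,4,5] (BT.out 0 [0]) (BT.kid 1053 [2,1,3,1] (BT.out 0 [0]) (BT.kid 1959 [2,1,3,3] (BT.out 0 [0]) (BT.kid 4560 [2,1,4,3] (BT.out 0 [0]) (BT.kid 1568 [2,3,1,6] (BT.out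 0 [0]) (BT.kid 5751 [2,3,2,1] (BT.out 0 [0]) (BT.kid 352 [2,3,2,3] (BT.out 0 [0]) (BT.kid 6012 [2,3,3,1] (BT.out 0 [0]) (BT.kid 5041 [2,3,3,4] (BT.out 0 [0]) (BT.kid 2206 [2,4,1,6] (BT.out 0 [0]) (BT.kid 321 [2,4,2,4] (BT.out 0 [0]) (BT.kid 1971 [2,4,2,5] (BT.out 0 [0]) (BT.kid 259 [2,4,5,4] (BT.out 0 [0]) (BT.kid 2838 [2,4,5,5] (BT.out 0 [0]) (BT.kid 6095 [2,5,1,5] (BT.out 0 [0]) (BT.kid 4649 [2,5,5,6] (BT.out 0 [0]) (BT.kid 4233 [2,5,6,6] (BT.out 0 [0]) (BT.kid 4092 [2,6,0,3] (BT.out 0 [0]) (BT.kid 2671 [2,6,0,6] (BT.out 0 [0]) (BT.kid 2803 [2,6,4,2] (BT.out 0 [0]) (BT.kid 4842 [2,6,5,3] (BT.out 0 [0]) (BT.kid 3733 [2,6,6,2] (BT.out 0 [0]) (BT.kid 2833 [2,6,6,5] (BT.out 0 [0]) (BT.kid 3032 [0,0,0,3,4] (BT.out 0 [0]) (BT.kid 1257 [0,0,0,4,6]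 (BT.out 0 [0]) (BT.kid 652 [0,0,0,6,5] (BT.out 0 [0]) (BT.kid 3613 [0,0,1,0,4] (BT.out 0 [0]) (BT.kid 1552 [0,0,1,0,6] (BT.out 0 [0]) (BT.kid 4469 [0,0,1,4,2] (BT.out 0 [0]) (BT.kid 3274 [0,0,3,1,4] (BT.out 0 [0]) (BT.kid 5296 [0,0,3,3,5] (BT.out 0 [0]) (BT.kid 2911 [0,0,3,6,2] (BT.out 0 [0]) (BT.kid 726 [0,0,3,6,6] (BT.out 0 [0]) (BT.kid 495 [0,0,4,1,1] (BT.out 0 [0]) (BT.kid 2780 [0,0,5,5,3] (BT.out 0 [0]) (BT.kid 1894 [0,0,6,1,5] (BT.out 0 [0]) (BT.kid 3033 [0,0,6,3,4] (BT.out 0 [0]) (BT.kid 1810 [0,0,6,6,1] (BT.out 0 [0]) (BT.kid 277 [0,1,0,3,5] (BT.out 0 [0]) (BT.kid 1562 [0,1,0,4,4] (BT.out 0 [0]) (BT.kid 3070 [0,1,0,5,3] (BT.out 0 [0]) (BT.kid 2610 [0,1,1,2,4] (BT.out 0 [0]) (BT.kid 5222 [0,1,1,6,4] (BT.out 0 [0]) (BT.kid 4122 [0,1,3,3,3]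 (BT.out 0 [0]) (BT.kid 4118 [0,1,4,0,4] (BT.out 0 [0]) (BT.kid 634 [0,1,4,6,3] (BT.out 0 [0]) (BT.kid 3741 [0,1,6,0,6] (BT.out 0 [0]) (BT.kid 2770 [0,1,6,2,5] (BT.out 0 [0]) (BT.kid 324 [0,1,6,5,5] (BT.out 0 [0]) (BT.kid 4349 [0,2,0,3,4] (BT.out 0 [0]) (BT.kid 2698 [0,2,4,3,4] (BT.out 0 [0]) (BT.kid 5307 [0,2,6,5,5] (BT.out 0 [0]) (BT.kid 6113 [1,0,0,4,4] (BT.out 0 [0]) BT.nil)))))))))))))))))))))))))))))))))))))))))))))))))))))))))))))))))))))))))))))))))))))))))))))))))))))))))))))))))))))))))))))))))))))))))))))))))))))))))))))))))))))))))))))))))))))))))))))))))))))))))))))))))))))))))))))))))))))))))))))))))))))))))))))))))))))))))))))))))))))))))))))))))))))))))))))))))))))))))))))))))))))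
theorem cm70015 : (spA 6156 x70013s fAJ).Clm GJ (finX 6156) false 0 chAJ0 [] [] := SP.Clm.ofN (T := cm70015T) (by decide +kernel)
noncomputable def cm70016T : BT := (BT.br [[0],[1]] (BT.kid 0 [] (BT.frc 0 [1,1] [] (BT.frc 1 [1] [] BT.live)) (BT.kid 5661 [0] (BT.out 0 [1,1]) (BT.kid 2294 [2] (BT.frc 0 [1,1] [3,8] (BT.out 1 [1])) (BT.kid 5638 [0,0] (BT.out 0 [1,1]) (BT.kid 2515 [0,2] (BT.out 0 [1,1]) (BT.kid 5243 [0,3] (BT.out 0 [1,1]) (BT.kid 667 [0,4] (BT.out 0 [1,1]) (BT.kid 5808 [0,7] (BT.out 0 [1,1]) (BT.kid 4038 [0,8] (BT.frc 0 [1,1] [3,3,7,3,4,8,7] (BT.out 1 [1])) (BT.kid 836 [1,0] (BT.frc 0 [1,1] [4,8,4,3,7] (BT.out 1 [1])) (BT.kid 889 [1,3] (BT.out 0 [1,1]) (BT.kid 5435 [1,4] (BT.out 0 [1,1]) (BT.kid 4907 [1,7] (BT.out 0 [1,1])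 (BT.kid 2760 [1,8] (BT.out 0 [1,1]) (BT.kid 18 [2,0] (BT.frc 0 [1,1] [3,4,3,4,4,7,8,3] (BT.out 1 [1])) (BT.kid 3724 [2,4] (BT.frc 0 [1,1] [4,8] (BT.out 1 [1])) (BT.kid 4573 [2,7] (BT.out 0 [1,1]) (BT.kid 5247 [2,8] (BT.out 0 [1,1]) (BT.kid 5168 [0,0,3] (BT.out 0 [1,1]) (BT.kid 3837 [0,0,4] (BT.out 0 [1,1]) (BT.kid 3722 [0,0,8] (BT.out 0 [1,1]) (BT.kid 4273 [0,1,0] (BT.out 0 [1,1]) (BT.kid 2003 [0,1,3] (BT.out 0 [1,1]) (BT.kid 3037 [0,1,4] (BT.out 0 [1,1]) (BT.kid 6113 [0,1,7] (BT.out 0 [1,1]) (BT.kid 3747 [0,1,8] (BT.out 0 [1,1]) (BT.kid 1573 [0,2,0] (BT.frc 0 [1,1] [3,3,8,4,8,3,8] (BT.out 1 [1])) (BT.kid 2318 [0,2,4] (BT.out 0 [1,1]) (BT.kid 4094 [0,2,7] (BT.out 0 [1,1]) (BT.kid 1885 [0,2,8] (BT.out 0 [1,1]) (BT.kid 1760 [0,3,0] (BT.out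 0 [1,1]) (BT.kid 4304 [0,3,2] (BT.out 0 [1,1]) (BT.kid 2986 [0,3,4] (BT.out 0 [1,1]) (BT.kid 1224 [0,3,7] (BT.out 0 [1,1]) (BT.kid 1607 [0,3,8] (BT.frc 0 [1,1] [3,7,8,4,8,4] (BT.out 1 [1])) (BT.kid 2292 [0,4,0] (BT.out 0 [1,1]) (BT.kid 3943 [0,4,3] (BT.out 0 [1,1]) (BT.kid 3871 [0,4,4] (BT.out 0 [1,1]) (BT.kid 801 [0,7,0] (BT.frc 0 [1,1] [3,4,3,7,3,4,8] (BT.out 1 [1])) (BT.kid 4710 [0,7,2] (BT.out 0 [1,1]) (BT.kid 5260 [0,7,3] (BT.out 0 [1,1]) (BT.kid 1194 [0,7,8] (BT.out 0 [1,1]) (BT.kid 4962 [0,8,0] (BT.frc 0 [1,1] [3,8,4,4,7,3] (BT.out 1 [1])) (BT.kid 146 [0,8,2] (BT.frc 0 [1,1] [4,4,3,8,3] (BT.out 1 [1])) (BT.kid 3523 [0,8,3] (BT.out 0 [1,1]) (BT.kid 1078 [0,8,7] (BT.out 0 [1,1]) (BT.kid 6092 [1,0,0] (BT.out 0 [1,1]) (BT.kid 1310 [1,0,2]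 (BT.frc 0 [1,1] [4,3,8,7,3,3] (BT.out 1 [1])) (BT.kid 1516 [1,0,3] (BT.out 0 [1,1]) (BT.kid 1632 [1,0,4] (BT.out 0 [1,1]) (BT.kid 4492 [1,1,0] (BT.out 0 [1,1]) (BT.kid 2628 [1,1,3] (BT.out 0 [1,1]) (BT.kid 2134 [1,1,4] (BT.out 0 [1,1]) (BT.kid 5945 [1,2,0] (BT.frc 0 [1,1] [4,8,3,3,8,3] (BT.out 1 [1])) (BT.kid 5463 [1,2,3] (BT.out 0 [1,1]) (BT.kid 5451 [1,2,4] (BT.frc 0 [1,1] [3,7,8,3,4,4,3] (BT.out 1 [1])) (BT.kid 3023 [1,2,7] (BT.out 0 [1,1]) (BT.kid 5543 [1,2,8] (BT.out 0 [1,1]) (BT.kid 2464 [1,3,0] (BT.out 0 [1,1]) (BT.kid 1883 [1,3,2] (BT.out 0 [1,1]) (BT.kid 3250 [1,3,3] (BT.out 0 [1,1]) (BT.kid 4335 [1,3,4] (BT.out 0 [1,1]) (BT.kid 5801 [1,3,8] (BT.out 0 [1,1]) (BT.kid 5010 [1,4,2] (BT.out 0 [1,1]) (BT.kid 1088 [1,4,3] (BT.out 0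 [1,1]) (BT.kid 2905 [1,4,7] (BT.out 0 [1,1]) (BT.kid 2000 [1,4,8] (BT.out 0 [1,1]) (BT.kid 2310 [1,7,0] (BT.out 0 [1,1]) (BT.kid 2139 [1,7,3] (BT.out 0 [1,1]) (BT.kid 4585 [1,7,8] (BT.out 0 [1,1]) (BT.kid 1747 [1,8,0] (BT.out 0 [1,1]) (BT.kid 1118 [1,8,7] (BT.out 0 [1,1]) (BT.kid 4051 [2,0,0] (BT.out 0 [1,1]) (BT.kid 785 [2,0,2] (BT.frc 0 [1,1] [4,8,4,3,8,3] (BT.out 1 [1])) (BT.kid 6021 [2,0,3] (BT.out 0 [1,1]) (BT.kid 1541 [2,0,8] (BT.out 0 [1,1]) (BT.kid 4468 [2,1,0] (BT.out 0 [1,1]) (BT.kid 6022 [2,1,3] (BT.out 0 [1,1]) (BT.kid 1066 [2,1,4] (BT.frc 0 [1,1] [4,3,8,4,3,4,3] (BT.out 1 [1])) (BT.kid 6034 [2,3,3] (BT.out 0 [1,1]) (BT.kid 5855 [2,4,0] (BT.out 0 [1,1]) (BT.kid 2270 [2,4,3] (BT.out 0 [1,1]) (BT.kid 3400 [2,4,8] (BT.out 0 [1,1])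 (BT.kid 1618 [2,7,2] (BT.out 0 [1,1]) (BT.kid 4204 [2,7,3] (BT.out 0 [1,1]) (BT.kid 5668 [2,8,0] (BT.out 0 [1,1]) (BT.kid 4757 [2,8,3] (BT.out 0 [1,1]) (BT.kid 3504 [2,8,4] (BT.out 0 [1,1]) (BT.kid 3793 [0,0,0,3] (BT.out 0 [1,1]) (BT.kid 1529 [0,0,0,4] (BT.out 0 [1,1]) (BT.kid 631 [0,0,0,8] (BT.out 0 [1,1]) (BT.kid 4188 [0,0,1,0] (BT.out 0 [1,1]) (BT.kid 3030 [0,0,1,4] (BT.out 0 [1,1]) (BT.kid 4356 [0,0,1,7] (BT.frc 0 [1,1] [3,4,4,4] (BT.out 1 [1])) (BT.kid 3387 [0,0,2,0] (BT.out 0 [1,1]) (BT.kid 269 [0,0,2,3] (BT.out 0 [1,1]) (BT.kid 2417 [0,0,2,7] (BT.frc 0 [1,1] [4,8,3,3,4,8] (BT.out 1 [1])) (BT.kid 4030 [0,0,2,8] (BT.out 0 [1,1]) (BT.kid 3019 [0,0,3,0] (BT.out 0 [1,1]) (BT.kid 5477 [0,0,3,3] (BT.out 0 [1,1]) (BT.kid 1080 [0,0,3,4]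 (BT.frc 0 [1,1] [3,3,3,4,4,8,3] (BT.out 1 [1])) (BT.kid 5524 [0,0,3,7] (BT.out 0 [1,1]) (BT.kid 3017 [0,0,3,8] (BT.out 0 [1,1]) (BT.kid 4391 [0,0,4,0] (BT.out 0 [1,1]) (BT.kid 5 [0,0,4,3] (BT.out 0 [1,1]) (BT.kid 4946 [0,0,4,4] (BT.out 0 [1,1]) (BT.kid 1890 [0,0,8,2] (BT.out 0 [1,1]) (BT.kid 3860 [0,0,8,3] (BT.frc 0 [1,1] [3,3,4,8] (BT.out 1 [1])) (BT.kid 6131 [0,0,8,4] (BT.out 0 [1,1]) (BT.kid 2304 [0,1,0,3] (BT.out 0 [1,1]) (BT.kid 1878 [0,1,1,0] (BT.out 0 [1,1]) (BT.kid 4801 [0,1,2,0] (BT.frc 0 [1,1] [3,7,3,3,7,8,7] (BT.out 1 [1])) (BT.kid 4874 [0,1,2,4] (BT.out 0 [1,1]) (BT.kid 4236 [0,1,2,8] (BT.out 0 [1,1]) (BT.kid 2631 [0,1,3,2] (BT.out 0 [1,1]) (BT.kid 4111 [0,1,3,4] (BT.out 0 [1,1]) (BT.kid 3373 [0,1,3,8] (BT.frc 0 [1,1] [3,7,8,3,8,3,8]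 (BT.out 1 [1])) (BT.kid 176 [0,1,4,4] (BT.frc 0 [1,1] [3,3,4,4,4,3] (BT.out 1 [1])) (BT.kid 2550 [0,1,4,8] (BT.out 0 [1,1]) (BT.kid 687 [0,1,7,0] (BT.out 0 [1,1]) (BT.kid 2151 [0,1,8,0] (BT.frc 0 [1,1] [3,8,4,8,4,4,7] (BT.out 1 [1])) (BT.kid 3497 [0,1,8,2] (BT.out 0 [1,1]) (BT.kid 5497 [0,1,8,3] (BT.out 0 [1,1]) (BT.kid 929 [0,1,8,7] (BT.out 0 [1,1]) (BT.kid 1579 [0,2,0,2] (BT.frc 0 [1,1] [4,3,8,3] (BT.out 1 [1])) (BT.kid 4170 [0,2,0,3] (BT.out 0 [1,1]) (BT.kid 4050 [0,2,1,7] (BT.out 0 [1,1]) (BT.kid 1526 [0,2,3,0] (BT.out 0 [1,1]) (BT.kid 4114 [0,2,3,3] (BT.frc 0 [1,1] [3,3,4,7,3,8] (BT.out 1 [1])) (BT.kid 2523 [0,2,3,4] (BT.frc 0 [1,1] [4,4,3,3,7] (BT.out 1 [1])) (BT.kid 2993 [0,2,4,8] (BT.frc 0 [1,1] [4,4,3,7,3,4] (BT.out 1 [1])) (BT.kid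 4420 [0,2,7,3] (BT.out 0 [1,1]) (BT.kid 1131 [0,3,0,0] (BT.frc 0 [1,1] [4,3,3,8,7] (BT.out 1 [1])) (BT.kid 1274 [0,3,0,2] (BT.out 0 [1,1]) (BT.kid 1392 [0,3,0,4] (BT.frc 0 [1,1] [3,3,3,3,8,3,4] (BT.out 1 [1])) (BT.kid 2002 [0,3,0,7] (BT.out 0 [1,1]) (BT.kid 4613 [0,3,1,3] (BT.out 0 [1,1]) (BT.kid 6132 [0,3,1,4] (BT.out 0 [1,1]) (BT.kid 3202 [0,3,2,0] (BT.out 0 [1,1]) (BT.kid 4046 [0,3,2,4] (BT.out 0 [1,1]) (BT.kid 2623 [0,3,2,7] (BT.out 0 [1,1]) (BT.kid 1813 [0,3,3,0] (BT.out 0 [1,1]) (BT.kid 4181 [0,3,3,3] (BT.out 0 [1,1]) (BT.kid 3831 [0,3,3,4] (BT.out 0 [1,1]) (BT.kid 205 [0,3,4,0] (BT.out 0 [1,1]) (BT.kid 944 [0,3,4,4] (BT.out 0 [1,1]) (BT.kid 4133 [0,3,7,8] (BT.out 0 [1,1]) (BT.kid 2700 [0,3,8,3] (BT.out 0 [1,1]) (BT.kid 1944 [0,4,0,4]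 (BT.out 0 [1,1]) (BT.kid 1785 [0,4,1,0] (BT.frc 0 [1,1] [3,7,3,3,7] (BT.out 1 [1])) (BT.kid 5075 [0,4,1,4] (BT.frc 0 [1,1] [3,7,3] (BT.out 1 [1])) (BT.kid 244 [0,4,1,7] (BT.out 0 [1,1]) (BT.kid 2512 [0,4,1,8] (BT.out 0 [1,1]) (BT.kid 2413 [0,4,2,4] (BT.out 0 [1,1]) (BT.kid 2647 [0,4,3,0] (BT.out 0 [1,1]) (BT.kid 4191 [0,4,3,4] (BT.out 0 [1,1]) (BT.kid 1382 [0,4,3,8] (BT.frc 0 [1,1] [3,7,3,7,3,3] (BT.out 1 [1])) (BT.kid 5186 [0,4,4,0] (BT.frc 0 [1,1] [3,3,4,3,4,4,7,8] (BT.out 1 [1])) (BT.kid 3260 [0,4,4,2] (BT.out 0 [1,1]) (BT.kid 5646 [0,4,4,4] (BT.out 0 [1,1]) (BT.kid 2917 [0,7,0,4] (BT.out 0 [1,1]) (BT.kid 4267 [0,7,1,7] (BT.out 0 [1,1]) (BT.kid 223 [0,7,2,3] (BT.out 0 [1,1]) (BT.kid 2062 [0,7,2,7] (BT.frc 0 [1,1] [3,3,7,3,3] (BT.out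 1 [1])) (BT.kid 5098 [0,7,2,8] (BT.out 0 [1,1]) (BT.kid 1356 [0,7,3,0] (BT.out 0 [1,1]) (BT.kid 3116 [0,7,3,3] (BT.frc 0 [1,1] [3,3,3,7,3,3,4] (BT.out 1 [1])) (BT.kid 1586 [0,7,3,7] (BT.out 0 [1,1]) (BT.kid 137 [0,7,3,8] (BT.out 0 [1,1]) (BT.kid 5392 [0,7,8,4] (BT.out 0 [1,1]) (BT.kid 1727 [0,8,0,0] (BT.frc 0 [1,1] [3,7,8,7,3,8] (BT.out 1 [1])) (BT.kid 603 [0,8,0,7] (BT.out 0 [1,1]) (BT.kid 371 [0,8,1,3] (BT.out 0 [1,1]) (BT.kid 1215 [0,8,1,4] (BT.out 0 [1,1]) (BT.kid 1360 [0,8,1,7] (BT.frc 0 [1,1] [3,3,8,3,4,4,4] (BT.out 1 [1])) (BT.kid 4130 [0,8,2,0] (BT.out 0 [1,1]) (BT.kid 1186 [0,8,2,7] (BT.out 0 [1,1]) (BT.kid 1873 [0,8,2,8] (BT.out 0 [1,1]) (BT.kid 1964 [0,8,4,3] (BT.frc 0 [1,1] [4,3,8,4,3,3] (BT.out 1 [1])) (BT.kid 3424 [1,0,0,2]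 (BT.out 0 [1,1]) (BT.kid 5183 [1,0,4,3] (BT.out 0 [1,1]) (BT.kid 1560 [1,1,0,8] (BT.out 0 [1,1]) (BT.kid 5049 [1,1,1,7] (BT.frc 0 [1,1] [4,3,8,3,4] (BT.out 1 [1])) (BT.kid 1122 [1,1,1,8] (BT.out 0 [1,1]) (BT.kid 2017 [1,1,3,2] (BT.out 0 [1,1]) (BT.kid 4667 [1,1,4,3] (BT.frc 0 [1,1] [4,4,8,4,4] (BT.out 1 [1])) (BT.kid 1386 [1,1,4,8] (BT.out 0 [1,1]) (BT.kid 1546 [1,2,0,0] (BT.frc 0 [1,1] [4,4,8,4,7] (BT.out 1 [1])) (BT.kid 2719 [1,2,0,2] (BT.frc 0 [1,1] [3,3,3,3,4,4,4] (BT.out 1 [1])) (BT.kid 5116 [1,2,4,4] (BT.out 0 [1,1]) (BT.kid 3803 [1,2,4,7] (BT.out 0 [1,1]) (BT.kid 5289 [1,2,8,7] (BT.out 0 [1,1]) (BT.kid 3883 [1,3,0,2] (BT.out 0 [1,1]) (BT.kid 2787 [1,3,2,3] (BT.out 0 [1,1]) (BT.kid 3496 [1,3,4,4] (BT.out 0 [1,1]) (BT.kid 3799 [1,4,1,8]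 (BT.out 0 [1,1]) (BT.kid 4376 [1,4,2,4] (BT.out 0 [1,1]) (BT.kid 3753 [1,7,1,7] (BT.out 0 [1,1]) (BT.kid 2847 [1,7,1,8] (BT.out 0 [1,1]) (BT.kid 839 [1,7,3,0] (BT.frc 0 [1,1] [3,3,3,3,3,4,3] (BT.out 1 [1])) (BT.kid 898 [1,7,3,2] (BT.out 0 [1,1]) (BT.kid 183 [1,7,8,3] (BT.out 0 [1,1]) (BT.kid 5407 [1,8,0,8] (BT.out 0 [1,1]) (BT.kid 5001 [1,8,4,7] (BT.out 0 [1,1]) (BT.kid 2702 [2,0,0,0] (BT.out 0 [1,1]) (BT.kid 2989 [2,0,3,0] (BT.out 0 [1,1]) (BT.kid 4259 [2,1,2,7] (BT.out 0 [1,1]) (BT.kid 5935 [2,3,0,3] (BT.out 0 [1,1]) (BT.kid 5121 [2,3,0,4] (BT.out 0 [1,1]) (BT.kid 5486 [2,3,1,8] (BT.out 0 [1,1]) (BT.kid 2457 [2,3,8,0] (BT.frc 0 [1,1] [3,4,4,4,7] (BT.out 1 [1])) (BT.kid 2582 [2,4,8,7] (BT.frc 0 [1,1] [4,3,3,4,4,8] (BT.out 1 [1])) (BT.kid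 2380 [2,7,8,0] (BT.out 0 [1,1]) (BT.kid 2174 [2,8,0,8] (BT.out 0 [1,1]) (BT.kid 3189 [2,8,3,7] (BT.out 0 [1,1]) (BT.kid 4876 [0,0,0,2,3] (BT.out 0 [1,1]) (BT.kid 1517 [0,0,1,0,2] (BT.out 0 [1,1]) (BT.kid 994 [0,0,1,0,7] (BT.out 0 [1,1]) (BT.kid 4180 [0,0,1,1,0] (BT.out 0 [1,1]) (BT.kid 3096 [0,0,1,4,4] (BT.out 0 [1,1]) (BT.kid 2407 [0,0,2,4,4] (BT.out 0 [1,1]) (BT.kid 5090 [0,0,2,7,3] (BT.out 0 [1,1]) (BT.kid 1820 [0,0,3,4,8] (BT.frc 0 [1,1] [4,8,3,3,8] (BT.out 1 [1])) (BT.kid 1624 [0,0,8,3,4] (BT.out 0 [1,1]) (BT.kid 3436 [0,1,2,8,2] (BT.out 0 [1,1]) (BT.kid 5794 [0,1,3,0,4] (BT.out 0 [1,1]) (BT.kid 5834 [0,1,4,4,2] (BT.frc 0 [1,1] [4,3,8,4,8,3,3] (BT.out 1 [1])) (BT.kid 3222 [0,7,8,2,7] (BT.out 0 [1,1]) BT.nil)))))))))))))))))))))))))))))))))))))))))))))))))))))))))))))))))))))))))))))))))))))))))))))))))))))))))))))))))))))))))))))))))))))))))))))))))))))))))))))))))))))))))))))))))))))))))))))))))))))))))))))))))))))))))))))))))))))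
theorem cm70016 : (spB 6156 x70013s cwJ fBJ).Clm GJ (finX 6156) false 0 chBJ0 [] [] := SP.Clm.ofN (T := cm70016T) (by decide +kernel)

end Cfsg.Agent.H6.J3
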