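import Cfsg.Agent.H6.JlA
import Cfsg.Agent.H6.J3B12
set_option maxRecDepth 100000
set_option Elab.async false
namespace Cfsg.Agent.H6.Jl
open Cfsg.Agent.H6 Spor Matrix J3
universe u

noncomputable def opsL : List (List (ℕ × ℕ)) := [[(0,2),(2,0),(3,0),(7,0),(10,0),(12,0),(16,0),(1,3),(0,1),(3,1),(6,1),(10,1),(11,1),(12,1),(13,1),(16,1),(17,1),(3,2),(5,2),(10,2),(13,2),(14,2),(17,2),(2,3),(4,3),(10,3),(11,3),(12,3),(14,3),(15,3),(16,3),(0,4),(3,4),(5,4),(7,4),(9,4),(11,4),(12,4),(14,4),(15,4),(16,4),(17,4),(0,5),(1,5),(2,5),(4,5),(6,5),(8,5),(10,5),(12,5),(13,5),(15,5),(17,5),(6,12),(4,6),(5,6),(12,6),(16,6),(7,13),(4,7),(13,7),(17,7),(0,8),(1,8),(7,8),(10,8),(17,8),(0,9),(6,9),(7,9),(11,9),(16,9),(17,9),(10,11),(2,10),(4,10),(6,10),(9,10),(11,10),(13,10),(14,10),(16,10),(3,11),(5,11),(7,11),(8,11),(9,11),(12,11),(13,11),(15,11),(17,11),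(3,12),(4,12),(5,12),(6,12),(7,12),(8,12),(10,12),(11,12),(13,12),(14,12),(15,12),(16,12),(2,13),(5,13),(7,13),(8,13),(9,13),(11,13),(12,13),(15,13),(16,13),(17,13),(14,17),(1,14),(2,14),(5,14),(6,14),(8,14),(10,14),(11,14),(17,14),(15,16),(0,15),(2,15),(3,15),(4,15),(6,15),(7,15),(8,15),(9,15),(11,15),(14,15),(16,15),(0,16),(1,16),(2,16),(6,16),(7,16),(8,16),(10,16),(12,16),(13,16),(14,16),(17,16),(1,17),(4,17),(5,17),(6,17),(7,17),(10,17),(11,17),(12,17)],[(0,3),(3,0),(4,0),(7,0),(8,0),(11,0),(13,0),(14,0),(1,2),(0,1),(2,1),(4,1),(5,1),(6,1),(8,1),(9,1),(10,1),(12,1),(14,1),(15,1),(1,2),(4,2),(7,2),(9,2),(10,2),(11,2),(12,2),(15,2),(1,3),(2,3),(9,3),(10,3),(11,3),(13,3),(15,3),(4,5),(1,4),(5,4),(6,4),(7,4),(9,4),(16,4),(17,4),(0,5),(1,5),(6,5),(8,5),(9,5),(16,5),(6,10),(0,6),(3,6),(5,6),(10,6),(11,6),(12,6),(13,6),(14,6),(16,6),(17,6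),(7,11),(0,7),(1,7),(2,7),(4,7),(6,7),(11,7),(13,7),(14,7),(15,7),(17,7),(1,8),(3,8),(6,8),(12,8),(13,8),(14,8),(16,8),(0,9),(1,9),(2,9),(3,9),(7,9),(12,9),(15,9),(17,9),(10,13),(0,10),(2,10),(5,10),(6,10),(8,10),(13,10),(16,10),(17,10),(11,12),(0,11),(1,11),(2,11),(3,11),(4,11),(6,11),(7,11),(8,11),(9,11),(10,11),(12,11),(17,11),(12,13),(1,12),(5,12),(9,12),(10,12),(13,12),(14,12),(15,12),(16,12),(17,12),(2,13),(4,13),(5,13),(6,13),(11,13),(12,13),(15,13),(16,13),(14,17),(4,14),(5,14),(6,14),(8,14),(9,14),(10,14),(11,14),(17,14),(15,16),(5,15),(6,15),(7,15),(9,15),(11,15),(14,15),(16,15),(0,16),(1,16),(4,16),(5,16),(6,16),(7,16),(8,16),(11,16),(12,16),(14,16),(17,16),(0,17),(6,17),(7,17),(8,17),(9,17),(11,17),(13,17)],[(0,1),(1,0),(3,0),(7,0),(8,0),(9,0),(10,0),(11,0),(13,0),(14,0),(15,0),(2,1),(3,1),(6,1),(7,1),(8,1),(10,1),(12,1),(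13,1),(14,1),(2,3),(0,2),(1,2),(3,2),(5,2),(9,2),(10,2),(13,2),(14,2),(0,3),(4,3),(5,3),(8,3),(9,3),(11,3),(12,3),(13,3),(15,3),(0,4),(1,4),(2,4),(6,4),(8,4),(11,4),(12,4),(14,4),(16,4),(17,4),(0,5),(3,5),(7,5),(9,5),(10,5),(11,5),(13,5),(15,5),(16,5),(1,6),(3,6),(4,6),(7,6),(8,6),(10,6),(12,6),(13,6),(14,6),(17,6),(0,7),(2,7),(4,7),(5,7),(6,7),(8,7),(9,7),(10,7),(11,7),(13,7),(14,7),(15,7),(16,7),(0,8),(1,8),(3,8),(9,8),(10,8),(17,8),(1,9),(2,9),(8,9),(10,9),(11,9),(16,9),(0,10),(1,10),(5,10),(6,10),(8,10),(11,10),(12,10),(13,10),(16,10),(1,11),(4,11),(6,11),(7,11),(8,11),(9,11),(10,11),(13,11),(16,11),(17,11),(12,14),(1,12),(3,12),(6,12),(9,12),(14,12),(13,15),(0,13),(1,13),(2,13),(3,13),(7,13),(8,13),(9,13),(15,13),(0,14),(1,14),(4,14),(5,14),(9,14),(10,14),(15,14),(16,14),(1,15),(5,15),(8,15),(10,15),(11,15),(14,15),(16,15),(17,15)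,(4,16),(6,16),(7,16),(9,16),(10,16),(13,16),(14,16),(17,16),(4,17),(5,17),(7,17),(8,17),(10,17),(11,17),(12,17),(14,17),(15,17),(16,17)],[(1,0),(2,0),(6,0),(9,0),(11,0),(12,0),(15,0),(0,1),(2,1),(3,1),(6,1),(7,1),(8,1),(10,1),(12,1),(13,1),(14,1),(0,2),(3,2),(4,2),(5,2),(6,2),(9,2),(10,2),(13,2),(14,2),(16,2),(0,3),(1,3),(2,3),(5,3),(6,3),(7,3),(8,3),(10,3),(11,3),(12,3),(14,3),(15,3),(16,3),(17,3),(0,4),(2,4),(6,4),(11,4),(12,4),(17,4),(1,5),(3,5),(7,5),(10,5),(11,5),(13,5),(16,5),(17,5),(6,7),(2,6),(4,6),(7,6),(11,6),(13,6),(15,6),(17,6),(3,7),(5,7),(10,7),(11,7),(12,7),(13,7),(14,7),(15,7),(16,7),(17,7),(8,9),(0,8),(1,8),(2,8),(3,8),(5,8),(6,8),(7,8),(9,8),(11,8),(12,8),(14,8),(15,8),(16,8),(17,8),(0,9),(2,9),(4,9),(5,9),(6,9),(10,9),(11,9),(13,9),(14,9),(16,9),(10,11),(4,10),(6,10),(8,10),(9,10),(11,10),(15,10),(5,11),(7,11),(8,11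),(14,11),(15,11),(12,15),(0,12),(2,12),(4,12),(8,12),(9,12),(10,12),(15,12),(17,12),(13,14),(0,13),(1,13),(2,13),(3,13),(4,13),(5,13),(9,13),(10,13),(11,13),(12,13),(14,13),(16,13),(14,15),(5,14),(6,14),(7,14),(15,14),(16,14),(0,15),(2,15),(7,15),(8,15),(9,15),(10,15),(12,15),(14,15),(16,15),(16,17),(3,16),(4,16),(5,16),(9,16),(12,16),(13,16),(17,16),(2,17),(3,17),(4,17),(8,17),(9,17),(12,17)],[(2,0),(4,0),(5,0),(7,0),(8,0),(12,0),(13,0),(15,0),(3,1),(4,1),(6,1),(7,1),(9,1),(12,1),(14,1),(15,1),(0,2),(7,2),(8,2),(9,2),(10,2),(14,2),(15,2),(16,2),(1,3),(6,3),(7,3),(8,3),(11,3),(14,3),(17,3),(1,4),(6,4),(7,4),(8,4),(9,4),(10,4),(11,4),(12,4),(13,4),(17,4),(0,5),(1,5),(6,5),(8,5),(10,5),(12,5),(16,5),(17,5),(0,6),(1,6),(2,6),(3,6),(5,6),(8,6),(10,6),(11,6),(13,6),(14,6),(15,6),(16,6),(17,6),(0,7),(2,7),(4,7),(5,7),(9,7),(10,7),(12,7),(13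,7),(14,7),(16,7),(0,8),(1,8),(2,8),(6,8),(10,8),(11,8),(14,8),(15,8),(17,8),(0,9),(3,9),(7,9),(10,9),(14,9),(16,9),(17,9),(10,12),(1,10),(3,10),(4,10),(9,10),(12,10),(13,10),(14,10),(17,10),(11,13),(0,11),(2,11),(4,11),(5,11),(8,11),(10,11),(13,11),(14,11),(15,11),(16,11),(12,13),(0,12),(5,12),(6,12),(7,12),(9,12),(10,12),(13,12),(14,12),(15,12),(17,12),(1,13),(4,13),(5,13),(6,13),(8,13),(9,13),(11,13),(14,13),(16,13),(17,13),(0,14),(1,14),(4,14),(7,14),(9,14),(12,14),(13,14),(16,14),(0,15),(5,15),(6,15),(7,15),(8,15),(9,15),(12,15),(17,15),(2,16),(4,16),(5,16),(7,16),(10,16),(11,16),(12,16),(14,16),(3,17),(4,17),(6,17),(7,17),(10,17),(13,17),(15,17)],[(2,0),(4,0),(5,0),(7,0),(8,0),(12,0),(13,0),(15,0),(3,1),(4,1),(6,1),(7,1),(9,1),(12,1),(14,1),(15,1),(0,2),(7,2),(8,2),(9,2),(10,2),(14,2),(15,2),(16,2),(1,3),(6,3),(7,3),(8,3),(11,3),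(14,3),(17,3),(1,4),(6,4),(7,4),(8,4),(9,4),(10,4),(11,4),(12,4),(13,4),(17,4),(0,5),(1,5),(6,5),(8,5),(10,5),(12,5),(16,5),(17,5),(0,6),(1,6),(2,6),(3,6),(5,6),(8,6),(10,6),(11,6),(13,6),(14,6),(15,6),(16,6),(17,6),(0,7),(2,7),(4,7),(5,7),(9,7),(10,7),(12,7),(13,7),(14,7),(16,7),(0,8),(1,8),(2,8),(6,8),(10,8),(11,8),(14,8),(15,8),(17,8),(0,9),(3,9),(7,9),(10,9),(14,9),(16,9),(17,9),(10,12),(1,10),(3,10),(4,10),(9,10),(12,10),(13,10),(14,10),(17,10),(11,13),(0,11),(2,11),(4,11),(5,11),(8,11),(10,11),(13,11),(14,11),(15,11),(16,11),(12,13),(0,12),(5,12),(6,12),(7,12),(9,12),(10,12),(13,12),(14,12),(15,12),(17,12),(1,13),(4,13),(5,13),(6,13),(8,13),(9,13),(11,13),(14,13),(16,13),(17,13),(0,14),(1,14),(4,14),(7,14),(9,14),(12,14),(13,14),(16,14),(0,15),(5,15),(6,15),(7,15),(8,15),(9,15),(12,15),(17,15),(2,16),(4,16),(5,16),(7,16),(10,16),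(11,16),(12,16),(14,16),(3,17),(4,17),(6,17),(7,17),(10,17),(13,17),(15,17)],[(2,0),(3,0),(5,0),(7,0),(8,0),(9,0),(10,0),(13,0),(14,0),(17,0),(2,1),(4,1),(5,1),(6,1),(7,1),(8,1),(11,1),(12,1),(13,1),(15,1),(16,1),(17,1),(1,2),(4,2),(8,2),(9,2),(12,2),(13,2),(0,3),(1,3),(5,3),(8,3),(12,3),(0,4),(2,4),(6,4),(10,4),(13,4),(17,4),(1,5),(3,5),(7,5),(11,5),(12,5),(13,5),(16,5),(17,5),(6,9),(1,6),(2,6),(4,6),(9,6),(10,6),(11,6),(13,6),(14,6),(15,6),(7,8),(0,7),(2,7),(3,7),(4,7),(5,7),(6,7),(8,7),(11,7),(12,7),(15,7),(1,8),(5,8),(7,8),(9,8),(15,8),(16,8),(3,9),(4,9),(6,9),(10,9),(12,9),(13,9),(15,9),(17,9),(1,10),(2,10),(3,10),(5,10),(6,10),(7,10),(8,10),(9,10),(12,10),(14,10),(17,10),(0,11),(1,11),(2,11),(4,11),(5,11),(6,11),(8,11),(13,11),(15,11),(16,11),(17,11),(12,14),(1,12),(2,12),(7,12),(9,12),(10,12),(14,12),(16,12),(13,15),(0,13),(1,13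),(3,13),(6,13),(7,13),(8,13),(9,13),(11,13),(15,13),(17,13),(3,14),(4,14),(5,14),(9,14),(12,14),(16,14),(17,14),(2,15),(3,15),(4,15),(8,15),(9,15),(13,15),(16,15),(0,16),(1,16),(3,16),(5,16),(7,16),(8,16),(9,16),(10,16),(12,16),(13,16),(14,16),(0,17),(2,17),(3,17),(4,17),(5,17),(6,17),(7,17),(8,17),(11,17),(12,17),(15,17)],[(2,0),(3,0),(5,0),(7,0),(8,0),(9,0),(10,0),(13,0),(14,0),(17,0),(2,1),(4,1),(5,1),(6,1),(7,1),(8,1),(11,1),(12,1),(13,1),(15,1),(16,1),(17,1),(1,2),(4,2),(8,2),(9,2),(12,2),(13,2),(0,3),(1,3),(5,3),(8,3),(12,3),(0,4),(2,4),(6,4),(10,4),(13,4),(17,4),(1,5),(3,5),(7,5),(11,5),(12,5),(13,5),(16,5),(17,5),(6,9),(1,6),(2,6),(4,6),(9,6),(10,6),(11,6),(13,6),(14,6),(15,6),(7,8),(0,7),(2,7),(3,7),(4,7),(5,7),(6,7),(8,7),(11,7),(12,7),(15,7),(1,8),(5,8),(7,8),(9,8),(15,8),(16,8),(3,9),(4,9),(6,9),(10,9),(12,9),(13,9),(15,9)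,(17,9),(1,10),(2,10),(3,10),(5,10),(6,10),(7,10),(8,10),(9,10),(12,10),(14,10),(17,10),(0,11),(1,11),(2,11),(4,11),(5,11),(6,11),(8,11),(13,11),(15,11),(16,11),(17,11),(12,14),(1,12),(2,12),(7,12),(9,12),(10,12),(14,12),(16,12),(13,15),(0,13),(1,13),(3,13),(6,13),(7,13),(8,13),(9,13),(11,13),(15,13),(17,13),(3,14),(4,14),(5,14),(9,14),(12,14),(16,14),(17,14),(2,15),(3,15),(4,15),(8,15),(9,15),(13,15),(16,15),(0,16),(1,16),(3,16),(5,16),(7,16),(8,16),(9,16),(10,16),(12,16),(13,16),(14,16),(0,17),(2,17),(3,17),(4,17),(5,17),(6,17),(7,17),(8,17),(11,17),(12,17),(15,17)],[(0,3),(3,0),(5,0),(8,0),(12,0),(13,0),(14,0),(15,0),(1,2),(0,1),(2,1),(4,1),(8,1),(9,1),(13,1),(15,1),(2,3),(1,2),(3,2),(7,2),(12,2),(14,2),(15,2),(17,2),(2,3),(5,3),(6,3),(8,3),(14,3),(16,3),(0,4),(2,4),(7,4),(9,4),(11,4),(12,4),(13,4),(14,4),(15,4),(17,4),(1,5),(3,5),(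6,5),(7,5),(8,5),(9,5),(10,5),(11,5),(12,5),(14,5),(16,5),(17,5),(6,7),(3,6),(7,6),(8,6),(9,6),(11,6),(12,6),(14,6),(15,6),(16,6),(2,7),(3,7),(8,7),(10,7),(11,7),(13,7),(14,7),(17,7),(8,9),(0,8),(1,8),(4,8),(7,8),(9,8),(11,8),(14,8),(15,8),(16,8),(0,9),(5,9),(6,9),(7,9),(10,9),(11,9),(14,9),(17,9),(10,12),(0,10),(1,10),(2,10),(4,10),(5,10),(6,10),(12,10),(13,10),(14,10),(16,10),(17,10),(11,13),(1,11),(2,11),(3,11),(5,11),(6,11),(7,11),(10,11),(13,11),(14,11),(15,11),(17,11),(12,14),(0,12),(3,12),(5,12),(8,12),(14,12),(15,12),(13,15),(0,13),(1,13),(2,13),(4,13),(8,13),(9,13),(12,13),(15,13),(2,14),(7,14),(8,14),(9,14),(10,14),(11,14),(12,14),(15,14),(16,14),(2,15),(3,15),(6,15),(9,15),(11,15),(12,15),(13,15),(14,15),(16,15),(17,15),(2,16),(3,16),(6,16),(7,16),(8,16),(9,16),(11,16),(12,16),(14,16),(15,16),(2,17),(6,17),(8,17),(10,17),(11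,17),(13,17),(14,17)],[(0,2),(2,0),(4,0),(6,0),(7,0),(8,0),(9,0),(12,0),(13,0),(14,0),(16,0),(17,0),(1,3),(3,1),(5,1),(6,1),(8,1),(12,1),(15,1),(16,1),(1,2),(3,2),(7,2),(12,2),(14,2),(15,2),(17,2),(0,3),(2,3),(6,3),(12,3),(13,3),(15,3),(16,3),(0,4),(1,4),(2,4),(8,4),(11,4),(13,4),(14,4),(15,4),(0,5),(3,5),(9,5),(10,5),(11,5),(12,5),(13,5),(14,5),(0,6),(2,6),(3,6),(4,6),(5,6),(7,6),(9,6),(10,6),(11,6),(13,6),(15,6),(16,6),(0,7),(1,7),(3,7),(5,7),(6,7),(8,7),(11,7),(12,7),(14,7),(16,7),(17,7),(2,8),(3,8),(4,8),(6,8),(7,8),(9,8),(12,8),(13,8),(15,8),(16,8),(3,9),(4,9),(5,9),(7,9),(8,9),(13,9),(14,9),(16,9),(17,9),(10,15),(0,10),(1,10),(2,10),(3,10),(4,10),(7,10),(8,10),(15,10),(16,10),(17,10),(11,14),(1,11),(3,11),(4,11),(5,11),(6,11),(8,11),(9,11),(10,11),(14,11),(17,11),(12,14),(4,12),(5,12),(7,12),(14,12),(16,12),(17,12),(13,15),(1,13),(3,13),(4,13),(8,13),(9,13),(10,13),(11,13),(12,13),(15,13),(14,15),(1,14),(2,14),(4,14),(5,14),(6,14),(8,14),(9,14),(15,14),(17,14),(1,15),(2,15),(3,15),(4,15),(8,15),(9,15),(11,15),(12,15),(13,15),(1,16),(3,16),(4,16),(7,16),(11,16),(12,16),(0,17),(1,17),(2,17),(3,17),(5,17),(6,17),(7,17),(10,17),(11,17),(13,17)]]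
noncomputable def nsL (l : ℕ) : Net := mkN (lk [] opsL l)
theorem lk0L : lnk (lk (idm 4 9) mJ 0) (nsL 0) = true := by decide +kernel
theorem lk1L : lnk (lk (idm 4 9) mJ 1) (nsL 1) = true := by decide +kernel
theorem lk2L : lnk (lk (idm 4 9) mJ 2) (nsL 2) = true := by decide +kernel
theorem lk3L : lnk (lk (idm 4 9) mJ 3) (nsL 3) = true := by decide +kernel
theorem lk4L : lnk (lk (idm 4 9) mJ 4) (nsL 4) = true := by decide +kernel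
theorem lk5L : lnk (lk (idm 4 9) mJ 5) (nsL 5) = true := by decide +kernel
theorem lk6L : lnk (lk (idm 4 9) mJ 6) (nsL 6) = true := by decide +kernel
theorem lk7L : lnk (lk (idm 4 9) mJ 7) (nsL 7) = true := by decide +kernel
theorem lk8L : lnk (lk (idm 4 9) mJ 8) (nsL 8) = true := by decide +kernel
theorem lk9L : lnk (lk (idm 4 9) mJ 9) (nsL 9) = true := by decide +kernel
theorem lkL : ∀ l < 10, lnk (lk (idm 4 9) mJ l) (nsL l) = true := fun l hl => by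
  interval_cases l
  exacts [lk0L, lk1L, lk2L, lk3L, lk4L, lk5L, lk6L, lk7L, lk8L, lk9L]
noncomputable def w1L : List ℕ := [0, 2, 4, 6, 8, 0, 4, 2, 6, 8, 0, 4, 6, 8, 0, 4, 6, 8, 0, 4, 6, 8, 4]
noncomputable def w2L : List ℕ := [0, 2, 4, 6, 8, 0, 2, 6, 4, 8, 0, 6, 8, 4, 2, 0, 6, 8, 4, 0, 6, 8, 4, 6, 0]
theorem c1L : seq (grow nsL w1L (Nat.pow 2 1)) (fun S => band (nall (fun l => Nat.beq ((nsL l).app S) S) 10) (band (tb S 1) (popIs 262144 15 S 69768))) = true := by decide +kernel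
theorem c2L : Nat.beq (Nat.lor (Nat.lor (grow nsL w2L (Nat.pow 2 5)) (nI 9)) 1) (Nat.sub (Nat.pow 2 262144) 1) = true := by decide +kernel
theorem c3L : Nat.lor (Nat.lor (grow nsL w2L (Nat.pow 2 5)) (nI 9)) 1 = Nat.sub (Nat.pow 2 262144) 1 :=
  Nat.eq_of_beq_eq_true (n := Nat.lor (Nat.lor (grow nsL w2L (Nat.pow 2 5)) (nI 9)) 1) (m := Nat.sub (Nat.pow 2 262144) 1) c2L
theorem scL : (cd2 2 1 1).isM 9 (lk (idm 4 9) mJ) [7, 2, 6, 2] [2,8,32,128,512,2048,8192,32768,131072] = true := by decide +kernel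
theorem linesL (F : Type) [Field F] [Fintype F] (hF : Fintype.card F = 4) (ω : F) (hω : ω ^ 2 + ω + 1 = 0) :
    {L : Submodule F (F9 → F) | ∃ g ∈ threeJ3 F ω, L = F ∙ ((g : Matrix F9 F9 F) *ᵥ (Pi.single (0 : F9) (1 : F) : F9 → F))}.ncard = 23256 ∧
    ∀ v w : F9 → F, v ≠ 0 → w ≠ 0 → ∑ z, (v z) ^ 3 = 0 → ∑ z, (w z) ^ 3 = 0 →
      ∃ g ∈ threeJ3 F ω, ∃ c : F, c ≠ 0 ∧ (g : Matrix F9 F9 F) *ᵥ v = c • w := by
  haveI : CharP F 2 := charP_of_card (k := 2) Nat.prime_two hF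
  obtain ⟨g0, hg0⟩ := J3.base hω k1 (J3.f2l agr).1
  obtain ⟨g, hg⟩ := hg0.words k2
  have top := J3.top hω hg (J3.f2l agr).2 k3
  have ha : ∀ l < 10, Act ω g nsL l := fun l hl => by
    have := lnk_spec hω (lkL l hl)
    exact ⟨this.1, fun p hp => by rw [(hg.2.2 l).2]; exact this.2 p hp⟩
  have c := c1L
  rw [seq_eq, band_eq, band_eq, nall_eq, tb_eq] at c
  refine fin_main (T := grow nsL w2L (Nat.pow 2 5)) (p0 := 5) hF hω ha top ⟨wp g [7, 2, 6, 2], fun v => ?_⟩ (Rc.grow ha (w := w1L) (by decide) (Rc.start 1))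
    (Rc.grow ha (w := w2L) (by decide) (Rc.start 5)) (fun l hl => beq_eq.1 (c.1 l hl)) c.2.1 (card_of_popIs c.2.2) c3L
  have e : toMat ixF9 4 (val2 2 ω) [2,8,32,128,512,2048,8192,32768,131072] = ω • (1 : Matrix F9 F9 F) := by
    have : ∀ i j : F9, ent 4 [2,8,32,128,512,2048,8192,32768,131072] (ixF9.ix i) (ixF9.ix j) = if i = j then 2 else 0 := by
      decide +kernel
    ext i j
    rw [toMat, this, Matrix.smul_apply, Matrix.one_apply]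
    split_ifs <;> simp [v0, v2]
  rw [hg.isM scL]
  exact (congrArg (· *ᵥ v) e).trans (by simp [Matrix.smul_mulVec])

end Cfsg.Agent.H6.Jl
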