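import Cfsg.Agent.H6.J3A
import Cfsg.Agent.H6.Simp3
set_option maxRecDepth 100000
set_option Elab.async false
namespace Cfsg.Agent.H6.Jo
open Cfsg.Agent.H6
universe u

noncomputable def il : List ℕ := [1,0,3,2,5,4,7,6]
noncomputable abbrev io : ℕ → ℕ := iota il
noncomputable def C1 : List (List ℕ) := []
noncomputable def m2n0 : Net := (Net.cons (nat_lit 160) (nat_lit 0x9bb1e098c2890409450bf02e3f32e4e8cf285ca8)
  (Net.cons (nat_lit 80) (nat_lit 0x6a4e8ac36acc5ff6ae6a0000000000000000000002d3f8721408b68695ee)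
  (Net.cons (nat_lit 40) (nat_lit 0xbc11956f6000000000016915d4e1900000000003ad10890110000000000610e13031c)
  (Net.cons (nat_lit 20) (nat_lit 0x49208000002881400000c8055000009c315000000496900000a282f00000f2a370000061dd4)
  (Net.cons (nat_lit 10) (nat_lit 0x53002c60018a0018400164000f40018a000a50013000089003df000cf0022400390003d600398)
  (Net.cons (nat_lit 5) (nat_lit 0x440c0400a0500a0100a000090601b0280102c140500405009050110080f02401014140301d07012)
  (Net.cons (nat_lit 1) (nat_lit 0x2008000080a0000810000100001014000000108000010000000008020000000100000000)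
  (Net.cons (nat_lit 1) (nat_lit 0x129404294052800101405014a0204a0000a528404000a50040028000080052840000480280a02048)
  (Net.cons (nat_lit 1) (nat_lit 0x210a52908421480210a1200a4014840002429480204a5290a5014002142029081204850148501084)
  (Net.cons (nat_lit 1) (nat_lit 0x4294252948508404094a5094a4294a0084a529001084a5084250908128485290210942409020094a)
  (Net.cons (nat_lit 1) (nat_lit 0x28485084a429020080a0000a4004000900100401204240148100081000a5084a02840121001094a0)
  (Net.cons (nat_lit 5) (nat_lit 0x50100000a040000000a0301802002068140700c010040380002000010100100c0300a0201e)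
  (Net.cons (nat_lit 10) (nat_lit 0xf200102001000038400120002f0001a600250000b8003800014400140000800031000196003e8)
  (Net.cons (nat_lit 20) (nat_lit 0xc90ca000006499c00000cb8480000095a12000001294000000e601000000ae83600000d7778)
  (Net.cons (nat_lit 40) (nat_lit 0xc2877356de00000000009e916ccacc000000000058ce88b7000000000000350e0f072a)
  (Net.cons (nat_lit 80) (nat_lit 0xf9cecac3a84c586dca02000000000000000000004691f112087e4402c522)
  (Net.cons (nat_lit 160) (nat_lit 0x9bb1e098c28905a3c40dca4d54840d6bf2d883bc)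
  Net.nil)))))))))))))))))
noncomputable def m2n1 : Net := (Net.cons (nat_lit 160) (nat_lit 0x9bb0e09842990523e44dca4d50848d6bf2d883bc)
  (Net.cons (nat_lit 80) (nat_lit 0x5e3cef85f44d7afc6632000000000000000000006610f516a8fecc93cd62)
  (Net.cons (nat_lit 40) (nat_lit 0x137616553a00000000003276ce980500000000004672cb9b5600000000003d662f8666)
  (Net.cons (nat_lit 20) (nat_lit 0xdc79e00000dc92600000fea3a0000095c46000009f76a00000155e8000005896b000001b374)
  (Net.cons (nat_lit 10) (nat_lit 0x13c00346002aa001f6000f400094002f2003d4001130009500085000790033300002000a60001a)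
  (Net.cons (nat_lit 5) (nat_lit 0x58170140e0300004011028040000705c050500407c0b0701c0700b044020200e078000101402c1c)
  (Net.cons (nat_lit 1) (nat_lit 0x1420004000802000401000000000009000004200000000000004000000000401000000042001000)
  (Net.cons (nat_lit 1) (nat_lit 0x52840528005014802942500025200252808409400010000142108000000a00902520080084002800)
  (Net.cons (nat_lit 1) (nat_lit 0x214812900421084210842002421005294a4290a4094a0204852902100005094a421404090a009484)
  (Net.cons (nat_lit 1) (nat_lit 0x52902128025094a5294850048508025284212142509424094a5284a1200a128485280a1214852902)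
  (Net.cons (nat_lit 1) (nat_lit 0x290810800000020200a50102109020090a008425000a001000214812800508480004010848501024)
  (Net.cons (nat_lit 5) (nat_lit 0x181000804020000500002014000060180404006040160600c0480a0600606814058000200007000)
  (Net.cons (nat_lit 10) (nat_lit 0x16a000e400180000b6000f0000d000290001f4002ba001940009400130001900009000146001e6)
  (Net.cons (nat_lit 20) (nat_lit 0x8a98000008d9b40000074270000008c05e00000f9704000000556000000187680000023acc)
  (Net.cons (nat_lit 40) (nat_lit 0xca6a3350ec00000000009a77cea20e000000000066768cb8c200000000003d0f33440c)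
  (Net.cons (nat_lit 80) (nat_lit 0xdc3c8f85f6547d140e02000000000000000000000253ea771c98f6469dea)
  (Net.cons (nat_lit 160) (nat_lit 0x9bb0e0984299040b450bf02e7f32e4e8cf3c54a8)
  Net.nil)))))))))))))))))
noncomputable def m2n2 : Net := (Net.cons (nat_lit 160) (nat_lit 0x1fd7766040cc81108521c0a0994a93faa0d8279e)
  (Net.cons (nat_lit 80) (nat_lit 0x27ef67bbd5be08620ab7000000000000000000007872d7aa75a1c2030bec)
  (Net.cons (nat_lit 40) (nat_lit 0xe839d50e69000000000094216413c80000000000f9428481d70000000000db5fb07200)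
  (Net.cons (nat_lit 20) (nat_lit 0x6e38d000002698000000e774c000006a80300000bb860000002d232000005e622000002062c)
  (Net.cons (nat_lit 10) (nat_lit 0x8b001d100132001d60028c002fa00054001250032a001d4000ce003530036d0007a002de00160)
  (Net.cons (nat_lit 5) (nat_lit 0x70140201c06815038120241703c1003812058090241504004034120601d018120540a070100581a)
  (Net.cons (nat_lit 1) (nat_lit 0x405000800802000001080010800009000004000000500000010200040108000080000002000000)
  (Net.cons (nat_lit 1) (nat_lit 0x90a02940501480004a120021000012840128000000a02040028405280210000108021214002042)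
  (Net.cons (nat_lit 1) (nat_lit 0x9485090a12908401084214852000021481210a501425014802948021025210842108421480210a4)
  (Net.cons (nat_lit 1) (nat_lit 0x5294a128425094a4090a5090a5080052942428421084a429401090a5284a521024290a5094852848)
  (Net.cons (nat_lit 1) (nat_lit 0x14a1204050102028081094200100009400200a521400204a50940428084094a1080210102000004)
  (Net.cons (nat_lit 5) (nat_lit 0x20180201406800040000400202000028180500003014000000200c0281e0781401010028100000c)
  (Net.cons (nat_lit 10) (nat_lit 0x3520018400100001440018c000fe0010600136003aa001d0003480017a003340036400052003f0)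
  (Net.cons (nat_lit 20) (nat_lit 0x3e7a8000002c09200000e5344000003201c000002abe800000a7d24000005453800000a44f0)
  (Net.cons (nat_lit 40) (nat_lit 0xc638e0cf6800000000005ce65c53c20000000000e92052afc00000000000ff7a39a81e)
  (Net.cons (nat_lit 80) (nat_lit 0x30ed179b95b689796d380000000000000000000098725fb6eb93abd1f678)
  (Net.cons (nat_lit 160) (nat_lit 0x1fd7766040cc8380a6bb4d47c0eaa7a03a431714)
  Net.nil)))))))))))))))))
noncomputable def m2n3 : Net := (Net.cons (nat_lit 160) (nat_lit 0xfdf18985d8483d72a3b3443882b0f9c6ec0365e)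
  (Net.cons (nat_lit 80) (nat_lit 0xe15438c4676bead4819f00000000000000000000e97e57e2f73afdf16238)
  (Net.cons (nat_lit 40) (nat_lit 0x4ea8e14fbb000000000084396399880000000000538500cbf20000000000e5194bd7ca)
  (Net.cons (nat_lit 20) (nat_lit 0x78444000004b8a900000dacdd0000052c7200000ccfa200000727c8000005c76600000c2e1a)
  (Net.cons (nat_lit 10) (nat_lit 0x64003ad002a800057001a2001cf00029001c8000660022b0024200150000fc00006002270022a)
  (Net.cons (nat_lit 5) (nat_lit 0x6017000050440106c11038010640a0041e0300300c0003405014020341c0381e01010064110481c)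
  (Net.cons (nat_lit 1) (nat_lit 0x20000200000000000000000000101404000210000000000000000800000400000000042028000)
  (Net.cons (nat_lit 1) (nat_lit 0x2940028400010810800420000210a0294a1004a000000014a500025000840900420024294850000)
  (Net.cons (nat_lit 1) (nat_lit 0x2908001484010a521080210a021485294852908501084004a5204a52948529484210042948428000)
  (Net.cons (nat_lit 1) (nat_lit 0x12940429484094242902508481084a129421210a0284800942508425284a1284a108081294252900)
  (Net.cons (nat_lit 1) (nat_lit 0x28425014050102420481010852948121085010a1294a009485090240842029424010000042509484)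
  (Net.cons (nat_lit 5) (nat_lit 0x2002070140601003810020000400e0280a040060100403800010060701605818000100201005000)
  (Net.cons (nat_lit 10) (nat_lit 0x5a00028002b200044000f20038a00170001bc000c80002a002ae00060001040028c000140012a)
  (Net.cons (nat_lit 20) (nat_lit 0x71a40000000d08a0000059d980000042c0a0000084520000005b508000005b6e400000f682a)
  (Net.cons (nat_lit 40) (nat_lit 0xcc20d10ba8000000000080ba7182440000000000638f14ed820000000000b1188a8ce8)
  (Net.cons (nat_lit 80) (nat_lit 0xe699305c3a6be91dc78600000000000000000000297ed7e57721c7a3f2a8)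
  (Net.cons (nat_lit 160) (nat_lit 0xfdf18985d84835884b5a1ac7e0391fac86b4a90)
  Net.nil)))))))))))))))))
noncomputable def m2n4 : Net := (Net.cons (nat_lit 160) (nat_lit 0x6b8bb122786134678c6e353c518f867590140600)
  (Net.cons (nat_lit 80) (nat_lit 0x2a5b8b4000550a9d6182000000000000000000008bc1cc644295cc9b8c00)
  (Net.cons (nat_lit 40) (nat_lit 0x2553edec600000000000ef1695718c000000000001cf4218200000000000fcffb35ac0)
  (Net.cons (nat_lit 20) (nat_lit 0x800200000075714000008f63c000006b4f400000cfb040000000f5000000f4120000007b380)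
  (Net.cons (nat_lit 10) (nat_lit 0x3ac00270001c00024200352001240009e002d400260001a00016100234002ba0002c0014400108)
  (Net.cons (nat_lit 5) (nat_lit 0x100400805002068020741400010074120080f06c1c03012028080080c0501c00c140640e06818)
  (Net.cons (nat_lit 1) (nat_lit 0x1014000002100020080a00000000004000000000000000000800000128001000202842000400)
  (Net.cons (nat_lit 1) (nat_lit 0x280a028000014a0014052940500020080a00000000000280a001400000a5000a001405294202800)
  (Net.cons (nat_lit 1) (nat_lit 0x29025294a00008400480210a02100529485294a00000409005010a40000529424290a4290a5010a4)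
  (Net.cons (nat_lit 1) (nat_lit 0x1284a128405014a0294852940508421090a12842400485284a021481210a5284a509485294242842)
  (Net.cons (nat_lit 1) (nat_lit 0x290a1094a000025204a1004a501005294a4294050100409000010840042129425204a529425004a4)
  (Net.cons (nat_lit 5) (nat_lit 0x10040080500006002008140000001012000000601403012000080080c0501c020140200806008)
  (Net.cons (nat_lit 10) (nat_lit 0x28c00220001400024200352000040009a000d400260001a00016000230002b8001680014400108)
  (Net.cons (nat_lit 20) (nat_lit 0xe00000000075714000008f638000006b4f400000c7b040000000f5000000f0120000005b380)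
  (Net.cons (nat_lit 40) (nat_lit 0x2553edec600000000000ef1695718c000000000001cf4218200000000000fcffb35ac0)
  (Net.cons (nat_lit 80) (nat_lit 0x2a5b8b4000550a9d6182000000000000000000008bc1cc644295cc9b8c00)
  (Net.cons (nat_lit 160) (nat_lit 0x6b8bb122786134678c6e3534518f867590140600)
  Net.nil)))))))))))))))))
noncomputable def m2n6 : Net := (Net.cons (nat_lit 160) (nat_lit 0x10007828a800a43ac125f98fc4233e247d506900)
  (Net.cons (nat_lit 80) (nat_lit 0x801c0bb2e041a1126600000000000000000000007fae90c14cf7caa0e844)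
  (Net.cons (nat_lit 40) (nat_lit 0x808448a3100000000000878660738200000000003ea0a193220000000000cb85881620)
  (Net.cons (nat_lit 20) (nat_lit 0x213e0000004640100000f988000000a5382000005973400000cfc540000015d90000002aa52)
  (Net.cons (nat_lit 10) (nat_lit 0xc6001c800250002440014a00266002c0003cd0035f000a000072000fe0002000008002dc003d1)
  (Net.cons (nat_lit 5) (nat_lit 0x81601010048000380c0400e07c190140b00817050180680d020150281900c10050040581c0241a)
  (Net.cons (nat_lit 1) (nat_lit 0x1280000000000000000000008000001280002040008000000a00000000020080050000000000)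
  (Net.cons (nat_lit 1) (nat_lit 0xa501400000a000005080000140001025014050848500001014a50048001405000a0080000000)
  (Net.cons (nat_lit 1) (nat_lit 0xa528080000040108021401284a4000a4290a5290a420080294a521485290a02040501405280a5)
  (Net.cons (nat_lit 1) (nat_lit 0x1004a509404000a008425080a109420294852942129425004a1294a529025294a5090a0090a1284a)
  (Net.cons (nat_lit 1) (nat_lit 0xa1280000140409080000a101485000252948000085094800140521420214202842508025214a1)
  (Net.cons (nat_lit 5) (nat_lit 0x1401010048000280c0400e00810010140081a060140680c0200a0280602010050000181c04808)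
  (Net.cons (nat_lit 10) (nat_lit 0x1c000050000440014a0024c002c000384000a0000a000072000fe0002000008002d800044)
  (Net.cons (nat_lit 20) (nat_lit 0x213e00000046400000007988000000a53820000059734000008f8540000015d90000002aa52)
  (Net.cons (nat_lit 40) (nat_lit 0x808448a3100000000000878660738200000000003ea0a193220000000000cb85881620)
  (Net.cons (nat_lit 80) (nat_lit 0x801c0bb2e041a1126600000000000000000000007fae90c14cf7caa0e844)
  (Net.cons (nat_lit 160) (nat_lit 0x10007828a800a43ac125f98fc4233e247d506900)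
  Net.nil)))))))))))))))))
noncomputable def m2l : List Net := [m2n0,m2n1,m2n2,m2n3,m2n4,m2n4,m2n6,m2n6]
noncomputable abbrev m2 : ℕ → Net := lk Net.nil m2l
theorem m2ok : NetsOk 266 m2 vT := netsOk_of (by decide +kernel)
theorem m2s0 : Sat io [] (finG m2ok) := fin_sat_nil _ (k := 9) (n := 8) (by decide +kernel)
noncomputable def m3n0 : Net := (Net.cons (nat_lit 6) (nat_lit 48)
  (Net.cons (nat_lit 3) (nat_lit 133)
  (Net.cons (nat_lit 1) (nat_lit 72)
  (Net.cons (nat_lit 1) (nat_lit 1168)
  (Net.cons (nat_lit 1) (nat_lit 513)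
  (Net.cons (nat_lit 3) (nat_lit 132)
  (Net.cons (nat_lit 6) (nat_lit 40)
  Net.nil)))))))
noncomputable def m3n1 : Net := (Net.cons (nat_lit 6) (nat_lit 40)
  (Net.cons (nat_lit 3) (nat_lit 130)
  (Net.cons (nat_lit 1) (nat_lit 512)
  (Net.cons (nat_lit 1) (nat_lit 1154)
  (Net.cons (nat_lit 1) (nat_lit 73)
  (Net.cons (nat_lit 3) (nat_lit 128)
  (Net.cons (nat_lit 6) (nat_lit 48)
  Net.nil)))))))
noncomputable def m3l : List Net := [m3n0,m3n1]
noncomputable abbrev m3 : ℕ → Net := lk Net.nil m3l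
theorem m3ok : NetsOk 11 m3 vT := netsOk_of (by decide +kernel)
theorem m3s0 : Sat io [] (finG m3ok) := fin_sat_nil _ (k := 4) (n := 8) (by decide +kernel)
noncomputable def r0 : List ℕ := [0,0,0,0,0,0,0,0,0,0,0]
noncomputable def m4n0 : Net := (Net.cons (nat_lit 6) (nat_lit 48)
  (Net.cons (nat_lit 3) (nat_lit 133)
  (Net.cons (nat_lit 1) (nat_lit 72)
  (Net.cons (nat_lit 1) (nat_lit 1168)
  (Net.cons (nat_lit 1) (nat_lit 513)
  (Net.cons (nat_lit 3) (nat_lit 132)
  (Net.cons (nat_lit 6) (nat_lit 40)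
  Net.nil)))))))
noncomputable def m4n1 : Net := (Net.cons (nat_lit 6) (nat_lit 40)
  (Net.cons (nat_lit 3) (nat_lit 130)
  (Net.cons (nat_lit 1) (nat_lit 512)
  (Net.cons (nat_lit 1) (nat_lit 1154)
  (Net.cons (nat_lit 1) (nat_lit 73)
  (Net.cons (nat_lit 3) (nat_lit 128)
  (Net.cons (nat_lit 6) (nat_lit 48)
  Net.nil)))))))
noncomputable def m4l : List Net := [m4n0,m4n1]
noncomputable abbrev m4 : ℕ → Net := lk Net.nil m4l
theorem m4ok : NetsOk 11 m4 vT := netsOk_of (by decide +kernel)
theorem m4s0 : Sat io [] (finG m4ok) := fin_sat_nil _ (k := 4) (n := 8) (by decide +kernel)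
noncomputable def C5 : List (List ℕ) := [r0]
theorem cl6 : Clo.{u} io C5 [] 11 m4 1 (mkB []) := Clo.start (by decide +kernel)
theorem imp7 : Imp.{u} io C5 C1 := Imp.of_chk (pfs := []) (by decide +kernel)
theorem ix8 : Idx.{u} io C5 [] [] 1 := (Idx.triv (Bound.nil) (by norm_num)).of_imp imp7
noncomputable def lk9 : List (List ℕ × List ℕ × Pf) := []
noncomputable def O10 : ℕ := (nat_lit 2)
noncomputable def M11 : ℕ := (nat_lit 3)
noncomputable def b12 : ℕ := (nat_lit 1)
theorem cl13 : Clo.{u} io C5 [] 11 m4 M11 (mkB [(0,b12)]) := cl6.new (k := 1) (b := 0) (q := 0) (p := 1) (r := 200) (n := 1) (O := O10) (by decide +kernel) (lks := lk9) (by decide +kernel) (gens_of_lall2 (m := []) (by decide +kernel)) ix8 (by decide +kernel)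
noncomputable def b14 : ℕ := (nat_lit 2)
theorem cl15 : Clo.{u} io C5 [] 11 m4 M11 (mkB [(0,b12),(1,b14)]) := cl13.ops (os := [Op.inv 0]) (by decide +kernel) (by decide +kernel)
theorem ix16 : Idx.{u} io C5 [] [] 1 := (Idx.triv (Bound.nil) (by norm_num)).of_imp imp7
noncomputable def lk17 : List (List ℕ × List ℕ × Pf) := []
noncomputable def O18 : ℕ := (nat_lit 8)
noncomputable def M19 : ℕ := (nat_lit 11)
noncomputable def b20 : ℕ := (nat_lit 3)
theorem cl21 : Clo.{u} io C5 [] 11 m4 M19 (mkB [(0,b20),(1,b14)]) := cl15.new (k := 1) (b := 0) (q := 1) (p := 3) (r := 200) (n := 1) (O := O18) (by decide +kernel) (lks := lk17) (by decide +kernel) (gens_of_lall2 (m := []) (by decide +kernel)) ix16 (by decide +kernel)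
noncomputable def b22 : ℕ := (nat_lit 10)
theorem cl23 : Clo.{u} io C5 [] 11 m4 M19 (mkB [(0,b20),(1,b22)]) := cl21.ops (os := [Op.inv 0]) (by decide +kernel) (by decide +kernel)
theorem ix24 : Idx.{u} io C5 [] [] 1 := (Idx.triv (Bound.nil) (by norm_num)).of_imp imp7
noncomputable def lk25 : List (List ℕ × List ℕ × Pf) := []
noncomputable def O26 : ℕ := (nat_lit 32)
noncomputable def M27 : ℕ := (nat_lit 43)
noncomputable def b28 : ℕ := (nat_lit 11)
theorem cl29 : Clo.{u} io C5 [] 11 m4 M27 (mkB [(0,b28),(1,b22)]) := cl23.new (k := 1) (b := 0) (q := 3) (p := 5) (r := 200) (n := 1) (O := O26) (by decide +kernel) (lks := lk25) (by decide +kernel) (gens_of_lall2 (m := []) (by decide +kernel)) ix24 (by decide +kernel)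
noncomputable def b30 : ℕ := (nat_lit 42)
theorem cl31 : Clo.{u} io C5 [] 11 m4 M27 (mkB [(0,b28),(1,b30)]) := cl29.ops (os := [Op.inv 0]) (by decide +kernel) (by decide +kernel)
theorem ix32 : Idx.{u} io C5 [] [] 1 := (Idx.triv (Bound.nil) (by norm_num)).of_imp imp7
noncomputable def lk33 : List (List ℕ × List ℕ × Pf) := []
noncomputable def O34 : ℕ := (nat_lit 128)
noncomputable def M35 : ℕ := (nat_lit 171)
noncomputable def b36 : ℕ := (nat_lit 43)
theorem cl37 : Clo.{u} io C5 [] 11 m4 M35 (mkB [(0,b36),(1,b30)]) := cl31.new (k := 1) (b := 0) (q := 5) (p := 7) (r := 200) (n := 1) (O := O34) (by decide +kernel) (lks := lk33) (by decide +kernel) (gens_of_lall2 (m := []) (by decide +kernel)) ix32 (by decide +kernel)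
noncomputable def b38 : ℕ := (nat_lit 170)
theorem cl39 : Clo.{u} io C5 [] 11 m4 M35 (mkB [(0,b36),(1,b38)]) := cl37.ops (os := [Op.inv 0]) (by decide +kernel) (by decide +kernel)
theorem ix40 : Idx.{u} io C5 [] [] 1 := (Idx.triv (Bound.nil) (by norm_num)).of_imp imp7
noncomputable def lk41 : List (List ℕ × List ℕ × Pf) := []
noncomputable def O42 : ℕ := (nat_lit 512)
noncomputable def M43 : ℕ := (nat_lit 683)
noncomputable def b44 : ℕ := (nat_lit 171)
theorem cl45 : Clo.{u} io C5 [] 11 m4 M43 (mkB [(0,b44),(1,b38)]) := cl39.new (k := 1) (b := 0) (q := 7) (p := 9) (r := 200) (n := 1) (O := O42) (by decide +kernel) (lks := lk41) (by decide +kernel) (gens_of_lall2 (m := []) (by decide +kernel)) ix40 (by decide +kernel)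
noncomputable def b46 : ℕ := (nat_lit 682)
theorem cl47 : Clo.{u} io C5 [] 11 m4 M43 (mkB [(0,b44),(1,b46)]) := cl45.ops (os := [Op.inv 0]) (by decide +kernel) (by decide +kernel)
theorem ix48 : Idx.{u} io C5 [] [] 1 := (Idx.triv (Bound.nil) (by norm_num)).of_imp imp7
noncomputable def lk49 : List (List ℕ × List ℕ × Pf) := []
noncomputable def O50 : ℕ := (nat_lit 1024)
noncomputable def M51 : ℕ := (nat_lit 1707)
noncomputable def b52 : ℕ := (nat_lit 683)
theorem cl53 : Clo.{u} io C5 [] 11 m4 M51 (mkB [(0,b52),(1,b46)]) := cl47.new (k := 1) (b := 0) (q := 9) (p := 10) (r := 200) (n := 1) (O := O50) (by decide +kernel) (lks := lk49) (by decide +kernel) (gens_of_lall2 (m := []) (by decide +kernel)) ix48 (by decide +kernel)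
noncomputable def b54 : ℕ := (nat_lit 1706)
theorem cl55 : Clo.{u} io C5 [] 11 m4 M51 (mkB [(0,b52),(1,b54)]) := cl53.ops (os := [Op.inv 0]) (by decide +kernel) (by decide +kernel)
theorem ix56 : Idx.{u} io C5 [] [] 1 := (Idx.triv (Bound.nil) (by norm_num)).of_imp imp7
noncomputable def lk57 : List (List ℕ × List ℕ × Pf) := []
noncomputable def O58 : ℕ := (nat_lit 256)
noncomputable def M59 : ℕ := (nat_lit 1963)
noncomputable def b60 : ℕ := (nat_lit 1707)
theorem cl61 : Clo.{u} io C5 [] 11 m4 M59 (mkB [(0,b60),(1,b54)]) := cl55.new (k := 1) (b := 0) (q := 10) (p := 8) (r := 200) (n := 1) (O := O58) (by decide +kernel) (lks := lk57) (by decide +kernel) (gens_of_lall2 (m := []) (by decide +kernel)) ix56 (by decide +kernel)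
noncomputable def b62 : ℕ := (nat_lit 1962)
theorem cl63 : Clo.{u} io C5 [] 11 m4 M59 (mkB [(0,b60),(1,b62)]) := cl61.ops (os := [Op.inv 0]) (by decide +kernel) (by decide +kernel)
theorem ix64 : Idx.{u} io C5 [] [] 1 := (Idx.triv (Bound.nil) (by norm_num)).of_imp imp7
noncomputable def lk65 : List (List ℕ × List ℕ × Pf) := []
noncomputable def O66 : ℕ := (nat_lit 64)
noncomputable def M67 : ℕ := (nat_lit 2027)
noncomputable def b68 : ℕ := (nat_lit 1963)
theorem cl69 : Clo.{u} io C5 [] 11 m4 M67 (mkB [(0,b68),(1,b62)]) := cl63.new (k := 1) (b := 0) (q := 8) (p := 6) (r := 200) (n := 1) (O := O66) (by decide +kernel) (lks := lk65) (by decide +kernel) (gens_of_lall2 (m := []) (by decide +kernel)) ix64 (by decide +kernel)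
noncomputable def b70 : ℕ := (nat_lit 2026)
theorem cl71 : Clo.{u} io C5 [] 11 m4 M67 (mkB [(0,b68),(1,b70)]) := cl69.ops (os := [Op.inv 0]) (by decide +kernel) (by decide +kernel)
theorem ix72 : Idx.{u} io C5 [] [] 1 := (Idx.triv (Bound.nil) (by norm_num)).of_imp imp7
noncomputable def lk73 : List (List ℕ × List ℕ × Pf) := []
noncomputable def O74 : ℕ := (nat_lit 16)
noncomputable def M75 : ℕ := (nat_lit 2043)
noncomputable def b76 : ℕ := (nat_lit 2027)
theorem cl77 : Clo.{u} io C5 [] 11 m4 M75 (mkB [(0,b76),(1,b70)]) := cl71.new (k := 1) (b := 0) (q := 6) (p := 4) (r := 200) (n := 1) (O := O74) (by decide +kernel) (lks := lk73) (by decide +kernel) (gens_of_lall2 (m := []) (by decide +kernel)) ix72 (by decide +kernel)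
noncomputable def b78 : ℕ := (nat_lit 2042)
theorem cl79 : Clo.{u} io C5 [] 11 m4 M75 (mkB [(0,b76),(1,b78)]) := cl77.ops (os := [Op.inv 0]) (by decide +kernel) (by decide +kernel)
theorem ix80 : Idx.{u} io C5 [] [] 1 := (Idx.triv (Bound.nil) (by norm_num)).of_imp imp7
noncomputable def lk81 : List (List ℕ × List ℕ × Pf) := []
noncomputable def O82 : ℕ := (nat_lit 4)
noncomputable def M83 : ℕ := (nat_lit 2047)
noncomputable def b84 : ℕ := (nat_lit 2043)
theorem cl85 : Clo.{u} io C5 [] 11 m4 M83 (mkB [(0,b84),(1,b78)]) := cl79.new (k := 1) (b := 0) (q := 4) (p := 2) (r := 200) (n := 1) (O := O82) (by decide +kernel) (lks := lk81) (by decide +kernel) (gens_of_lall2 (m := []) (by decide +kernel)) ix80 (by decide +kernel)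
noncomputable def b86 : ℕ := (nat_lit 2047)
noncomputable def b87 : ℕ := (nat_lit 2047)
theorem cl88 : Clo.{u} io C5 [] 11 m4 M83 (mkB [(0,b86),(1,b87)]) := cl85.ops (os := [Op.inv 0,Op.rel 0 [] 1 [1,1,1,1,1,1,1,1,1] [([],1)],Op.inv 0]) (by decide +kernel) (by decide +kernel)
theorem sat90 : Sat io C5 (finG m4ok) := m4s0.fin (k := 4) (by decide +kernel)
theorem bd89 : Bound.{u} io C5 [0,1] 11 := cl88.bound (by decide +kernel) sat90 ((Bound.nil).of_imp imp7)
noncomputable def m91n0 : Net := (Net.cons (nat_lit 6) (nat_lit 53)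
  (Net.cons (nat_lit 3) (nat_lit 133)
  (Net.cons (nat_lit 1) (nat_lit 576)
  (Net.cons (nat_lit 1) (nat_lit 1168)
  (Net.cons (nat_lit 1) (nat_lit 65)
  (Net.cons (nat_lit 3) (nat_lit 4)
  (Net.cons (nat_lit 6) (nat_lit 38)
  Net.nil)))))))
noncomputable def m91n1 : Net := (Net.cons (nat_lit 6) (nat_lit 25)
  (Net.cons (nat_lit 3) (nat_lit 195)
  (Net.cons (nat_lit 1) (nat_lit 8)
  (Net.cons (nat_lit 1) (nat_lit 146)
  (Net.cons (nat_lit 1) (nat_lit 521)
  (Net.cons (nat_lit 3) (nat_lit 132)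
  (Net.cons (nat_lit 6) (nat_lit 10)
  Net.nil)))))))
noncomputable def m91n2 : Net := (Net.cons (nat_lit 6) (nat_lit 8)
  (Net.cons (nat_lit 3) (nat_lit 385)
  (Net.cons (nat_lit 1) (nat_lit 512)
  (Net.cons (nat_lit 1) (nat_lit 1040)
  (Net.cons (nat_lit 1) (nat_lit 577)
  (Net.cons (nat_lit 3) (nat_lit 390)
  (Net.cons (nat_lit 6) (nat_lit 20)
  Net.nil)))))))
noncomputable def m91n3 : Net := (Net.cons (nat_lit 6) (nat_lit 20)
  (Net.cons (nat_lit 3) (nat_lit 385)
  (Net.cons (nat_lit 1) (nat_lit 512)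
  (Net.cons (nat_lit 1) (nat_lit 1026)
  (Net.cons (nat_lit 1) (nat_lit 584)
  (Net.cons (nat_lit 3) (nat_lit 390)
  (Net.cons (nat_lit 6) (nat_lit 8)
  Net.nil)))))))
noncomputable def m91l : List Net := [m91n0,m91n1,m91n2,m91n3]
noncomputable abbrev m91 : ℕ → Net := lk Net.nil m91l
theorem m91ok : NetsOk 11 m91 vT := netsOk_of (by decide +kernel)
theorem m91s0 : Sat io [] (finG m91ok) := fin_sat_nil _ (k := 4) (n := 8) (by decide +kernel)
noncomputable def r1 : List ℕ := [2,2,2,2,2]
noncomputable def r2 : List ℕ := [3,0,2,1,1,1]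
noncomputable def m92n2 : Net := (Net.cons (nat_lit 1) (nat_lit 5)
  (Net.cons (nat_lit 1) (nat_lit 10)
  Net.nil))
noncomputable def m92n3 : Net := (Net.cons (nat_lit 1) (nat_lit 10)
  (Net.cons (nat_lit 1) (nat_lit 5)
  Net.nil))
noncomputable def m92l : List Net := [Net.nil,Net.nil,m92n2,m92n3]
noncomputable abbrev m92 : ℕ → Net := lk Net.nil m92l
theorem m92ok : NetsOk 5 m92 vT := netsOk_of (by decide +kernel)
theorem m92s0 : Sat io [] (finG m92ok) := fin_sat_nil _ (k := 3) (n := 8) (by decide +kernel)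
noncomputable def C93 : List (List ℕ) := [r0,r1,r2]
theorem cl94 : Clo.{u} io C93 [0,1] 5 m92 1 (mkB []) := Clo.start (by decide +kernel)
theorem imp95 : Imp.{u} io C93 C5 := Imp.of_chk (pfs := [[([],1)]]) (by decide +kernel)
theorem der97 : Der 11 (finX 11) (cl (finG m3ok) [[0]]) (fun _ => Net.nil) := Der.zero (finModel m3ok).inj
noncomputable def ns98 : ℕ → Net := upd (fun _ => Net.nil) 0 (m3 0)
theorem der99 : Der 11 (finX 11) (cl (finG m3ok) [[0]]) ns98 := der97.add (wp_mem_cl (w := [0]) (by decide)) (rep_letter (finModel m3ok) 0) 0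
noncomputable def L100 : Lev := Lev.cons 0 11 [[0]] Lev.nil
theorem lc101 : Lev.chk 11 1 ns98 vT 100 L100 = true := by decide +kernel
theorem lb102 : 11 ≤ Nat.card (cl (finG m3ok) [[0]]) := le_of_eq_of_le (by decide +kernel) (der99.card_ge lc101)
theorem sat103 : Sat io C5 (finG m3ok) := m3s0.fin (k := 4) (by decide +kernel)
theorem ix96 : Idx.{u} io C93 [0,1] [[0]] 1 := (Idx.of bd89 sat103 (by decide +kernel) lb102 (by decide +kernel)).of_imp imp95
noncomputable def lk104 : List (List ℕ × List ℕ × Pf) := [([0],[0,0,0],[([2],5)])]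
noncomputable def O105 : ℕ := (nat_lit 2)
noncomputable def M106 : ℕ := (nat_lit 3)
noncomputable def b107 : ℕ := (nat_lit 1)
theorem cl108 : Clo.{u} io C93 [0,1] 5 m92 M106 (mkB [(2,b107)]) := cl94.new (k := 0) (b := 2) (q := 0) (p := 1) (r := 200) (n := 1) (O := O105) (by decide +kernel) (lks := lk104) (by decide +kernel) (gens_of_lall2 (m := [[0]]) (by decide +kernel)) ix96 (by decide +kernel)
noncomputable def b109 : ℕ := (nat_lit 2)
theorem cl110 : Clo.{u} io C93 [0,1] 5 m92 M106 (mkB [(2,b107),(3,b109)]) := cl108.ops (os := [Op.inv 2]) (by decide +kernel) (by decide +kernel)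
theorem der112 : Der 11 (finX 11) (cl (finG m3ok) [[0]]) (fun _ => Net.nil) := Der.zero (finModel m3ok).inj
noncomputable def ns113 : ℕ → Net := upd (fun _ => Net.nil) 0 (m3 0)
theorem der114 : Der 11 (finX 11) (cl (finG m3ok) [[0]]) ns113 := der112.add (wp_mem_cl (w := [0]) (by decide)) (rep_letter (finModel m3ok) 0) 0
noncomputable def L115 : Lev := Lev.cons 0 11 [[0]] Lev.nil
theorem lc116 : Lev.chk 11 1 ns113 vT 100 L115 = true := by decide +kernel
theorem lb117 : 11 ≤ Nat.card (cl (finG m3ok) [[0]]) := le_of_eq_of_le (by decide +kernel) (der114.card_ge lc116)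
theorem ix111 : Idx.{u} io C93 [0,1] [[0]] 1 := (Idx.of bd89 sat103 (by decide +kernel) lb117 (by decide +kernel)).of_imp imp95
noncomputable def lk118 : List (List ℕ × List ℕ × Pf) := [([0],[0,0,0],[([2],5)])]
noncomputable def O119 : ℕ := (nat_lit 8)
noncomputable def M120 : ℕ := (nat_lit 11)
noncomputable def b121 : ℕ := (nat_lit 3)
theorem cl122 : Clo.{u} io C93 [0,1] 5 m92 M120 (mkB [(2,b121),(3,b109)]) := cl110.new (k := 0) (b := 2) (q := 1) (p := 3) (r := 200) (n := 1) (O := O119) (by decide +kernel) (lks := lk118) (by decide +kernel) (gens_of_lall2 (m := [[0]]) (by decide +kernel)) ix111 (by decide +kernel)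
noncomputable def b123 : ℕ := (nat_lit 10)
theorem cl124 : Clo.{u} io C93 [0,1] 5 m92 M120 (mkB [(2,b121),(3,b123)]) := cl122.ops (os := [Op.inv 2]) (by decide +kernel) (by decide +kernel)
theorem der126 : Der 11 (finX 11) (cl (finG m3ok) [[0]]) (fun _ => Net.nil) := Der.zero (finModel m3ok).inj
noncomputable def ns127 : ℕ → Net := upd (fun _ => Net.nil) 0 (m3 0)
theorem der128 : Der 11 (finX 11) (cl (finG m3ok) [[0]]) ns127 := der126.add (wp_mem_cl (w := [0]) (by decide)) (rep_letter (finModel m3ok) 0) 0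
noncomputable def L129 : Lev := Lev.cons 0 11 [[0]] Lev.nil
theorem lc130 : Lev.chk 11 1 ns127 vT 100 L129 = true := by decide +kernel
theorem lb131 : 11 ≤ Nat.card (cl (finG m3ok) [[0]]) := le_of_eq_of_le (by decide +kernel) (der128.card_ge lc130)
theorem ix125 : Idx.{u} io C93 [0,1] [[0]] 1 := (Idx.of bd89 sat103 (by decide +kernel) lb131 (by decide +kernel)).of_imp imp95
noncomputable def lk132 : List (List ℕ × List ℕ × Pf) := [([0],[0,0,0],[([2],5)])]
noncomputable def O133 : ℕ := (nat_lit 16)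
noncomputable def M134 : ℕ := (nat_lit 27)
noncomputable def b135 : ℕ := (nat_lit 11)
theorem cl136 : Clo.{u} io C93 [0,1] 5 m92 M134 (mkB [(2,b135),(3,b123)]) := cl124.new (k := 0) (b := 2) (q := 3) (p := 4) (r := 200) (n := 1) (O := O133) (by decide +kernel) (lks := lk132) (by decide +kernel) (gens_of_lall2 (m := [[0]]) (by decide +kernel)) ix125 (by decide +kernel)
noncomputable def b137 : ℕ := (nat_lit 26)
theorem cl138 : Clo.{u} io C93 [0,1] 5 m92 M134 (mkB [(2,b135),(3,b137)]) := cl136.ops (os := [Op.inv 2]) (by decide +kernel) (by decide +kernel)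
theorem der140 : Der 11 (finX 11) (cl (finG m3ok) [[0]]) (fun _ => Net.nil) := Der.zero (finModel m3ok).inj
noncomputable def ns141 : ℕ → Net := upd (fun _ => Net.nil) 0 (m3 0)
theorem der142 : Der 11 (finX 11) (cl (finG m3ok) [[0]]) ns141 := der140.add (wp_mem_cl (w := [0]) (by decide)) (rep_letter (finModel m3ok) 0) 0
noncomputable def L143 : Lev := Lev.cons 0 11 [[0]] Lev.nil
theorem lc144 : Lev.chk 11 1 ns141 vT 100 L143 = true := by decide +kernel
theorem lb145 : 11 ≤ Nat.card (cl (finG m3ok) [[0]]) := le_of_eq_of_le (by decide +kernel) (der142.card_ge lc144)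
theorem ix139 : Idx.{u} io C93 [0,1] [[0]] 1 := (Idx.of bd89 sat103 (by decide +kernel) lb145 (by decide +kernel)).of_imp imp95
noncomputable def lk146 : List (List ℕ × List ℕ × Pf) := [([0],[0,0,0],[([2],5)])]
noncomputable def O147 : ℕ := (nat_lit 4)
noncomputable def M148 : ℕ := (nat_lit 31)
noncomputable def b149 : ℕ := (nat_lit 27)
theorem cl150 : Clo.{u} io C93 [0,1] 5 m92 M148 (mkB [(2,b149),(3,b137)]) := cl138.new (k := 0) (b := 2) (q := 4) (p := 2) (r := 200) (n := 1) (O := O147) (by decide +kernel) (lks := lk146) (by decide +kernel) (gens_of_lall2 (m := [[0]]) (by decide +kernel)) ix139 (by decide +kernel)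
noncomputable def b151 : ℕ := (nat_lit 31)
noncomputable def b152 : ℕ := (nat_lit 31)
theorem cl153 : Clo.{u} io C93 [0,1] 5 m92 M148 (mkB [(2,b151),(3,b152)]) := cl150.ops (os := [Op.inv 2,Op.rel 2 [] 3 [3,3,3] [([],3)],Op.inv 2]) (by decide +kernel) (by decide +kernel)
theorem sat155 : Sat io C93 (finG m92ok) := m92s0.fin (k := 3) (by decide +kernel)
theorem bd154 : Bound.{u} io C93 [0,1,2,3] 55 := cl153.bound (by decide +kernel) sat155 (bd89.of_imp imp95)
noncomputable def m156n0 : Net := (Net.cons (nat_lit 6) (nat_lit 36)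
  (Net.cons (nat_lit 3) (nat_lit 69)
  (Net.cons (nat_lit 1) (nat_lit 8)
  (Net.cons (nat_lit 1) (nat_lit 1168)
  (Net.cons (nat_lit 1) (nat_lit 65)
  (Net.cons (nat_lit 3) (nat_lit 132)
  (Net.cons (nat_lit 6) (nat_lit 42)
  Net.nil)))))))
noncomputable def m156n1 : Net := (Net.cons (nat_lit 6) (nat_lit 42)
  (Net.cons (nat_lit 3) (nat_lit 66)
  (Net.cons (nat_lit 1) (nat_lit 512)
  (Net.cons (nat_lit 1) (nat_lit 1154)
  (Net.cons (nat_lit 1) (nat_lit 9)
  (Net.cons (nat_lit 3) (nat_lit 256)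
  (Net.cons (nat_lit 6) (nat_lit 36)
  Net.nil)))))))
noncomputable def m156n2 : Net := (Net.cons (nat_lit 6) (nat_lit 32)
  (Net.cons (nat_lit 3) (nat_lit 449)
  (Net.cons (nat_lit 1) (nat_lit 513)
  (Net.cons (nat_lit 1) (nat_lit 1154)
  (Net.cons (nat_lit 1) (nat_lit 512)
  (Net.cons (nat_lit 3) (nat_lit 130)
  (Net.cons (nat_lit 6) (nat_lit 32)
  Net.nil)))))))
noncomputable def m156n3 : Net := (Net.cons (nat_lit 6) (nat_lit 32)
  (Net.cons (nat_lit 3) (nat_lit 325)
  (Net.cons (nat_lit 1) (nat_lit 64)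
  (Net.cons (nat_lit 1) (nat_lit 1168)
  (Net.cons (nat_lit 1) (nat_lit 72)
  (Net.cons (nat_lit 3) (nat_lit 6)
  (Net.cons (nat_lit 6) (nat_lit 32)
  Net.nil)))))))
noncomputable def m156n4 : Net := (Net.cons (nat_lit 6) (nat_lit 32)
  (Net.cons (nat_lit 3) (nat_lit 134)
  (Net.cons (nat_lit 1) (nat_lit 520)
  (Net.cons (nat_lit 1) (nat_lit 1168)
  (Net.cons (nat_lit 1) (nat_lit 521)
  (Net.cons (nat_lit 3) (nat_lit 134)
  (Net.cons (nat_lit 6) (nat_lit 32)
  Net.nil)))))))
noncomputable def m156l : List Net := [m156n0,m156n1,m156n2,m156n3,m156n4,m156n4]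
noncomputable abbrev m156 : ℕ → Net := lk Net.nil m156l
theorem m156ok : NetsOk 11 m156 vT := netsOk_of (by decide +kernel)
theorem m156s0 : Sat io [] (finG m156ok) := fin_sat_nil _ (k := 4) (n := 8) (by decide +kernel)
noncomputable def r3 : List ℕ := [4,4]
noncomputable def r4 : List ℕ := [4,0,0,4,0,0,4,0,0]
noncomputable def r5 : List ℕ := [5,2,4,2]
noncomputable def m157n0 : Net := (Net.cons (nat_lit 6) (nat_lit 46)
  (Net.cons (nat_lit 3) (nat_lit 388)
  (Net.cons (nat_lit 1) (nat_lit 512)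
  (Net.cons (nat_lit 1) (nat_lit 1168)
  (Net.cons (nat_lit 1) (nat_lit 72)
  (Net.cons (nat_lit 3) (nat_lit 390)
  (Net.cons (nat_lit 6) (nat_lit 26)
  Net.nil)))))))
noncomputable def m157n1 : Net := (Net.cons (nat_lit 6) (nat_lit 26)
  (Net.cons (nat_lit 3) (nat_lit 390)
  (Net.cons (nat_lit 1) (nat_lit 72)
  (Net.cons (nat_lit 1) (nat_lit 1168)
  (Net.cons (nat_lit 1) (nat_lit 512)
  (Net.cons (nat_lit 3) (nat_lit 388)
  (Net.cons (nat_lit 6) (nat_lit 46)
  Net.nil)))))))
noncomputable def m157n2 : Net := (Net.cons (nat_lit 6) (nat_lit 4)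
  (Net.cons (nat_lit 3) (nat_lit 132)
  (Net.cons (nat_lit 1) (nat_lit 64)
  (Net.cons (nat_lit 1) (nat_lit 128)
  (Net.cons (nat_lit 1) (nat_lit 576)
  (Net.cons (nat_lit 6) (nat_lit 56)
  Net.nil))))))
noncomputable def m157n3 : Net := (Net.cons (nat_lit 6) (nat_lit 56)
  (Net.cons (nat_lit 3) (nat_lit 4)
  (Net.cons (nat_lit 1) (nat_lit 64)
  (Net.cons (nat_lit 1) (nat_lit 128)
  (Net.cons (nat_lit 1) (nat_lit 576)
  (Net.cons (nat_lit 3) (nat_lit 128)
  (Net.cons (nat_lit 6) (nat_lit 4)
  Net.nil)))))))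
noncomputable def m157n4 : Net := (Net.cons (nat_lit 6) (nat_lit 4)
  (Net.cons (nat_lit 3) (nat_lit 193)
  (Net.cons (nat_lit 1) (nat_lit 65)
  (Net.cons (nat_lit 1) (nat_lit 1170)
  (Net.cons (nat_lit 1) (nat_lit 520)
  (Net.cons (nat_lit 3) (nat_lit 262)
  (Net.cons (nat_lit 6) (nat_lit 4)
  Net.nil)))))))
noncomputable def m157l : List Net := [m157n0,m157n1,m157n2,m157n3,m157n4,m157n4]
noncomputable abbrev m157 : ℕ → Net := lk Net.nil m157l
theorem m157ok : NetsOk 12 m157 vT := netsOk_of (by decide +kernel)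
theorem m157s0 : Sat io [] (finG m157ok) := fin_sat_nil _ (k := 4) (n := 8) (by decide +kernel)
noncomputable def C158 : List (List ℕ) := [r0,r1,r2,r3,r4,r5]
theorem cl159 : Clo.{u} io C158 [0,1,2,3] 12 m157 1 (mkB []) := Clo.start (by decide +kernel)
theorem imp160 : Imp.{u} io C158 C93 := Imp.of_chk (pfs := [[([],1)],[([],3)],[([],5)]]) (by decide +kernel)
theorem der162 : Der 11 (finX 11) (cl (finG m91ok) [[2]]) (fun _ => Net.nil) := Der.zero (finModel m91ok).inj
noncomputable def ns163 : ℕ → Net := upd (fun _ => Net.nil) 0 (m91 2)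
theorem der164 : Der 11 (finX 11) (cl (finG m91ok) [[2]]) ns163 := der162.add (wp_mem_cl (w := [2]) (by decide)) (rep_letter (finModel m91ok) 2) 0
noncomputable def L165 : Lev := Lev.cons 0 5 [[0]] Lev.nil
theorem lc166 : Lev.chk 11 1 ns163 vT 100 L165 = true := by decide +kernel
theorem lb167 : 5 ≤ Nat.card (cl (finG m91ok) [[2]]) := le_of_eq_of_le (by decide +kernel) (der164.card_ge lc166)
theorem sat168 : Sat io C93 (finG m91ok) := m91s0.fin (k := 4) (by decide +kernel)
theorem ix161 : Idx.{u} io C158 [0,1,2,3] [[2]] 11 := (Idx.of bd154 sat168 (by decide +kernel) lb167 (by decide +kernel)).of_imp imp160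
noncomputable def lk169 : List (List ℕ × List ℕ × Pf) := [([2],[3],[([4],11)])]
noncomputable def O170 : ℕ := (nat_lit 4094)
noncomputable def M171 : ℕ := (nat_lit 4095)
noncomputable def b172 : ℕ := (nat_lit 1)
theorem cl173 : Clo.{u} io C158 [0,1,2,3] 12 m157 M171 (mkB [(4,b172)]) := cl159.new (k := 1) (b := 4) (q := 0) (p := 1) (r := 200) (n := 11) (O := O170) (by decide +kernel) (lks := lk169) (by decide +kernel) (gens_of_lall2 (m := [[0]]) (by decide +kernel)) ix161 (by decide +kernel)
noncomputable def b174 : ℕ := (nat_lit 4095)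
noncomputable def b175 : ℕ := (nat_lit 4095)
theorem cl176 : Clo.{u} io C158 [0,1,2,3] 12 m157 M171 (mkB [(4,b174),(5,b175)]) := cl173.ops (os := [Op.inv 4,Op.rel 4 [] 5 [] [([],7)],Op.inv 4,Op.rel 4 [0,0] 5 [1,1,5,1,1] [([5],9)],Op.ext 4 3 [([2],[3],[([4],11)]),([3],[2],[([4,2],10)])],Op.inv 4,Op.rel 4 [] 5 [] [([],7)],Op.inv 4]) (by decide +kernel) (by decide +kernel)
theorem sat178 : Sat io C158 (finG m157ok) := m157s0.fin (k := 4) (by decide +kernel)
theorem bd177 : Bound.{u} io C158 [0,1,2,3,4,5] 660 := cl176.bound (by decide +kernel) sat178 (bd154.of_imp imp160)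
noncomputable def r6 : List ℕ := [6,6]
noncomputable def r7 : List ℕ := [6,0,2,6,0,2,6,0,2]
noncomputable def r8 : List ℕ := [7,2,6,2]
noncomputable def r9 : List ℕ := [7,5,6,4,6,3,5]
noncomputable def r10 : List ℕ := [7,5,7,4,6,3,5]
noncomputable def r11 : List ℕ := [7,1,3,5,1,1,6,4,0,6,3,0,0,5,3]
noncomputable def r12 : List ℕ := [7,1,3,5,1,1,7,4,0,6,3,0,0,5,3]
noncomputable def m179n0 : Net := (Net.cons (nat_lit 160) (nat_lit 0xe8ee0d46aa936f352a0c48b3a912d0adb4cc4410)
  (Net.cons (nat_lit 80) (nat_lit 0xc4de1dbd2cbc2fa0022c00000000000000000000717bd4bb48b7b484ed1a)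
  (Net.cons (nat_lit 40) (nat_lit 0xddd8c198b400000000006b9aa7333b000000000061b2fbda940000000000b3821b2218)
  (Net.cons (nat_lit 20) (nat_lit 0xb6e42000004553e00000f6350000000b636000002bb080000055951000002cb2900000c9906)
  (Net.cons (nat_lit 10) (nat_lit 0x236001f8001a7000c0002040018d00122001b7002400029c000a00011d00254002dc00388000b6)
  (Net.cons (nat_lit 5) (nat_lit 0x78140001602c1a0340903812050190501b0340902c18020020201f054120481a01c0e0381802016)
  (Net.cons (nat_lit 1) (nat_lit 0x4200002000000080000000000001004240800000000000000800000000000a0000000000100000)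
  (Net.cons (nat_lit 1) (nat_lit 0x28404004a000005010012042001420084a10840021020000a101020010002140028480280a50840)
  (Net.cons (nat_lit 1) (nat_lit 0x108428484080a421085210a42048501085210802148501085200a521481010a5010852900529480)
  (Net.cons (nat_lit 1) (nat_lit 0x1290a5290a1204a50942408481294a0210a5210a40942129025094a4084a129421294a1290a12942)
  (Net.cons (nat_lit 1) (nat_lit 0x200a1004a0010000840401480204240940129001084002000408004204a5000a5014242040501400)
  (Net.cons (nat_lit 5) (nat_lit 0x781406012038100181a0081805010050180601005814060120201c070080001a008080200803814)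
  (Net.cons (nat_lit 10) (nat_lit 0x234003980038c00112002180018c00382003ac00346000c8000840014400244002020038000126)
  (Net.cons (nat_lit 20) (nat_lit 0xab842000000b65e00000b64120000003620000007f3080000076a00000000ca660000050102)
  (Net.cons (nat_lit 40) (nat_lit 0x7592c145be0000000000e8fa2f718a000000000046829fc2800000000000bf13b9cb58)
  (Net.cons (nat_lit 80) (nat_lit 0xc45c10f9263c4ee7b04a00000000000000000000647a46130cdb257fc618)
  (Net.cons (nat_lit 160) (nat_lit 0xe8ee0d46aa936ec338ae786816a19ee666997200)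
  Net.nil)))))))))))))))))
noncomputable def m179n1 : Net := (Net.cons (nat_lit 160) (nat_lit 0xe8ee0d46aa936ec338ae786816a19ee666997200)
  (Net.cons (nat_lit 80) (nat_lit 0xc45c10f9263c4ee7b04a00000000000000000000a18ee462b0cf0e5b8e44)
  (Net.cons (nat_lit 40) (nat_lit 0x7592c145be00000000001305d88e6500000000008a9522e921000000000002b0299250)
  (Net.cons (nat_lit 20) (nat_lit 0xab842000000b65e000000362000000c316a0000023155000008f39b000005130b0000011d16)
  (Net.cons (nat_lit 10) (nat_lit 0x2340039800073001120038200053000f2003360025e002d80013c00167003050025000010001ca)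
  (Net.cons (nat_lit 5) (nat_lit 0x78140601204811064050500700c030281003c1c0600405801060110700a024000201c03c0e0400c)
  (Net.cons (nat_lit 1) (nat_lit 0x400000200000008000280000000000001000000800000005004050000000400)
  (Net.cons (nat_lit 1) (nat_lit 0x29001010a0000002802021484010812008520005014a5280200900508020000a0080a1000000800)
  (Net.cons (nat_lit 1) (nat_lit 0x210a1204a40008009084014a428085294842948128085210a4090a429485000052140528085010a4)
  (Net.cons (nat_lit 1) (nat_lit 0x1294a4294a1290212848029421294a528425084a109425284a520485284a0200a4284a1294252848)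
  (Net.cons (nat_lit 1) (nat_lit 0x4242842029001204a408481000050808028081200a008025290000048409405004042900520004)
  (Net.cons (nat_lit 5) (nat_lit 0x7814000160481404816050040300205810058100681a008000201e04004060000101c0101e00000)
  (Net.cons (nat_lit 10) (nat_lit 0x236001f800258000c00012200248002f2000e6002d4002f8001040016400314002100000800142)
  (Net.cons (nat_lit 20) (nat_lit 0xb6e42000004553e000000b6360000040480000002c184000008ab940000050a0c000000dd04)
  (Net.cons (nat_lit 40) (nat_lit 0xddd8c198b4000000000090655ccc8400000000008e1914cac0000000000012c0613f18)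
  (Net.cons (nat_lit 80) (nat_lit 0xc4de1dbd2cbc2fa0022c00000000000000000000a79f14eba4871faeda38)
  (Net.cons (nat_lit 160) (nat_lit 0xe8ee0d46aa936f352a0c48b3a912d0adb4cc4410)
  Net.nil)))))))))))))))))
noncomputable def m179n2 : Net := (Net.cons (nat_lit 160) (nat_lit 0x8c00e58847504b58c34f4a8f3c9cffdefbfedfd6)
  (Net.cons (nat_lit 80) (nat_lit 0x15c4bd9c5105069ca148000000000000000000003a179e85d5cb7f53c6ba)
  (Net.cons (nat_lit 40) (nat_lit 0xd482554c840000000000cc83ce1fce0000000000d2a188fa810000000000bdda0e3766)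
  (Net.cons (nat_lit 20) (nat_lit 0x590db00000d07970000063164000009c99000000ef118000002d1c9000000f9fc00000afa10)
  (Net.cons (nat_lit 10) (nat_lit 0x19600012003490024800084003d1002dd003da0029000038003d900257000720026a001fc001fa)
  (Net.cons (nat_lit 5) (nat_lit 0x440901c0a0700403c000200e0101f060150680905c06038040181005c1405812020040441000c12)
  (Net.cons (nat_lit 1) (nat_lit 0x20080000000000080000000000000080000000000000004000200142000400)
  (Net.cons (nat_lit 1) (nat_lit 0x4000000008100000014010140401000094000948020021214042800000085000a00140529421080a)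
  (Net.cons (nat_lit 1) (nat_lit 0x280010808420080200a0210a0280a5090a1210a501404214a5294852140529005010a42948429004)
  (Net.cons (nat_lit 1) (nat_lit 0x500021004a4014010940508421084a129424284a0290852842509421294a5294a12942529485200a)
  (Net.cons (nat_lit 1) (nat_lit 0x84052848100400004242900429424294a1280250840121405000a02008508004004842042028400)
  (Net.cons (nat_lit 5) (nat_lit 0x500801808070040200001016010020501e0400c05816018000601e030180000e068160000607810)
  (Net.cons (nat_lit 10) (nat_lit 0x1b2000120000a002e400380002f80037e001e20038800114003b8002360002400238001aa001ea)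
  (Net.cons (nat_lit 20) (nat_lit 0xc0dc00000517c000000818c00000096a3600000e486000000077d800000b80b8000008dc10)
  (Net.cons (nat_lit 40) (nat_lit 0xc1c228c0d0000000000046baef5eea0000000000f2c41c7d1000000000008cdf7d1864)
  (Net.cons (nat_lit 80) (nat_lit 0x19c49c1c174504b45b040000000000000000000029fd8485fdea5ae2f380)
  (Net.cons (nat_lit 160) (nat_lit 0x8c00e58847504a8c95ede49a313dff6a7b7f7dfe)
  Net.nil)))))))))))))))))
noncomputable def m179n3 : Net := (Net.cons (nat_lit 160) (nat_lit 0x8c00e58847504a8c95ede49a313dff6a7b7f7dfe)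
  (Net.cons (nat_lit 80) (nat_lit 0x19c49c1c174504b45b040000000000000000000029fd8485fdea5ae2f3c0)
  (Net.cons (nat_lit 40) (nat_lit 0xc1c228c0d00000000000c6bb675f6e0000000000f3451c6908000000000023008267b2)
  (Net.cons (nat_lit 20) (nat_lit 0x51c2300000ae83f00000038cc0000096b6600000c21e90000080ff100000a771c000005341e)
  (Net.cons (nat_lit 10) (nat_lit 0x12001b2002e4000150032e0010f0024100318003220011500312001d30021e00314002d800338)
  (Net.cons (nat_lit 5) (nat_lit 0x240800c0501c00010100280c0341104401018010401a0500001c09038110281e038080181e04816)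
  (Net.cons (nat_lit 1) (nat_lit 0x1004000002000000200800040101400080200040000000080200000000400000200100000020)
  (Net.cons (nat_lit 1) (nat_lit 0x2008000014000100501400080242800100400084802040108400000042948001485284210948)
  (Net.cons (nat_lit 1) (nat_lit 0x1484010a0080a000080280a4010a4294252108001085214a1214a421004210a40148429485290a4)
  (Net.cons (nat_lit 1) (nat_lit 0x8480204010940100485004a1204a5284a5094a02902409425294812942129424094a1294212142)
  (Net.cons (nat_lit 1) (nat_lit 0x84840942001024000850908429420010a008025214a42008101080204a520020004a00908521024)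
  (Net.cons (nat_lit 5) (nat_lit 0x200a0180400000010000180801018020160381c050120100407008020000600a0001c0780200010)
  (Net.cons (nat_lit 10) (nat_lit 0x12001960024800312003880002e0030000010002aa000280027a001a20000e003000028600338)
  (Net.cons (nat_lit 20) (nat_lit 0x4c24000002f868000006394400000949c00000080500000009d84a0000095c0400000cb40a)
  (Net.cons (nat_lit 40) (nat_lit 0xd482554c840000000000cc82061f820000000000f2a008eb0000000000000225f10d88)
  (Net.cons (nat_lit 80) (nat_lit 0x15c4bd9c5105069ca1480000000000000000000038179e85d5cb7f53c6ba)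
  (Net.cons (nat_lit 160) (nat_lit 0x8c00e58847504b58c34f4a8f3c9cffdefbfedfd6)
  Net.nil)))))))))))))))))
noncomputable def m179n4 : Net := (Net.cons (nat_lit 160) (nat_lit 0x3804054e40082240000601c00002004004008000)
  (Net.cons (nat_lit 80) (nat_lit 0x357486438349c3e29010000000000000000000005fe0bdc6ef6f0c0a2088)
  (Net.cons (nat_lit 40) (nat_lit 0x15620746800000000000868155604800000000000cef45da69000000000007a7a00e08)
  (Net.cons (nat_lit 20) (nat_lit 0x2522000000f47b0000009b06000000f169c00000aee2400000d86b1000004d4ea000002fa08)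
  (Net.cons (nat_lit 10) (nat_lit 0x1000e50004e000a00021800155000e000299001640027a002c40019c003f8000670012c)
  (Net.cons (nat_lit 5) (nat_lit 0x100380a0780c000080100506c0807c08060000601e02407044050581b0180206c1c0081503004)
  (Net.cons (nat_lit 1) (nat_lit 0x400000200800000000000000000000020000200000020001080000040120400000000800000000)
  (Net.cons (nat_lit 1) (nat_lit 0x2800001405000a0000a5000a0000000142029401000050802520080280a5280040802121420000a)
  (Net.cons (nat_lit 1) (nat_lit 0x9080010a52848528005280042940409485010a12800029484210040940429081290052948501084)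
  (Net.cons (nat_lit 1) (nat_lit 0x12848109425290a1210a5204a10908109424294a10802528485090a5290a5290212002509424214a)
  (Net.cons (nat_lit 1) (nat_lit 0x848001424084a0284000000029424284a5080212102028420284a009404204a500485000a128084)
  (Net.cons (nat_lit 5) (nat_lit 0x100380a0780400008010040000800008060000080000008010100481e008020100c0681c04004)
  (Net.cons (nat_lit 10) (nat_lit 0x140000640000e000200021800054000e0000cc0016c00352003b000194003f8001900012c)
  (Net.cons (nat_lit 20) (nat_lit 0x2522000000f47b0000009b06000000f169c00000f6e2000000b71a8000004d4ea000002fa08)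
  (Net.cons (nat_lit 40) (nat_lit 0x1562074680000000000086815560480000000000d26526da14000000000007a7b01e00)
  (Net.cons (nat_lit 80) (nat_lit 0x357486438349c3e29010000000000000000000005fe0bdc6ef6d0c0a3080)
  (Net.cons (nat_lit 160) (nat_lit 0x3804054e40082240000601c00002004004008000)
  Net.nil)))))))))))))))))
noncomputable def m179n6 : Net := (Net.cons (nat_lit 160) (nat_lit 0xd1c27bf9ae4bd42d6f7a18029c00206000244000)
  (Net.cons (nat_lit 80) (nat_lit 0xeb08d27103bbc1d9619800000000000000000000b0d1b63a787101928000)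
  (Net.cons (nat_lit 40) (nat_lit 0xda58a828040000000000c6308480c600000000008ceb7900200000000000ac220b028c)
  (Net.cons (nat_lit 20) (nat_lit 0x7c8a2000003aafe000009560000000e48200000072e88000007ba10000004040000000c8500)
  (Net.cons (nat_lit 10) (nat_lit 0x240002ac003550034600350000b4003e0002e00036c00244001aa0016600214001d8001d400300)
  (Net.cons (nat_lit 5) (nat_lit 0x400a038150301e03416020110001a0780805c0305c0202010050080401903418060060141906404)
  (Net.cons (nat_lit 1) (nat_lit 0x8020000040040000000000000008000005000850000000000000050000000400000000100520400)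
  (Net.cons (nat_lit 1) (nat_lit 0x501400000a128081000002800101405000a0014a00000500000080a5000a40840000005284a52800)
  (Net.cons (nat_lit 1) (nat_lit 0x200a029025290a42908101485290a020085090a528085200810142520004290a400081214a529000)
  (Net.cons (nat_lit 1) (nat_lit 0x501401084a5284a1294a02842129425210a5294a108425010a0094a5004a12048021025094a52800)
  (Net.cons (nat_lit 1) (nat_lit 0x9421010a0200a529481000a42908400485204a00148520081000252040008404280812808429021)
  (Net.cons (nat_lit 5) (nat_lit 0x40020101806818010140000a0101a06808030180200202010010080401004018060040181202800)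
  (Net.cons (nat_lit 10) (nat_lit 0x24000288001d20034400350000e0003c0002b40036c00244001aa0016200214001c80032400300)
  (Net.cons (nat_lit 20) (nat_lit 0x7c8a20000060afc000009540000000e48200000062e88000007ba10000004040000000ca900)
  (Net.cons (nat_lit 40) (nat_lit 0x9298a820000000000000c23084811000000000008cea7900000000000000ac220b028c)
  (Net.cons (nat_lit 80) (nat_lit 0xeb08907103bbc1d9619800000000000000000000b0d1b63a787101928000)
  (Net.cons (nat_lit 160) (nat_lit 0xd1c27bf9ae4bd42d6f7a18029c00206000244000)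
  Net.nil)))))))))))))))))
noncomputable def m179l : List Net := [m179n0,m179n1,m179n2,m179n3,m179n4,m179n4,m179n6,m179n6]
noncomputable abbrev m179 : ℕ → Net := lk Net.nil m179l
theorem m179ok : NetsOk 266 m179 vT := netsOk_of (by decide +kernel)
theorem m179s0 : Sat io [] (finG m179ok) := fin_sat_nil _ (k := 9) (n := 8) (by decide +kernel)
noncomputable def C180 : List (List ℕ) := [r0,r1,r2,r3,r4,r5,r6,r7,r8,r9,r10,r11,r12]
theorem cl181 : Clo.{u} io C180 [0,1,2,3,4,5] 266 m179 1 (mkB []) := Clo.start (by decide +kernel)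
theorem imp182 : Imp.{u} io C180 C158 := Imp.of_chk (pfs := [[([],1)],[([],3)],[([],5)],[([],7)],[([],9)],[([],11)]]) (by decide +kernel)
theorem der184 : Der 11 (finX 11) (cl (finG m156ok) [[2]]) (fun _ => Net.nil) := Der.zero (finModel m156ok).inj
noncomputable def ns185 : ℕ → Net := upd (fun _ => Net.nil) 0 (m156 2)
theorem der186 : Der 11 (finX 11) (cl (finG m156ok) [[2]]) ns185 := der184.add (wp_mem_cl (w := [2]) (by decide)) (rep_letter (finModel m156ok) 2) 0
noncomputable def L187 : Lev := Lev.cons 0 5 [[0]] Lev.nil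
theorem lc188 : Lev.chk 11 1 ns185 vT 100 L187 = true := by decide +kernel
theorem lb189 : 5 ≤ Nat.card (cl (finG m156ok) [[2]]) := le_of_eq_of_le (by decide +kernel) (der186.card_ge lc188)
theorem sat190 : Sat io C158 (finG m156ok) := m156s0.fin (k := 4) (by decide +kernel)
theorem ix183 : Idx.{u} io C180 [0,1,2,3,4,5] [[2]] 132 := (Idx.of bd177 sat190 (by decide +kernel) lb189 (by decide +kernel)).of_imp imp182
noncomputable def lk191 : List (List ℕ × List ℕ × Pf) := [([2],[3],[([6],17)])]
noncomputable def O192 : ℕ := (nat_lit 0x204805b72a1aefbdfbdff7bfffffbfffffffffffffe)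
noncomputable def M193 : ℕ := (nat_lit 0x204805b72a1aefbdfbdff7bfffffbffffffffffffff)
noncomputable def b194 : ℕ := (nat_lit 1)
theorem cl195 : Clo.{u} io C180 [0,1,2,3,4,5] 266 m179 M193 (mkB [(6,b194)]) := cl181.new (k := 6) (b := 6) (q := 0) (p := 1) (r := 200) (n := 132) (O := O192) (by decide +kernel) (lks := lk191) (by decide +kernel) (gens_of_lall2 (m := [[0]]) (by decide +kernel)) ix183 (by decide +kernel)
noncomputable def b196 : ℕ := (nat_lit 0x59000000b00b001800476b202db6eeffdfffff)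
noncomputable def b197 : ℕ := (nat_lit 0x59000000b00b001800476b202db6eeffdfffff)
theorem cl198 : Clo.{u} io C180 [0,1,2,3,4,5] 266 m179 M193 (mkB [(6,b196),(7,b197)]) := cl195.ops (os := [Op.inv 6,Op.rel 6 [] 7 [] [([],13)],Op.inv 6,Op.rel 7 [3,5] 7 [5,7,4] [([7,5,7,4,6],19)],Op.inv 7,Op.rel 6 [0,2] 7 [3,1,7,3,1] [([7],15)],Op.ext 6 3 [([2],[3],[([6],17)]),([3],[2],[([6,2],16)])],Op.inv 6,Op.rel 6 [] 7 [] [([],13)],Op.inv 6,Op.rel 7 [3,0,0,5,3] 7 [1,5,7,0,0,4,2,0] [([7,1,5,7,0,0,4,2,0,6],23)],Op.ext 7 3 [([2],[3],[([7,3,6],17)]),([3],[2],[([],16)])],Op.inv 7,Op.rel 6 [] 7 [] [([],13)],Op.inv 6,Op.rel 6 [0,2] 7 [3,1,7,3,1] [([7],15)],Op.ext 6 3 [([2],[3],[([6],17)]),([3],[2],[([6,2],16)])],Op.inv 6,Op.rel 6 [] 7 [] [([],13)],Op.inv 6,Op.rel 7 [3,0,0,5,3] 7 [1,5,7,0,0,4,2,0] [([7,1,5,7,0,0,4,2,0,6],23)],Op.ext 7 3 [([2],[3],[([7,3,6],17)]),([3],[2],[([],16)])],Op.inv 7,Op.rel 6 [0,2] 7 [3,1,7,3,1] [([7],15)],Op.ext 6 3 [([2],[3],[([6],17)]),([3],[2],[([6,2],16)])],Op.inv 6]) (by decide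 +kernel) (by decide +kernel)
theorem der200 : Der 11 (finX 11) (cl (finG m156ok) [[2,5,3],[3,4,0,0,4,2,0],[4,0,2]]) (fun _ => Net.nil) := Der.zero (finModel m156ok).inj
noncomputable def x201 : Net := (Net.cons (nat_lit 6) (nat_lit 32)
  (Net.cons (nat_lit 3) (nat_lit 1)
  (Net.cons (nat_lit 1) (nat_lit 64)
  (Net.cons (nat_lit 1) (nat_lit 1154)
  (Net.cons (nat_lit 1) (nat_lit 64)
  (Net.cons (nat_lit 6) (nat_lit 32)
  Net.nil))))))
noncomputable def ns202 : ℕ → Net := upd (fun _ => Net.nil) 0 x201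
theorem der203 : Der 11 (finX 11) (cl (finG m156ok) [[2,5,3],[3,4,0,0,4,2,0],[4,0,2]]) ns202 := der200.add (wp_mem_cl (w := [2,5,3]) (by decide)) ((finModel m156ok).toIsPre.rep_word (k := 4) (w := [2,5,3]) (n := x201) (by decide +kernel)) 0
noncomputable def x204 : Net := (Net.cons (nat_lit 6) (nat_lit 41)
  (Net.cons (nat_lit 3) (nat_lit 260)
  (Net.cons (nat_lit 1) (nat_lit 8)
  (Net.cons (nat_lit 1) (nat_lit 16)
  (Net.cons (nat_lit 1) (nat_lit 520)
  (Net.cons (nat_lit 3) (nat_lit 4)
  (Net.cons (nat_lit 6) (nat_lit 40)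
  Net.nil)))))))
noncomputable def ns205 : ℕ → Net := upd ns202 1 x204
theorem der206 : Der 11 (finX 11) (cl (finG m156ok) [[2,5,3],[3,4,0,0,4,2,0],[4,0,2]]) ns205 := der203.add (wp_mem_cl (w := [3,4,0,0,4,2,0]) (by decide)) ((finModel m156ok).toIsPre.rep_word (k := 4) (w := [3,4,0,0,4,2,0]) (n := x204) (by decide +kernel)) 1
noncomputable def x207 : Net := (Net.cons (nat_lit 6) (nat_lit 61)
  (Net.cons (nat_lit 3) (nat_lit 391)
  (Net.cons (nat_lit 1) (nat_lit 520)
  (Net.cons (nat_lit 1) (nat_lit 1040)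
  (Net.cons (nat_lit 3) (nat_lit 132)
  (Net.cons (nat_lit 6) (nat_lit 48)
  Net.nil))))))
noncomputable def ns208 : ℕ → Net := upd ns205 2 x207
theorem der209 : Der 11 (finX 11) (cl (finG m156ok) [[2,5,3],[3,4,0,0,4,2,0],[4,0,2]]) ns208 := der206.add (wp_mem_cl (w := [4,0,2]) (by decide)) ((finModel m156ok).toIsPre.rep_word (k := 4) (w := [4,0,2]) (n := x207) (by decide +kernel)) 2
noncomputable def L210 : Lev := Lev.cons 0 6 [[0],[1]] Lev.nil
noncomputable def L211 : Lev := Lev.cons 7 10 [[2]] L210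
theorem lc212 : Lev.chk 11 1 ns208 vT 100 L211 = true := by decide +kernel
theorem lb213 : 60 ≤ Nat.card (cl (finG m156ok) [[2,5,3],[3,4,0,0,4,2,0],[4,0,2]]) := le_of_eq_of_le (by decide +kernel) (der209.card_ge lc212)
theorem ix199 : Idx.{u} io C180 [0,1,2,3,4,5] [[2,5,3],[3,4,0,0,4,2,0],[4,0,2]] 11 := (Idx.of bd177 sat190 (by decide +kernel) lb213 (by decide +kernel)).of_imp imp182
noncomputable def lk214 : List (List ℕ × List ℕ × Pf) := [([2],[3],[([6],17)]),([5],[3,5,7,5],[([6,3,5],20)]),([3],[2],[([6,2],16)]),([4],[4,6,4,2],[([6,4,6],21)]),([0,0,4,2,0],[4,0,6,3,0,0,5,3],[([6,4,0,6,3,0,0,5,3],22)]),([4,0],[0,0,4,2,0,6,2,4,1,1,2],[([6,0,0,4,2,0,6],25)])]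
noncomputable def O215 : ℕ := (nat_lit 0xc000600000000000780004000000080000040000000000000000000000000000)
noncomputable def M216 : ℕ := (nat_lit 0xc00060000000000078000604805b7aa1aeffdfbdff7bfffffbffffffffffffff)
noncomputable def b217 : ℕ := (nat_lit 0x59000000b00b001800476b202fb6eeffdfffff)
theorem cl218 : Clo.{u} io C180 [0,1,2,3,4,5] 266 m179 M216 (mkB [(6,b217),(7,b197)]) := cl198.new (k := 6) (b := 6) (q := 49) (p := 114) (r := 200) (n := 11) (O := O215) (by decide +kernel) (lks := lk214) (by decide +kernel) (gens_of_lall2 (m := [[0,1,2],[2,3,4],[5,0]]) (by decide +kernel)) ix199 (by decide +kernel)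
noncomputable def b219 : ℕ := (nat_lit 0x180004000059080000b70b003800476ba02fb6eeffdfffff)
noncomputable def b220 : ℕ := (nat_lit 0x180004000059080000b70b003800476ba02fb6eeffdfffff)
theorem cl221 : Clo.{u} io C180 [0,1,2,3,4,5] 266 m179 M216 (mkB [(6,b219),(7,b220)]) := cl218.ops (os := [Op.ext 6 3 [([2],[3],[([6],17)]),([3],[2],[([6,2],16)])],Op.inv 6,Op.rel 6 [] 7 [] [([],13)],Op.inv 6]) (by decide +kernel) (by decide +kernel)
theorem der223 : Der 11 (finX 11) (cl (finG m156ok) [[3,4,0,3,1,5,2],[3,3,0,0,4,2,0,2]]) (fun _ => Net.nil) := Der.zero (finModel m156ok).inj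
noncomputable def x224 : Net := (Net.cons (nat_lit 6) (nat_lit 1)
  (Net.cons (nat_lit 3) (nat_lit 261)
  (Net.cons (nat_lit 1) (nat_lit 520)
  (Net.cons (nat_lit 1) (nat_lit 1042)
  (Net.cons (nat_lit 1) (nat_lit 9)
  (Net.cons (nat_lit 3) (nat_lit 388)
  (Net.cons (nat_lit 6) (nat_lit 6)
  Net.nil)))))))
noncomputable def ns225 : ℕ → Net := upd (fun _ => Net.nil) 0 x224
theorem der226 : Der 11 (finX 11) (cl (finG m156ok) [[3,4,0,3,1,5,2],[3,3,0,0,4,2,0,2]]) ns225 := der223.add (wp_mem_cl (w := [3,4,0,3,1,5,2]) (by decide)) ((finModel m156ok).toIsPre.rep_word (k := 4) (w := [3,4,0,3,1,5,2]) (n := x224) (by decide +kernel)) 0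
noncomputable def x227 : Net := (Net.cons (nat_lit 6) (nat_lit 19)
  (Net.cons (nat_lit 3) (nat_lit 321)
  (Net.cons (nat_lit 1) (nat_lit 513)
  (Net.cons (nat_lit 1) (nat_lit 1026)
  (Net.cons (nat_lit 1) (nat_lit 585)
  (Net.cons (nat_lit 3) (nat_lit 388)
  (Net.cons (nat_lit 6) (nat_lit 26)
  Net.nil)))))))
noncomputable def ns228 : ℕ → Net := upd ns225 1 x227
theorem der229 : Der 11 (finX 11) (cl (finG m156ok) [[3,4,0,3,1,5,2],[3,3,0,0,4,2,0,2]]) ns228 := der226.add (wp_mem_cl (w := [3,3,0,0,4,2,0,2]) (by decide)) ((finModel m156ok).toIsPre.rep_word (k := 4) (w := [3,3,0,0,4,2,0,2]) (n := x227) (by decide +kernel)) 1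
noncomputable def L230 : Lev := Lev.cons 0 5 [[0]] Lev.nil
noncomputable def L231 : Lev := Lev.cons 4 11 [[1]] L230
theorem lc232 : Lev.chk 11 1 ns228 vT 100 L231 = true := by decide +kernel
theorem lb233 : 55 ≤ Nat.card (cl (finG m156ok) [[3,4,0,3,1,5,2],[3,3,0,0,4,2,0,2]]) := le_of_eq_of_le (by decide +kernel) (der229.card_ge lc232)
theorem ix222 : Idx.{u} io C180 [0,1,2,3,4,5] [[3,4,0,3,1,5,2],[3,3,0,0,4,2,0,2]] 12 := (Idx.of bd177 sat190 (by decide +kernel) lb233 (by decide +kernel)).of_imp imp182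
noncomputable def lk234 : List (List ℕ × List ℕ × Pf) := [([3],[2],[([6,2],16)]),([4,0],[0,0,4,2,0,6,2,4,1,1,2],[([6,0,0,4,2,0,6],25)]),([1,5],[3,0,0,5,3,7,1,3,5,1,1],[([6,3,0,0,5,3],24)]),([2],[3],[([6],17)]),([0,0,4,2,0],[4,0,6,3,0,0,5,3],[([6,4,0,6,3,0,0,5,3],22)])]
noncomputable def O235 : ℕ := (nat_lit 0x300019c040020000200008800000000000000000000000000000000000000000000)
noncomputable def M236 : ℕ := (nat_lit 0x300c19c64002000020078880604805b7aa1aeffdfbdff7bfffffbffffffffffffff)
noncomputable def b237 : ℕ := (nat_lit 0x180004000059080000b70b203800476ba02fb6eeffdfffff)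
theorem cl238 : Clo.{u} io C180 [0,1,2,3,4,5] 266 m179 M236 (mkB [(6,b237),(7,b220)]) := cl221.new (k := 6) (b := 6) (q := 101) (p := 179) (r := 200) (n := 12) (O := O235) (by decide +kernel) (lks := lk234) (by decide +kernel) (gens_of_lall2 (m := [[0,1,0,2,3],[0,0,4,3]]) (by decide +kernel)) ix222 (by decide +kernel)
noncomputable def b239 : ℕ := (nat_lit 0x2000004440020000200188804040059180080b71b203800476ba02fb6eeffdfffff)
noncomputable def b240 : ℕ := (nat_lit 0x2000004440020000200188804040059180080b71b203800476ba02fb6eeffdfffff)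
theorem cl241 : Clo.{u} io C180 [0,1,2,3,4,5] 266 m179 M236 (mkB [(6,b239),(7,b240)]) := cl238.ops (os := [Op.ext 6 3 [([2],[3],[([6],17)]),([3],[2],[([6,2],16)])],Op.inv 6,Op.rel 6 [] 7 [] [([],13)],Op.inv 6,Op.rel 6 [0,2] 7 [3,1,7,3,1] [([7],15)],Op.inv 6,Op.rel 6 [] 7 [] [([],13)],Op.inv 6,Op.rel 7 [3,5] 7 [5,7,4] [([7,5,7,4,6],19)],Op.inv 7]) (by decide +kernel) (by decide +kernel)
theorem der243 : Der 11 (finX 11) (cl (finG m156ok) [[3,3,0,0,4,2,0,3,1,5,1,5,1,3,5,1,1,2,2],[3,1,5,1,3,5,1,1,1,3,5,1,1,4,0,0,4,2,0,0,0,4,2,0,4,0,2]]) (fun _ => Net.nil) := Der.zero (finModel m156ok).inj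
noncomputable def x244 : Net := (Net.cons (nat_lit 6) (nat_lit 15)
  (Net.cons (nat_lit 3) (nat_lit 199)
  (Net.cons (nat_lit 1) (nat_lit 65)
  (Net.cons (nat_lit 1) (nat_lit 130)
  (Net.cons (nat_lit 1) (nat_lit 576)
  (Net.cons (nat_lit 3) (nat_lit 132)
  (Net.cons (nat_lit 6) (nat_lit 4)
  Net.nil)))))))
noncomputable def ns245 : ℕ → Net := upd (fun _ => Net.nil) 0 x244
theorem der246 : Der 11 (finX 11) (cl (finG m156ok) [[3,3,0,0,4,2,0,3,1,5,1,5,1,3,5,1,1,2,2],[3,1,5,1,3,5,1,1,1,3,5,1,1,4,0,0,4,2,0,0,0,4,2,0,4,0,2]]) ns245 := der243.add (wp_mem_cl (w := [3,3,0,0,4,2,0,3,1,5,1,5,1,3,5,1,1,2,2]) (by decide)) ((finModel m156ok).toIsPre.rep_word (k := 4) (w := [3,3,0,0,4,2,0,3,1,5,1,5,1,3,5,1,1,2,2]) (n := x244) (by decide +kernel)) 0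
noncomputable def x247 : Net := (Net.cons (nat_lit 6) (nat_lit 5)
  (Net.cons (nat_lit 3) (nat_lit 4)
  (Net.cons (nat_lit 1) (nat_lit 130)
  (Net.cons (nat_lit 1) (nat_lit 8)
  (Net.cons (nat_lit 3) (nat_lit 4)
  (Net.cons (nat_lit 6) (nat_lit 4)
  Net.nil))))))
noncomputable def ns248 : ℕ → Net := upd ns245 1 x247
theorem der249 : Der 11 (finX 11) (cl (finG m156ok) [[3,3,0,0,4,2,0,3,1,5,1,5,1,3,5,1,1,2,2],[3,1,5,1,3,5,1,1,1,3,5,1,1,4,0,0,4,2,0,0,0,4,2,0,4,0,2]]) ns248 := der246.add (wp_mem_cl (w := [3,1,5,1,3,5,1,1,1,3,5,1,1,4,0,0,4,2,0,0,0,4,2,0,4,0,2]) (by decide)) ((finModel m156ok).toIsPre.rep_word (k := 4) (w := [3,1,5,1,3,5,1,1,1,3,5,1,1,4,0,0,4,2,0,0,0,4,2,0,4,0,2]) (n := x247) (by decide +kernel)) 1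
noncomputable def L250 : Lev := Lev.cons 0 6 [[0],[1]] Lev.nil
theorem lc251 : Lev.chk 11 1 ns248 vT 100 L250 = true := by decide +kernel
theorem lb252 : 6 ≤ Nat.card (cl (finG m156ok) [[3,3,0,0,4,2,0,3,1,5,1,5,1,3,5,1,1,2,2],[3,1,5,1,3,5,1,1,1,3,5,1,1,4,0,0,4,2,0,0,0,4,2,0,4,0,2]]) := le_of_eq_of_le (by decide +kernel) (der249.card_ge lc251)
theorem ix242 : Idx.{u} io C180 [0,1,2,3,4,5] [[3,3,0,0,4,2,0,3,1,5,1,5,1,3,5,1,1,2,2],[3,1,5,1,3,5,1,1,1,3,5,1,1,4,0,0,4,2,0,0,0,4,2,0,4,0,2]] 110 := (Idx.of bd177 sat190 (by decide +kernel) lb252 (by decide +kernel)).of_imp imp182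
noncomputable def lk253 : List (List ℕ × List ℕ × Pf) := [([3],[2],[([6,2],16)]),([0,0,4,2,0],[4,0,6,3,0,0,5,3],[([6,4,0,6,3,0,0,5,3],22)]),([1,5],[3,0,0,5,3,7,1,3,5,1,1],[([6,3,0,0,5,3],24)]),([1,3,5,1,1],[2,4,1,1,2,7,1,5],[([6],23)]),([2],[3],[([6],17)]),([4],[4,6,3,5],[([6,4,6,3,5],18)]),([4,0],[0,0,4,2,0,6,2,4,1,1,2],[([6,0,0,4,2,0,6],25)])]
noncomputable def O254 : ℕ := (nat_lit 0xff3e639bffdffffdff8777f9fb7fa4855e51002042008400000400000000000000)
noncomputable def M255 : ℕ := (nat_lit 0x3ffffffffffffffffffffffffffffffffffffffffffffffffffffffffffffffffff)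
noncomputable def b256 : ℕ := (nat_lit 0x2000004440020000200188804040059180080b71b203800476ba02fb6eeffffffff)
theorem cl257 : Clo.{u} io C180 [0,1,2,3,4,5] 266 m179 M255 (mkB [(6,b256),(7,b240)]) := cl241.new (k := 6) (b := 6) (q := 21) (p := 58) (r := 200) (n := 110) (O := O254) (by decide +kernel) (lks := lk253) (by decide +kernel) (gens_of_lall2 (m := [[0,0,1,0,2,2,3,4,4],[0,2,3,3,5,1,1,6,4]]) (by decide +kernel)) ix242 (by decide +kernel)
noncomputable def b258 : ℕ := (nat_lit 0x3ffffffffffffffffffffffffffffffffffffffffffffffffffffffffffffffffff)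
noncomputable def b259 : ℕ := (nat_lit 0x3ffffffffffffffffffffffffffffffffffffffffffffffffffffffffffffffffff)
theorem cl260 : Clo.{u} io C180 [0,1,2,3,4,5] 266 m179 M255 (mkB [(6,b258),(7,b259)]) := cl257.ops (os := [Op.ext 6 3 [([2],[3],[([6],17)]),([3],[2],[([6,2],16)])],Op.inv 6,Op.rel 6 [] 7 [] [([],13)],Op.inv 6,Op.rel 6 [0,2] 7 [3,1,7,3,1] [([7],15)],Op.ext 6 3 [([2],[3],[([6],17)]),([3],[2],[([6,2],16)])],Op.inv 6,Op.rel 6 [] 7 [] [([],13)],Op.inv 6,Op.rel 7 [3,5] 7 [5,7,4] [([7,5,7,4,6],19)],Op.inv 7,Op.rel 6 [0,2] 7 [3,1,7,3,1] [([7],15)],Op.ext 6 3 [([2],[3],[([6],17)]),([3],[2],[([6,2],16)])],Op.inv 6,Op.rel 7 [3,0,0,5,3] 7 [1,5,7,0,0,4,2,0] [([7,1,5,7,0,0,4,2,0,6],23)],Op.ext 7 3 [([2],[3],[([7,3,6],17)]),([3],[2],[([],16)])],Op.inv 7,Op.rel 6 [] 7 [] [([],13)],Op.inv 6]) (by decide +kernel) (by decide +kernel)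
theorem sat262 : Sat io C180 (finG m179ok) := m179s0.fin (k := 9) (by decide +kernel)
theorem bd261 : Bound.{u} io C180 [0,1,2,3,4,5,6,7] 175560 := cl260.bound (by decide +kernel) sat262 (bd177.of_imp imp182)

end Cfsg.Agent.H6.Jo
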