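/- The Janko group `J₁`: the matrix group is the permutation group on 266 points. -/
import Cfsg.Agent.H6.JoA2
import Cfsg.Prelude.Def_Spor_J1
set_option maxRecDepth 100000
namespace Cfsg.Agent.H6.Jo
open MulAction

abbrev rho : Spor.J1 →* Matrix (Fin 7) (Fin 7) (ZMod 11) := (Units.coeHom _).comp Spor.J1.subtype
theorem rho_inj : Function.Injective rho := Units.val_injective.comp Subtype.val_injective
noncomputable def bG : List (List ℕ) := [[11,121,1331,14641,161051,1771561,1],[15914676,5816611,4963056,18166796,19367136,5502751,2271811]]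
noncomputable def mJ : List (List ℕ) := [[8664446,11586118,12477264,13124372,6678335,16280442,10186116],[11021713,14478386,19084347,14031685,3623705,14617106,10361421],[11510844,2552225,16879741,3769694,16343824,10969965,4406074],[4546634,17547881,6811994,18089414,5555335,9211174,4644965],[9595849,11995428,13480406,7167109,2994327,10249518,11455504],[9595849,11995428,13480406,7167109,2994327,10249518,11455504],[2232485,13859695,5625887,15345412,13855598,7227552,757780],[2232485,13859695,5625887,15345412,13855598,7227552,757780]]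
instance fact11 : Fact (Nat.Prime 11) := ⟨by norm_num⟩
def vl (a : ℕ) : ZMod 11 := a
theorem hs : (cdP 11).Sem vl := semP (F := ZMod 11) 11 (by norm_num)
theorem hinj : ∀ a < (cdP 11).q, ∀ b < (cdP 11).q, vl a = vl b → a = b := injP (F := ZMod 11) 11
theorem eX : jankoMatrixX = toMat (ixFin 7) (cdP 11).q vl [11,121,1331,14641,161051,1771561,1] := by decide +kernel
theorem eY : jankoMatrixY = toMat (ixFin 7) (cdP 11).q vl [15914676,5816611,4963056,18166796,19367136,5502751,2271811] := by decide +kernel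
theorem key {g : ℕ → Spor.J1} {ms : ℕ → List ℕ} (hg : MRep (ixFin 7) (cdP 11) vl rho g ms) {kl w X : List ℕ}
    (h1 : wok (tb (mkM kl)) w = true) (h2 : (cdP 11).isM 7 ms w X = true) {M : GL (Fin 7) (ZMod 11)}
    (e : (M : Matrix (Fin 7) (Fin 7) (ZMod 11)) = toMat (ixFin 7) (cdP 11).q vl X) :
    M ∈ (cl g (lw kl)).map Spor.J1.subtype := ⟨_, wp_mem_lw h1, Units.ext ((hg.isM h2).trans e.symm)⟩

theorem main : ∃ g : ℕ → Spor.J1, ∃ e : GJ ≃* Spor.J1, True := by
  obtain ⟨g0, hg0⟩ := exists_mrep (I := ixFin 7) hs rho_inj (ml := bG) (by decide +kernel)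
    (List.forall_mem_cons.2 ⟨⟨⟨Spor.jankoX, Subgroup.subset_closure (by simp)⟩, eX⟩,
      List.forall_mem_cons.2 ⟨⟨⟨Spor.jankoY, Subgroup.subset_closure (by simp)⟩, eY⟩, by simp⟩⟩)
  obtain ⟨g, hg⟩ := hg0.words (ml := mJ) (ws := [[0,0,0,0,1,0,1,0,0,1,0,0,0,0,1,0,0,1],[1,0,1,1,0,0,1,0,1,1,0,0,0,1,0,1,1,0,1],[0,0,0,1,0,1,0,1,0,1,0,0,0,0,0,0,1,0,0],[1,0,1,1,1,0,0,1,1,1,0,1,0,0,1,0,0,0],[0,1,0,1,1,0,0,1,0,0,1,1,0,1,0],[0,1,0,1,1,0,0,1,0,0,1,1,0,1,0],[0,1,1,1,1,0,1,0,0,1,0,0,0,0,1,0,0],[0,1,1,1,1,0,1,0,0,1,0,0,0,0,1,0,0]]) (by decide +kernel)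
  have top : cl g (lw [0,1,2,3,4,5,6,7]) = ⊤ := by
    have : Spor.J1 ≤ (cl g (lw [0,1,2,3,4,5,6,7])).map Spor.J1.subtype := (Subgroup.closure_le _).2 fun M hM => by
      rcases hM with rfl | rfl
      · exact key hg (w := [3,3,0,6,1,4,3,0,0,6,0]) (by decide +kernel) (by decide +kernel) eX
      · exact key hg (w := [1,6,4,1,6,4,3,3]) (by decide +kernel) (by decide +kernel) eY
    refine eq_top_iff.2 fun t _ => ?_
    obtain ⟨t', h1, h2⟩ := this t.2
    exact (Subtype.ext h2 : t' = t) ▸ h1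
  obtain ⟨e, -⟩ := bdJ.equivS satJ (hg.sat (il := il) (Rl := RJ) (by decide +kernel)) topJ cardJ simpleJ top
    ⟨_, _, hg.nev hinj (u := [0]) (w := []) (i := 0) (j := 0) (by decide +kernel)⟩
  exact ⟨g, e, trivial⟩
theorem iso : Nonempty (GJ ≃* Spor.J1) := by obtain ⟨_, e, -⟩ := main; exact ⟨e⟩

end Cfsg.Agent.H6.Jo
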