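import Cfsg.Agent.H6.CeA
import Cfsg.Agent.H6.JoS
import Cfsg.Agent.H6.JoM
set_option maxRecDepth 100000
set_option Elab.async false
namespace Cfsg.Agent.H6.JoC
open Cfsg.Agent.H6
universe u

noncomputable def il : List ℕ := [1,0,3,2,5,4,7,6]
noncomputable abbrev io : ℕ → ℕ := iota il
noncomputable def C1 : List (List ℕ) := []
noncomputable def m2n0 : Net := (Net.cons (nat_lit 4) (nat_lit 1)
  (Net.cons (nat_lit 2) (nat_lit 1)
  (Net.cons (nat_lit 1) (nat_lit 5)
  Net.nil)))
noncomputable def m2n1 : Net := (Net.cons (nat_lit 4) (nat_lit 15)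
  (Net.cons (nat_lit 2) (nat_lit 32)
  (Net.cons (nat_lit 1) (nat_lit 80)
  (Net.cons (nat_lit 4) (nat_lit 14)
  Net.nil))))
noncomputable def m2n2 : Net := (Net.cons (nat_lit 1) (nat_lit 5)
  Net.nil)
noncomputable def m2n4 : Net := (Net.cons (nat_lit 2) (nat_lit 32)
  (Net.cons (nat_lit 1) (nat_lit 64)
  (Net.cons (nat_lit 2) (nat_lit 32)
  Net.nil)))
noncomputable def m2l : List Net := [m2n0,m2n1,m2n2,m2n2,m2n4,m2n4]
noncomputable abbrev m2 : ℕ → Net := lk Net.nil m2l
theorem m2ok : NetsOk 7 m2 vT := netsOk_of (by decide +kernel)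
theorem m2s0 : Sat io [] (finG m2ok) := fin_sat_nil _ (k := 3) (n := 8) (by decide +kernel)
noncomputable def m3n0 : Net := (Net.cons (nat_lit 1) (nat_lit 5)
  (Net.cons (nat_lit 1) (nat_lit 10)
  Net.nil))
noncomputable def m3n1 : Net := (Net.cons (nat_lit 1) (nat_lit 10)
  (Net.cons (nat_lit 1) (nat_lit 5)
  Net.nil))
noncomputable def m3l : List Net := [m3n0,m3n1]
noncomputable abbrev m3 : ℕ → Net := lk Net.nil m3l
theorem m3ok : NetsOk 5 m3 vT := netsOk_of (by decide +kernel)
theorem m3s0 : Sat io [] (finG m3ok) := fin_sat_nil _ (k := 3) (n := 8) (by decide +kernel)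
noncomputable def r0 : List ℕ := [0,0,0,0,0]
noncomputable def m4n0 : Net := (Net.cons (nat_lit 1) (nat_lit 5)
  (Net.cons (nat_lit 1) (nat_lit 10)
  Net.nil))
noncomputable def m4n1 : Net := (Net.cons (nat_lit 1) (nat_lit 10)
  (Net.cons (nat_lit 1) (nat_lit 5)
  Net.nil))
noncomputable def m4l : List Net := [m4n0,m4n1]
noncomputable abbrev m4 : ℕ → Net := lk Net.nil m4l
theorem m4ok : NetsOk 5 m4 vT := netsOk_of (by decide +kernel)
theorem m4s0 : Sat io [] (finG m4ok) := fin_sat_nil _ (k := 3) (n := 8) (by decide +kernel)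
noncomputable def C5 : List (List ℕ) := [r0]
theorem cl6 : Clo.{u} io C5 [] 5 m4 1 (mkB []) := Clo.start (by decide +kernel)
theorem imp7 : Imp.{u} io C5 C1 := Imp.of_chk (pfs := []) (by decide +kernel)
theorem ix8 : Idx.{u} io C5 [] [] 1 := (Idx.triv (Bound.nil) (by norm_num)).of_imp imp7
noncomputable def lk9 : List (List ℕ × List ℕ × Pf) := []
noncomputable def O10 : ℕ := (nat_lit 2)
noncomputable def M11 : ℕ := (nat_lit 3)
noncomputable def b12 : ℕ := (nat_lit 1)
theorem cl13 : Clo.{u} io C5 [] 5 m4 M11 (mkB [(0,b12)]) := cl6.new (k := 0) (b := 0) (q := 0) (p := 1) (r := 200) (n := 1) (O := O10) (by decide +kernel) (lks := lk9) (by decide +kernel) (gens_of_lall2 (m := []) (by decide +kernel)) ix8 (by decide +kernel)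
noncomputable def b14 : ℕ := (nat_lit 2)
theorem cl15 : Clo.{u} io C5 [] 5 m4 M11 (mkB [(0,b12),(1,b14)]) := cl13.ops (os := [Op.inv 0]) (by decide +kernel) (by decide +kernel)
theorem ix16 : Idx.{u} io C5 [] [] 1 := (Idx.triv (Bound.nil) (by norm_num)).of_imp imp7
noncomputable def lk17 : List (List ℕ × List ℕ × Pf) := []
noncomputable def O18 : ℕ := (nat_lit 8)
noncomputable def M19 : ℕ := (nat_lit 11)
noncomputable def b20 : ℕ := (nat_lit 3)
theorem cl21 : Clo.{u} io C5 [] 5 m4 M19 (mkB [(0,b20),(1,b14)]) := cl15.new (k := 0) (b := 0) (q := 1) (p := 3) (r := 200) (n := 1) (O := O18) (by decide +kernel) (lks := lk17) (by decide +kernel) (gens_of_lall2 (m := []) (by decide +kernel)) ix16 (by decide +kernel)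
noncomputable def b22 : ℕ := (nat_lit 10)
theorem cl23 : Clo.{u} io C5 [] 5 m4 M19 (mkB [(0,b20),(1,b22)]) := cl21.ops (os := [Op.inv 0]) (by decide +kernel) (by decide +kernel)
theorem ix24 : Idx.{u} io C5 [] [] 1 := (Idx.triv (Bound.nil) (by norm_num)).of_imp imp7
noncomputable def lk25 : List (List ℕ × List ℕ × Pf) := []
noncomputable def O26 : ℕ := (nat_lit 16)
noncomputable def M27 : ℕ := (nat_lit 27)
noncomputable def b28 : ℕ := (nat_lit 11)
theorem cl29 : Clo.{u} io C5 [] 5 m4 M27 (mkB [(0,b28),(1,b22)]) := cl23.new (k := 0) (b := 0) (q := 3) (p := 4) (r := 200) (n := 1) (O := O26) (by decide +kernel) (lks := lk25) (by decide +kernel) (gens_of_lall2 (m := []) (by decide +kernel)) ix24 (by decide +kernel)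
noncomputable def b30 : ℕ := (nat_lit 26)
theorem cl31 : Clo.{u} io C5 [] 5 m4 M27 (mkB [(0,b28),(1,b30)]) := cl29.ops (os := [Op.inv 0]) (by decide +kernel) (by decide +kernel)
theorem ix32 : Idx.{u} io C5 [] [] 1 := (Idx.triv (Bound.nil) (by norm_num)).of_imp imp7
noncomputable def lk33 : List (List ℕ × List ℕ × Pf) := []
noncomputable def O34 : ℕ := (nat_lit 4)
noncomputable def M35 : ℕ := (nat_lit 31)
noncomputable def b36 : ℕ := (nat_lit 27)
theorem cl37 : Clo.{u} io C5 [] 5 m4 M35 (mkB [(0,b36),(1,b30)]) := cl31.new (k := 0) (b := 0) (q := 4) (p := 2) (r := 200) (n := 1) (O := O34) (by decide +kernel) (lks := lk33) (by decide +kernel) (gens_of_lall2 (m := []) (by decide +kernel)) ix32 (by decide +kernel)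
noncomputable def b38 : ℕ := (nat_lit 31)
noncomputable def b39 : ℕ := (nat_lit 31)
theorem cl40 : Clo.{u} io C5 [] 5 m4 M35 (mkB [(0,b38),(1,b39)]) := cl37.ops (os := [Op.inv 0,Op.rel 0 [] 1 [1,1,1] [([],1)],Op.inv 0]) (by decide +kernel) (by decide +kernel)
theorem sat42 : Sat io C5 (finG m4ok) := m4s0.fin (k := 3) (by decide +kernel)
theorem bd41 : Bound.{u} io C5 [0,1] 5 := cl40.bound (by decide +kernel) sat42 ((Bound.nil).of_imp imp7)
noncomputable def m43n0 : Net := (Net.cons (nat_lit 1) (nat_lit 5)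
  (Net.cons (nat_lit 1) (nat_lit 10)
  Net.nil))
noncomputable def m43n1 : Net := (Net.cons (nat_lit 1) (nat_lit 10)
  (Net.cons (nat_lit 1) (nat_lit 5)
  Net.nil))
noncomputable def m43n2 : Net := (Net.cons (nat_lit 1) (nat_lit 8)
  (Net.cons (nat_lit 1) (nat_lit 1)
  Net.nil))
noncomputable def m43l : List Net := [m43n0,m43n1,m43n2,m43n2]
noncomputable abbrev m43 : ℕ → Net := lk Net.nil m43l
theorem m43ok : NetsOk 5 m43 vT := netsOk_of (by decide +kernel)
theorem m43s0 : Sat io [] (finG m43ok) := fin_sat_nil _ (k := 3) (n := 8) (by decide +kernel)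
noncomputable def r1 : List ℕ := [2,2]
noncomputable def r2 : List ℕ := [2,0,2,0,2,0]
noncomputable def r3 : List ℕ := [3,1,1,3,0,0,3,0,2,1,1,2,0,0,2,0]
noncomputable def m44n0 : Net := (Net.cons (nat_lit 3) (nat_lit 322)
  (Net.cons (nat_lit 1) (nat_lit 520)
  (Net.cons (nat_lit 1) (nat_lit 1042)
  (Net.cons (nat_lit 1) (nat_lit 64)
  (Net.cons (nat_lit 3) (nat_lit 256)
  Net.nil)))))
noncomputable def m44n1 : Net := (Net.cons (nat_lit 3) (nat_lit 128)
  (Net.cons (nat_lit 1) (nat_lit 146)
  (Net.cons (nat_lit 1) (nat_lit 584)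
  (Net.cons (nat_lit 3) (nat_lit 2)
  Net.nil))))
noncomputable def m44n2 : Net := (Net.cons (nat_lit 6) (nat_lit 48)
  (Net.cons (nat_lit 3) (nat_lit 453)
  (Net.cons (nat_lit 1) (nat_lit 65)
  (Net.cons (nat_lit 1) (nat_lit 1170)
  (Net.cons (nat_lit 1) (nat_lit 520)
  (Net.cons (nat_lit 3) (nat_lit 2)
  (Net.cons (nat_lit 6) (nat_lit 48)
  Net.nil)))))))
noncomputable def m44l : List Net := [m44n0,m44n1,m44n2,m44n2]
noncomputable abbrev m44 : ℕ → Net := lk Net.nil m44l
theorem m44ok : NetsOk 12 m44 vT := netsOk_of (by decide +kernel)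
theorem m44s0 : Sat io [] (finG m44ok) := fin_sat_nil _ (k := 4) (n := 8) (by decide +kernel)
noncomputable def C45 : List (List ℕ) := [r0,r1,r2,r3]
theorem cl46 : Clo.{u} io C45 [0,1] 12 m44 1 (mkB []) := Clo.start (by decide +kernel)
theorem imp47 : Imp.{u} io C45 C5 := Imp.of_chk (pfs := [[([],1)]]) (by decide +kernel)
theorem ix48 : Idx.{u} io C45 [0,1] [] 5 := (Idx.triv bd41 (by norm_num)).of_imp imp47
noncomputable def lk49 : List (List ℕ × List ℕ × Pf) := []
noncomputable def O50 : ℕ := (nat_lit 62)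
noncomputable def M51 : ℕ := (nat_lit 63)
noncomputable def b52 : ℕ := (nat_lit 1)
theorem cl53 : Clo.{u} io C45 [0,1] 12 m44 M51 (mkB [(2,b52)]) := cl46.new (k := 1) (b := 2) (q := 0) (p := 1) (r := 200) (n := 5) (O := O50) (by decide +kernel) (lks := lk49) (by decide +kernel) (gens_of_lall2 (m := []) (by decide +kernel)) ix48 (by decide +kernel)
noncomputable def b54 : ℕ := (nat_lit 15)
noncomputable def b55 : ℕ := (nat_lit 15)
theorem cl56 : Clo.{u} io C45 [0,1] 12 m44 M51 (mkB [(2,b54),(3,b55)]) := cl53.ops (os := [Op.inv 2,Op.rel 2 [] 3 [] [([],3)],Op.inv 2,Op.rel 2 [0] 3 [1,3,1] [([3],5)],Op.inv 2,Op.rel 2 [] 3 [] [([],3)],Op.inv 2]) (by decide +kernel) (by decide +kernel)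
theorem ix57 : Idx.{u} io C45 [0,1] [] 5 := (Idx.triv bd41 (by norm_num)).of_imp imp47
noncomputable def lk58 : List (List ℕ × List ℕ × Pf) := []
noncomputable def O59 : ℕ := (nat_lit 1984)
noncomputable def M60 : ℕ := (nat_lit 2047)
noncomputable def b61 : ℕ := (nat_lit 31)
theorem cl62 : Clo.{u} io C45 [0,1] 12 m44 M60 (mkB [(2,b61),(3,b55)]) := cl56.new (k := 1) (b := 2) (q := 4) (p := 6) (r := 200) (n := 5) (O := O59) (by decide +kernel) (lks := lk58) (by decide +kernel) (gens_of_lall2 (m := []) (by decide +kernel)) ix57 (by decide +kernel)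
noncomputable def b63 : ℕ := (nat_lit 1023)
noncomputable def b64 : ℕ := (nat_lit 1023)
theorem cl65 : Clo.{u} io C45 [0,1] 12 m44 M60 (mkB [(2,b63),(3,b64)]) := cl62.ops (os := [Op.inv 2,Op.rel 2 [] 3 [] [([],3)],Op.inv 2,Op.rel 2 [0] 3 [1,3,1] [([3],5)],Op.inv 2,Op.rel 2 [] 3 [] [([],3)],Op.inv 2,Op.rel 2 [0] 3 [1,3,1] [([3],5)],Op.inv 2,Op.rel 2 [] 3 [] [([],3)],Op.inv 2]) (by decide +kernel) (by decide +kernel)
theorem der67 : Der 5 (finX 5) (cl (finG m3ok) [[0]]) (fun _ => Net.nil) := Der.zero (finModel m3ok).inj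
noncomputable def ns68 : ℕ → Net := upd (fun _ => Net.nil) 0 (m3 0)
theorem der69 : Der 5 (finX 5) (cl (finG m3ok) [[0]]) ns68 := der67.add (wp_mem_cl (w := [0]) (by decide)) (rep_letter (finModel m3ok) 0) 0
noncomputable def L70 : Lev := Lev.cons 0 5 [[0]] Lev.nil
theorem lc71 : Lev.chk 5 0 ns68 vT 100 L70 = true := by decide +kernel
theorem lb72 : 5 ≤ Nat.card (cl (finG m3ok) [[0]]) := le_of_eq_of_le (by decide +kernel) (der69.card_ge lc71)
theorem sat73 : Sat io C5 (finG m3ok) := m3s0.fin (k := 3) (by decide +kernel)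
theorem ix66 : Idx.{u} io C45 [0,1] [[0]] 1 := (Idx.of bd41 sat73 (by decide +kernel) lb72 (by decide +kernel)).of_imp imp47
noncomputable def lk74 : List (List ℕ × List ℕ × Pf) := [([0],[1,1,2,0,0,2,1,3,1,1,3,0,0],[([2,1,1,2,0,0,2],7)])]
noncomputable def O75 : ℕ := (nat_lit 2048)
noncomputable def M76 : ℕ := (nat_lit 4095)
noncomputable def b77 : ℕ := (nat_lit 2047)
theorem cl78 : Clo.{u} io C45 [0,1] 12 m44 M76 (mkB [(2,b77),(3,b64)]) := cl65.new (k := 1) (b := 2) (q := 10) (p := 11) (r := 200) (n := 1) (O := O75) (by decide +kernel) (lks := lk74) (by decide +kernel) (gens_of_lall2 (m := [[0]]) (by decide +kernel)) ix66 (by decide +kernel)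
noncomputable def b79 : ℕ := (nat_lit 4095)
noncomputable def b80 : ℕ := (nat_lit 4095)
theorem cl81 : Clo.{u} io C45 [0,1] 12 m44 M76 (mkB [(2,b79),(3,b80)]) := cl78.ops (os := [Op.inv 2,Op.rel 2 [] 3 [] [([],3)],Op.inv 2]) (by decide +kernel) (by decide +kernel)
theorem sat83 : Sat io C45 (finG m44ok) := m44s0.fin (k := 4) (by decide +kernel)
theorem bd82 : Bound.{u} io C45 [0,1,2,3] 60 := cl81.bound (by decide +kernel) sat83 (bd41.of_imp imp47)
noncomputable def r4 : List ℕ := [4,4]
noncomputable def r5 : List ℕ := [5,0,4,1]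
noncomputable def r6 : List ℕ := [5,2,4,3]
noncomputable def m84n4 : Net := (Net.cons (nat_lit 1) (nat_lit 1)
  Net.nil)
noncomputable def m84l : List Net := [Net.nil,Net.nil,Net.nil,Net.nil,m84n4,m84n4]
noncomputable abbrev m84 : ℕ → Net := lk Net.nil m84l
theorem m84ok : NetsOk 2 m84 vT := netsOk_of (by decide +kernel)
theorem m84s0 : Sat io [] (finG m84ok) := fin_sat_nil _ (k := 1) (n := 8) (by decide +kernel)
noncomputable def C85 : List (List ℕ) := [r0,r1,r2,r3,r4,r5,r6]
theorem cl86 : Clo.{u} io C85 [0,1,2,3] 2 m84 1 (mkB []) := Clo.start (by decide +kernel)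
theorem imp87 : Imp.{u} io C85 C45 := Imp.of_chk (pfs := [[([],1)],[([],3)],[([],5)],[([],7)]]) (by decide +kernel)
theorem der89 : Der 5 (finX 5) (cl (finG m43ok) [[0],[2]]) (fun _ => Net.nil) := Der.zero (finModel m43ok).inj
noncomputable def ns90 : ℕ → Net := upd (fun _ => Net.nil) 0 (m43 0)
theorem der91 : Der 5 (finX 5) (cl (finG m43ok) [[0],[2]]) ns90 := der89.add (wp_mem_cl (w := [0]) (by decide)) (rep_letter (finModel m43ok) 0) 0
noncomputable def ns92 : ℕ → Net := upd ns90 1 (m43 2)
theorem der93 : Der 5 (finX 5) (cl (finG m43ok) [[0],[2]]) ns92 := der91.add (wp_mem_cl (w := [2]) (by decide)) (rep_letter (finModel m43ok) 2) 1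
noncomputable def x94 : Net := (Net.cons (nat_lit 1) (nat_lit 10)
  (Net.cons (nat_lit 1) (nat_lit 4)
  (Net.cons (nat_lit 1) (nat_lit 10)
  (Net.cons (nat_lit 1) (nat_lit 1)
  Net.nil))))
noncomputable def x94s : ℕ → Net := upd ns92 2 x94
theorem der95 : Der 5 (finX 5) (cl (finG m43ok) [[0],[2]]) x94s := der93.ext (k := 3) (w := [0,1,0,0,0]) 2 (by decide +kernel)
noncomputable def L96 : Lev := Lev.cons 0 3 [[2]] Lev.nil
noncomputable def L97 : Lev := Lev.cons 3 4 [[1]] L96
noncomputable def L98 : Lev := Lev.cons 2 5 [[0]] L97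
theorem lc99 : Lev.chk 5 0 x94s vT 100 L98 = true := by decide +kernel
theorem lb100 : 60 ≤ Nat.card (cl (finG m43ok) [[0],[2]]) := le_of_eq_of_le (by decide +kernel) (der95.card_ge lc99)
theorem sat101 : Sat io C45 (finG m43ok) := m43s0.fin (k := 3) (by decide +kernel)
theorem ix88 : Idx.{u} io C85 [0,1,2,3] [[0],[2]] 1 := (Idx.of bd82 sat101 (by decide +kernel) lb100 (by decide +kernel)).of_imp imp87
noncomputable def lk102 : List (List ℕ × List ℕ × Pf) := [([0],[0],[([4],11)]),([2],[2],[([4],13)])]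
noncomputable def O103 : ℕ := (nat_lit 2)
noncomputable def M104 : ℕ := (nat_lit 3)
noncomputable def b105 : ℕ := (nat_lit 1)
theorem cl106 : Clo.{u} io C85 [0,1,2,3] 2 m84 M104 (mkB [(4,b105)]) := cl86.new (k := 0) (b := 4) (q := 0) (p := 1) (r := 200) (n := 1) (O := O103) (by decide +kernel) (lks := lk102) (by decide +kernel) (gens_of_lall2 (m := [[0],[1]]) (by decide +kernel)) ix88 (by decide +kernel)
noncomputable def b107 : ℕ := (nat_lit 3)
noncomputable def b108 : ℕ := (nat_lit 3)
theorem cl109 : Clo.{u} io C85 [0,1,2,3] 2 m84 M104 (mkB [(4,b107),(5,b108)]) := cl106.ops (os := [Op.inv 4,Op.rel 4 [] 5 [] [([],9)],Op.inv 4]) (by decide +kernel) (by decide +kernel)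
theorem sat111 : Sat io C85 (finG m84ok) := m84s0.fin (k := 1) (by decide +kernel)
theorem bd110 : Bound.{u} io C85 [0,1,2,3,4,5] 120 := cl109.bound (by decide +kernel) sat111 (bd82.of_imp imp87)
noncomputable def m112n0 : Net := (Net.cons (nat_lit 160) (nat_lit 0xab6ca4b5c6c078fbd78d91bf4945fbc127dbfb3c)
  (Net.cons (nat_lit 80) (nat_lit 0x90e572dd03d5ee3ceefa000000000000000000004b03339d4df801ba11fd)
  (Net.cons (nat_lit 40) (nat_lit 0x259d4805ba0000000000e76bb15c540000000000b682d213290000000000261b56078d)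
  (Net.cons (nat_lit 20) (nat_lit 0xe8d9700000de24400000cfeac00000f60a8000005087a00000e65a300000465af0000087427)
  (Net.cons (nat_lit 10) (nat_lit 0x2f40021c0006e0028200028000620034e000e00025000111000c200226000b2003440032c003a1)
  (Net.cons (nat_lit 5) (nat_lit 0x380b054140481b04010034150480806c0406c1d0700503400068160401601c0a070060580401c17)
  (Net.cons (nat_lit 1) (nat_lit 0x400000000000000001090000140000020000000000008024004002000000000000240800000000)
  (Net.cons (nat_lit 1) (nat_lit 0x5080240000400000080a12948028000014002100100005084a0084050900029020084a1210212840)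
  (Net.cons (nat_lit 1) (nat_lit 0x210a4290802808001004214a42948021080014a0280202148501080290a50148501485210a5214a4)
  (Net.cons (nat_lit 1) (nat_lit 0x5294850942101421204a5284a12908121404094a500485094a0290052142028424094a5294242942)
  (Net.cons (nat_lit 1) (nat_lit 0x21480094852100101400294012140029004000240802001420200202900409001200210102520484)
  (Net.cons (nat_lit 5) (nat_lit 0xa0500406008048140700404010068080181c060140681807816008140181e0100e0100201014)
  (Net.cons (nat_lit 10) (nat_lit 0x36002200007c0000200012003620006a0015400224002120000600244000f00015c0034600380)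
  (Net.cons (nat_lit 20) (nat_lit 0x6610000000ae280000000fcec00000763a2000006c85200000e7dc20000074fae000009bcac)
  (Net.cons (nat_lit 40) (nat_lit 0x24d88a1c7800000000000d331cec500000000000e580ca81580000000000327f024506)
  (Net.cons (nat_lit 80) (nat_lit 0x9b85f2ed07158cd0ad20000000000000000000005b0133d56df2022c74bc)
  (Net.cons (nat_lit 160) (nat_lit 0xab6ca4b5c6c07b9b1210a4e0f2d0dde5990e1d3c)
  Net.nil)))))))))))))))))
noncomputable def m112n1 : Net := (Net.cons (nat_lit 160) (nat_lit 0xa96051e6c1849f68d53881e2bbe3e96a03e17979)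
  (Net.cons (nat_lit 80) (nat_lit 0x269f8218b5616eb8b8d000000000000000000005334eaa8b2f3835bc5fa)
  (Net.cons (nat_lit 40) (nat_lit 0x561d9d7ee90000000000e80143216d0000000000b508f9f5b200000000005639ddb5d5)
  (Net.cons (nat_lit 20) (nat_lit 0xe7673000001c23e00000c4761000002e04a00000e4cf60000019eb200000c1a1f0000016f19)
  (Net.cons (nat_lit 10) (nat_lit 0x29000114002f2002bf001f10002000146002f5002b10034e0003e000d600200002270030600048)
  (Net.cons (nat_lit 5) (nat_lit 0x200503c1e0501302c160141104802024050481902000038040501a0381307c01028000700205003)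
  (Net.cons (nat_lit 1) (nat_lit 0x1080000000000000004000000000000004000000000000000200100008005004050000000004)
  (Net.cons (nat_lit 1) (nat_lit 0x4010250002001481200002940508025000002902400020004000140128081200a4280a028020200a)
  (Net.cons (nat_lit 1) (nat_lit 0x20484200840108429400010a029005214a00948420405010a4290842148421085210250142521405)
  (Net.cons (nat_lit 1) (nat_lit 0x5094a5290a0094a1280a129405210250942528481090a0094250948428425094a1284a0084a40802)
  (Net.cons (nat_lit 1) (nat_lit 0x284800008000000084012840000085000212002529004290a409084010a129484290a4010a420405)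
  (Net.cons (nat_lit 5) (nat_lit 0x3016038080101002816018040101a0080400818048140280e0501e0281805804048080300001002)
  (Net.cons (nat_lit 10) (nat_lit 0x2b000094000f8002be000d40009c000440009400034003480001c000940032c002760030400014)
  (Net.cons (nat_lit 20) (nat_lit 0xbb2f8000001e2a600000cdc440000046ae80000076dfc000001bc3c00000899300000013b00)
  (Net.cons (nat_lit 40) (nat_lit 0xd4154cfbea0000000000e1d1009ff80000000000f788ddfc2a00000000007a7268f084)
  (Net.cons (nat_lit 80) (nat_lit 0xa349b9a14b568fd5f5000000000000000000000053b642a080c8e162f4de)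
  (Net.cons (nat_lit 160) (nat_lit 0xa96051e6c1849e223650fbb6250366e7069079a0)
  Net.nil)))))))))))))))))
noncomputable def m112n2 : Net := (Net.cons (nat_lit 160) (nat_lit 0xf862965d2112d69077052b5695c200c11168000)
  (Net.cons (nat_lit 80) (nat_lit 0xe382574279129d7b304800000000000000000000744947848a609a300a00)
  (Net.cons (nat_lit 40) (nat_lit 0x6901d941800000000000aa5d92e5e00000000000a63ac986280000000000d13560ac80)
  (Net.cons (nat_lit 20) (nat_lit 0xb6c5a00000abb40000003d8d8000005fe38000009670c00000e731200000a6024000008a45e)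
  (Net.cons (nat_lit 10) (nat_lit 0x100130002c600352002730029a0019c0019c003100004400081002f0000b00022c003280037c)
  (Net.cons (nat_lit 5) (nat_lit 0x5000048160281007c12010140301a03c0a0441100000058060201c0740d0581c034120201207c08)
  (Net.cons (nat_lit 1) (nat_lit 0x20000080010000008020000800000000020004002000000000000010000400004000a000081)
  (Net.cons (nat_lit 1) (nat_lit 0x50000500025004a409405014010140000000014a5280050000028005014a1000a0080a001400014a)
  (Net.cons (nat_lit 1) (nat_lit 0x2000428085290a52908020084280a00008400084210a0284a001405210842800509425000a0010a5)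
  (Net.cons (nat_lit 1) (nat_lit 0x5200a520425084a12940501481014a108421014a52940528400290a5294a1200a5094a029404214a)
  (Net.cons (nat_lit 1) (nat_lit 0x2420085280a12048508425004800008401005004a0204a021081010a4004a408024280a528481)
  (Net.cons (nat_lit 5) (nat_lit 0x4000048060101000012000140301a0000000002000000580002000070120481c020160201200008)
  (Net.cons (nat_lit 10) (nat_lit 0x1300020600352002300021a0018c00090003100004400184002a0000a000208001280037c)
  (Net.cons (nat_lit 20) (nat_lit 0x34c5a00000abb40000003d8c80000057a38000009670000000e731200000a7084000008a45e)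
  (Net.cons (nat_lit 40) (nat_lit 0x6901d941800000000000aa5d92e5e00000000000a63ac986280000000000d13560ac80)
  (Net.cons (nat_lit 80) (nat_lit 0xe382574279129d7b304800000000000000000000744947848a609a300a00)
  (Net.cons (nat_lit 160) (nat_lit 0xf862965d2112d69077052b5695c200c11168000)
  Net.nil)))))))))))))))))
noncomputable def m112n4 : Net := (Net.cons (nat_lit 160) (nat_lit 0x10007828a800a43ac125f98fc4233e247d506900)
  (Net.cons (nat_lit 80) (nat_lit 0x801c0bb2e041a1126600000000000000000000007fae90c14cf7caa0e844)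
  (Net.cons (nat_lit 40) (nat_lit 0x808448a3100000000000878660738200000000003ea0a193220000000000cb85881620)
  (Net.cons (nat_lit 20) (nat_lit 0x213e0000004640100000f988000000a5382000005973400000cfc540000015d90000002aa52)
  (Net.cons (nat_lit 10) (nat_lit 0xc6001c800250002440014a00266002c0003cd0035f000a000072000fe0002000008002dc003d1)
  (Net.cons (nat_lit 5) (nat_lit 0x81601010048000380c0400e07c190140b00817050180680d020150281900c10050040581c0241a)
  (Net.cons (nat_lit 1) (nat_lit 0x1280000000000000000000008000001280002040008000000a00000000020080050000000000)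
  (Net.cons (nat_lit 1) (nat_lit 0xa501400000a000005080000140001025014050848500001014a50048001405000a0080000000)
  (Net.cons (nat_lit 1) (nat_lit 0xa528080000040108021401284a4000a4290a5290a420080294a521485290a02040501405280a5)
  (Net.cons (nat_lit 1) (nat_lit 0x1004a509404000a008425080a109420294852942129425004a1294a529025294a5090a0090a1284a)
  (Net.cons (nat_lit 1) (nat_lit 0xa1280000140409080000a101485000252948000085094800140521420214202842508025214a1)
  (Net.cons (nat_lit 5) (nat_lit 0x1401010048000280c0400e00810010140081a060140680c0200a0280602010050000181c04808)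
  (Net.cons (nat_lit 10) (nat_lit 0x1c000050000440014a0024c002c000384000a0000a000072000fe0002000008002d800044)
  (Net.cons (nat_lit 20) (nat_lit 0x213e00000046400000007988000000a53820000059734000008f8540000015d90000002aa52)
  (Net.cons (nat_lit 40) (nat_lit 0x808448a3100000000000878660738200000000003ea0a193220000000000cb85881620)
  (Net.cons (nat_lit 80) (nat_lit 0x801c0bb2e041a1126600000000000000000000007fae90c14cf7caa0e844)
  (Net.cons (nat_lit 160) (nat_lit 0x10007828a800a43ac125f98fc4233e247d506900)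
  Net.nil)))))))))))))))))
noncomputable def m112n6 : Net := (Net.cons (nat_lit 160) (nat_lit 0x9bb1e098c2890409450bf02e3f32e4e8cf285ca8)
  (Net.cons (nat_lit 80) (nat_lit 0x6a4e8ac36acc5ff6ae6a0000000000000000000002d3f8721408b68695ee)
  (Net.cons (nat_lit 40) (nat_lit 0xbc11956f6000000000016915d4e1900000000003ad10890110000000000610e13031c)
  (Net.cons (nat_lit 20) (nat_lit 0x49208000002881400000c8055000009c315000000496900000a282f00000f2a370000061dd4)
  (Net.cons (nat_lit 10) (nat_lit 0x53002c60018a0018400164000f40018a000a50013000089003df000cf0022400390003d600398)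
  (Net.cons (nat_lit 5) (nat_lit 0x440c0400a0500a0100a000090601b0280102c140500405009050110080f02401014140301d07012)
  (Net.cons (nat_lit 1) (nat_lit 0x2008000080a0000810000100001014000000108000010000000008020000000100000000)
  (Net.cons (nat_lit 1) (nat_lit 0x129404294052800101405014a0204a0000a528404000a50040028000080052840000480280a02048)
  (Net.cons (nat_lit 1) (nat_lit 0x210a52908421480210a1200a4014840002429480204a5290a5014002142029081204850148501084)
  (Net.cons (nat_lit 1) (nat_lit 0x4294252948508404094a5094a4294a0084a529001084a5084250908128485290210942409020094a)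
  (Net.cons (nat_lit 1) (nat_lit 0x28485084a429020080a0000a4004000900100401204240148100081000a5084a02840121001094a0)
  (Net.cons (nat_lit 5) (nat_lit 0x50100000a040000000a0301802002068140700c010040380002000010100100c0300a0201e)
  (Net.cons (nat_lit 10) (nat_lit 0xf200102001000038400120002f0001a600250000b8003800014400140000800031000196003e8)
  (Net.cons (nat_lit 20) (nat_lit 0xc90ca000006499c00000cb8480000095a12000001294000000e601000000ae83600000d7778)
  (Net.cons (nat_lit 40) (nat_lit 0xc2877356de00000000009e916ccacc000000000058ce88b7000000000000350e0f072a)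
  (Net.cons (nat_lit 80) (nat_lit 0xf9cecac3a84c586dca02000000000000000000004691f112087e4402c522)
  (Net.cons (nat_lit 160) (nat_lit 0x9bb1e098c28905a3c40dca4d54840d6bf2d883bc)
  Net.nil)))))))))))))))))
noncomputable def m112n7 : Net := (Net.cons (nat_lit 160) (nat_lit 0x9bb0e09842990523e44dca4d50848d6bf2d883bc)
  (Net.cons (nat_lit 80) (nat_lit 0x5e3cef85f44d7afc6632000000000000000000006610f516a8fecc93cd62)
  (Net.cons (nat_lit 40) (nat_lit 0x137616553a00000000003276ce980500000000004672cb9b5600000000003d662f8666)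
  (Net.cons (nat_lit 20) (nat_lit 0xdc79e00000dc92600000fea3a0000095c46000009f76a00000155e8000005896b000001b374)
  (Net.cons (nat_lit 10) (nat_lit 0x13c00346002aa001f6000f400094002f2003d4001130009500085000790033300002000a60001a)
  (Net.cons (nat_lit 5) (nat_lit 0x58170140e0300004011028040000705c050500407c0b0701c0700b044020200e078000101402c1c)
  (Net.cons (nat_lit 1) (nat_lit 0x1420004000802000401000000000009000004200000000000004000000000401000000042001000)
  (Net.cons (nat_lit 1) (nat_lit 0x52840528005014802942500025200252808409400010000142108000000a00902520080084002800)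
  (Net.cons (nat_lit 1) (nat_lit 0x214812900421084210842002421005294a4290a4094a0204852902100005094a421404090a009484)
  (Net.cons (nat_lit 1) (nat_lit 0x52902128025094a5294850048508025284212142509424094a5284a1200a128485280a1214852902)
  (Net.cons (nat_lit 1) (nat_lit 0x290810800000020200a50102109020090a008425000a001000214812800508480004010848501024)
  (Net.cons (nat_lit 5) (nat_lit 0x181000804020000500002014000060180404006040160600c0480a0600606814058000200007000)
  (Net.cons (nat_lit 10) (nat_lit 0x16a000e400180000b6000f0000d000290001f4002ba001940009400130001900009000146001e6)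
  (Net.cons (nat_lit 20) (nat_lit 0x8a98000008d9b40000074270000008c05e00000f9704000000556000000187680000023acc)
  (Net.cons (nat_lit 40) (nat_lit 0xca6a3350ec00000000009a77cea20e000000000066768cb8c200000000003d0f33440c)
  (Net.cons (nat_lit 80) (nat_lit 0xdc3c8f85f6547d140e02000000000000000000000253ea771c98f6469dea)
  (Net.cons (nat_lit 160) (nat_lit 0x9bb0e0984299040b450bf02e7f32e4e8cf3c54a8)
  Net.nil)))))))))))))))))
noncomputable def m112l : List Net := [m112n0,m112n1,m112n2,m112n2,m112n4,m112n4,m112n6,m112n7]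
noncomputable abbrev m112 : ℕ → Net := lk Net.nil m112l
theorem m112ok : NetsOk 266 m112 vT := netsOk_of (by decide +kernel)
theorem m112s0 : Sat io [] (finG m112ok) := fin_sat_nil _ (k := 9) (n := 8) (by decide +kernel)
noncomputable def wsX : List (List ℕ) := [[4,6,1,6,4,2,1,3,1],[0,2,0,3,5,7,0,7,5],[2,0,6,1,2,1],[0,3,0,7,1,3],[6],[7],[0],[1]]
def m0X := Jo.modelJ.dG (ws := wsX) (k := 9) (nl := m112l) (by decide +kernel)
noncomputable def gX : ℕ → Jo.GJ := dG Jo.gJ wsX
def modelX := m0X
theorem hgeX : ∀ l, llen il ≤ l → gX l = 1 := fun _ h => dG_ge h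
theorem heqX : ∀ u w, (fun u w => Jo.eqvJ (sel wsX u) (sel wsX w)) u w = true → wp gX u = wp gX w := eqv_dG Jo.heqJ _
theorem s0X : Sat io [] gX := sat_of_eqv heqX hgeX (by decide +kernel)
theorem rl114 : ∀ r ∈ C85, wp gX r = 1 := rels_of_eqv heqX (by decide +kernel)
theorem sa113 : Sat io C85 gX := ⟨s0X.inv, rl114⟩
theorem der115 : Der 266 (finX 266) (cl gX (lw [0,1,2,3,4,5])) (fun _ => Net.nil) := Der.zero modelX.inj
noncomputable def ns116 : ℕ → Net := upd (fun _ => Net.nil) 0 (m112 0)
theorem der117 : Der 266 (finX 266) (cl gX (lw [0,1,2,3,4,5])) ns116 := der115.add (wp_mem_cl (w := [0]) (by decide)) (rep_letter modelX 0) 0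
noncomputable def ns118 : ℕ → Net := upd ns116 1 (m112 1)
theorem der119 : Der 266 (finX 266) (cl gX (lw [0,1,2,3,4,5])) ns118 := der117.add (wp_mem_cl (w := [1]) (by decide)) (rep_letter modelX 1) 1
noncomputable def ns120 : ℕ → Net := upd ns118 2 (m112 2)
theorem der121 : Der 266 (finX 266) (cl gX (lw [0,1,2,3,4,5])) ns120 := der119.add (wp_mem_cl (w := [2]) (by decide)) (rep_letter modelX 2) 2
noncomputable def ns122 : ℕ → Net := upd ns120 3 (m112 3)
theorem der123 : Der 266 (finX 266) (cl gX (lw [0,1,2,3,4,5])) ns122 := der121.add (wp_mem_cl (w := [3]) (by decide)) (rep_letter modelX 3) 3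
noncomputable def ns124 : ℕ → Net := upd ns122 4 (m112 4)
theorem der125 : Der 266 (finX 266) (cl gX (lw [0,1,2,3,4,5])) ns124 := der123.add (wp_mem_cl (w := [4]) (by decide)) (rep_letter modelX 4) 4
noncomputable def ns126 : ℕ → Net := upd ns124 5 (m112 5)
theorem der127 : Der 266 (finX 266) (cl gX (lw [0,1,2,3,4,5])) ns126 := der125.add (wp_mem_cl (w := [5]) (by decide)) (rep_letter modelX 5) 5
noncomputable def L128 : Lev := Lev.cons 0 120 [[0],[1],[2],[3],[4],[5]] Lev.nil
theorem lc129 : Lev.chk 266 6 ns126 vT 100 L128 = true := by decide +kernel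
theorem lb130 : 120 ≤ Nat.card (cl gX (lw [0,1,2,3,4,5])) := le_of_eq_of_le (by decide +kernel) (der127.card_ge lc129)
theorem odX : Der 266 (finX 266) (cl gX (lw [0,1,2,3,4,5,6,7])) (resN m112 [0,1,2,3,4,5,6,7]) := Der.letters modelX _
noncomputable def x131 : Net := (Net.cons (nat_lit 160) (nat_lit 0x10007828a800a43ac125f98fc4233e247d506900)
  (Net.cons (nat_lit 80) (nat_lit 0x801c0bb2e041a1126600000000000000000000007fae90c14cf7caa0e844)
  (Net.cons (nat_lit 40) (nat_lit 0x808448a3100000000000878660738200000000003ea0a193220000000000cb85881620)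
  (Net.cons (nat_lit 20) (nat_lit 0x213e0000004640100000f988000000a5382000005973400000cfc540000015d90000002aa52)
  (Net.cons (nat_lit 10) (nat_lit 0xc6001c800250002440014a00266002c0003cd0035f000a000072000fe0002000008002dc003d1)
  (Net.cons (nat_lit 5) (nat_lit 0x81601010048000380c0400e07c190140b00817050180680d020150281900c10050040581c0241a)
  (Net.cons (nat_lit 1) (nat_lit 0x1280000000000000000000008000001280002040008000000a00000000020080050000000000)
  (Net.cons (nat_lit 1) (nat_lit 0xa501400000a000005080000140001025014050848500001014a50048001405000a0080000000)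
  (Net.cons (nat_lit 1) (nat_lit 0xa528080000040108021401284a4000a4290a5290a420080294a521485290a02040501405280a5)
  (Net.cons (nat_lit 1) (nat_lit 0x1004a509404000a008425080a109420294852942129425004a1294a529025294a5090a0090a1284a)
  (Net.cons (nat_lit 1) (nat_lit 0xa1280000140409080000a101485000252948000085094800140521420214202842508025214a1)
  (Net.cons (nat_lit 5) (nat_lit 0x1401010048000280c0400e00810010140081a060140680c0200a0280602010050000181c04808)
  (Net.cons (nat_lit 10) (nat_lit 0x1c000050000440014a0024c002c000384000a0000a000072000fe0002000008002d800044)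
  (Net.cons (nat_lit 20) (nat_lit 0x213e00000046400000007988000000a53820000059734000008f8540000015d90000002aa52)
  (Net.cons (nat_lit 40) (nat_lit 0x808448a3100000000000878660738200000000003ea0a193220000000000cb85881620)
  (Net.cons (nat_lit 80) (nat_lit 0x801c0bb2e041a1126600000000000000000000007fae90c14cf7caa0e844)
  (Net.cons (nat_lit 160) (nat_lit 0x10007828a800a43ac125f98fc4233e247d506900)
  Net.nil)))))))))))))))))
noncomputable def x131s : ℕ → Net := upd (resN m112 [0,1,2,3,4,5,6,7]) 8 x131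
theorem der132 : Der 266 (finX 266) (cl gX (lw [0,1,2,3,4,5,6,7])) x131s := odX.ext (k := 9) (w := [4]) 8 (by decide +kernel)
noncomputable def x133 : Net := (Net.cons (nat_lit 160) (nat_lit 0x233cbe428c31dae0b869f4bc4caa9f47946a82a)
  (Net.cons (nat_lit 80) (nat_lit 0x4b0d5a7397a8ab82a9d600000000000000000000353cbfc2e20d04ccb965)
  (Net.cons (nat_lit 40) (nat_lit 0xc0859219810000000000e78c50b388000000000009b70242260000000000fa9da588b7)
  (Net.cons (nat_lit 20) (nat_lit 0x476800000cb6f7000004f22000000d890800000d9d8a000004d81e00000fc73000000b3224)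
  (Net.cons (nat_lit 10) (nat_lit 0x21100290000050008c0012d002300008600098000e6003580013600338002bd002a5001690029f)
  (Net.cons (nat_lit 5) (nat_lit 0x581c060060040b050020481507c1007c080400c0081e0140c020050300c07c0e034040101d04019)
  (Net.cons (nat_lit 1) (nat_lit 0x401000200000000001004000000008000000002000008000004040002000000000000000100000)
  (Net.cons (nat_lit 1) (nat_lit 0x290a10142001404000202902000001200a0080a50140500020094a1004052800009400200a00048)
  (Net.cons (nat_lit 1) (nat_lit 0x210a420085004a028004290852100021004010042808529424014a5214a421405010a00148401485)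
  (Net.cons (nat_lit 1) (nat_lit 0x5284a50942408485004a12942129405080a0284a50142528480284a5094852842029421290a50902)
  (Net.cons (nat_lit 1) (nat_lit 0x28421000a5204852000529084014802948000485200000942000425080a4014250902100401014a4)
  (Net.cons (nat_lit 5) (nat_lit 0x381007000010020701202816040080500804808000080580e030140101a03806000060081003010)
  (Net.cons (nat_lit 10) (nat_lit 0x12400212003800018c00170002b00009600088000660036e00030001d6002b600310003fc00116)
  (Net.cons (nat_lit 20) (nat_lit 0x844e000000c8780000000b54000000ca10a0000080d98000006155800000f7a860000013430)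
  (Net.cons (nat_lit 40) (nat_lit 0xc1bf423a080000000000e19cf1b7c0000000000000939993600000000000fad6c5b0ea)
  (Net.cons (nat_lit 80) (nat_lit 0x491c53f3b76ba7bd53c8000000000000000000001d389bc32625a512945c)
  (Net.cons (nat_lit 160) (nat_lit 0x233cbe428c31c98185c3676333e65b8269c0bd4)
  Net.nil)))))))))))))))))
noncomputable def x133s : ℕ → Net := upd x131s 9 x133
theorem der134 : Der 266 (finX 266) (cl gX (lw [0,1,2,3,4,5,6,7])) x133s := der132.ext (k := 9) (w := [0,7,7,0,7,4,2,7]) 9 (by decide +kernel)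
noncomputable def x135 : Net := (Net.cons (nat_lit 160) (nat_lit 0x81534da29f9a99b28fe627420ee4c3da53f07b44)
  (Net.cons (nat_lit 80) (nat_lit 0x5bd44d422830e2dfa74a00000000000000000000b01bacfb337c87eb67ff)
  (Net.cons (nat_lit 40) (nat_lit 0x416aac37a4000000000074ddaa5bd60000000000c07996cd9a000000000034fbb7a4a8)
  (Net.cons (nat_lit 20) (nat_lit 0x8806600000a70fa00000c498a00000da7e10000055f5000000a6f4800000552e800000508cd)
  (Net.cons (nat_lit 10) (nat_lit 0xca0018d00393003a000390000a60004c0012400134000d0002e3000fc0017200360000c8000fa)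
  (Net.cons (nat_lit 5) (nat_lit 0x2c1c0141c0480c040080180002815030160501d0000a044170700f0001106c03068080181406c1c)
  (Net.cons (nat_lit 1) (nat_lit 0x40000100000000000140008000000000008000020004000000000000080000000000001)
  (Net.cons (nat_lit 1) (nat_lit 0x500480004a00142000005010802808500000000000148021404094a5000a5000a128000200000042)
  (Net.cons (nat_lit 1) (nat_lit 0x200a4204a5080a40108020084214a529405004a1090a5010842108521024290a5214a00100421485)
  (Net.cons (nat_lit 1) (nat_lit 0x501424084a5014802908508424294a5090a029421094a10948121425294a5084a428400284a5090a)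
  (Net.cons (nat_lit 1) (nat_lit 0x280842840520424000802008101085284a1214a029081090210000501001000a1000a40140521481)
  (Net.cons (nat_lit 5) (nat_lit 0x281605004040100400805000070020101206018020020681606008000040600a02804058100281c)
  (Net.cons (nat_lit 10) (nat_lit 0xe20008000358001840039000222003bc001a000124000f000070002aa0019a003e400002002fc)
  (Net.cons (nat_lit 20) (nat_lit 0x74000000bd0fe000000121400000d96e6000007b94a00000eed4c000001426400000c4ac0)
  (Net.cons (nat_lit 40) (nat_lit 0x4bfae9f5060000000000f5c494dc920000000000f4dd146e88000000000073d3a4e420)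
  (Net.cons (nat_lit 80) (nat_lit 0x5a94086222b8f24c5510000000000000000000008e130ef7335c8336b6b0)
  (Net.cons (nat_lit 160) (nat_lit 0x81534da29f9a98928d71837d89c6e64822a43804)
  Net.nil)))))))))))))))))
noncomputable def x135s : ℕ → Net := upd x133s 10 x135
theorem der136 : Der 266 (finX 266) (cl gX (lw [0,1,2,3,4,5,6,7])) x135s := der134.ext (k := 9) (w := [9,4,9,4,4,4,9]) 10 (by decide +kernel)
noncomputable def x137 : Net := (Net.cons (nat_lit 160) (nat_lit 0x7e440049d288018e66dca030c64a9438365000)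
  (Net.cons (nat_lit 80) (nat_lit 0xa0d0042143039883e480000000000000000000003e3b5ab28a6b50159240)
  (Net.cons (nat_lit 40) (nat_lit 0x80f191808000000000006ef6ad76240000000000a7e10461460000000000d1bad00848)
  (Net.cons (nat_lit 20) (nat_lit 0x2800000805120000029cdb000002693b0000019b1800000c4bb0000001b68000000640ac)
  (Net.cons (nat_lit 10) (nat_lit 0x80010000080003aa002250008000194003bc002c0002860021c0019b00088001be002e200019)
  (Net.cons (nat_lit 5) (nat_lit 0x1002801008000500c0340906c1705c10014040281204002038170301c020110440b0100707808)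
  (Net.cons (nat_lit 1) (nat_lit 0x80010800000001004000002000000200000000000020000200040001404)
  (Net.cons (nat_lit 1) (nat_lit 0x8000000012002129484004200948101420280050000028021284a0294a128480280a)
  (Net.cons (nat_lit 1) (nat_lit 0x21081290042140409485214a4210a4204a4210a528485094a429021090a4294a5210842948401485)
  (Net.cons (nat_lit 1) (nat_lit 0x4094210842509085084240848529425084a12042129421084a520421284a129425294a1290a1284a)
  (Net.cons (nat_lit 1) (nat_lit 0x210812900421404094850940509005080a100425284a52802401025000a028001210010048028085)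
  (Net.cons (nat_lit 5) (nat_lit 0x1002800008000500801008048160400005004048120200203800050080200e040100101000018)
  (Net.cons (nat_lit 10) (nat_lit 0x80010000080001a8002000002400194000c0003c000226002300038800088001be002e20030a)
  (Net.cons (nat_lit 20) (nat_lit 0x28000008051200000662b2000002ab3000000778180000040bb0000001b68000000640ac)
  (Net.cons (nat_lit 40) (nat_lit 0x80f1918080000000000066d669f2b00000000000e7c10461440000000000d1bad00848)
  (Net.cons (nat_lit 80) (nat_lit 0xa0d0042143039883e480000000000000000000003e3b5ab28a6b50140240)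
  (Net.cons (nat_lit 160) (nat_lit 0x7e440049d288018e66cca030c64a1438365000)
  Net.nil)))))))))))))))))
noncomputable def x137s : ℕ → Net := upd x135s 11 x137
theorem der138 : Der 266 (finX 266) (cl gX (lw [0,1,2,3,4,5,6,7])) x137s := der136.ext (k := 9) (w := [9,9,4,9,9,9]) 11 (by decide +kernel)
theorem nokX : NetsOk 266 x137s vT := der138.elim fun _ h => h.1.ok
noncomputable def chX4 : Ch := []
noncomputable def chXD3 : ℕ := (nat_lit 0x40001)
noncomputable def chX3 : Ch := (0, chXD3, [4,5]) :: chX4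
theorem chXok3 : ChnL Jo.GJ 266 (finX 266) x137s chX3 2 := ChnL.cons2 (l0 := [4,5]) (n := 2) (B := 1) (k := 6) (rr := 300) ChnL.nil (by decide +kernel) (by decide +kernel)
noncomputable def chXD2 : ℕ := (nat_lit 0x800820000000420000424000008040210202000000412600080008c6018000888)
noncomputable def chX2 : Ch := (259, chXD2, [4,5,10,11]) :: chX3
theorem chXok2 : ChnL Jo.GJ 266 (finX 266) x137s chX2 60 := ChnL.cons2 (l0 := [4,5,10,11]) (n := 30) (B := 2) (k := 6) (rr := 300) chXok3 (by decide +kernel) (by decide +kernel)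
noncomputable def chXD1 : ℕ := (nat_lit 0x2004000001000000004000000900110200000000080020000000000000)
noncomputable def chX1 : Ch := (128, chXD1, [4,5,9,10,11]) :: chX2
theorem chXok1 : ChnL Jo.GJ 266 (finX 266) x137s chX1 660 := ChnL.cons2 (l0 := [4,5,9]) (n := 11) (B := 60) (k := 6) (rr := 300) chXok2 (by decide +kernel) (by decide +kernel)
noncomputable def chXD0 : ℕ := (nat_lit 0x3ffffffffffffffffffffffffffffffffffffffffffffffffffffffffffffffffff)
noncomputable def chX0 : Ch := (265, chXD0, [0,1,2,3,4,5,6,7,9,10,11]) :: chX1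
theorem chXok0 : ChnL Jo.GJ 266 (finX 266) x137s chX0 175560 := ChnL.cons2 (l0 := [0,1,2,3,4,5,6,7]) (n := 266) (B := 660) (k := 6) (rr := 300) chXok1 (by decide +kernel) (by decide +kernel)
noncomputable def flX0 : ℕ := (nat_lit 0x2081000002000000000000000004000000100000000002000000000000008080002)
noncomputable def flX : List (List ℕ × ℕ) := [([8],flX0)]
theorem fokX : (spC 266 x137s 8 (lw [0,1,2,3,4,5]) flX).FixOk := SP.fixOk_of _ nokX (k := 9) (by decide +kernel)
noncomputable def cm139T : BT := (BT.br [[0],[2],[4]] (BT.kid 265 [] (BT.br [[4],[2,1],[1,2,0,0,2,0,0]] (BT.kid 128 [] (BT.br [[4],[0,0,2,1,1,2,0,0]] (BT.kid 259 [] (BT.br [[4]] (BT.kid 0 [] BT.live BT.nil)) BT.nil)) BT.nil)) BT.nil))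
theorem cm139 : (spC 266 x137s 8 (lw [0,1,2,3,4,5]) flX).Clm Jo.GJ (finX 266) false 0 chX0 [] [] := SP.Clm.ofN (T := cm139T) (by decide +kernel)
theorem ceX : cl gX (lw [0,1,2,3,4,5]) = Subgroup.centralizer {wp gX [4]} := cent_eq_cl modelX Jo.cardJ der138 chXok0 fokX cm139 (by decide +kernel)
abbrev TT : Type := Multiplicative (ZMod 2) × alternatingGroup (Fin 5)
def pa : Equiv.Perm (Fin 5) := ⟨![1, 2, 3, 4, 0], ![4, 0, 1, 2, 3], by decide, by decide⟩
def pb : Equiv.Perm (Fin 5) := ⟨![1, 0, 3, 2, 4], ![1, 0, 3, 2, 4], by decide, by decide⟩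
def ea : alternatingGroup (Fin 5) := ⟨pa, Equiv.Perm.mem_alternatingGroup.2 (by decide)⟩
def eb : alternatingGroup (Fin 5) := ⟨pb, Equiv.Perm.mem_alternatingGroup.2 (by decide)⟩
def gT (l : ℕ) : TT := [(1, ea), (1, ea⁻¹), (1, eb), (1, eb), (Multiplicative.ofAdd 1, 1), (Multiplicative.ofAdd 1, 1)].getD l 1
theorem satT : Sat io C85 gT := sat_of_test (t := fun w => decide (wp gT w = 1)) (fun _ h => of_decide_eq_true h) (m := 8)
  (fun l h => List.getD_eq_default _ _ (le_trans (by decide) h)) (by decide +kernel)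
def kT (x : TT) : ℕ := (Multiplicative.toAdd x.1).val * 125 + (x.2.1 0).val * 25 + (x.2.1 1).val * 5 + (x.2.1 2).val + 1
theorem card_ge_of_incr {G : Type*} [Group G] [Finite G] {g : ℕ → G} {kl : List ℕ} (κ : G → ℕ) {W : List (List ℕ)}
    (h1 : lall (wok (tb (mkM kl))) W = true) (h2 : incr (fun w => κ (wp g w)) W 0 = true) :
    W.length ≤ Nat.card (cl g (lw kl)) := by
  classical
  have hn : (W.map (wp g)).Nodup := List.Nodup.of_map κ (by rw [List.map_map]; exact (incr_spec h2).2)
  have h3 : ((W.map (wp g)).toFinset : Set G) ⊆ (cl g (lw kl) : Set G) := fun x hx => by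
    obtain ⟨w, hw, rfl⟩ := List.mem_map.1 (List.mem_toFinset.1 (Finset.mem_coe.1 hx))
    exact wp_mem_lw ((lall_eq _ _).1 h1 w hw)
  have := Set.ncard_le_ncard h3
  rwa [Set.ncard_coe_finset, List.toFinset_card_of_nodup hn, List.length_map] at this
theorem lbT : 120 ≤ Nat.card (cl gT (lw [0,1,2,3,4,5])) := le_of_eq_of_le (by decide +kernel) (card_ge_of_incr kT (W := [[],[2,1,1,2,0,0],[1,1,2,0,0,2],[0,2,1],[2,0,0,2,1],[1,1,2,1,1],[0,2,1,1,2],[2,0],[1,2,0,0,2,0,0],[0,0,2,0,0],[1,2],[2,0,0,2,1,1,2],[1,1,2,0,0],[2],[2,1,1,2,0,0,2],[1,2,0,0,2],[0],[0,2,1,1,2,0,0],[1,2,1,1],[0,0,2,1],[2,1,1,2,1,1],[2,0,0,2,0,0],[0,0,2,1,1,2],[0,2,0],[2,1,1,2,0],[1,2,0,0,2,0],[0,0,2,0],[2,1,1,2,0,0,2,1],[1,2,0,0],[0,2],[0,0,2,1,1,2,0,0],[2,0,0,2],[0,0],[0,2,1,1,2,1,1],[2,1,1],[1,1,2,1],[1,1,2,0,0,2,1],[0,2,1,1],[1,2,1],[1,1,2,0],[0,2,1,1,2,0],[2,0,0,2,0],[0,0,2],[2,0,0,2,1,1,2,0,0],[2,0,0],[1,1],[1,2,0,0,2,1,1],[2,1,1,2,1],[1],[2,0,0,2,1,1],[0,2,1,1,2,1],[2,1],[1,2,0,0,2,1],[0,0,2,1,1],[2,1,1,2],[1,2,0],[0,0,2,1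,1,2,0],[0,2,0,0],[1,1,2],[2,0,0,2,1,1,2,0],[4],[4,2,1,1,2,0,0],[4,1,1,2,0,0,2],[4,0,2,1],[4,2,0,0,2,1],[4,1,1,2,1,1],[4,0,2,1,1,2],[4,2,0],[4,1,2,0,0,2,0,0],[4,0,0,2,0,0],[4,1,2],[4,2,0,0,2,1,1,2],[4,1,1,2,0,0],[4,2],[4,2,1,1,2,0,0,2],[4,1,2,0,0,2],[4,0],[4,0,2,1,1,2,0,0],[4,1,2,1,1],[4,0,0,2,1],[4,2,1,1,2,1,1],[4,2,0,0,2,0,0],[4,0,0,2,1,1,2],[4,0,2,0],[4,2,1,1,2,0],[4,1,2,0,0,2,0],[4,0,0,2,0],[4,2,1,1,2,0,0,2,1],[4,1,2,0,0],[4,0,2],[4,0,0,2,1,1,2,0,0],[4,2,0,0,2],[4,0,0],[4,0,2,1,1,2,1,1],[4,2,1,1],[4,1,1,2,1],[4,1,1,2,0,0,2,1],[4,0,2,1,1],[4,1,2,1],[4,1,1,2,0],[4,0,2,1,1,2,0],[4,2,0,0,2,0],[4,0,0,2],[4,2,0,0,2,1,1,2,0,0],[4,2,0,0],[4,1,1],[4,1,2,0,0,2,1,1],[4,2,1,1,2,1],[4,1],[4,2,0,0,2,1,1],[4,0,2,1,1,2,1],[4,2,1],[4,1,2,0,0,2,1],[4,0,0,2,1,1],[4,2,1,1,2],[4,1,2,0],[4,0,0,2,1,1,2,0],[4,0,2,0,0],[4,1,1,2],[4,2,0,0,2,1,1,2,0]]) (by decide +kernel) (by decide +kernel))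
theorem topT : cl gT (lw [0,1,2,3,4,5]) = ⊤ := Subgroup.eq_top_of_le_card _ (le_of_eq_of_le (by
  rw [Nat.card_prod, nat_card_alternatingGroup]; simp [Nat.factorial]) lbT)
theorem ordX : orderOf (wp gX [4]) = 2 := orderOf_two (by rw [← wp_lapp]; exact heqX _ [] (by decide +kernel)) (modelX.ne_one_of_mp (p := 0) (by decide +kernel))
theorem main : Nonempty (Subgroup.centralizer {wp gX [4]} ≃* TT) := by
  obtain ⟨e, -⟩ := bd110.equiv sa113 satT lb130 lbT
  rw [← ceX]
  exact ⟨e.trans ((MulEquiv.subgroupCongr topT).trans Subgroup.topEquiv)⟩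
theorem cent_congr {G H : Type*} [Group G] [Group H] (e : G ≃* H) (x : G) :
    Nonempty (Subgroup.centralizer {x} ≃* Subgroup.centralizer {e x}) :=
  ⟨(e.subgroupMap _).trans (MulEquiv.subgroupCongr (by
    ext y
    obtain ⟨y, rfl⟩ := e.surjective y
    rw [← MonoidHom.coe_coe, Subgroup.mem_map_iff_mem e.injective]
    simp only [Subgroup.mem_centralizer_singleton_iff, MonoidHom.coe_coe, ← map_mul, e.injective.eq_iff]))⟩

end Cfsg.Agent.H6.JoC
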