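/- Conjugacy of involutions from a listed Sylow 2-subgroup; non-split double covers. -/
import Cfsg.Agent.H6.CeA
import Cfsg.Agent.H6.J3A
import Cfsg.Prelude.Def_SporadicB
namespace Cfsg.Agent.H6
open MulAction

section
variable {G : Type*} [Group G] {g : ℕ → G}

theorem top_kG {kl : List ℕ} {K : Subgroup G} (hK : cl g (lw kl) = K)
    (hc : lall (fun l => lbeq (sel (lw kl) [l]) [l]) kl = true) : cl (kG hK.le) (lw kl) = ⊤ := by
  have : K ≤ (cl (kG hK.le) (lw kl)).map K.subtype := hK.ge.trans (cl_lw_le.2 fun l hl =>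
    ⟨_, gen_mem_lw hl, by
      have h := wp_kG hK.le [l]
      rw [lbeq_eq ((lall_eq _ _).1 hc l hl)] at h
      simpa using h⟩)
  refine eq_top_iff.2 fun t _ => ?_
  obtain ⟨t', h1, h2⟩ := this t.2
  exact (Subtype.ext h2 : t' = t) ▸ h1

theorem list_of_tab [Finite G] {eqv : List ℕ → List ℕ → Bool} (he : ∀ u w, eqv u w = true → wp g u = wp g w)
    {kl : List ℕ} {W tab : List (List ℕ)} (h0 : [] ∈ W)
    (hc : lall2 (fun w row => lall2 (fun l j => eqv (l :: w) (lk [] W j)) kl row) W tab = true) :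
    ∀ x ∈ cl g (lw kl), ∃ w ∈ W, wp g w = x := by
  intro x hx
  have hx' : x ∈ Submonoid.closure {x | ∃ w ∈ lw kl, wp g w = x} := by
    rw [← Subgroup.closure_toSubmonoid_of_finite]; exact hx
  clear hx
  induction hx' using Submonoid.closure_induction_left with
  | one => exact ⟨[], h0, rfl⟩
  | mul_left x hx y _ ih =>
    obtain ⟨w, hw, rfl⟩ := ih
    obtain ⟨u, hu, rfl⟩ := hx
    rw [lw_eq] at hu
    obtain ⟨l, hl, rfl⟩ := List.mem_map.1 hu
    obtain ⟨j, e⟩ := forall_of_lall2 (P := fun w => ∀ l ∈ kl, ∃ j, eqv (l :: w) (lk [] W j) = true) hc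
      (fun _ _ e => forall_of_lall2 e fun _ j e => ⟨j, e⟩) w hw l hl
    refine ⟨lk [] W j, (lk_mem _ _ _).elim (fun h => h ▸ h0) id, ?_⟩
    rw [← he _ _ e]; simp

theorem invol_conj [Finite G] {K : Subgroup G} {W : List (List ℕ)} {k : ℕ} (hG : (Nat.card G).factorization 2 = k)
    (hcl : ∀ x ∈ K, ∃ w ∈ W, wp g w = x) (hW : W.length ≤ 2 ^ k) (lb : 2 ^ k ≤ Nat.card K) {t : G}
    (h : ∀ w ∈ W, orderOf (wp g w) = 2 → IsConj (wp g w) t) (x : G) (hx : orderOf x = 2) : IsConj x t := by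
  classical
  have h3 : (K : Set G) ⊆ ((W.map (wp g)).toFinset : Set G) := fun x hx => by
    obtain ⟨w, hw, e⟩ := hcl x hx
    exact Finset.mem_coe.2 (List.mem_toFinset.2 (List.mem_map.2 ⟨w, hw, e⟩))
  have h4 := Set.ncard_le_ncard h3
  rw [Set.ncard_coe_finset] at h4
  have h5 : Nat.card K = 2 ^ k :=
    le_antisymm (h4.trans ((List.toFinset_card_le _).trans (by rwa [List.length_map]))) lb
  let P : Sylow 2 G := Sylow.ofCard K (by rw [h5, hG])
  have hp : IsPGroup 2 (Subgroup.zpowers x) := IsPGroup.of_card (n := 1) (by rw [Nat.card_zpowers, hx, pow_one])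
  obtain ⟨Q, hQ⟩ := hp.exists_le_sylow
  obtain ⟨c, hc⟩ := exists_smul_eq G Q P
  have hm : c * x * c⁻¹ ∈ K := by
    have : c * x * c⁻¹ ∈ (c • Q : Sylow 2 G) := by
      exact Subgroup.smul_mem_pointwise_smul x (MulAut.conj c) Q (hQ (Subgroup.mem_zpowers x))
    rw [hc] at this
    exact this
  obtain ⟨w, hw, e⟩ := hcl _ hm
  have i1 : IsConj x (wp g w) := isConj_iff.2 ⟨c, e.symm⟩
  refine i1.trans (h w hw ?_)
  rw [e, ← hx]; exact (MulAut.conj c).orderOf_eq x

theorem nonsplit_of_sq {K : Type*} [Group K] {z y : G} (hz : Subgroup.center G = Subgroup.zpowers z) (ho : orderOf z = 2)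
    (e : Nonempty (K ≃* G ⧸ Subgroup.center G)) (hy : y ^ 2 = z) : IsNonsplitDoubleCover G K := by
  have hc : Nat.card (Subgroup.center G) = 2 := by rw [hz, Nat.card_zpowers, ho]
  refine ⟨hc, ⟨e.some.symm⟩, fun L hL => ?_⟩
  have h1 : z ∈ L := hy ▸ L.sq_mem_of_index_two (hL.index_eq_card.trans hc) y
  have h2 : z = 1 := Subgroup.disjoint_def.1 hL.disjoint (hz ▸ Subgroup.mem_zpowers z) h1
  rw [h2, orderOf_one] at ho
  exact absurd ho (by norm_num)

theorem nonsplit_congr2 {H K : Type*} [Group H] [Group K] (e : G ≃* H) (h : IsNonsplitDoubleCover G K) :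
    IsNonsplitDoubleCover H K := by
  have hm : (Subgroup.center G).map (e : G →* H) = Subgroup.center H := by
    ext y
    obtain ⟨y, rfl⟩ := e.surjective y
    rw [← MonoidHom.coe_coe, Subgroup.mem_map_iff_mem e.injective, Subgroup.mem_center_iff, Subgroup.mem_center_iff]
    refine ⟨fun a b => ?_, fun a b => e.injective (by rw [map_mul, map_mul]; exact a _)⟩
    obtain ⟨b, rfl⟩ := e.surjective b
    simp only [MonoidHom.coe_coe, ← map_mul, a]
  have hc : Nat.card (Subgroup.center H) = 2 := by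
    rw [← hm, Subgroup.card_map_of_injective e.injective, h.1]
  refine ⟨hc, ⟨(QuotientGroup.congr _ _ e hm).symm.trans h.2.1.some⟩, fun L hL => h.2.2 (L.comap (e : G →* H)) ?_⟩
  refine Subgroup.isComplement'_of_disjoint_and_mul_eq_univ (Subgroup.disjoint_def.2 fun {x} a b => e.injective ?_) ?_
  · rw [map_one]
    exact Subgroup.disjoint_def.1 hL.disjoint (hm ▸ Subgroup.mem_map_of_mem _ a) b
  · refine Set.eq_univ_of_forall fun x => ?_
    obtain ⟨⟨⟨a, ha⟩, ⟨b, hb⟩⟩, hab⟩ := hL.existsUnique (e x) |>.exists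
    rw [← hm] at ha
    obtain ⟨a, ha', rfl⟩ := ha
    refine ⟨a, ha', e.symm b, by simpa using hb, e.injective ?_⟩
    simpa using hab

theorem cent_congr' {H : Type*} [Group H] (e : G ≃* H) (x : G) :
    Nonempty (Subgroup.centralizer {x} ≃* Subgroup.centralizer {e x}) :=
  ⟨(e.subgroupMap _).trans (MulEquiv.subgroupCongr (by
    ext y
    obtain ⟨y, rfl⟩ := e.surjective y
    rw [← MonoidHom.coe_coe, Subgroup.mem_map_iff_mem e.injective]
    simp only [Subgroup.mem_centralizer_singleton_iff, MonoidHom.coe_coe, ← map_mul, e.injective.eq_iff]))⟩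
end

end Cfsg.Agent.H6
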