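/- Extraspecial normal subgroups of minus type with a complement, from words. -/
import Cfsg.Agent.H6.CeC
import Cfsg.Agent.H6.McA
namespace Cfsg.Agent.H6
open Subgroup

def RKd (Q : Type*) [Group Q] : Prop := ∃ z : Q, ∀ x y : Q, x * x = 1 → y * y = 1 → x * y = y * x →
  x = 1 ∨ x = z ∨ y = 1 ∨ y = z ∨ y = x ∨ y = x * z

theorem RKd.congr {Q Q' : Type*} [Group Q] [Group Q'] (h : RKd Q) (e : Q ≃* Q') : RKd Q' := by
  obtain ⟨z, h⟩ := h
  refine ⟨e z, e.surjective.forall.2 fun a => e.surjective.forall.2 fun b h1 h2 h3 => ?_⟩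
  have := h a b (e.injective (by simpa using h1)) (e.injective (by simpa using h2)) (e.injective (by simpa using h3))
  simpa only [← map_mul, e.injective.eq_iff, MulEquiv.map_eq_one_iff] using this

theorem RKd.rank {Q : Type*} [Group Q] (h : RKd Q) (E : Subgroup Q) (hE : IsElementaryAbelian 2 E) :
    Nat.card E ≤ 2 ^ 2 := by
  obtain ⟨z, h⟩ := h
  have sq : ∀ a ∈ E, a * a = 1 := fun a ha => by rw [← sq]; exact hE.2 a ha
  have cm : ∀ a ∈ E, ∀ b ∈ E, a * b = b * a := fun a ha b hb =>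
    congrArg Subtype.val (hE.1.is_comm.comm (⟨a, ha⟩ : E) ⟨b, hb⟩)
  obtain ⟨x, hx⟩ : ∃ x : Q, (E : Set Q) ⊆ {1, z, x, x * z} := by
    by_cases c : ∃ x ∈ E, x ≠ 1 ∧ x ≠ z
    · obtain ⟨x, hx, c1, c2⟩ := c
      refine ⟨x, fun y hy => ?_⟩
      have := h x y (sq x hx) (sq y hy) (cm x hx y hy)
      simp only [Set.mem_insert_iff, Set.mem_singleton_iff]
      tauto
    · refine ⟨1, fun y hy => ?_⟩
      simp only [Set.mem_insert_iff, Set.mem_singleton_iff]
      by_contra d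
      exact c ⟨y, hy, fun e => d (Or.inl e), fun e => d (Or.inr (Or.inl e))⟩
  have h1 := Set.ncard_le_ncard hx (Set.toFinite _)
  have h2 := Set.ncard_insert_le (1 : Q) {z, x, x * z}
  have h3 := Set.ncard_insert_le z {x, x * z}
  have h4 := Set.ncard_insert_le x {x * z}
  rw [Set.ncard_singleton] at h4
  have h5 : Nat.card E = (E : Set Q).ncard := rfl
  omega

section
variable {G : Type*} [Group G] {g : ℕ → G} {eqv : List ℕ → List ℕ → Bool}

theorem list_of_tab2 [Finite G] (he : ∀ u w, eqv u w = true → wp g u = wp g w)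
    {qs W tab : List (List ℕ)} (h0 : [] ∈ W)
    (hc : lall2 (fun w row => lall2 (fun u j => eqv (lapp u w) (lk [] W j)) qs row) W tab = true) :
    ∀ x ∈ cl g qs, ∃ w ∈ W, wp g w = x := by
  intro x hx
  have hx' : x ∈ Submonoid.closure {x | ∃ w ∈ qs, wp g w = x} := by
    rw [← Subgroup.closure_toSubmonoid_of_finite]; exact hx
  clear hx
  induction hx' using Submonoid.closure_induction_left with
  | one => exact ⟨[], h0, rfl⟩
  | mul_left x hx y _ ih =>
    obtain ⟨w, hw, rfl⟩ := ih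
    obtain ⟨u, hu, rfl⟩ := hx
    obtain ⟨j, e⟩ := forall_of_lall2 (P := fun w => ∀ u ∈ qs, ∃ j, eqv (lapp u w) (lk [] W j) = true) hc
      (fun _ _ e => forall_of_lall2 e fun _ j e => ⟨j, e⟩) w hw u hu
    refine ⟨lk [] W j, (lk_mem _ _ _).elim (fun h => h ▸ h0) id, ?_⟩
    rw [← he _ _ e, wp_lapp]

theorem RKd.of_words (he : ∀ u w, eqv u w = true → wp g u = wp g w) {Q : Subgroup G} {W : List (List ℕ)}
    (hW : ∀ x ∈ Q, ∃ w ∈ W, wp g w = x) {zw : List ℕ} (hz : wp g zw ≠ 1) (hQ : wp g zw ∈ Q)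
    (h : lall (fun w => bor (eqv (lapp w w) zw) (bor (eqv w []) (bor (eqv w zw)
      (lall (fun u => bor (eqv (lapp u u) zw) (bor (eqv (lapp w u) (lapp (lapp u w) zw)) (bor (lbeq u w)
        (bor (eqv u []) (bor (eqv u zw) (eqv u (lapp w zw))))))) W)))) W = true) : RKd Q := by
  simp only [lall_eq, bor_eq] at h
  refine ⟨⟨_, hQ⟩, fun x y h1 h2 h3 => ?_⟩
  obtain ⟨w, hw, ew⟩ := hW x x.2
  obtain ⟨u, hu, eu⟩ := hW y y.2
  have h1' : (x : G) * x = 1 := congrArg Subtype.val h1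
  have h2' : (y : G) * y = 1 := congrArg Subtype.val h2
  have h3' : (x : G) * y = y * x := congrArg Subtype.val h3
  rcases h w hw with c | c | c | c
  · have := he _ _ c
    rw [wp_lapp, ew, h1'] at this
    exact absurd this.symm hz
  · exact Or.inl (Subtype.ext (ew.symm.trans (he _ _ c)))
  · exact Or.inr (Or.inl (Subtype.ext (ew.symm.trans (he _ _ c))))
  · refine Or.inr (Or.inr ?_)
    rcases c u hu with c | c | c | c | c | c
    · have := he _ _ c
      rw [wp_lapp, eu, h2'] at this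
      exact absurd this.symm hz
    · have := he _ _ c
      rw [wp_lapp, wp_lapp, wp_lapp, eu, ew, h3'] at this
      exact absurd (mul_left_cancel (this.symm.trans (mul_one _).symm)) hz
    · exact Or.inr (Or.inr (Or.inl (Subtype.ext (by rw [← eu, ← ew, lbeq_eq c]))))
    · exact Or.inl (Subtype.ext (eu.symm.trans (he _ _ c)))
    · exact Or.inr (Or.inl (Subtype.ext (eu.symm.trans (he _ _ c))))
    · refine Or.inr (Or.inr (Or.inr (Subtype.ext ?_)))
      have := he _ _ c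
      rw [wp_lapp, eu, ew] at this
      exact this

theorem map_sub_top {S : Type*} [Group S] {g' : ℕ → S} {kl hl : List ℕ} {φ : cl g (lw kl) →* S}
    (h : ∀ (w : List ℕ) (hw : wok (tb (mkM kl)) w = true), φ ⟨wp g w, wp_mem_lw hw⟩ = wp g' w)
    (hq : wsok (tb (mkM kl)) (lw hl) = true) (top : cl g' (lw hl) = ⊤) :
    ((cl g (lw hl)).subgroupOf (cl g (lw kl))).map φ = ⊤ :=
  eq_top_iff.2 (top.ge.trans (cl_le.2 fun w hw =>
    ⟨⟨wp g w, wp_mem_lw (wok_iff.2 (wsok_iff.1 hq w hw))⟩, wp_mem_cl hw, h w (wok_iff.2 (wsok_iff.1 hq w hw))⟩))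
end

theorem compl_of_hom {C S : Type*} [Group C] [Group S] [Finite C] (ψ : C →* S) {H : Subgroup C} (h1 : H.map ψ = ⊤)
    (h2 : Nat.card H ≤ Nat.card S) : ψ.ker.IsComplement' H := by
  have sj : Function.Surjective (ψ.comp H.subtype) := fun s => by
    obtain ⟨x, hx, e⟩ := (h1 ▸ mem_top s : s ∈ H.map ψ)
    exact ⟨⟨x, hx⟩, e⟩
  have bj := sj.bijective_of_nat_card_le h2
  refine isComplement'_of_disjoint_and_mul_eq_univ (disjoint_def.2 fun {x} a b => ?_) (Set.eq_univ_of_forall fun x => ?_)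
  · exact congrArg Subtype.val (bj.1 (a₁ := ⟨x, b⟩) (a₂ := 1) (by rw [map_one]; exact a))
  · obtain ⟨y, hy⟩ := sj (ψ x)
    refine ⟨x * (y : C)⁻¹, ?_, y, y.2, by simp⟩
    have : ψ y = ψ x := hy
    simp [MonoidHom.mem_ker, this]

theorem minus_struct {G S C : Type*} [Group G] [Group S] [Group C] {K Q H : Subgroup G} [Finite K] (φ : K →* S)
    {B n : ℕ} (cS : Nat.card S = B) (cK : Nat.card K = 2 ^ n * B) (hQ : Q ≤ K)
    (hq : ∀ x (hx : x ∈ Q), φ ⟨x, hQ hx⟩ = 1) (lb : 2 ^ n ≤ Nat.card Q) (hx : Nat.card Q ≤ 2 ^ n → XSd Q) (hr : RKd Q)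
    (hH : H ≤ K) (cH : Nat.card H ≤ B) (sH : (H.subgroupOf K).map φ = ⊤) (e : K ≃* C) :
    ∃ (P : Subgroup C) (_ : P.Normal), IsExtraspecial 2 P ∧ Nat.card P = 2 ^ n ∧
      (∀ E : Subgroup P, IsElementaryAbelian 2 E → Nat.card E ≤ 2 ^ 2) ∧ (∃ L : Subgroup C, P.IsComplement' L) ∧
      Nonempty (C ⧸ P ≃* S) := by
  haveI : Fact (Nat.Prime 2) := ⟨Nat.prime_two⟩
  haveI : Finite C := Finite.of_equiv _ e.toEquiv
  have sj : Function.Surjective φ := fun s => by
    obtain ⟨x, -, e⟩ := (sH ▸ mem_top s : s ∈ (H.subgroupOf K).map φ)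
    exact ⟨x, e⟩
  haveI : Finite S := Finite.of_surjective _ sj
  let ψ : C →* S := φ.comp e.symm.toMonoidHom
  have sψ : Function.Surjective ψ := sj.comp e.symm.surjective
  have B0 : 0 < B := cS ▸ Nat.card_pos
  have ck : Nat.card ψ.ker = 2 ^ n := by
    have := card_eq_card_quotient_mul_card_subgroup ψ.ker
    rw [Nat.card_congr (QuotientGroup.quotientKerEquivOfSurjective ψ sψ).toEquiv, cS,
      ← Nat.card_congr e.toEquiv, cK, mul_comm] at this
    exact (Nat.eq_of_mul_eq_mul_left B0 this).symm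
  have pk : IsPGroup 2 ψ.ker := IsPGroup.of_card ck
  let f : Q →* ψ.ker := (e.toMonoidHom.comp (inclusion hQ)).codRestrict _ fun x => by
    have : φ (inclusion hQ x) = 1 := hq x x.2
    simpa [ψ] using this
  have fi : Function.Injective f := fun a b c =>
    inclusion_injective hQ (e.injective (congrArg Subtype.val c))
  have c1 : Nat.card Q ≤ 2 ^ n := ck ▸ Nat.card_le_card_of_injective f fi
  have fb : Function.Bijective f := fi.bijective_of_nat_card_le (ck ▸ lb)
  refine ⟨ψ.ker, inferInstance, ((hx c1).congr (MulEquiv.ofBijective f fb)).xs pk, ck,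
    (hr.congr (MulEquiv.ofBijective f fb)).rank, ⟨(H.subgroupOf K).map e.toMonoidHom, compl_of_hom ψ ?_ ?_⟩,
    ⟨QuotientGroup.quotientKerEquivOfSurjective ψ sψ⟩⟩
  · rw [map_map, ← sH]
    congr 1
    ext x; simp [ψ]
  · rw [card_map_of_injective e.injective, Nat.card_congr (subgroupOfEquivOfLe hH).toEquiv, cS]; exact cH

end Cfsg.Agent.H6
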