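/- The Leech lattice: basic structure. -/
import Cfsg.Agent.H6.M24c
import Cfsg.Prelude.Def_Spor_Conway

namespace Cfsg.Agent.H6
open MulAction Pointwise Finset

abbrev ZV : Type := GolayPt → ℤ
abbrev LL : Type := ↥leechLattice

def LS (x : ZV) : Prop :=
  ∃ m : ℤ, (∀ i, (x i - m) % 2 = 0) ∧ (∑ i, x i - 4 * m) % 8 = 0 ∧ (univ.filter fun i => (x i - m) % 4 = 0) ∈ csets

theorem mem_leechSet_iff {x : ZV} : x ∈ leechSet ↔ LS x := by
  constructor
  · rintro ⟨m, h1, h2, h3⟩
    refine ⟨m, fun i => ?_, ?_, ?_⟩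
    · have := h1 i; unfold Int.ModEq at this; omega
    · unfold Int.ModEq at h2; omega
    · convert h3 m using 2; unfold Int.ModEq; omega
  · rintro ⟨m, h1, h2, h3⟩
    refine ⟨m, fun i => ?_, ?_, fun k => ?_⟩
    · have := h1 i; unfold Int.ModEq; omega
    · unfold Int.ModEq; omega
    · have : (k - m) % 4 = 0 ∨ (k - m) % 4 = 2 ∨ (k - m) % 2 = 1 := by omega
      rcases this with h | h | h
      · convert h3 using 2; unfold Int.ModEq; omega
      · convert compl_mem_csets h3 using 1; ext i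
        have := h1 i
        simp only [mem_filter, mem_univ, true_and, mem_compl]; unfold Int.ModEq; omega
      · convert empty_mem_csets using 1; ext i
        have := h1 i
        simp only [mem_filter, mem_univ, true_and, notMem_empty, iff_false]; unfold Int.ModEq; omega

theorem LS.add {x y : ZV} (hx : LS x) (hy : LS y) : LS (x + y) := by
  obtain ⟨m, a1, a2, a3⟩ := hx
  obtain ⟨n, b1, b2, b3⟩ := hy
  refine ⟨m + n, fun i => ?_, ?_, ?_⟩
  · have := a1 i; have := b1 i; simp only [Pi.add_apply]; omega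
  · simp only [Pi.add_apply, sum_add_distrib]; omega
  · convert compl_mem_csets (symmDiff_mem_csets a3 b3) using 1; ext i
    have := a1 i; have := b1 i
    simp only [mem_filter, mem_univ, true_and, mem_compl, mem_symmDiff, Pi.add_apply]; omega

theorem LS.neg {x : ZV} (hx : LS x) : LS (-x) := by
  obtain ⟨m, a1, a2, a3⟩ := hx
  refine ⟨-m, fun i => ?_, ?_, ?_⟩
  · have := a1 i; simp only [Pi.neg_apply]; omega
  · simp only [Pi.neg_apply, sum_neg_distrib]; omega
  · convert a3 using 2; simp only [Pi.neg_apply]; omega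

theorem LS.zero : LS 0 := ⟨0, by simp, by simp, by simpa using univ_mem_csets⟩

def leechSub : AddSubgroup ZV where
  carrier := leechSet
  add_mem' := fun a b => mem_leechSet_iff.2 ((mem_leechSet_iff.1 a).add (mem_leechSet_iff.1 b))
  zero_mem' := mem_leechSet_iff.2 LS.zero
  neg_mem' := fun a => mem_leechSet_iff.2 (mem_leechSet_iff.1 a).neg

theorem mem_LL {x : ZV} : x ∈ leechLattice ↔ LS x := by
  have : leechLattice = leechSub := AddSubgroup.closure_eq leechSub
  rw [this]; exact mem_leechSet_iff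

theorem LS.perm {x : ZV} (hx : LS x) (σ : M24) : LS fun i => x ((σ : PG) i) := by
  obtain ⟨m, a1, a2, a3⟩ := hx
  refine ⟨m, fun i => a1 _, by rw [Equiv.sum_comp (σ : PG) x]; exact a2, ?_⟩
  convert smul_mem_csets σ⁻¹ a3 using 1; ext i
  rw [mem_inv_smul_finset_iff]; simp only [mem_filter, mem_univ, true_and]; rfl

theorem sum_ite_mem (c : Finset GolayPt) (f : GolayPt → ℤ) : ∑ i, (if i ∈ c then f i else 0) = ∑ i ∈ c, f i := by
  rw [← sum_filter]; congr 1; ext i; simp

theorem sum_mod_two {c : Finset GolayPt} {f : GolayPt → ℤ} {d : Finset GolayPt} {r n : ℤ}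
    (h : ∀ i ∈ c, (f i - r - if i ∈ d then 2 else 0) % n = 0) :
    (∑ i ∈ c, f i - r * c.card - 2 * (c ∩ d).card) % n = 0 := by
  have e : ∑ i ∈ c, (f i - r - if i ∈ d then 2 else 0) = ∑ i ∈ c, f i - r * c.card - 2 * (c ∩ d).card := by
    rw [sum_sub_distrib, sum_sub_distrib, sum_const, ← sum_filter, sum_const, filter_mem_eq_inter]; simp [mul_comm]
  rw [← e]
  exact Int.emod_eq_zero_of_dvd (dvd_sum fun i hi => Int.dvd_of_emod_eq_zero (h i hi))

theorem four_dvd_card {c : Finset GolayPt} (hc : c ∈ csets) : c.card % 4 = 0 := by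
  rcases card_of_mem_csets hc with h | h | h | h | h <;> omega

/-- the sum of the coordinates on a code word is divisible by 4 -/
theorem LS.sum_on {x : ZV} (hx : LS x) {c : Finset GolayPt} (hc : c ∈ csets) : (∑ i ∈ c, x i) % 4 = 0 := by
  obtain ⟨m, a1, a2, a3⟩ := hx
  have h := sum_mod_two (c := c) (f := x) (d := (univ.filter fun i => (x i - m) % 4 = 0)ᶜ) (r := m) (n := 4) fun i _ => by
    have := a1 i
    simp only [mem_compl, mem_filter, mem_univ, true_and]; split_ifs <;> omega
  obtain ⟨k, hk⟩ := even_card_inter hc (compl_mem_csets a3)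
  have h4 := four_dvd_card hc
  obtain ⟨j, hj⟩ : ∃ j, c.card = 4 * j := ⟨c.card / 4, by omega⟩
  rw [hk, hj] at h
  push_cast at h
  have : m * (4 * (j : ℤ)) = 4 * (m * j) := by ring
  omega

def sgn (c : Finset GolayPt) (x : ZV) : ZV := fun i => if i ∈ c then -x i else x i

theorem LS.sgn {x : ZV} (hx : LS x) {c : Finset GolayPt} (hc : c ∈ csets) : LS (sgn c x) := by
  have h4 := hx.sum_on hc
  obtain ⟨m, a1, a2, a3⟩ := hx
  refine ⟨m, fun i => ?_, ?_, ?_⟩
  · have := a1 i; unfold H6.sgn; split_ifs <;> omega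
  · have : ∑ i, H6.sgn c x i = ∑ i, x i - 2 * ∑ i ∈ c, x i := by
      rw [← sum_ite_mem c x, mul_sum, ← sum_sub_distrib]
      exact sum_congr rfl fun i _ => by unfold H6.sgn; split_ifs <;> ring
    omega
  · rcases Int.emod_two_eq_zero_or_one m with h | h
    · convert a3 using 2 with i; have := a1 i; unfold H6.sgn; split_ifs <;> omega
    · convert symmDiff_mem_csets a3 hc using 1; ext i; have := a1 i
      simp only [mem_filter, mem_univ, true_and, mem_symmDiff]; unfold H6.sgn; split_ifs with h' <;> simp [h'] <;> omega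

theorem sgn_sgn (c : Finset GolayPt) (x : ZV) : sgn c (sgn c x) = x := by
  funext i; unfold sgn; split_ifs <;> simp

/-! ### elements of `Co0` -/

def mkCo (f g : ZV → ZV) (hf : ∀ x, LS x → LS (f x)) (hg : ∀ x, LS x → LS (g x)) (h1 : ∀ x, LS x → g (f x) = x)
    (h2 : ∀ x, LS x → f (g x) = x) (ha : ∀ x y, LS x → LS y → f (x + y) = f x + f y)
    (hn : ∀ x, LS x → sqNorm (f x) = sqNorm x) : Co0 :=
  ⟨⟨fun x => ⟨f x, mem_LL.2 (hf _ (mem_LL.1 x.2))⟩, fun x => ⟨g x, mem_LL.2 (hg _ (mem_LL.1 x.2))⟩,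
    fun x => Subtype.ext (h1 _ (mem_LL.1 x.2)), fun x => Subtype.ext (h2 _ (mem_LL.1 x.2))⟩,
    fun x y => Subtype.ext (ha _ _ (mem_LL.1 x.2) (mem_LL.1 y.2)), fun x => hn _ (mem_LL.1 x.2)⟩

theorem co_ext {a b : Co0} (h : ∀ x : LL, ((a • x : LL) : ZV) = (b • x : LL)) : a = b :=
  Subtype.ext (Equiv.ext fun x => Subtype.ext (h x))

def coP1 (σ : M24) : Co0 := mkCo (fun x i => x (((σ⁻¹ : M24) : PG) i)) (fun x i => x ((σ : PG) i))
  (fun _ h => h.perm _) (fun _ h => h.perm _) (fun x _ => by funext i; simp) (fun x _ => by funext i; simp)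
  (fun _ _ _ _ => rfl) fun x _ => Equiv.sum_comp ((σ⁻¹ : M24) : PG) fun i => x i ^ 2

def coP : M24 →* Co0 where
  toFun := coP1
  map_one' := co_ext fun _ => rfl
  map_mul' _ _ := co_ext fun _ => rfl

theorem coP_smul (σ : M24) (x : LL) (i : GolayPt) : ((coP σ • x : LL) : ZV) i = (x : ZV) (σ⁻¹ • i) := rfl

def coS (c : Finset GolayPt) (hc : c ∈ csets) : Co0 := mkCo (sgn c) (sgn c) (fun _ h => h.sgn hc) (fun _ h => h.sgn hc)
  (fun x _ => sgn_sgn c x) (fun x _ => sgn_sgn c x)
  (fun x y _ _ => by funext i; simp only [sgn, Pi.add_apply]; split_ifs <;> ring)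
  fun x _ => sum_congr rfl fun i _ => by unfold sgn; split_ifs <;> ring

theorem coS_smul (c : Finset GolayPt) (hc : c ∈ csets) (x : LL) : ((coS c hc • x : LL) : ZV) = sgn c x := rfl

theorem co_add (g : Co0) (x y : LL) : g • (x + y) = g • x + g • y := g.2.1 x y
theorem co_norm (g : Co0) (x : LL) : sqNorm ((g • x : LL) : ZV) = sqNorm (x : ZV) := g.2.2 x

def coHom (g : Co0) : LL →+ LL := AddMonoidHom.mk' (fun x => g • x) (co_add g)

theorem co_neg (g : Co0) (x : LL) : g • (-x) = -(g • x) := map_neg (coHom g) x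
theorem co_sub (g : Co0) (x y : LL) : g • (x - y) = g • x - g • y := map_sub (coHom g) x y
theorem co_zero (g : Co0) : g • (0 : LL) = 0 := map_zero (coHom g)

theorem sqNorm_add (x y : ZV) : sqNorm (x + y) = sqNorm x + 2 * dotInt x y + sqNorm y := by
  simp only [sqNorm, dotInt, mul_sum, ← sum_add_distrib, Pi.add_apply]
  exact sum_congr rfl fun i _ => by ring

theorem sqNorm_sub (x y : ZV) : sqNorm (x - y) = sqNorm x - 2 * dotInt x y + sqNorm y := by
  simp only [sqNorm, dotInt, mul_sum, ← sum_add_distrib, ← sum_sub_distrib, Pi.sub_apply]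
  exact sum_congr rfl fun i _ => by ring

theorem sqNorm_neg (x : ZV) : sqNorm (-x) = sqNorm x := by simp [sqNorm]
theorem dot_comm (x y : ZV) : dotInt x y = dotInt y x := sum_congr rfl fun _ _ => mul_comm _ _
theorem dot_self (x : ZV) : dotInt x x = sqNorm x := sum_congr rfl fun _ _ => (sq _).symm
theorem dot_add (x y z : ZV) : dotInt x (y + z) = dotInt x y + dotInt x z := by
  simp only [dotInt, Pi.add_apply, mul_add, sum_add_distrib]
theorem dot_neg (x y : ZV) : dotInt x (-y) = -dotInt x y := by simp [dotInt]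
theorem dot_sub (x y z : ZV) : dotInt x (y - z) = dotInt x y - dotInt x z := by
  simp only [dotInt, Pi.sub_apply, mul_sub, sum_sub_distrib]
theorem sqNorm_nonneg (x : ZV) : 0 ≤ sqNorm x := sum_nonneg fun _ _ => sq_nonneg _

theorem co_dot (g : Co0) (x y : LL) : dotInt ((g • x : LL) : ZV) (g • y : LL) = dotInt (x : ZV) y := by
  have h := co_norm g (x + y)
  rw [co_add, AddSubgroup.coe_add, AddSubgroup.coe_add, sqNorm_add, sqNorm_add, co_norm, co_norm] at h
  omega

theorem coS_symmDiff {c d : Finset GolayPt} (hc : c ∈ csets) (hd : d ∈ csets) :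
    coS _ (symmDiff_mem_csets hc hd) = coS c hc * coS d hd := co_ext fun x => by
  rw [mul_smul, coS_smul, coS_smul, coS_smul]
  funext i; simp only [sgn, mem_symmDiff]; by_cases i ∈ c <;> by_cases i ∈ d <;> simp [*]

theorem coS_smul_eq (σ : M24) {c : Finset GolayPt} (hc : c ∈ csets) :
    coS _ (smul_mem_csets σ hc) = coP σ * coS c hc * (coP σ)⁻¹ := by
  rw [eq_mul_inv_iff_mul_eq]
  refine co_ext fun x => funext fun i => ?_
  rw [mul_smul, mul_smul, coS_smul, coP_smul, coS_smul]
  simp only [sgn, coP_smul, ← inv_smul_mem_iff]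

/-- a subgroup containing `M24` and one dodecad sign change contains all the sign changes -/
theorem coS_mem {K : Subgroup Co0} (h1 : ∀ σ, coP σ ∈ K) (h2 : coS d0 d0_mem.1 ∈ K) (c : Finset GolayPt)
    (hc : c ∈ csets) : coS c hc ∈ K := by
  have hd : ∀ d (hd : d ∈ dodecads), coS d hd.1 ∈ K := fun d hd => by
    obtain ⟨g, rfl⟩ := exists_smul_d0 hd
    rw [coS_smul_eq g d0_mem.1]; exact K.mul_mem (K.mul_mem (h1 _) h2) (K.inv_mem (h1 _))
  have e0 : ∀ h, coS ∅ h ∈ K := fun h => by
    have : coS ∅ h = 1 := co_ext fun x => by rw [coS_smul, one_smul]; funext i; simp [sgn]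
    rw [this]; exact K.one_mem
  have sd : ∀ {c d e} (hc : c ∈ csets) (hd : d ∈ csets) (he : e ∈ csets), e = symmDiff c d → coS c hc ∈ K → coS d hd ∈ K →
      coS e he ∈ K := fun hc hd _ e a b => by subst e; rw [coS_symmDiff hc hd]; exact K.mul_mem a b
  obtain ⟨w, hw, rfl⟩ := id hc
  induction hw using Submodule.span_induction with
  | mem w hw =>
    rcases hw with ⟨t, rfl⟩ | hw
    · refine hd _ ⟨hc, ?_⟩
      rw [qrWord_eq, support_wd, card_fs_pc]; clear hc; revert t; decide +kernel
    · have h3 : d0ᶜ ∈ dodecads := ⟨compl_mem_csets d0_mem.1, by rw [card_compl, card_golayPt, d0_mem.2]⟩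
      refine sd d0_mem.1 h3.1 hc ?_ h2 (hd _ h3)
      rw [Set.mem_singleton_iff.1 hw]; ext i; simp [support₂, mem_symmDiff]
  | zero => convert e0 empty_mem_csets; ext i; simp [support₂]
  | add x y hx hy ihx ihy =>
    refine sd ⟨x, hx, rfl⟩ ⟨y, hy, rfl⟩ hc ?_ (ihx _) (ihy _)
    ext i; simp only [support₂, mem_filter, mem_univ, true_and, mem_symmDiff, Pi.add_apply]
    exact (by decide : ∀ a b : ZMod 2, a + b ≠ 0 ↔ a ≠ 0 ∧ ¬b ≠ 0 ∨ b ≠ 0 ∧ ¬a ≠ 0) _ _
  | smul a x hx ih =>
    have := (by decide : ∀ a : ZMod 2, a = 0 ∨ a = 1) a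
    rcases this with rfl | rfl
    · convert e0 empty_mem_csets; ext i; simp [support₂]
    · convert ih ⟨x, hx, rfl⟩; simp

/-! ### generators -/

def ind (a : ℤ) (c : Finset GolayPt) : ZV := fun i => if i ∈ c then a else 0
def v0 : ZV := fun i => if i = none then -3 else 1
def ee (p : GolayPt) (a : ℤ) : ZV := fun i => if i = p then a else 0

theorem LS.ind2 {c : Finset GolayPt} (hc : c ∈ csets) : LS (ind 2 c) := by
  refine ⟨0, fun i => by unfold ind; split_ifs <;> simp, ?_, ?_⟩
  · have := four_dvd_card hc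
    simp only [ind, sum_ite_mem, sum_const, nsmul_eq_mul]; omega
  · convert compl_mem_csets hc using 1; ext i; unfold ind; by_cases h : i ∈ c <;> simp [h]

theorem LS.v0 : LS v0 := ⟨1, by decide, by decide, by convert univ_mem_csets using 1; decide⟩

theorem LS.of_four {x : ZV} (h : ∀ i, x i % 4 = 0) (hs : (∑ i, x i) % 8 = 0) : LS x :=
  ⟨0, fun i => by have := h i; omega, by simpa using hs, by
    convert univ_mem_csets using 1; ext i; simpa using h i⟩

theorem sum_ee (p : GolayPt) (a : ℤ) : ∑ i, ee p a i = a := by simp [ee]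

theorem LS.gen {M : AddSubgroup ZV} (h0 : H6.v0 ∈ M) (h1 : ∀ j < 24, ind 2 (fs (lk24 encQT j)) ∈ M)
    (h2 : ∀ p, ee p 4 - ee none 4 ∈ M) (h3 : ee none 8 ∈ M) {x : ZV} (hx : LS x) : x ∈ M := by
  have key : ∀ x, LS x → (∀ i, x i % 2 = 0) → x ∈ M := fun x hx he => by
    have hc : ∀ w ∈ golayCode, ∃ y ∈ M, LS y ∧ ∀ i, (y i - if w i = 0 then 0 else 2) % 4 = 0 := fun w hw => by
      have b : ∀ j < 24, ∃ y ∈ M, LS y ∧ ∀ i, (y i - if wd (lk24 encQT j) i = 0 then 0 else 2) % 4 = 0 := fun j hj =>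
        ⟨_, h1 j hj, LS.ind2 (fs_mem_csets ((nall_eq _ _).1 encQ_chk j hj)), fun i => by
          simp only [ind, mem_fs, wd]; split_ifs <;> simp_all⟩
      induction hw using Submodule.span_induction with
      | mem w hw =>
        rcases hw with ⟨t, rfl⟩ | hw
        · rw [qrWord_eq]; exact b _ (lt_trans (ZMod.val_lt t) (by norm_num))
        · rw [Set.mem_singleton_iff.1 hw, one_eq_wd]; exact b _ (by norm_num)
      | zero => exact ⟨0, M.zero_mem, LS.zero, by simp⟩
      | add u v _ _ ihx ihy =>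
        obtain ⟨a, a1, a2, a3⟩ := ihx
        obtain ⟨c, c1, c2, c3⟩ := ihy
        refine ⟨a + c, M.add_mem a1 c1, a2.add c2, fun i => ?_⟩
        have s := a3 i; have t := c3 i
        have : ∀ a b : ZMod 2, a + b = 0 ↔ (a = 0 ↔ b = 0) := by decide
        simp only [Pi.add_apply, this]
        by_cases u i = 0 <;> by_cases v i = 0 <;> simp_all <;> omega
      | smul a u _ ih =>
        have := (by decide : ∀ a : ZMod 2, a = 0 ∨ a = 1) a
        rcases this with rfl | rfl
        · exact ⟨0, M.zero_mem, LS.zero, by simp⟩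
        · simpa using ih
    obtain ⟨m, a1, a2, a3⟩ := id hx
    have hm : m % 2 = 0 := by have := a1 none; have := he none; omega
    have a4 : (univ.filter fun i => x i % 4 = 2) ∈ csets := by
      rcases (by omega : m % 4 = 0 ∨ m % 4 = 2) with h | h
      · convert compl_mem_csets a3 using 1; ext i; have := he i; simp; omega
      · convert a3 using 2 with i; have := he i; omega
    obtain ⟨w, hw, hw'⟩ := a4
    obtain ⟨y, y1, y2, y3⟩ := hc w hw
    have z4 : ∀ i, (x - y) i % 4 = 0 := fun i => by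
      have s := y3 i; have t := he i
      have : i ∈ support₂ w ↔ x i % 4 = 2 := by rw [hw']; simp
      simp only [support₂, mem_filter, mem_univ, true_and] at this
      simp only [Pi.sub_apply]
      by_cases h : w i = 0
      · rw [if_pos h] at s; have := mt this.2 (fun c => c h); omega
      · rw [if_neg h] at s; have := this.1 h; omega
    obtain ⟨n, b1, b2, -⟩ : LS (x - y) := by rw [sub_eq_add_neg]; exact hx.add y2.neg
    have hn : n % 2 = 0 := by have := b1 none; have := z4 none; omega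
    have e : x - y = ∑ p, ((x - y) p / 4) • (ee p 4 - ee none 4) + ((∑ p, (x - y) p) / 8) • ee none 8 := by
      funext i
      have s : ∑ p, (x - y) p / 4 * 4 = ∑ p, (x - y) p := sum_congr rfl fun p _ => by have := z4 p; omega
      simp only [Pi.add_apply, Finset.sum_apply, Pi.smul_apply, smul_eq_mul, Pi.sub_apply (ee _ _), ee, mul_sub, mul_ite, mul_zero,
        sum_sub_distrib, sum_ite_eq, mem_univ, if_true]
      have := z4 i
      split_ifs with h
      · simp only [if_true, s]; omega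
      · simp only [if_false, sum_const_zero]; omega
    have : x - y ∈ M := by
      rw [e]; exact M.add_mem (M.sum_mem fun p _ => M.zsmul_mem (h2 p) _) (M.zsmul_mem h3 _)
    simpa using M.add_mem this y1
  obtain ⟨m, a1, -, -⟩ := id hx
  rcases Int.emod_two_eq_zero_or_one m with h | h
  · exact key x hx fun i => by have := a1 i; omega
  · have := key (x + -H6.v0) (hx.add LS.v0.neg) fun i => by
      have := a1 i; simp only [Pi.add_apply, Pi.neg_apply, H6.v0]; split_ifs <;> omega
    simpa using M.add_mem this h0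

end Cfsg.Agent.H6
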