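/- Short vectors of the Leech lattice. -/
import Cfsg.Agent.H6.LeA

namespace Cfsg.Agent.H6
open MulAction Pointwise Finset

theorem LS.cases {x : ZV} (hx : LS x) :
    ((∀ i, x i % 2 = 0) ∧ (∑ i, x i) % 8 = 0 ∧ (univ.filter fun i => x i % 4 = 2) ∈ csets) ∨
    ∃ c ∈ csets, (∀ i, H6.sgn c x i % 4 = 1) ∧ (∑ i, H6.sgn c x i) % 8 = 4 := by
  obtain ⟨m, a1, a2, a3⟩ := id hx
  rcases Int.emod_two_eq_zero_or_one m with h | h
  · refine Or.inl ⟨fun i => by have := a1 i; omega, by omega, ?_⟩
    rcases (by omega : m % 4 = 0 ∨ m % 4 = 2) with h | h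
    · convert compl_mem_csets a3 using 1; ext i; have := a1 i; simp; omega
    · convert a3 using 2 with i; have := a1 i; omega
  · have hc : (univ.filter fun i => x i % 4 = 3) ∈ csets := by
      rcases (by omega : m % 4 = 1 ∨ m % 4 = 3) with h | h
      · convert compl_mem_csets a3 using 1; ext i; have := a1 i; simp; omega
      · convert a3 using 2 with i; omega
    have h4 : ∀ i, H6.sgn (univ.filter fun i => x i % 4 = 3) x i % 4 = 1 := fun i => by
      have := a1 i; simp only [H6.sgn, mem_filter, mem_univ, true_and]; split_ifs <;> omega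
    refine Or.inr ⟨_, hc, h4, ?_⟩
    obtain ⟨n, b1, b2, -⟩ := hx.sgn hc
    have := b1 none; have := h4 none; omega

theorem sqNorm_sgn (c : Finset GolayPt) (x : ZV) : sqNorm (sgn c x) = sqNorm x :=
  sum_congr rfl fun i _ => by unfold sgn; split_ifs <;> ring

theorem LS.even {x : ZV} (hx : LS x) : sqNorm x % 16 = 0 := by
  rcases hx.cases with ⟨h1, -, h3⟩ | ⟨c, -, h1, h2⟩
  · have e : ∑ i, (x i ^ 2 - if i ∈ (univ.filter fun i => x i % 4 = 2) then 4 else 0) =
        sqNorm x - 4 * ((univ.filter fun i => x i % 4 = 2).card : ℤ) := by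
      rw [sum_sub_distrib, sum_ite_mem]; simp [sqNorm, mul_comm]
    have : (16 : ℤ) ∣ ∑ i, (x i ^ 2 - if i ∈ (univ.filter fun i => x i % 4 = 2) then 4 else 0) := dvd_sum fun i _ => by
      have := h1 i
      simp only [mem_filter, mem_univ, true_and]
      split_ifs with h
      · obtain ⟨k, hk⟩ : ∃ k, x i = 4 * k + 2 := ⟨x i / 4, by omega⟩
        exact ⟨k ^ 2 + k, by rw [hk]; ring⟩
      · obtain ⟨k, hk⟩ : ∃ k, x i = 4 * k := ⟨x i / 4, by omega⟩
        exact ⟨k ^ 2, by rw [hk]; ring⟩
    have := four_dvd_card h3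
    omega
  · rw [← sqNorm_sgn c]
    have e : ∑ i, (H6.sgn c x i ^ 2 - 2 * H6.sgn c x i + 1) = sqNorm (H6.sgn c x) - 2 * ∑ i, H6.sgn c x i + 24 := by
      rw [sum_add_distrib, sum_sub_distrib, ← mul_sum]; simp [sqNorm, card_golayPt]
    have : (16 : ℤ) ∣ ∑ i, (H6.sgn c x i ^ 2 - 2 * H6.sgn c x i + 1) := dvd_sum fun i _ => by
      obtain ⟨k, hk⟩ : ∃ k, H6.sgn c x i = 4 * k + 1 := ⟨H6.sgn c x i / 4, by have := h1 i; omega⟩
      exact ⟨k ^ 2, by rw [hk]; ring⟩
    omega

/-- the coordinates of absolute value `k` -/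
def lev (x : ZV) (k : ℤ) : Finset GolayPt := univ.filter fun i => |x i| = k

theorem mem_lev {x : ZV} {k : ℤ} {i : GolayPt} : i ∈ lev x k ↔ |x i| = k := by simp [lev]

theorem abs_le_eight {x : ZV} (h : sqNorm x ≤ 64) (i : GolayPt) : |x i| ≤ 8 := by
  have : x i ^ 2 ≤ sqNorm x := single_le_sum (f := fun i => x i ^ 2) (fun _ _ => sq_nonneg _) (mem_univ i)
  exact abs_le_of_sq_le_sq' (by omega) (by norm_num) |>.elim fun a b => abs_le.2 ⟨a, b⟩

theorem sum_lev {x : ZV} (h : sqNorm x ≤ 64) (f : ℤ → ℤ) : ∑ i, f |x i| = ∑ k ∈ range 9, f k * (lev x k).card := by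
  have : ∀ i, f |x i| = ∑ k ∈ range 9, if i ∈ lev x k then f k else 0 := fun i => by
    have h1 := abs_le_eight h i
    have h0 := abs_nonneg (x i)
    simp only [mem_lev]
    generalize |x i| = a at h1 h0
    interval_cases a <;> simp [sum_range_succ]
  rw [sum_congr rfl fun i _ => this i, sum_comm]
  exact sum_congr rfl fun k _ => by rw [← sum_filter]; simp [mul_comm]

theorem shape {x : ZV} (h : sqNorm x ≤ 64) :
    sqNorm x = (lev x 1).card + 4 * (lev x 2).card + 9 * (lev x 3).card + 16 * (lev x 4).card + 25 * (lev x 5).card +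
      36 * (lev x 6).card + 49 * (lev x 7).card + 64 * (lev x 8).card ∧
    (24 : ℤ) = (lev x 0).card + (lev x 1).card + (lev x 2).card + (lev x 3).card + (lev x 4).card + (lev x 5).card +
      (lev x 6).card + (lev x 7).card + (lev x 8).card := by
  have h1 := sum_lev h fun a => a ^ 2
  have h2 := sum_lev h fun _ => 1
  simp only [sq_abs, sum_range_succ, range_zero, sum_empty] at h1 h2
  rw [sum_const, card_univ, card_golayPt] at h2
  change sqNorm x = _ at h1
  generalize sqNorm x = s at h1
  norm_num at h1 h2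
  exact ⟨h1, by omega⟩

theorem lev_empty {x : ZV} {k r : ℤ} (h : ∀ i, x i % 2 = r) (hk : k % 2 ≠ r) : (lev x k).card = 0 := by
  rw [card_eq_zero, eq_empty_iff_forall_notMem]
  intro i hi
  have := h i
  rcases abs_eq (abs_nonneg (x i)) |>.1 rfl with e | e <;> rw [mem_lev] at hi <;> omega

theorem even_shape {x : ZV} (h : sqNorm x ≤ 64) (h1 : ∀ i, x i % 2 = 0) :
    (univ.filter fun i => x i % 4 = 2) = lev x 2 ∪ lev x 6 ∧
    (univ.filter fun i => x i % 4 = 2).card = (lev x 2).card + (lev x 6).card ∧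
    sqNorm x = 4 * (lev x 2).card + 16 * (lev x 4).card + 36 * (lev x 6).card + 64 * (lev x 8).card ∧
    (24 : ℤ) = (lev x 0).card + (lev x 2).card + (lev x 4).card + (lev x 6).card + (lev x 8).card := by
  have e : (univ.filter fun i => x i % 4 = 2) = lev x 2 ∪ lev x 6 := by
    ext i
    have := abs_le_eight h i; have := h1 i
    simp only [mem_filter, mem_univ, true_and, mem_union, mem_lev]
    rcases abs_cases (x i) with a | a <;> omega
  obtain ⟨s1, s2⟩ := shape h
  have a1 := lev_empty (k := 1) h1 (by norm_num)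
  have a3 := lev_empty (k := 3) h1 (by norm_num)
  have a5 := lev_empty (k := 5) h1 (by norm_num)
  have a7 := lev_empty (k := 7) h1 (by norm_num)
  refine ⟨e, ?_, by omega, by omega⟩
  rw [e, card_union_of_disjoint (disjoint_left.2 fun i a b => by rw [mem_lev] at a b; omega)]

theorem odd_shape {x : ZV} (h : sqNorm x ≤ 64) (h1 : ∀ i, x i % 4 = 1) :
    sqNorm x = (lev x 1).card + 9 * (lev x 3).card + 25 * (lev x 5).card + 49 * (lev x 7).card ∧
    (24 : ℤ) = (lev x 1).card + (lev x 3).card + (lev x 5).card + (lev x 7).card := by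
  obtain ⟨s1, s2⟩ := shape h
  have h2 : ∀ i, x i % 2 = 1 := fun i => by have := h1 i; omega
  have a0 := lev_empty (k := 0) h2 (by norm_num)
  have a2 := lev_empty (k := 2) h2 (by norm_num)
  have a4 := lev_empty (k := 4) h2 (by norm_num)
  have a6 := lev_empty (k := 6) h2 (by norm_num)
  have a8 := lev_empty (k := 8) h2 (by norm_num)
  exact ⟨by omega, by omega⟩

theorem not_lev {x : ZV} {k : ℤ} (h : (lev x k).card = 0) (i : GolayPt) : |x i| ≠ k := fun e => by
  rw [card_eq_zero] at h
  exact notMem_empty i (h ▸ mem_lev.2 e)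

theorem lev_one {x : ZV} {k : ℤ} (h : (lev x k).card = 1) : ∃ p, ∀ i, |x i| = k ↔ i = p := by
  obtain ⟨p, hp⟩ := card_eq_one.1 h
  exact ⟨p, fun i => by rw [← mem_lev, hp, mem_singleton]⟩

theorem LS.min {x : ZV} (hx : LS x) (h0 : x ≠ 0) : 32 ≤ sqNorm x := by
  by_contra c
  have h1 := hx.even
  have h2 := sqNorm_nonneg x
  have h3 : sqNorm x ≠ 0 := fun e => h0 (funext fun i =>
    pow_eq_zero_iff two_ne_zero |>.1 ((sum_eq_zero_iff_of_nonneg fun _ _ => sq_nonneg _).1 e i (mem_univ i)))
  rcases hx.cases with ⟨a1, a2, a3⟩ | ⟨c, -, a1, a2⟩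
  · obtain ⟨-, b2, b3, b4⟩ := even_shape (x := x) (by omega) a1
    have := card_of_mem_csets a3
    obtain ⟨p, hp⟩ := lev_one (x := x) (k := 4) (by omega)
    have e : ∑ i, x i = x p := sum_eq_single p (fun i _ hi => by
      have := mt (hp i).1 hi
      have := not_lev (x := x) (k := 2) (by omega) i
      have := not_lev (x := x) (k := 6) (by omega) i
      have := not_lev (x := x) (k := 8) (by omega) i
      have := abs_le_eight (x := x) (by omega) i
      have := a1 i
      rcases abs_cases (x i) with a | a <;> omega) (by simp)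
    have := (hp p).2 rfl
    rcases abs_cases (x p) with a | a <;> omega
  · have := odd_shape (x := H6.sgn c x) (by rw [sqNorm_sgn]; omega) a1
    rw [sqNorm_sgn] at this; omega

theorem pair_chk : ∀ a < 24, ∀ b < 24, a ≠ b → (0x82402f : ℕ).testBit a = true → (0x82402f : ℕ).testBit b = true →
    ∃ u < 4096, enc u &&& 0x82402f = 2 ^ a ||| 2 ^ b := by
  have h : nall (fun a => nall (fun b => bor (Nat.beq a b) (bor (beqb (tb 0x82402f a) false) (bor (beqb (tb 0x82402f b) false)
      (Nat.ble 1 (nors (fun u => Bool.rec (motive := fun _ => ℕ) 0 1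
        (Nat.beq (Nat.land (enc u) 0x82402f) (Nat.lor (Nat.pow 2 a) (Nat.pow 2 b)))) 300))))) 24) 24 = true := by
    decide +kernel
  simp only [nall_eq, bor_eq, beq_eq, beqb_eq, tb_eq, ble_eq] at h
  intro a ha b hb hab h1 h2
  rcases h a ha b hb with e | e | e | e
  · exact absurd e hab
  · rw [h1] at e; cases e
  · rw [h2] at e; cases e
  · obtain ⟨i, hi⟩ := Nat.exists_testBit_of_ne_zero (Nat.pos_iff_ne_zero.1 e)
    obtain ⟨u, u1, u2⟩ := (testBit_nors _ _ _).1 hi
    refine ⟨u, by omega, ?_⟩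
    cases e2 : Nat.beq (Nat.land (enc u) 0x82402f) (Nat.lor (Nat.pow 2 a) (Nat.pow 2 b))
    · rw [e2] at u2; simp at u2
    · exact beq_eq.1 e2

/-- every even subset of an octad is cut out by a code word -/
theorem exists_cut {o : Finset GolayPt} (ho : o ∈ octads) (s : Finset GolayPt) (hs : s ⊆ o) (he : Even s.card) :
    ∃ c ∈ csets, c ∩ o = s := by
  have pr : ∀ a ∈ o, ∀ b ∈ o, a ≠ b → ∃ c ∈ csets, c ∩ o = {a, b} := fun a ha b hb hab => by
    obtain ⟨g, rfl⟩ := exists_smul_o0 ho
    rw [← inv_smul_mem_iff] at ha hb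
    obtain ⟨u, u1, u2⟩ := pair_chk _ (idx_lt _) _ (idx_lt _) (fun e => hab (smul_left_cancel _ (idx_inj e)))
      (mem_fs.1 ha) (mem_fs.1 hb)
    refine ⟨g • fs (enc u), smul_mem_csets g (mem_csets_iff.2 ⟨u, u1, rfl⟩), ?_⟩
    rw [← smul_finset_inter, show o0 = fs 0x82402f from rfl, ← fs_and, u2, fs_or, fs_pow (idx_lt _), fs_pow (idx_lt _),
      pt_idx, pt_idx, smul_finset_union, smul_finset_singleton, smul_finset_singleton, smul_inv_smul, smul_inv_smul]
    rfl
  induction s using Finset.strongInduction with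
  | H s ih =>
    rcases s.eq_empty_or_nonempty with rfl | hn
    · exact ⟨∅, empty_mem_csets, by simp⟩
    · have : 1 < s.card := by have := hn.card_pos; obtain ⟨k, hk⟩ := he; omega
      obtain ⟨a, ha, b, hb, hab⟩ := one_lt_card.1 this
      have hsub : ({a, b} : Finset GolayPt) ⊆ s := by simp [insert_subset_iff, ha, hb]
      obtain ⟨c, c1, c2⟩ := ih (s \ {a, b}) (sdiff_ssubset hsub (by simp)) (sdiff_subset.trans hs) (by
        rw [card_sdiff_of_subset hsub, card_pair hab]; obtain ⟨k, hk⟩ := he; exact ⟨k - 1, by omega⟩)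
      obtain ⟨d, d1, d2⟩ := pr a (hs ha) b (hs hb) hab
      refine ⟨_, symmDiff_mem_csets c1 d1, ?_⟩
      ext i
      have e1 : i ∈ c ∩ o ↔ i ∈ s \ {a, b} := by rw [c2]
      have e2 : i ∈ d ∩ o ↔ i ∈ ({a, b} : Finset GolayPt) := by rw [d2]
      have e3 := @hs i
      have e4 := @hsub i
      simp only [mem_inter, mem_sdiff, mem_symmDiff] at e1 e2 ⊢
      tauto

def e2 (a b : ℤ) : ZV := fun i => if i = none then a else if i = some 0 then b else 0

/-- every minimal vector is a monomial image of one of six standard vectors -/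
theorem min_std {K : Subgroup Co0} (h1 : ∀ σ, coP σ ∈ K) (h2 : ∀ c hc, coS c hc ∈ K) (x : LL) (hn : sqNorm (x : ZV) = 32) :
    ∃ g ∈ K, ((g • x : LL) : ZV) ∈ [v0, ind 2 o0, e2 4 4, e2 4 (-4), e2 (-4) 4, e2 (-4) (-4)] := by
  rcases (mem_LL.1 x.2).cases with ⟨a1, a2, a3⟩ | ⟨c, hc, a1, a2⟩
  · obtain ⟨b1, b2, b3, b4⟩ := even_shape (x := x) (by omega) a1
    have := card_of_mem_csets a3
    have n6 := not_lev (x := x) (k := 6) (by omega)
    have n8 := not_lev (x := x) (k := 8) (by omega)
    have le := abs_le_eight (x := x) (by omega)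
    rcases (by omega : (lev x 2).card = 8 ∧ (lev x 4).card = 0 ∨ (lev x 2).card = 0 ∧ (lev x 4).card = 2) with h | h
    · have n4 := not_lev h.2
      have ho : lev x 2 ∈ octads := ⟨by
        rw [card_eq_zero.1 (by omega : (lev x 6).card = 0), union_empty] at b1; exact b1 ▸ a3, h.1⟩
      have val : ∀ i, (x : ZV) i = if i ∈ lev x 2 then if (x : ZV) i < 0 then -2 else 2 else 0 := fun i => by
        have := n4 i; have := n6 i; have := n8 i; have := le i; have := a1 i
        simp only [mem_lev]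
        rcases abs_cases ((x : ZV) i) with a | a <;> split_ifs <;> omega
      obtain ⟨c, hc, hc'⟩ := exists_cut ho ((lev x 2).filter fun i => (x : ZV) i < 0) (filter_subset _ _) (by
        have e : ∑ i, (x : ZV) i = ∑ i ∈ lev x 2, (2 - if (x : ZV) i < 0 then 4 else 0) := by
          rw [← sum_ite_mem (lev x 2)]
          exact sum_congr rfl fun i _ => by have := val i; split_ifs at this ⊢ <;> omega
        rw [sum_sub_distrib, ← sum_filter, sum_const, sum_const, h.1] at e
        simp only [nsmul_eq_mul] at e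
        rw [Nat.even_iff]; omega)
      obtain ⟨g, hg⟩ := exists_smul_o0 ho
      refine ⟨coP g⁻¹ * coS c hc, K.mul_mem (h1 _) (h2 _ _), ?_⟩
      have : ((((coP g⁻¹ * coS c hc) • x : LL)) : ZV) = ind 2 o0 := funext fun i => by
        rw [mul_smul, coP_smul, coS_smul, inv_inv, sgn, ind]
        have e1 : g • i ∈ lev x 2 ↔ i ∈ o0 := by rw [← hg, smul_mem_smul_finset_iff]
        have e3 : g • i ∈ c ∩ lev x 2 ↔ g • i ∈ (lev x 2).filter fun i => (x : ZV) i < 0 := by rw [hc']
        simp only [mem_inter, mem_filter] at e3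
        have := val (g • i)
        simp only [← e1]
        by_cases c1 : g • i ∈ lev x 2 <;> by_cases c2 : g • i ∈ c <;> simp only [c1, c2, if_true, if_false, true_and,
          and_true, false_and, and_false, true_iff, false_iff] at e3 this ⊢ <;> (try split_ifs at this) <;> omega
      rw [this]; simp
    · have n2 := not_lev h.1
      obtain ⟨p, q, hpq, e⟩ := card_eq_two.1 h.2
      obtain ⟨g, hg⟩ := orbit_pair hpq
      have g1 : g • none = p := congrArg Prod.fst hg
      have g2 : g • some 0 = q := congrArg Prod.snd hg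
      refine ⟨coP g⁻¹, h1 _, ?_⟩
      have : ((coP g⁻¹ • x : LL) : ZV) = e2 ((x : ZV) p) ((x : ZV) q) := funext fun i => by
        rw [coP_smul, inv_inv, e2]
        split_ifs with c1 c2
        · rw [c1, g1]
        · rw [c2, g2]
        · have : g • i ∉ lev x 4 := by
            rw [e, mem_insert, mem_singleton, ← g1, ← g2, smul_left_cancel_iff, smul_left_cancel_iff]; tauto
          rw [mem_lev] at this
          have := n2 (g • i); have := n6 (g • i); have := n8 (g • i); have := le (g • i); have := a1 (g • i)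
          rcases abs_cases ((x : ZV) (g • i)) with a | a <;> omega
      have hp : |(x : ZV) p| = 4 := mem_lev.1 (by rw [e]; simp)
      have hq : |(x : ZV) q| = 4 := mem_lev.1 (by rw [e]; simp)
      rw [this]
      rcases (abs_eq (by norm_num)).1 hp with a | a <;> rcases (abs_eq (by norm_num)).1 hq with b | b <;> simp [a, b]
  · have := odd_shape (x := sgn c x) (by rw [sqNorm_sgn]; omega) a1
    rw [sqNorm_sgn] at this
    obtain ⟨p, hp⟩ := lev_one (x := sgn c x) (k := 3) (by omega)
    obtain ⟨g, hg⟩ : p ∈ orbit M24 (none : GolayPt) := by rw [orbit_pt]; trivial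
    refine ⟨coP g⁻¹ * coS c hc, K.mul_mem (h1 _) (h2 _ _), ?_⟩
    have : ((((coP g⁻¹ * coS c hc) • x : LL)) : ZV) = v0 := funext fun i => by
      rw [mul_smul, coP_smul, coS_smul, inv_inv, v0]
      have e := hp (g • i)
      rw [← show g • none = p from hg, smul_left_cancel_iff] at e
      have := not_lev (x := sgn c x) (k := 5) (by omega) (g • i)
      have := not_lev (x := sgn c x) (k := 7) (by omega) (g • i)
      have := abs_le_eight (x := sgn c x) (by rw [sqNorm_sgn]; omega) (g • i)
      have := a1 (g • i)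
      split_ifs with c1
      · have := e.2 c1; rcases abs_cases (sgn c x (g • i)) with a | a <;> omega
      · have := mt e.1 c1; rcases abs_cases (sgn c x (g • i)) with a | a <;> omega
    rw [this]; simp

end Cfsg.Agent.H6
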