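/- Bit-sliced integer arithmetic and coded Leech vectors. -/
import Cfsg.Agent.H6.LeB
import Cfsg.Agent.H6.Out2

namespace Cfsg.Agent.H6
open MulAction Pointwise Finset

noncomputable def lhd (L : List ℕ) : ℕ := List.rec (motive := fun _ => ℕ) 0 (fun a _ _ => a) L
noncomputable def ltl (L : List ℕ) : List ℕ := List.rec (motive := fun _ => List ℕ) [] (fun _ r _ => r) L

def bt (a i : ℕ) : ℕ := if a.testBit i then 1 else 0

/-- the number in lane `i` of a list of slices -/
def sv : List ℕ → ℕ → ℕ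
  | [], _ => 0
  | a :: L, i => bt a i + 2 * sv L i

theorem bt_zero (i : ℕ) : bt 0 i = 0 := by simp [bt]
theorem bt_le (a i : ℕ) : bt a i ≤ 1 := by unfold bt; split_ifs <;> omega
theorem bt_inj {a b i j : ℕ} (h : bt a i = bt b j) : a.testBit i = b.testBit j := by
  unfold bt at h; cases e1 : a.testBit i <;> cases e2 : b.testBit j <;> simp_all

theorem sv_hd (L : List ℕ) (i : ℕ) : sv L i = bt (lhd L) i + 2 * sv (ltl L) i := by
  cases L with
  | nil => show 0 = bt 0 i + 2 * 0; rw [bt_zero]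
  | cons a L => rfl

theorem len_tl {L : List ℕ} {w : ℕ} (h : L.length ≤ w + 1) : (ltl L).length ≤ w := by
  cases L with
  | nil => exact Nat.zero_le _
  | cons a L => exact Nat.le_of_succ_le_succ h

theorem sv_zero_cons (L : List ℕ) (i : ℕ) : sv (0 :: L) i = 2 * sv L i := by rw [sv, bt_zero, zero_add]

theorem full_add (a b c i : ℕ) : bt (Nat.xor (Nat.xor a b) c) i +
    2 * bt (Nat.lor (Nat.land a b) (Nat.land (Nat.xor a b) c)) i = bt a i + bt b i + bt c i := by
  show bt ((a ^^^ b) ^^^ c) i + 2 * bt ((a &&& b) ||| ((a ^^^ b) &&& c)) i = _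
  simp only [bt, Nat.testBit_xor, Nat.testBit_or, Nat.testBit_and]
  cases a.testBit i <;> cases b.testBit i <;> cases c.testBit i <;> rfl

noncomputable def addA (w : ℕ) : List ℕ → List ℕ → ℕ → (List ℕ → Bool) → Bool :=
  Nat.rec (motive := fun _ => List ℕ → List ℕ → ℕ → (List ℕ → Bool) → Bool)
    (fun _ _ c k => Bool.rec (motive := fun _ => Bool) (k [c]) (k []) (Nat.beq c 0))
    (fun _ ih A B c k => seq (lhd A) fun a => seq (lhd B) fun b => seq (Nat.xor a b) fun t =>
      seq (Nat.xor t c) fun s => seq (Nat.lor (Nat.land a b) (Nat.land t c)) fun c' =>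
        ih (ltl A) (ltl B) c' fun r => k (s :: r)) w

theorem addA_spec {w : ℕ} {A B : List ℕ} {c : ℕ} {k : List ℕ → Bool} (hA : A.length ≤ w) (hB : B.length ≤ w)
    (h : addA w A B c k = true) : ∃ R, (∀ i, sv R i = sv A i + sv B i + bt c i) ∧ k R = true := by
  induction w generalizing A B c k with
  | zero =>
    rw [List.length_eq_zero_iff.1 (Nat.le_zero.1 hA), List.length_eq_zero_iff.1 (Nat.le_zero.1 hB)]
    have h' : Bool.rec (motive := fun _ => Bool) (k [c]) (k []) (Nat.beq c 0) = true := h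
    cases e : Nat.beq c 0
    · rw [e] at h'; exact ⟨[c], fun i => by simp [sv], h'⟩
    · rw [e] at h'; exact ⟨[], fun i => by simp [sv, beq_eq.1 e, bt_zero], h'⟩
  | succ w ih =>
    have h' : (seq (lhd A) fun a => seq (lhd B) fun b => seq (Nat.xor a b) fun t =>
      seq (Nat.xor t c) fun s => seq (Nat.lor (Nat.land a b) (Nat.land t c)) fun c' =>
        addA w (ltl A) (ltl B) c' fun r => k (s :: r)) = true := h
    simp only [seq_eq] at h'
    obtain ⟨R, h1, h2⟩ := ih (len_tl hA) (len_tl hB) h'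
    refine ⟨_, fun i => ?_, h2⟩
    have := full_add (lhd A) (lhd B) c i
    rw [sv, h1, sv_hd A, sv_hd B]; omega

noncomputable def lmax (A B : List ℕ) : ℕ := Nat.add (llen A) (Nat.sub (llen B) (llen A))

theorem le_lmax (A B : List ℕ) : A.length ≤ lmax A B ∧ B.length ≤ lmax A B := by
  have : lmax A B = A.length + (B.length - A.length) := by rw [lmax, llen_eq, llen_eq]; rfl
  omega

noncomputable def addK (A B : List ℕ) (k : List ℕ → Bool) : Bool := seq (lmax A B) fun w => addA w A B 0 k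

theorem addK_spec {A B : List ℕ} {k : List ℕ → Bool} (h : addK A B k = true) :
    ∃ R, (∀ i, sv R i = sv A i + sv B i) ∧ k R = true := by
  rw [addK, seq_eq] at h
  obtain ⟨R, h1, h2⟩ := addA_spec (le_lmax A B).1 (le_lmax A B).2 h
  exact ⟨R, fun i => by rw [h1, bt_zero, add_zero], h2⟩

noncomputable def cadd (b : Bool) (u acc : List ℕ) (k : List ℕ → Bool) : Bool :=
  Bool.rec (motive := fun _ => Bool) (k acc) (addK acc u k) b

theorem cadd_spec {n j : ℕ} {u acc : List ℕ} {k : List ℕ → Bool} (h : cadd (tb n j) u acc k = true) :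
    ∃ R, (∀ i, sv R i = sv acc i + bt n j * sv u i) ∧ k R = true := by
  rw [tb_eq] at h
  cases e : n.testBit j
  · rw [e] at h; exact ⟨acc, fun i => by simp [bt, e], h⟩
  · rw [e] at h
    obtain ⟨R, h1, h2⟩ := addK_spec (show addK acc u k = true from h)
    exact ⟨R, fun i => by simp [bt, e, h1], h2⟩

noncomputable def mac (n : ℕ) (u acc : List ℕ) (k : List ℕ → Bool) : Bool :=
  Bool.rec (motive := fun _ => Bool)
    (cadd (tb n 0) u acc fun a1 => cadd (tb n 1) (0 :: u) a1 fun a2 => cadd (tb n 2) (0 :: 0 :: u) a2 fun a3 =>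
      cadd (tb n 3) (0 :: 0 :: 0 :: u) a3 k) (k acc) (Nat.beq n 0)

theorem mac_spec {n : ℕ} (hn : n < 16) {u acc : List ℕ} {k : List ℕ → Bool} (h : mac n u acc k = true) :
    ∃ R, (∀ i, sv R i = sv acc i + n * sv u i) ∧ k R = true := by
  unfold mac at h
  cases e : Nat.beq n 0
  · rw [e] at h
    obtain ⟨a1, b1, h⟩ := cadd_spec h
    obtain ⟨a2, b2, h⟩ := cadd_spec h
    obtain ⟨a3, b3, h⟩ := cadd_spec h
    obtain ⟨a4, b4, h⟩ := cadd_spec h
    refine ⟨a4, fun i => ?_, h⟩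
    have : ∀ n < 16, n = bt n 0 + 2 * bt n 1 + 4 * bt n 2 + 8 * bt n 3 := by decide
    rw [b4, b3, b2, b1]; simp only [sv_zero_cons]
    conv_rhs => rw [this n hn]
    ring
  · rw [e] at h; exact ⟨acc, fun i => by simp [beq_eq.1 e], h⟩

noncomputable def ldot (S : ℕ → List ℕ) (n j : ℕ) : List ℕ → (List ℕ → Bool) → Bool :=
  Nat.rec (motive := fun _ => List ℕ → (List ℕ → Bool) → Bool) (fun acc k => k acc)
    (fun j ih acc k => seq (dg 16 n j) fun d => mac d (S j) acc fun a => ih a k) j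

theorem ldot_spec {S : ℕ → List ℕ} {n j : ℕ} {acc : List ℕ} {k : List ℕ → Bool} (h : ldot S n j acc k = true) :
    ∃ R, (∀ i, sv R i = sv acc i + ∑ p ∈ range j, dg 16 n p * sv (S p) i) ∧ k R = true := by
  induction j generalizing acc with
  | zero => exact ⟨acc, by simp, h⟩
  | succ j ih =>
    have h' : (seq (dg 16 n j) fun d => mac d (S j) acc fun a => ldot S n j a k) = true := h
    rw [seq_eq] at h'
    obtain ⟨a, h1, h2⟩ := mac_spec (dg_lt (by norm_num) _ _) h'
    obtain ⟨R, h3, h4⟩ := ih h2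
    exact ⟨R, fun i => by rw [h3, h1, sum_range_succ]; ring, h4⟩

/-- slices of a constant -/
noncomputable def cstL (F w : ℕ) : ℕ → List ℕ :=
  Nat.rec (motive := fun _ => ℕ → List ℕ) (fun _ => [])
    (fun _ ih c => Bool.rec (motive := fun _ => List ℕ) (cnd (Nat.beq (Nat.mod c 2) 1) F 0 :: ih (Nat.div c 2)) []
      (Nat.beq c 0)) w

theorem sv_cstL {F w c i : ℕ} (hF : F.testBit i = true) (hc : c < 2 ^ w) : sv (cstL F w c) i = c := by
  induction w generalizing c with
  | zero => have : c = 0 := by simpa using hc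
            subst this; rfl
  | succ w ih =>
    have e : cstL F (w + 1) c = Bool.rec (motive := fun _ => List ℕ)
      (cnd (Nat.beq (c % 2) 1) F 0 :: cstL F w (c / 2)) [] (Nat.beq c 0) := rfl
    rw [e]
    cases e0 : Nat.beq c 0
    · show bt _ i + 2 * sv _ i = c
      rw [ih (by rw [pow_succ] at hc; omega)]
      rcases Nat.mod_two_eq_zero_or_one c with h | h <;> rw [h]
      · show bt 0 i + _ = _; rw [bt_zero]; omega
      · show bt F i + _ = _; rw [bt, if_pos hF]; omega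
    · exact (beq_eq.1 e0).symm

noncomputable def dsum (n j : ℕ) : ℕ := Nat.rec (motive := fun _ => ℕ) 0 (fun j ih => Nat.add ih (dg 16 n j)) j

theorem dsum_eq (n j : ℕ) : dsum n j = ∑ p ∈ range j, dg 16 n p := by
  induction j with
  | zero => rfl
  | succ j ih => rw [sum_range_succ, ← ih]; rfl

noncomputable def neqA (w : ℕ) : List ℕ → List ℕ → ℕ :=
  Nat.rec (motive := fun _ => List ℕ → List ℕ → ℕ) (fun _ _ => 0)
    (fun _ ih A B => Nat.lor (Nat.xor (lhd A) (lhd B)) (ih (ltl A) (ltl B))) w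

theorem neqA_spec {w : ℕ} {A B : List ℕ} (hA : A.length ≤ w) (hB : B.length ≤ w) (i : ℕ) :
    (neqA w A B).testBit i = false ↔ sv A i = sv B i := by
  induction w generalizing A B with
  | zero =>
    rw [List.length_eq_zero_iff.1 (Nat.le_zero.1 hA), List.length_eq_zero_iff.1 (Nat.le_zero.1 hB)]
    exact ⟨fun _ => rfl, fun _ => Nat.zero_testBit i⟩
  | succ w ih =>
    have e : neqA (w + 1) A B = (lhd A ^^^ lhd B) ||| neqA w (ltl A) (ltl B) := rfl
    rw [e, Nat.testBit_or, Bool.or_eq_false_iff, ih (len_tl hA) (len_tl hB), sv_hd A, sv_hd B, Nat.testBit_xor]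
    unfold bt
    cases (lhd A).testBit i <;> cases (lhd B).testBit i <;> simp <;> omega

theorem sv_agree {L : List ℕ} {i j : ℕ} (h : sv L i = sv L j) : ∀ a ∈ L, a.testBit i = a.testBit j := by
  induction L with
  | nil => simp
  | cons a L ih =>
    have h1 := bt_le a i
    have h2 := bt_le a j
    simp only [sv] at h
    exact List.forall_mem_cons.2 ⟨bt_inj (by omega), ih (by omega)⟩

theorem sv_app {N : ℕ} {n : Net} (h : n.Ok N) (L : List ℕ) (i : ℕ) : sv (lmap n.app L) i = sv L (n.fn i) := by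
  induction L with
  | nil => rfl
  | cons a L ih =>
    show bt (n.app a) i + 2 * sv (lmap n.app L) i = _
    rw [ih, sv, bt, bt, Net.testBit_app h.ok0]

noncomputable def svc (L : List ℕ) (i : ℕ) : ℕ :=
  List.rec (motive := fun _ => ℕ) 0 (fun a _ ih => Nat.add (cnd (tb a i) 1 0) (Nat.mul 2 ih)) L

theorem svc_eq (L : List ℕ) (i : ℕ) : svc L i = sv L i := by
  induction L with
  | nil => rfl
  | cons a L ih =>
    show cnd (tb a i) 1 0 + 2 * svc L i = _
    rw [ih, sv, tb_eq, bt]; cases a.testBit i <;> rfl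

/-! ### coded vectors -/

abbrev Rw : Type := ℕ × ℕ

def vec (o : ℕ) (S : ℕ → List ℕ) (i : ℕ) : ZV := fun p => (sv (S (idx p)) i : ℤ) - o
def rv (r : Rw) : ZV := fun p => (dg 16 r.1 (idx p) : ℤ) - dg 16 r.2 (idx p)

theorem sum_idx (f : ℕ → ℤ) : ∑ p : GolayPt, f (idx p) = ∑ j ∈ range 24, f j :=
  sum_nbij' idx pt (fun p _ => mem_range.2 (idx_lt p)) (fun _ _ => mem_univ _) (fun p _ => pt_idx p)
    (fun j hj => idx_pt j (mem_range.1 hj)) fun _ _ => rfl

theorem testBit_fullM {N i : ℕ} : (fullM N).testBit i = true ↔ i < N := by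
  show (2 ^ N - 1).testBit i = true ↔ _
  simp [Nat.testBit_two_pow_sub_one]

/-- the mask of the lanes where `⟨r, x⟩ + c` is the number in `L` -/
noncomputable def dmK (N o : ℕ) (S : ℕ → List ℕ) (r : Rw) (L : List ℕ) (c : ℕ) (k : ℕ → Bool) : Bool :=
  seq (fullM N) fun F => seq r.1 fun P => seq r.2 fun M => seq (Nat.add (Nat.mul o (dsum M 24)) c) fun c1 =>
    seq (Nat.mul o (dsum P 24)) fun c2 => band (Nat.ble c1 1048575) (band (Nat.ble c2 1048575)
      (ldot S P 24 (cstL F 20 c1) fun A => ldot S M 24 (cstL F 20 c2) fun B => addK B L fun B' =>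
        seq (Nat.xor (Nat.land (neqA (lmax A B') A B') F) F) k))

theorem dmK_spec {N o : ℕ} {S : ℕ → List ℕ} {r : Rw} {L : List ℕ} {c : ℕ} {k : ℕ → Bool}
    (h : dmK N o S r L c k = true) :
    ∃ m, (∀ i < N, m.testBit i = true ↔ dotInt (rv r) (vec o S i) + c = sv L i) ∧ k m = true := by
  simp only [dmK, seq_eq, band_eq, ble_eq] at h
  obtain ⟨h1, h2, h⟩ := h
  obtain ⟨A, a1, h⟩ := ldot_spec h
  obtain ⟨B, a2, h⟩ := ldot_spec h
  obtain ⟨C, a3, h⟩ := addK_spec h
  refine ⟨_, fun i hi => ?_, h⟩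
  have hF : (fullM N).testBit i = true := testBit_fullM.2 hi
  have e1 : (Nat.xor (Nat.land (neqA (lmax A C) A C) (fullM N)) (fullM N)).testBit i = true ↔
      (neqA (lmax A C) A C).testBit i = false := by
    show ((neqA (lmax A C) A C &&& fullM N) ^^^ fullM N).testBit i = true ↔ _
    rw [Nat.testBit_xor, Nat.testBit_and, hF]; simp
  rw [e1, neqA_spec (le_lmax A C).1 (le_lmax A C).2, a3, a1, a2, sv_cstL hF (by omega), sv_cstL hF (by omega)]
  have e2 : dotInt (rv r) (vec o S i) = ∑ j ∈ range 24, ((dg 16 r.1 j : ℤ) - dg 16 r.2 j) * ((sv (S j) i : ℤ) - o) :=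
    sum_idx fun j => ((dg 16 r.1 j : ℤ) - dg 16 r.2 j) * ((sv (S j) i : ℤ) - o)
  have e3 : dotInt (rv r) (vec o S i) = (∑ j ∈ range 24, dg 16 r.1 j * sv (S j) i : ℕ) -
      (∑ j ∈ range 24, dg 16 r.2 j * sv (S j) i : ℕ) - (o * dsum r.1 24 : ℕ) + (o * dsum r.2 24 : ℕ) := by
    rw [e2, dsum_eq, dsum_eq]; push_cast
    rw [mul_sum, mul_sum, ← sum_sub_distrib, ← sum_sub_distrib, ← sum_add_distrib]
    exact sum_congr rfl fun j _ => by ring
  rw [e3]
  show o * dsum r.2 24 + c + _ = o * dsum r.1 24 + _ + _ ↔ _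
  omega

noncomputable def lmapP (N o : ℕ) (S : ℕ → List ℕ) (o' : ℕ) (T : ℕ → List ℕ) (A : ℕ → Rw) (p : ℕ) : Bool :=
  dmK N o S (A p) (0 :: 0 :: 0 :: T p) (Nat.mul 8 o') fun m => Nat.beq m (fullM N)

def LMap (N o : ℕ) (S : ℕ → List ℕ) (o' : ℕ) (T : ℕ → List ℕ) (A : ℕ → Rw) : Prop :=
  ∀ i < N, ∀ p, dotInt (rv (A (idx p))) (vec o S i) = 8 * vec o' T i p

theorem LMap.of {N o o' : ℕ} {S T : ℕ → List ℕ} {A : ℕ → Rw} (h : ∀ p < 24, lmapP N o S o' T A p = true) :
    LMap N o S o' T A := fun i hi p => by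
  obtain ⟨m, h1, h2⟩ := dmK_spec (h _ (idx_lt p))
  have := (h1 i hi).1 (by rw [beq_eq.1 h2]; exact testBit_fullM.2 hi)
  simp only [sv_zero_cons] at this
  have e : Nat.mul 8 o' = 8 * o' := rfl
  rw [e] at this
  simp only [vec] at this ⊢; push_cast at this; omega

noncomputable def lmapC (N o : ℕ) (S : ℕ → List ℕ) (o' : ℕ) (T : ℕ → List ℕ) (A : ℕ → Rw) : Bool :=
  nall (lmapP N o S o' T A) 24

theorem LMap.of_chk {N o o' : ℕ} {S T : ℕ → List ℕ} {A : ℕ → Rw} (h : lmapC N o S o' T A = true) :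
    LMap N o S o' T A := LMap.of ((nall_eq _ _).1 h)

noncomputable def xs (T : ℕ → List ℕ) (p n : ℕ) : ℕ :=
  Nat.rec (motive := fun _ => ℕ) 0 (fun j ih => Bool.rec (motive := fun _ => ℕ) ih (Nat.xor ih (lhd (ltl (T j))))
    (tb (lk24 encBT j) p)) n

theorem xs_spec {T : ℕ → List ℕ} {u i : ℕ} (p n : ℕ) (h : ∀ j < n, u.testBit j = (lhd (ltl (T j))).testBit i) :
    (xsel encBT u n).testBit p = (xs T p n).testBit i := by
  induction n with
  | zero => show (0 : ℕ).testBit p = (0 : ℕ).testBit i; simp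
  | succ n ih =>
    have e : xs T p (n + 1) = Bool.rec (motive := fun _ => ℕ) (xs T p n) (xs T p n ^^^ lhd (ltl (T n)))
      (tb (lk24 encBT n) p) := rfl
    have ih' := ih fun j hj => h j (by omega)
    rw [e, xsel_succ, tb_eq, h n (by omega)]
    cases e1 : (lk24 encBT n).testBit p <;> cases e2 : (lhd (ltl (T n))).testBit i <;>
      simp [Nat.testBit_xor, ih', e1, e2]

/-- all the lanes are lattice vectors -/
noncomputable def lsC (o : ℕ) (T : ℕ → List ℕ) : Bool :=
  band (Nat.beq (Nat.mod o 4) 0) (band (nall (fun p => Nat.beq (lhd (T p)) (lhd (T 0))) 24)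
    (band (nall (fun p => Nat.beq (xs T p 12) (lhd (ltl (T p)))) 24)
      (ldot T 0x111111111111111111111111 24 [] fun R => band (Nat.beq (lhd R) 0) (band (Nat.beq (lhd (ltl R)) 0)
        (Nat.beq (lhd (ltl (ltl R))) (lhd (T 0)))))))

theorem ls_of {o : ℕ} {T : ℕ → List ℕ} (h : lsC o T = true) (i : ℕ) : LS (vec o T i) := by
  simp only [lsC, band_eq, nall_eq, beq_eq] at h
  obtain ⟨h0, h1, h2, h3⟩ := h
  have h0 : o % 4 = 0 := h0
  obtain ⟨R, a1, a2⟩ := ldot_spec h3
  simp only [band_eq, beq_eq] at a2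
  have hb := bt_le (lhd (T 0)) i
  have e : ∀ p, sv (T (idx p)) i = bt (lhd (T 0)) i + 2 * (bt (lhd (ltl (T (idx p)))) i + 2 * sv (ltl (ltl (T (idx p)))) i) :=
    fun p => by rw [sv_hd, sv_hd (ltl _), h1 _ (idx_lt p)]
  refine ⟨bt (lhd (T 0)) i, fun p => by simp only [vec]; rw [e]; omega, ?_, ?_⟩
  · have s1 := a1 i
    rw [sv_hd R, sv_hd (ltl R), sv_hd (ltl (ltl R)), a2.1, a2.2.1, a2.2.2, bt_zero] at s1
    have s2 : ∑ p ∈ range 24, dg 16 0x111111111111111111111111 p * sv (T p) i = ∑ p ∈ range 24, sv (T p) i :=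
      sum_congr rfl fun p hp => by
        rw [(by decide : ∀ p < 24, dg 16 0x111111111111111111111111 p = 1) p (mem_range.1 hp), one_mul]
    have s3 : ∑ p, vec o T i p = (∑ p ∈ range 24, sv (T p) i : ℕ) - 24 * o := by
      rw [show ∑ p, vec o T i p = _ from sum_idx fun j => (sv (T j) i : ℤ) - o, sum_sub_distrib, sum_const, card_range,
        Nat.cast_sum, nsmul_eq_mul]; rfl
    rw [s2, show sv [] i = 0 from rfl] at s1; rw [s3]; generalize ∑ p ∈ range 24, sv (T p) i = z at s1 ⊢; omega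
  · obtain ⟨m, m1, m2⟩ := exists_mask (fun p => (lhd (ltl (T p))).testBit i) 24
    have hc : isC m = true := by
      rw [isC_iff, enc_eq (Nat.mod_lt _ (by norm_num))]
      refine mask_ext (n := 24) (enc_eq (Nat.mod_lt m (by norm_num : 0 < 4096)) ▸ enc_lt _) m1 fun p hp => ?_
      rw [xs_spec (T := T) (i := i) p 12 fun j hj => ?_, h2 p hp, m2 p hp]
      rw [show 4096 = 2 ^ 12 from rfl, Nat.testBit_mod_two_pow, m2 j (by omega)]; simp [hj]
    convert compl_mem_csets (fs_mem_csets hc) using 1; ext p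
    simp only [mem_filter, mem_univ, true_and, mem_compl, mem_fs, m2 _ (idx_lt p)]
    unfold vec
    rw [e, bt.eq_1 (lhd (ltl _))]
    cases (lhd (ltl (T (idx p)))).testBit i <;> simp <;> omega

end Cfsg.Agent.H6
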