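/- Matrices of elements of `Co0`, models on lattice vectors, inner product classes. -/
import Cfsg.Agent.H6.LeC

namespace Cfsg.Agent.H6
open MulAction Pointwise Finset

noncomputable def toL (x : ZV) : LL := open Classical in if h : x ∈ leechLattice then ⟨x, h⟩ else 0

theorem coe_toL {x : ZV} (h : LS x) : (toL x : ZV) = x := by rw [toL, dif_pos (mem_LL.2 h)]

noncomputable def LX (o : ℕ) (S : ℕ → List ℕ) (i : ℕ) : LL := toL (vec o S i)
noncomputable def lv (r : Rw) : LL := toL (rv r)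

theorem coe_LX {o : ℕ} {S : ℕ → List ℕ} (h : lsC o S = true) (i : ℕ) : (LX o S i : ZV) = vec o S i := coe_toL (ls_of h i)

noncomputable def GS : ℕ → List ℕ := lk [] [[(nat_lit 0x2000000000000),(nat_lit 0xfacca1),(nat_lit 0x3fffffeffffff),(nat_lit 0x3fffffeffffff),(nat_lit 0x1000000)],
  [(nat_lit 0x2000000000000),(nat_lit 0xf59943),(nat_lit 0x3fffffdffffff),(nat_lit 0x3fffffdffffff),(nat_lit 0x2000000)],
  [(nat_lit 0x2000000000000),(nat_lit 0xeb3287),(nat_lit 0x3fffffbffffff),(nat_lit 0x3fffffbffffff),(nat_lit 0x4000000)],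
  [(nat_lit 0x2000000000000),(nat_lit 0xd6650f),(nat_lit 0x3fffff7ffffff),(nat_lit 0x3fffff7ffffff),(nat_lit 0x8000000)],
  [(nat_lit 0x2000000000000),(nat_lit 0xacca1f),(nat_lit 0x3ffffefffffff),(nat_lit 0x3ffffefffffff),(nat_lit 0x10000000)],
  [(nat_lit 0x2000000000000),(nat_lit 0xd9943e),(nat_lit 0x3ffffdfffffff),(nat_lit 0x3ffffdfffffff),(nat_lit 0x20000000)],
  [(nat_lit 0x2000000000000),(nat_lit 0xb3287d),(nat_lit 0x3ffffbfffffff),(nat_lit 0x3ffffbfffffff),(nat_lit 0x40000000)],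
  [(nat_lit 0x2000000000000),(nat_lit 0xe650fa),(nat_lit 0x3ffff7fffffff),(nat_lit 0x3ffff7fffffff),(nat_lit 0x80000000)],
  [(nat_lit 0x2000000000000),(nat_lit 0xcca1f5),(nat_lit 0x3fffeffffffff),(nat_lit 0x3fffeffffffff),(nat_lit 0x100000000)],
  [(nat_lit 0x2000000000000),(nat_lit 0x9943eb),(nat_lit 0x3fffdffffffff),(nat_lit 0x3fffdffffffff),(nat_lit 0x200000000)],
  [(nat_lit 0x2000000000000),(nat_lit 0xb287d6),(nat_lit 0x3fffbffffffff),(nat_lit 0x3fffbffffffff),(nat_lit 0x400000000)],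
  [(nat_lit 0x2000000000000),(nat_lit 0xe50fac),(nat_lit 0x3fff7ffffffff),(nat_lit 0x3fff7ffffffff),(nat_lit 0x800000000)],
  [(nat_lit 0x2000000000000),(nat_lit 0xca1f59),(nat_lit 0x3ffefffffffff),(nat_lit 0x3ffefffffffff),(nat_lit 0x1000000000)],
  [(nat_lit 0x2000000000000),(nat_lit 0x943eb3),(nat_lit 0x3ffdfffffffff),(nat_lit 0x3ffdfffffffff),(nat_lit 0x2000000000)],
  [(nat_lit 0x2000000000000),(nat_lit 0xa87d66),(nat_lit 0x3ffbfffffffff),(nat_lit 0x3ffbfffffffff),(nat_lit 0x4000000000)],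
  [(nat_lit 0x2000000000000),(nat_lit 0xd0facc),(nat_lit 0x3ff7fffffffff),(nat_lit 0x3ff7fffffffff),(nat_lit 0x8000000000)],
  [(nat_lit 0x2000000000000),(nat_lit 0xa1f599),(nat_lit 0x3feffffffffff),(nat_lit 0x3feffffffffff),(nat_lit 0x10000000000)],
  [(nat_lit 0x2000000000000),(nat_lit 0xc3eb32),(nat_lit 0x3fdffffffffff),(nat_lit 0x3fdffffffffff),(nat_lit 0x20000000000)],
  [(nat_lit 0x2000000000000),(nat_lit 0x87d665),(nat_lit 0x3fbffffffffff),(nat_lit 0x3fbffffffffff),(nat_lit 0x40000000000)],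
  [(nat_lit 0x2000000000000),(nat_lit 0x8facca),(nat_lit 0x3f7ffffffffff),(nat_lit 0x3f7ffffffffff),(nat_lit 0x80000000000)],
  [(nat_lit 0x2000000000000),(nat_lit 0x9f5994),(nat_lit 0x3efffffffffff),(nat_lit 0x3efffffffffff),(nat_lit 0x100000000000)],
  [(nat_lit 0x2000000000000),(nat_lit 0xbeb328),(nat_lit 0x3dfffffffffff),(nat_lit 0x3dfffffffffff),(nat_lit 0x200000000000)],
  [(nat_lit 0x2000000000000),(nat_lit 0xfd6650),(nat_lit 0x3bfffffffffff),(nat_lit 0x3bfffffffffff),(nat_lit 0x400000000000)],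
  [(nat_lit 0x2000000000000),(nat_lit 0x800000),(nat_lit 0x1800000ffffff),(nat_lit 0x2ffffffffffff),(nat_lit 0x1000000000000)]]

theorem GS_ls : lsC 12 GS = true := by decide +kernel

theorem vec_svc (o : ℕ) (S : ℕ → List ℕ) (i : ℕ) (p : GolayPt) : vec o S i p = (svc (S (idx p)) i : ℤ) - o := by
  rw [svc_eq]; rfl

theorem gen_GS {M : AddSubgroup ZV} (h : ∀ i < 50, vec 12 GS i ∈ M) {x : ZV} (hx : LS x) : x ∈ M := by
  refine LS.gen ?_ (fun j hj => ?_) (fun p => ?_) ?_ hx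
  · convert h 49 (by norm_num) using 1; funext p; rw [vec_svc]; revert p; decide +kernel
  · convert h j (by omega) using 1; funext p; rw [vec_svc]; simp only [ind, mem_fs]; revert j p; decide +kernel
  · convert h (24 + idx p) (by have := idx_lt p; omega) using 1; funext q; rw [vec_svc]; revert p q; decide +kernel
  · convert h 48 (by norm_num) using 1; funext p; rw [vec_svc]; revert p; decide +kernel

theorem LL_ind (M : AddSubgroup LL) (h : ∀ i < 50, LX 12 GS i ∈ M) (x : LL) : x ∈ M := by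
  obtain ⟨y, hy, e⟩ : (x : ZV) ∈ M.map leechLattice.subtype :=
    gen_GS (M := M.map leechLattice.subtype) (fun i hi => ⟨_, h i hi, coe_LX GS_ls i⟩) (mem_LL.1 x.2)
  exact Subtype.ext e ▸ hy

theorem co_ext_gen {a b : Co0} (h : ∀ i < 50, a • LX 12 GS i = b • LX 12 GS i) : a = b :=
  co_ext fun x => congrArg _ (LL_ind ((coHom a).eqLocus (coHom b)) h x)

theorem fin_shell (n : ℤ) : {x : LL | sqNorm (x : ZV) = n}.Finite := by
  refine Set.Finite.preimage (f := ((↑) : LL → ZV)) Subtype.val_injective.injOn (s := {x | sqNorm x = n}) ?_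
  refine (Set.Finite.pi' fun _ => Set.finite_Icc (-n) n).subset fun x hx i => ?_
  have h : x i ^ 2 ≤ n := hx ▸ single_le_sum (f := fun i => x i ^ 2) (fun _ _ => sq_nonneg _) (mem_univ i)
  constructor <;> nlinarith [sq_nonneg (x i - 1), sq_nonneg (x i + 1), sq_nonneg (x i)]

instance instFiniteCo0 : Finite Co0 := by
  haveI := fun n => (fin_shell n).to_subtype
  exact Finite.of_injective (fun (g : Co0) (i : Fin 50) =>
    (⟨g • LX 12 GS i, co_norm g _⟩ : {x : LL | sqNorm (x : ZV) = sqNorm (LX 12 GS i : ZV)}))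
    fun a b e => co_ext_gen fun i hi => congrArg Subtype.val (congrFun e ⟨i, hi⟩)

theorem sqNorm_eq_zero {x : ZV} (h : sqNorm x = 0) : x = 0 := funext fun i =>
  (pow_eq_zero_iff two_ne_zero).1 ((sum_eq_zero_iff_of_nonneg fun _ _ => sq_nonneg _).1 h i (mem_univ i))

theorem exists_co_of (f : LL → LL) (ha : ∀ x y, f (x + y) = f x + f y)
    (hn : ∀ x, sqNorm (f x : ZV) = sqNorm (x : ZV)) : ∃ g : Co0, ∀ x, g • x = f x := by
  let φ : LL →+ LL := AddMonoidHom.mk' f ha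
  have hi : Function.Injective f := (injective_iff_map_eq_zero φ).2 fun x hx => by
    have := hn x
    rw [show f x = 0 from hx] at this
    exact Subtype.ext (sqNorm_eq_zero (by rw [← this]; simp [sqNorm]))
  have hs : Function.Surjective f := fun y => by
    have := ((fin_shell (sqNorm (y : ZV))).injOn_iff_bijOn_of_mapsTo (f := f) fun x hx => (hn x).trans hx).1 hi.injOn
    obtain ⟨x, -, e⟩ := this.surjOn (show y ∈ _ from rfl)
    exact ⟨x, e⟩
  exact ⟨⟨Equiv.ofBijective f ⟨hi, hs⟩, ha, hn⟩, fun _ => rfl⟩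

def IsMat (g : Co0) (A : ℕ → Rw) : Prop := ∀ (x : LL) p, 8 * ((g • x : LL) : ZV) p = dotInt (rv (A (idx p))) x

theorem IsMat.unique {g h : Co0} {A : ℕ → Rw} (a : IsMat g A) (b : IsMat h A) : g = h :=
  co_ext fun x => funext fun p => by have := a x p; have := b x p; omega

noncomputable def trn (A : ℕ → Rw) (p : ℕ) : Rw :=
  (mkrow 16 (fun j => dg 16 (A j).1 p) 24 0, mkrow 16 (fun j => dg 16 (A j).2 p) 24 0)

theorem rv_trn (A : ℕ → Rw) (p q : GolayPt) : rv (trn A (idx q)) p = rv (A (idx p)) q := by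
  simp only [rv, trn]
  rw [dg_mkrow (by norm_num) _ _ _ _ (idx_lt p), dg_mkrow (by norm_num) _ _ _ _ (idx_lt p), zero_add,
    Nat.mod_eq_of_lt (dg_lt (by norm_num) _ _), Nat.mod_eq_of_lt (dg_lt (by norm_num) _ _)]

noncomputable def matOk (A : ℕ → Rw) (T : ℕ → List ℕ) : Bool :=
  band (lmapC 50 12 GS 12 T A) (band (lsC 12 T) (lmapC 50 12 T 12 GS (trn A)))

theorem dot_zero (x : ZV) : dotInt x 0 = 0 := by simp [dotInt]

theorem exists_co {A : ℕ → Rw} {T : ℕ → List ℕ} (h : matOk A T = true) : ∃ g : Co0, IsMat g A := by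
  simp only [matOk, band_eq] at h
  have h1 := LMap.of_chk h.1
  have h3 := LMap.of_chk h.2.2
  let M : AddSubgroup ZV :=
    { carrier := {x | ∃ y, LS y ∧ (∀ p, 8 * y p = dotInt (rv (A (idx p))) x) ∧
        ∀ q, dotInt (rv (trn A (idx q))) y = 8 * x q}
      zero_mem' := ⟨0, LS.zero, fun p => by simp [dot_zero], fun q => by simp [dot_zero]⟩
      add_mem' := fun ⟨y, a1, a2, a3⟩ ⟨z, b1, b2, b3⟩ => ⟨y + z, a1.add b1,
        fun p => by rw [dot_add, ← a2, ← b2, Pi.add_apply]; ring, fun q => by rw [dot_add, a3, b3, Pi.add_apply]; ring⟩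
      neg_mem' := fun ⟨y, a1, a2, a3⟩ => ⟨-y, a1.neg, fun p => by rw [dot_neg, ← a2, Pi.neg_apply]; ring,
        fun q => by rw [dot_neg, a3, Pi.neg_apply]; ring⟩ }
  have hM : ∀ x : LL, (x : ZV) ∈ M := fun x => gen_GS (M := M)
    (fun i hi => ⟨vec 12 T i, ls_of h.2.1 i, fun p => (h1 i hi p).symm, fun q => h3 i hi q⟩) (mem_LL.1 x.2)
  choose f f1 f2 f3 using hM
  obtain ⟨g, hg⟩ := exists_co_of (fun x => ⟨f x, mem_LL.2 (f1 x)⟩) (fun x y => Subtype.ext (funext fun p => by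
      have a := f2 (x + y) p
      rw [AddSubgroup.coe_add, dot_add, ← f2, ← f2] at a
      show f (x + y) p = f x p + f y p
      omega)) fun x => by
    have : 8 * sqNorm (f x) = 8 * sqNorm (x : ZV) := by
      calc 8 * sqNorm (f x) = ∑ p, f x p * dotInt (rv (A (idx p))) x := by
            rw [sqNorm, mul_sum]; exact sum_congr rfl fun p _ => by rw [← f2]; ring
        _ = ∑ q, (x : ZV) q * dotInt (rv (trn A (idx q))) (f x) := by
            simp only [dotInt, mul_sum, rv_trn]; rw [sum_comm]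
            exact sum_congr rfl fun _ _ => sum_congr rfl fun _ _ => by ring
        _ = _ := by rw [sqNorm, mul_sum]; exact sum_congr rfl fun p _ => by rw [f3]; ring
    show sqNorm (f x) = _
    omega
  exact ⟨g, fun x p => by rw [hg]; exact f2 x p⟩

noncomputable def coM (A : ℕ → Rw) : Co0 := open Classical in if h : ∃ g, IsMat g A then h.choose else 1

theorem isMat_coM {A : ℕ → Rw} {T : ℕ → List ℕ} (h : matOk A T = true) : IsMat (coM A) A := by
  rw [coM, dif_pos (exists_co h)]; exact (exists_co h).choose_spec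

theorem dot_ee (p : GolayPt) (a : ℤ) (x : ZV) : dotInt (ee p a) x = a * x p := by simp [dotInt, ee]

theorem isMat_coP {σ : M24} {n : Net} (h : Rep 24 pt σ n) {A : ℕ → Rw}
    (hc : ∀ i < 24, ∀ q, rv (A (n.fnc i)) q = ee (pt i) 8 q) : IsMat (coP σ) A := fun x p => by
  have e := h.2 _ (idx_lt (σ⁻¹ • p))
  rw [pt_idx, smul_inv_smul] at e
  have e2 : idx p = n.fnc (idx (σ⁻¹ • p)) := by
    rw [Net.fnc_eq]; conv_lhs => rw [e]
    exact idx_pt _ ((h.1.lt _).2 (idx_lt _))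
  rw [coP_smul, e2, show rv _ = _ from funext (hc _ (idx_lt _)), dot_ee, pt_idx]

theorem isMat_coS {m : ℕ} (hm : fs m ∈ csets) {A : ℕ → Rw}
    (hc : ∀ p q, rv (A (idx p)) q = ee p (if m.testBit (idx p) then -8 else 8) q) : IsMat (coS _ hm) A := fun x p => by
  rw [coS_smul, show rv _ = _ from funext (hc p), dot_ee, sgn]
  simp only [mem_fs]; split_ifs <;> ring

theorem IsMat.smul_eq {g : Co0} {A : ℕ → Rw} (h : IsMat g A) {N o o' : ℕ} {S T : ℕ → List ℕ} (hm : LMap N o S o' T A)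
    (hS : lsC o S = true) {i : ℕ} (hi : i < N) : ((g • LX o S i : LL) : ZV) = vec o' T i := funext fun p => by
  have := h (LX o S i) p
  rw [coe_LX hS, hm i hi] at this; omega

noncomputable def lrepP (N o : ℕ) (S : ℕ → List ℕ) (A : ℕ → Rw) (n : Net) (p : ℕ) : Bool :=
  lmapP N o S o (fun p => lmap n.app (S p)) A p

theorem IsMat.rep {g : Co0} {A : ℕ → Rw} (h : IsMat g A) {N o : ℕ} {S : ℕ → List ℕ} (hS : lsC o S = true) {n : Net}
    (hn : n.Ok N) (hc : Rng (lrepP N o S A n) 0 24) : Rep N (LX o S) g n := ⟨hn, fun i hi => Subtype.ext (by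
  rw [h.smul_eq (LMap.of fun p hp => hc p (Nat.zero_le _) hp) hS hi, coe_LX hS]
  funext p; simp only [vec, sv_app hn])⟩

theorem IsMat.rep' {g : Co0} {A : ℕ → Rw} (h : IsMat g A) {N o : ℕ} {S : ℕ → List ℕ} (hS : lsC o S = true) {n : Net}
    (hc : band (n.ok N) (nall (lrepP N o S A n) 24) = true) : Rep N (LX o S) g n := by
  rw [band_eq, nall_eq] at hc
  exact h.rep hS (Net.ok_of hc.1) fun p _ hp => hc.2 p hp

noncomputable def injC (N : ℕ) (S : ℕ → List ℕ) (p : ℕ) : Bool :=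
  Nat.beq (lands (fun q => lands (fun a => agree N a p) (S q) (fullM N)) (nrange 24 0) (fullM N)) (Nat.pow 2 p)

theorem inj_of_injC {N o : ℕ} {S : ℕ → List ℕ} (hS : lsC o S = true) {p : ℕ} (h : injC N S p = true) :
    ∀ j < N, LX o S p = LX o S j → p = j := fun j hj e => by
  have e1 : vec o S p = vec o S j := by rw [← coe_LX hS, e, coe_LX hS]
  have : (Nat.pow 2 p).testBit j = true := by
    rw [← beq_eq.1 h, testBit_lands]
    refine ⟨testBit_fullM.2 hj, fun q hq => (testBit_lands _ _ _ _).2 ⟨testBit_fullM.2 hj, fun a ha => ?_⟩⟩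
    have hq : q < 24 := by simpa [nrange_eq] using hq
    have e2 := congrFun e1 (pt q)
    simp only [vec, idx_pt q hq] at e2
    exact testBit_agree hj (sv_agree (by omega) a ha)
  have h' : (2 ^ p).testBit j = true := this
  simpa [Nat.testBit_two_pow] using h'

theorem IsPre.leech {G : Type*} [Group G] [MulAction G LL] {N o : ℕ} {S : ℕ → List ℕ} {gens : ℕ → G} {nets : ℕ → Net}
    (h : IsPre N (LX o S) gens nets vT) (hS : lsC o S = true) {ws : List (List ℕ)} {r : ℕ} {l : List ℕ}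
    (hc : band (Nat.beq (reach nets ws r (mkM l)) (fullM N)) (lall (injC N S) l) = true) :
    IsModel N (LX o S) gens nets vT := by
  rw [band_eq, beq_eq, lall_eq] at hc
  refine h.isModel (wsok_iff.2 fun _ _ _ _ => rfl) hc.1 fun p _ hp => inj_of_injC hS (hc.2 p ?_)
  rwa [← tb_eq, tb_mkM] at hp

theorem IsPre.leechL {G : Type*} [Group G] [MulAction G LL] {N o : ℕ} {S : ℕ → List ℕ} {gens : ℕ → G} {nets : ℕ → Net}
    (h : IsPre N (LX o S) gens nets vT) (hS : lsC o S = true) {hl : List ℕ} {p : ℕ}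
    (hr : RchL nets hl (Nat.pow 2 p) (fullM N)) (hc : injC N S p = true) : IsModel N (LX o S) gens nets vT := by
  refine ⟨h, fun i hi j hj e => ?_⟩
  obtain ⟨w, -, h2⟩ := hr i (testBit_fullM.2 hi)
  have h3 : ∀ l ∈ w, vT l = true := fun _ _ => rfl
  have h4 : p = fnW nets w i := by
    have h' : (2 ^ p).testBit (fnW nets w i) = true := h2
    simpa [Nat.testBit_two_pow] using h'
  apply h.ok.fnW_inj h3
  rw [← h4]
  refine inj_of_injC hS hc _ ((h.ok.fnW_lt h3 j).2 hj) ?_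
  rw [h4, ← h.cmpW h3 hi, ← h.cmpW h3 hj, e]

/-! ### single vectors -/

noncomputable def rS (r : Rw) (p : ℕ) : List ℕ := cstL 1 5 (Nat.sub (Nat.add (dg 16 r.1 p) 16) (dg 16 r.2 p))

theorem vec_rS (r : Rw) : vec 16 (rS r) 0 = rv r := funext fun p => by
  have a := dg_lt (q := 16) (by norm_num) r.1 (idx p)
  have b := dg_lt (q := 16) (by norm_num) r.2 (idx p)
  have e : rS r (idx p) = cstL 1 5 (dg 16 r.1 (idx p) + 16 - dg 16 r.2 (idx p)) := rfl
  simp only [vec, rv]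
  rw [e, sv_cstL rfl (by omega)]; omega

noncomputable def memR (r : Rw) : Bool := lsC 16 (rS r)

theorem ls_rv {r : Rw} (h : memR r = true) : LS (rv r) := vec_rS r ▸ ls_of h 0
theorem coe_lv {r : Rw} (h : memR r = true) : (lv r : ZV) = rv r := coe_toL (ls_rv h)
theorem lv_eq (r : Rw) : lv r = LX 16 (rS r) 0 := by rw [LX, vec_rS, lv]

noncomputable def dotR (r s : Rw) (d : ℕ) : Bool :=
  band (Nat.ble d 1000) (dmK 1 16 (rS s) r (cstL 1 20 d) 128 fun m => Nat.beq m 1)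

theorem dot_of_dotR {r s : Rw} {d : ℕ} (h : dotR r s d = true) : dotInt (rv r) (rv s) + 128 = d := by
  rw [dotR, band_eq, ble_eq] at h
  obtain ⟨m, h1, h2⟩ := dmK_spec h.2
  have := (h1 0 (by norm_num)).1 (by rw [beq_eq.1 h2]; rfl)
  rwa [vec_rS, sv_cstL rfl (by omega)] at this

noncomputable def mapR (A : ℕ → Rw) (r s : Rw) : Bool := band (memR r) (lmapC 1 16 (rS r) 16 (rS s) A)

theorem IsMat.smul_lv {g : Co0} {A : ℕ → Rw} (h : IsMat g A) {r s : Rw} (hc : mapR A r s = true) : g • lv r = lv s := by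
  rw [mapR, band_eq] at hc
  have e := h.smul_eq (LMap.of_chk hc.2) hc.1 (i := 0) (by norm_num)
  rw [vec_rS, ← lv_eq] at e
  exact Subtype.ext (by rw [e, lv, coe_toL (e ▸ mem_LL.1 (g • lv r).2)])

noncomputable def ptR (o : ℕ) (S : ℕ → List ℕ) (i : ℕ) (r : Rw) : Bool :=
  nall (fun p => Nat.beq (Nat.add (svc (S p) i) (dg 16 r.2 p)) (Nat.add (dg 16 r.1 p) o)) 24

theorem LX_eq_lv {o : ℕ} {S : ℕ → List ℕ} {i : ℕ} {r : Rw} (h : ptR o S i r = true) : LX o S i = lv r := by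
  rw [LX, lv]; congr 1; funext p
  have : svc (S (idx p)) i + dg 16 r.2 (idx p) = dg 16 r.1 (idx p) + o := beq_eq.1 ((nall_eq _ _).1 h _ (idx_lt p))
  rw [vec_svc, rv]; omega

/-! ### stabilisers and inner product classes -/

def FixV (vs : List Rw) : Subgroup Co0 where
  carrier := {g | ∀ r ∈ vs, g • lv r = lv r}
  one_mem' := fun _ _ => one_smul _ _
  mul_mem' := fun ha hb r hr => by rw [mul_smul, hb r hr, ha r hr]
  inv_mem' := fun ha r hr => by rw [inv_smul_eq_iff, ha r hr]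

theorem mem_FixV {vs : List Rw} {g : Co0} : g ∈ FixV vs ↔ ∀ r ∈ vs, g • lv r = lv r := Iff.rfl
theorem FixV_nil : FixV [] = ⊤ := by ext g; simp [mem_FixV]
theorem FixV_cons (r : Rw) (vs : List Rw) : FixV (r :: vs) = FixV vs ⊓ stabilizer Co0 (lv r) := by
  ext g; simp [mem_FixV, and_comm]

theorem IsMat.fix {g : Co0} {A : ℕ → Rw} (h : IsMat g A) {vs : List Rw} (hc : lall (fun r => mapR A r r) vs = true) :
    g ∈ FixV vs := fun r hr => h.smul_lv ((lall_eq _ _).1 hc r hr)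

theorem lk_mem_sub {G : Type*} [Group G] {K : Subgroup G} {gl : List G} (h : ∀ g ∈ gl, g ∈ K) (l : ℕ) : lk 1 gl l ∈ K := by
  rcases lk_mem 1 gl l with e | e
  · rw [e]; exact K.one_mem
  · exact h _ e

def Cls (cs : List (Rw × ℕ)) : Set LL :=
  {x | sqNorm (x : ZV) = 32 ∧ ∀ c ∈ cs, dotInt (rv c.1) x + 128 = c.2}

theorem cls_smul {cs : List (Rw × ℕ)} (hm : lall memR (lmap Prod.fst cs) = true) {g : Co0}
    (hg : g ∈ FixV (lmap Prod.fst cs)) {x : LL} (hx : x ∈ Cls cs) : g • x ∈ Cls cs :=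
  ⟨(co_norm g x).trans hx.1, fun c hc => by
    have hc' : c.1 ∈ lmap Prod.fst cs := by rw [lmap_eq]; exact List.mem_map_of_mem hc
    have m := (lall_eq _ _).1 hm _ hc'
    rw [← hx.2 c hc, ← coe_lv m, ← co_dot g (lv c.1) x, hg _ hc']⟩

noncomputable def inC (r : Rw) (cs : List (Rw × ℕ)) : Bool :=
  band (memR r) (band (dotR r r 160) (band (lall memR (lmap Prod.fst cs)) (lall (fun c => dotR c.1 r c.2) cs)))

theorem mem_cls {r : Rw} {cs : List (Rw × ℕ)} (h : inC r cs = true) : lv r ∈ Cls cs := by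
  simp only [inC, band_eq, lall_eq] at h
  refine ⟨?_, fun c hc => by rw [coe_lv h.1]; exact dot_of_dotR (h.2.2.2 c hc)⟩
  have := dot_of_dotR h.2.1
  rw [dot_self] at this; rw [coe_lv h.1]; omega

theorem orbit_sub_cls {r : Rw} {cs : List (Rw × ℕ)} (h : inC r cs = true) :
    orbit (FixV (lmap Prod.fst cs)) (lv r) ⊆ Cls cs := fun _ ⟨g, e⟩ => by
  have h' := h
  simp only [inC, band_eq] at h'
  exact e ▸ cls_smul h'.2.2.1 g.2 (mem_cls h)

theorem fin_cls (cs : List (Rw × ℕ)) : (Cls cs).Finite := (fin_shell 32).subset fun _ h => h.1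

theorem ub_step {r : Rw} {cs : List (Rw × ℕ)} {n B : ℕ} (hB : Nat.card (FixV (r :: lmap Prod.fst cs)) ≤ B)
    (hn : (Cls cs).ncard = n) (h : inC r cs = true) : Nat.card (FixV (lmap Prod.fst cs)) ≤ n * B := by
  rw [card_eq_ncard_orbit_mul _ (lv r), ← FixV_cons]
  exact Nat.mul_le_mul (hn ▸ Set.ncard_le_ncard (orbit_sub_cls h) (fin_cls _)) hB

theorem orbit_eq_cls {r : Rw} {cs : List (Rw × ℕ)} {n : ℕ} (hn : (Cls cs).ncard = n) (h : inC r cs = true)
    {K : Subgroup Co0} (hK : K ≤ FixV (lmap Prod.fst cs)) (ho : n ≤ (orbit K (lv r)).ncard) :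
    orbit K (lv r) = Cls cs ∧ orbit (FixV (lmap Prod.fst cs)) (lv r) = Cls cs := by
  have a : orbit K (lv r) ⊆ orbit (FixV (lmap Prod.fst cs)) (lv r) := fun _ ⟨g, e⟩ => ⟨⟨g, hK g.2⟩, e⟩
  have b := Set.eq_of_subset_of_ncard_le (a.trans (orbit_sub_cls h)) (hn ▸ ho) (fin_cls _)
  exact ⟨b, (orbit_sub_cls h).antisymm (b ▸ a)⟩

noncomputable def lcn (cs : List ℤ) : List Rw → ℕ → ℤ :=
  List.rec (motive := fun _ => List Rw → ℕ → ℤ) (fun _ _ => 0) (fun c _ ih vs j => List.rec (motive := fun _ => ℤ) 0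
    (fun r vs _ => c * ((dg 16 r.1 j : ℤ) - dg 16 r.2 j) + ih vs j) vs) cs

theorem lcn_fix {vs : List Rw} (hm : ∀ r ∈ vs, memR r = true) {g : Co0} (hg : g ∈ FixV vs) (cs : List ℤ) :
    ∃ y : LL, g • y = y ∧ ∀ p, (y : ZV) p = lcn cs vs (idx p) := by
  induction cs generalizing vs with
  | nil => exact ⟨0, co_zero g, fun _ => rfl⟩
  | cons c cs ih =>
    cases vs with
    | nil => exact ⟨0, co_zero g, fun _ => rfl⟩
    | cons r vs =>
      obtain ⟨y, h1, h2⟩ := ih (fun s hs => hm s (List.mem_cons_of_mem _ hs)) fun s hs => hg s (List.mem_cons_of_mem _ hs)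
      refine ⟨c • lv r + y, ?_, fun p => ?_⟩
      · rw [co_add, h1, show g • (c • lv r) = c • (g • lv r) from map_zsmul (coHom g) c _, hg r List.mem_cons_self]
      · rw [AddSubgroup.coe_add, AddSubgroup.coe_zsmul, Pi.add_apply, h2, Pi.smul_apply, coe_lv (hm r List.mem_cons_self)]; rfl

theorem fixV_bot {vs : List Rw} (hm : lall memR vs = true) {C : List (List ℤ)} {d : ℤ} (hd : d ≠ 0)
    (hc : ∀ p < 24, ∀ q < 24, lcn (lk [] C p) vs q = if q = p then d else 0) : Nat.card (FixV vs) ≤ 1 := by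
  refine Subgroup.card_le_one_iff_eq_bot _ |>.2 ((Subgroup.eq_bot_iff_forall _).2 fun g hg => co_ext fun x => ?_)
  choose y y1 y2 using fun p : GolayPt => lcn_fix ((lall_eq _ _).1 hm) hg (lk [] C (idx p))
  have e : d • x = ∑ p, (x : ZV) p • y p := Subtype.ext (funext fun q => by
    rw [AddSubmonoidClass.coe_finset_sum, Finset.sum_apply, sum_eq_single q]
    · rw [AddSubgroup.coe_zsmul, AddSubgroup.coe_zsmul, Pi.smul_apply, Pi.smul_apply, y2, hc _ (idx_lt q) _ (idx_lt q), if_pos rfl]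
      exact mul_comm _ _
    · intro p _ hp
      rw [AddSubgroup.coe_zsmul, Pi.smul_apply, y2, hc _ (idx_lt p) _ (idx_lt q), if_neg fun c => hp (idx_inj c).symm, smul_zero]
    · simp)
  have e2 : d • (g • x) = d • x := by
    rw [← show g • (d • x) = d • (g • x) from map_zsmul (coHom g) d x, e]
    exact (map_sum (coHom g) _ _).trans (sum_congr rfl fun p _ => (map_zsmul (coHom g) _ _).trans (congrArg _ (y1 p)))
  funext q
  have := congrFun (congrArg Subtype.val e2) q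
  rw [one_smul]
  exact mul_left_cancel₀ hd this

noncomputable def clsK (N o : ℕ) (S : ℕ → List ℕ) (cs : List (Rw × ℕ)) : ℕ → (ℕ → Bool) → Bool :=
  List.rec (motive := fun _ => ℕ → (ℕ → Bool) → Bool) (fun m k => k m)
    (fun c _ ih m k => band (Nat.ble c.2 1000) (dmK N o S c.1 (cstL (fullM N) 20 c.2) 128 fun m' =>
      seq (Nat.land m m') fun m2 => ih m2 k)) cs

theorem clsK_spec {N o : ℕ} {S : ℕ → List ℕ} {cs : List (Rw × ℕ)} {m : ℕ} {k : ℕ → Bool} (h : clsK N o S cs m k = true) :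
    ∃ M, (∀ i < N, M.testBit i = true ↔ m.testBit i = true ∧ ∀ c ∈ cs, dotInt (rv c.1) (vec o S i) + 128 = c.2) ∧
      k M = true := by
  induction cs generalizing m with
  | nil => exact ⟨m, by simp, h⟩
  | cons c cs ih =>
    have h' : band (Nat.ble c.2 1000) (dmK N o S c.1 (cstL (fullM N) 20 c.2) 128 fun m' =>
      seq (Nat.land m m') fun m2 => clsK N o S cs m2 k) = true := h
    rw [band_eq, ble_eq] at h'
    obtain ⟨m', a1, a2⟩ := dmK_spec h'.2
    rw [seq_eq] at a2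
    obtain ⟨M, b1, b2⟩ := ih a2
    refine ⟨M, fun i hi => ?_, b2⟩
    rw [b1 i hi, show Nat.land m m' = m &&& m' from rfl, Nat.testBit_and, Bool.and_eq_true, a1 i hi,
      sv_cstL (testBit_fullM.2 hi) (by omega), List.forall_mem_cons, and_assoc]
    rfl

/-- the model lists all the minimal vectors -/
structure Big (N o : ℕ) (S : ℕ → List ℕ) : Prop where
  ls : lsC o S = true
  inj : ∀ i < N, ∀ j < N, LX o S i = LX o S j → i = j
  all : rng N (LX o S) = {x : LL | sqNorm (x : ZV) = 32}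

theorem Big.pts_cls {N o : ℕ} {S : ℕ → List ℕ} (h : Big N o S) {cs : List (Rw × ℕ)} {k : ℕ → Bool}
    (hc : clsK N o S cs (fullM N) k = true) : ∃ M, pts N (LX o S) M = Cls cs ∧ k M = true := by
  obtain ⟨M, h1, h2⟩ := clsK_spec hc
  refine ⟨M, Set.ext fun x => ⟨?_, fun hx => ?_⟩, h2⟩
  · rintro ⟨i, a, b, rfl⟩
    exact ⟨h.all.subset ⟨i, a, rfl⟩, by rw [coe_LX h.ls]; exact ((h1 i a).1 b).2⟩
  · obtain ⟨i, a, rfl⟩ := h.all.superset hx.1
    exact ⟨i, a, (h1 i a).2 ⟨testBit_fullM.2 a, by rw [← coe_LX h.ls]; exact hx.2⟩, rfl⟩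

theorem Big.ncard_cls {N o : ℕ} {S : ℕ → List ℕ} (h : Big N o S) {cs : List (Rw × ℕ)} {k n : ℕ}
    (hc : clsK N o S cs (fullM N) (fun M => popIs N k M n) = true) : (Cls cs).ncard = n := by
  obtain ⟨M, h1, h2⟩ := h.pts_cls hc
  rw [← h1, pts_eq_image, Set.InjOn.ncard_image, Set.ncard_coe_finset, card_of_popIs h2]
  exact fun i hi j hj e => h.inj i (mem_bits.1 hi).1 j (mem_bits.1 hj).1 e

end Cfsg.Agent.H6
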