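import Cfsg.Agent.H6.LeE1
set_option maxRecDepth 100000
set_option Elab.async false
namespace Cfsg.Agent.H6.Le
open Cfsg.Agent.H6
universe u

noncomputable def bAa : ℕ → Rw := lk (0, 0) [((nat_lit 0x80000000000000000000000),(nat_lit 0)),((nat_lit 8),(nat_lit 0)),((nat_lit 128),(nat_lit 0)),((nat_lit 2048),(nat_lit 0)),((nat_lit 32768),(nat_lit 0)),((nat_lit 0x80000),(nat_lit 0)),((nat_lit 0x800000),(nat_lit 0)),((nat_lit 0x8000000),(nat_lit 0)),((nat_lit 0x80000000),(nat_lit 0)),((nat_lit 0x800000000),(nat_lit 0)),((nat_lit 0x8000000000),(nat_lit 0)),((nat_lit 0x80000000000),(nat_lit 0)),((nat_lit 0x800000000000),(nat_lit 0)),((nat_lit 0x8000000000000),(nat_lit 0)),((nat_lit 0x80000000000000),(nat_lit 0)),((nat_lit 0x800000000000000),(nat_lit 0)),((nat_lit 0x8000000000000000),(nat_lit 0)),((nat_lit 0x80000000000000000),(nat_lit 0)),((nat_lit 0x800000000000000000),(nat_lit 0)),((nat_lit 0x8000000000000000000),(nat_lit 0)),((nat_lit 0x80000000000000000000),(nat_lit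 0)),((nat_lit 0x800000000000000000000),(nat_lit 0)),((nat_lit 0x8000000000000000000000),(nat_lit 0)),((nat_lit 0x800000000000000000000000),(nat_lit 0))]
noncomputable def bAg : ℕ → Rw := lk (0, 0) [((nat_lit 0x800000000000000000000000),(nat_lit 0)),((nat_lit 0x80000000000000000000000),(nat_lit 0)),((nat_lit 0x800000000000),(nat_lit 0)),((nat_lit 0x8000000000000000),(nat_lit 0)),((nat_lit 0x800000000000000000),(nat_lit 0)),((nat_lit 0x8000000000),(nat_lit 0)),((nat_lit 0x80000000000000000000),(nat_lit 0)),((nat_lit 0x80000000000000),(nat_lit 0)),((nat_lit 0x800000000000000000000),(nat_lit 0)),((nat_lit 0x800000),(nat_lit 0)),((nat_lit 0x80000000000000000),(nat_lit 0)),((nat_lit 2048),(nat_lit 0)),((nat_lit 0x8000000000000000000000),(nat_lit 0)),((nat_lit 0x80000000),(nat_lit 0)),((nat_lit 0x8000000000000000000),(nat_lit 0)),((nat_lit 32768),(nat_lit 0)),((nat_lit 0x80000000000),(nat_lit 0)),((nat_lit 0x80000),(nat_lit 0)),((nat_lit 0x800000000000000),(nat_lit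 0)),((nat_lit 0x8000000),(nat_lit 0)),((nat_lit 0x800000000),(nat_lit 0)),((nat_lit 0x8000000000000),(nat_lit 0)),((nat_lit 128),(nat_lit 0)),((nat_lit 8),(nat_lit 0))]
noncomputable def bAd : ℕ → Rw := lk (0, 0) [((nat_lit 8),(nat_lit 0)),((nat_lit 0x8000000),(nat_lit 0)),((nat_lit 0x80000),(nat_lit 0)),((nat_lit 32768),(nat_lit 0)),((nat_lit 0x8000000000000000000),(nat_lit 0)),((nat_lit 0x80000000),(nat_lit 0)),((nat_lit 2048),(nat_lit 0)),((nat_lit 0x80000000000),(nat_lit 0)),((nat_lit 0x8000000000000),(nat_lit 0)),((nat_lit 0x80000000000000),(nat_lit 0)),((nat_lit 0x800000000000000000000),(nat_lit 0)),((nat_lit 0x800000000000000000),(nat_lit 0)),((nat_lit 0x8000000000),(nat_lit 0)),((nat_lit 0x80000000000000000),(nat_lit 0)),((nat_lit 0x80000000000000000000000),(nat_lit 0)),((nat_lit 0x8000000000000000),(nat_lit 0)),((nat_lit 0x800000000),(nat_lit 0)),((nat_lit 0x800000000000000),(nat_lit 0)),((nat_lit 128),(nat_lit 0)),((nat_lit 0x800000000000),(nat_lit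 0)),((nat_lit 0x8000000000000000000000),(nat_lit 0)),((nat_lit 0x800000),(nat_lit 0)),((nat_lit 0x80000000000000000000),(nat_lit 0)),((nat_lit 0x800000000000000000000000),(nat_lit 0))]
noncomputable def bAe : ℕ → Rw := lk (0, 0) [((nat_lit 0),(nat_lit 8)),((nat_lit 0),(nat_lit 128)),((nat_lit 0),(nat_lit 2048)),((nat_lit 0),(nat_lit 32768)),((nat_lit 0),(nat_lit 0x80000)),((nat_lit 0x800000),(nat_lit 0)),((nat_lit 0),(nat_lit 0x8000000)),((nat_lit 0x80000000),(nat_lit 0)),((nat_lit 0),(nat_lit 0x800000000)),((nat_lit 0),(nat_lit 0x8000000000)),((nat_lit 0x80000000000),(nat_lit 0)),((nat_lit 0x800000000000),(nat_lit 0)),((nat_lit 0),(nat_lit 0x8000000000000)),((nat_lit 0),(nat_lit 0x80000000000000)),((nat_lit 0x800000000000000),(nat_lit 0)),((nat_lit 0x8000000000000000),(nat_lit 0)),((nat_lit 0),(nat_lit 0x80000000000000000)),((nat_lit 0x800000000000000000),(nat_lit 0)),((nat_lit 0),(nat_lit 0x8000000000000000000)),((nat_lit 0x80000000000000000000),(nat_lit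 0)),((nat_lit 0x800000000000000000000),(nat_lit 0)),((nat_lit 0x8000000000000000000000),(nat_lit 0)),((nat_lit 0x80000000000000000000000),(nat_lit 0)),((nat_lit 0x800000000000000000000000),(nat_lit 0))]
noncomputable def bAx : ℕ → Rw := lk (0, 0) [((nat_lit 0x400000000000000000000404),(nat_lit 64)),((nat_lit 0x400000000000000000000440),(nat_lit 4)),((nat_lit 1092),(nat_lit 0x400000000000000000000000)),((nat_lit 16384),(nat_lit 0x400400000000400000)),((nat_lit 0x40000000000000000),(nat_lit 0x40000000040000000040000)),((nat_lit 0x400000),(nat_lit 0x400400000000004000)),((nat_lit 0x4000000),(nat_lit 0x4040000000000040000000)),((nat_lit 0x40000000),(nat_lit 0x4040000000000004000000)),((nat_lit 0x4000004000400000000),(nat_lit 0x400000000000)),((nat_lit 0x400004000004000000000),(nat_lit 0x40000000000)),((nat_lit 0x400004000040000000000),(nat_lit 0x4000000000)),((nat_lit 0x4000004400000000000),(nat_lit 0x400000000)),((nat_lit 0x4400400000000),(nat_lit 0x4000000000000000000)),((nat_lit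 0x40000000000000000000000),(nat_lit 0x40040000000040000)),((nat_lit 0x400000000000000),(nat_lit 0x400000000000404000)),((nat_lit 0x4000044000000000),(nat_lit 0x400000000000000000000)),((nat_lit 0x40000),(nat_lit 0x40000040040000000000000)),((nat_lit 0x400000000000000000),(nat_lit 0x400000000404000)),((nat_lit 0x4000000400400000000),(nat_lit 0x4000000000000)),((nat_lit 0x40000000000000000000),(nat_lit 0x4000000000000044000000)),((nat_lit 0x400000000044000000000),(nat_lit 0x4000000000000000)),((nat_lit 0x4000000000000000000000),(nat_lit 0x40000000000044000000)),((nat_lit 0x40000000000000),(nat_lit 0x40000040000000000040000)),((nat_lit 0x400000000000000000000044),(nat_lit 1024))]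
theorem bAxm : IsMat (coM bAx) bAx := isMat_coM (T := lk [] [[(nat_lit 0x2000000646765),(nat_lit 0x27ffff88e01c0),(nat_lit 0x800005fbfebf),(nat_lit 0x2ffffffffffff),(nat_lit 0x1000000000000)],[(nat_lit 0x2000000646765),(nat_lit 0x27ffff8815422),(nat_lit 0x800006ffbbdf),(nat_lit 0x2ffffffffffff),(nat_lit 0x1000000000000)],[(nat_lit 0x2000000646765),(nat_lit 0x27ffff8fb9883),(nat_lit 0x2fffff8ffffff),(nat_lit 0x3fffff8ffffff),(nat_lit 0x7000000)],[(nat_lit 0x2000000646765),(nat_lit 0x2024028e9ff56),(nat_lit 0x1fdbfdf160089),(nat_lit 0x3ffffffffffff)],[(nat_lit 0x2000000646765),(nat_lit 0x2412010f86c77),(nat_lit 0x1bfdfef039188),(nat_lit 0x3ffffffffffff)],[(nat_lit 0x2000000646765),(nat_lit 0x2024028e60e67),(nat_lit 0x1fdbff7199098),(nat_lit 0x3ffffffffffff)],[(nat_lit 0x2000000646765),(nat_lit 0x22800c0eaf7ea),(nat_lit 0x1d7ff7f110815),(nat_lit 0x3ffffffffffff)],[(nat_lit 0x2000000646765),(nat_lit 0x22800c0bf8f6d),(nat_lit 0x1d7ffbf405092),(nat_lit 0x3ffffffffffff)],[(nat_lit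 0x2000000646765),(nat_lit 0x41900aa9051),(nat_lit 0x3fff7ffdfffff),(nat_lit 0x3ffffffffffff)],[(nat_lit 0x2000000646765),(nat_lit 0x108600b95c88),(nat_lit 0x3fffbffdffbff),(nat_lit 0x3ffffffffffff)],[(nat_lit 0x2000000646765),(nat_lit 0x1086009298b5),(nat_lit 0x3fffdffffffde),(nat_lit 0x3ffffffffffff)],[(nat_lit 0x2000000646765),(nat_lit 0x41900833e08),(nat_lit 0x3fffeffffdfff),(nat_lit 0x3ffffffffffff)],[(nat_lit 0x2000000646765),(nat_lit 0x41900c84998),(nat_lit 0x3fbffffffbfff),(nat_lit 0x3ffffffffffff)],[(nat_lit 0x2000000646765),(nat_lit 0x2412010a4ffbe),(nat_lit 0x1fedfef5b0040),(nat_lit 0x3ffffffffffff)],[(nat_lit 0x2000000646765),(nat_lit 0x202402897e73f),(nat_lit 0x1fdffd72818c0),(nat_lit 0x3ffffffffffff)],[(nat_lit 0x2000000646765),(nat_lit 0x1086009482ca),(nat_lit 0x3effffffbffff),(nat_lit 0x3ffffffffffff)],[(nat_lit 0x2000000646765),(nat_lit 0x2412010f553f1),(nat_lit 0x1bedfff0a880e),(nat_lit 0x3ffffffffffff)],[(nat_lit 0x2000000646765),(nat_lit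 0x2024028fc716b),(nat_lit 0x1ffbfd7038a90),(nat_lit 0x3ffffffffffff)],[(nat_lit 0x2000000646765),(nat_lit 0x419008580a4),(nat_lit 0x3ffefffffffff),(nat_lit 0x3ffffffffffff)],[(nat_lit 0x2000000646765),(nat_lit 0x22800c0d6735d),(nat_lit 0x1dfff3f098c82),(nat_lit 0x3ffffffffffff)],[(nat_lit 0x2000000646765),(nat_lit 0x108600db2192),(nat_lit 0x3ff7fffbfdfff),(nat_lit 0x3ffffffffffff)],[(nat_lit 0x2000000646765),(nat_lit 0x22800c0e76cbf),(nat_lit 0x1f7ff3f189300),(nat_lit 0x3ffffffffffff)],[(nat_lit 0x2000000646765),(nat_lit 0x2412010cda75d),(nat_lit 0x1beffef1218a2),(nat_lit 0x3ffffffffffff)],[(nat_lit 0x2000000646765),(nat_lit 0x27ffff890aa04),(nat_lit 0x800003ffddfb),(nat_lit 0x2ffffffffffff),(nat_lit 0x1000000000000)]]) (by decide +kernel)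
theorem bAam : IsMat (coP (mg 0)) bAa := isMat_coP (mP.toIsPre.rep (l := 0) rfl) (by decide +kernel)
theorem bAgm : IsMat (coP (mg 2)) bAg := isMat_coP (mP.toIsPre.rep (l := 2) rfl) (by decide +kernel)
theorem bAdm : IsMat (coP (mg 3)) bAd := isMat_coP (mP.toIsPre.rep (l := 3) rfl) (by decide +kernel)
theorem bAem : IsMat (coS d0 d0_mem.1) bAe := isMat_coS (m := 0x5335f) d0_mem.1 (by decide +kernel)

end Cfsg.Agent.H6.Le
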