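import Cfsg.Agent.H6.LeE3
import Cfsg.Agent.H6.LeE4
import Cfsg.Agent.H6.LeE5
set_option maxRecDepth 100000
set_option Elab.async false
namespace Cfsg.Agent.H6.Le
open Cfsg.Agent.H6
universe u

noncomputable def bg : ℕ → Co0 := lk 1 [coP (mg 0), (coP (mg 0))⁻¹, coP (mg 2), coP (mg 3), (coP (mg 3))⁻¹, coS d0 d0_mem.1, coM bAx]
noncomputable abbrev bn : ℕ → Net := lk Net.nil [bna, bna.rev, bng, bnd, bnd.rev, bne, bnx]
theorem bpre : IsPre 196560 (LX 4 BS) bg bn vT := IsPre.ofLists (.cons bnarep (.cons bnarep.inv (.cons bngrep (.cons bndrep (.cons bndrep.inv (.cons bnerep (.cons bnxrep .nil)))))))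
theorem bnok : NetsOk 196560 bn vT := bpre.ok
theorem rc2 : RchL bn [0,1,2,3,4,5,6] (Nat.pow 2 0) (fullM 196560) := RchL.step RchL.refl bnok (ws := [[0],[0],[2],[3],[6],[0],[5],[2],[6],[0],[3],[5],[0],[6],[2],[3],[0],[6],[5],[3],[0],[2],[6],[3],[0]]) (by decide +kernel)
theorem brch : RchL bn [0,1,2,3,4,5,6] (Nat.pow 2 0) (fullM 196560) := rc2
theorem bmod : IsModel 196560 (LX 4 BS) bg bn vT := bpre.leechL BSls brch (by decide +kernel)
theorem bpt0 : LX 4 BS 192464 = lv ((nat_lit 0x11111111111111111111111),(nat_lit 0x300000000000000000000000)) := LX_eq_lv (by decide +kernel)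
theorem bpt1 : LX 4 BS 5712 = lv ((nat_lit 0x200000200200000000202222),(nat_lit 0)) := LX_eq_lv (by decide +kernel)
theorem bpt2 : LX 4 BS 0 = lv ((nat_lit 0x400000000000000000000004),(nat_lit 0)) := LX_eq_lv (by decide +kernel)
theorem bpt3 : LX 4 BS 90 = lv ((nat_lit 0x400000000000000000000000),(nat_lit 4)) := LX_eq_lv (by decide +kernel)
theorem bpt4 : LX 4 BS 89 = lv ((nat_lit 4),(nat_lit 0x400000000000000000000000)) := LX_eq_lv (by decide +kernel)
theorem bpt5 : LX 4 BS 91 = lv ((nat_lit 0),(nat_lit 0x400000000000000000000004)) := LX_eq_lv (by decide +kernel)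

end Cfsg.Agent.H6.Le
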