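/- The minimal vectors of the Leech lattice form one orbit. -/
import Cfsg.Agent.H6.LeE6

namespace Cfsg.Agent.H6.Le
open MulAction Pointwise Finset

abbrev rU : Rw := ((nat_lit 0x400000000000000000000004),(nat_lit 0))
abbrev rU1 : Rw := ((nat_lit 0x400000000000000000000000),(nat_lit 4))
abbrev rV : Rw := ((nat_lit 0),(nat_lit 0x511111111111111111111111))
abbrev rW : Rw := ((nat_lit 0x111111111111111111111110),(nat_lit 3))
abbrev rV2 : Rw := ((nat_lit 0x111111111111111111111115),(nat_lit 0))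
abbrev rN : Rw := ((nat_lit 0),(nat_lit 0x400000000000000000000004))
abbrev rE : Rw := ((nat_lit 0x800000000000000000000000),(nat_lit 0))

theorem orb_big : orbit (cl bg (lw [0,1,2,3,4,5,6])) (LX 4 BS 0) = rng 196560 (LX 4 BS) :=
  bpre.orbit_of_full (by norm_num) brch

theorem eq_lv {x : LL} {r : Rw} (h : (x : ZV) = rv r) : x = lv r :=
  Subtype.ext (by rw [h, lv, coe_toL (h ▸ mem_LL.1 x.2)])

theorem big : Big 196560 4 BS := by
  refine ⟨BSls, bmod.inj, Set.ext fun x => ⟨fun h => ?_, fun h => ?_⟩⟩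
  · rw [← orb_big] at h
    obtain ⟨g, rfl⟩ := h
    refine (co_norm g _).trans ?_
    rw [bpt2]; exact (mem_cls (cs := []) (by decide +kernel)).1
  · set K := cl bg (lw [0,1,2,3,4,5,6])
    have m : ∀ l ∈ [0,1,2,3,4,5,6], bg l ∈ K := fun l hl => by
      simpa using wp_mem_cl (gens := bg) (ws := lw [0,1,2,3,4,5,6]) (w := [l]) (by rw [lw_eq]; exact List.mem_map_of_mem hl)
    have h1 : ∀ σ, coP σ ∈ K := fun σ => by
      have : K.comap coP = ⊤ := eq_top_of_letters (m 0 (by simp)) (m 2 (by simp)) (m 3 (by simp))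
      exact (this ▸ Subgroup.mem_top σ : σ ∈ K.comap coP)
    obtain ⟨g, hg, e⟩ := min_std h1 (coS_mem h1 (m 5 (by simp))) x h
    have : g • x ∈ rng 196560 (LX 4 BS) := by
      simp only [List.mem_cons, List.not_mem_nil, or_false] at e
      rcases e with e | e | e | e | e | e
      · exact ⟨_, by norm_num, bpt0.trans (eq_lv (e.trans (by funext p; revert p; decide +kernel))).symm⟩
      · exact ⟨_, by norm_num, bpt1.trans (eq_lv (e.trans (by
          funext p; simp only [ind, o0, mem_fs]; revert p; decide +kernel))).symm⟩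
      · exact ⟨_, by norm_num, bpt2.trans (eq_lv (e.trans (by funext p; revert p; decide +kernel))).symm⟩
      · exact ⟨_, by norm_num, bpt3.trans (eq_lv (e.trans (by funext p; revert p; decide +kernel))).symm⟩
      · exact ⟨_, by norm_num, bpt4.trans (eq_lv (e.trans (by funext p; revert p; decide +kernel))).symm⟩
      · exact ⟨_, by norm_num, bpt5.trans (eq_lv (e.trans (by funext p; revert p; decide +kernel))).symm⟩
    rw [← orb_big] at this ⊢
    obtain ⟨k, hk⟩ := this
    exact ⟨⟨g, hg⟩⁻¹ * k, by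
      show (g⁻¹ * (k : Co0)) • _ = x
      rw [mul_smul, show (k : Co0) • _ = g • x from hk, inv_smul_smul]⟩

theorem cls_nil : Cls [] = {x : LL | sqNorm (x : ZV) = 32} := by ext x; simp [Cls]

theorem orbU : orbit Co0 (lv rU) = {x : LL | sqNorm (x : ZV) = 32} := by
  refine Set.Subset.antisymm ?_ fun x hx => ?_
  · rintro _ ⟨g, rfl⟩
    exact (co_norm g _).trans (mem_cls (cs := []) (by decide +kernel)).1
  · rw [← big.all, ← orb_big, bpt2] at hx
    obtain ⟨k, hk⟩ := hx
    exact ⟨k, hk⟩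

theorem n32 : {x : LL | sqNorm (x : ZV) = 32}.ncard = 196560 := by rw [← big.all, bmod.ncard_rng]

theorem lvU : lv rU = Spor.leechU := (eq_lv (by funext p; revert p; decide +kernel)).symm
theorem lvU1 : lv rU1 = Spor.leechU' := (eq_lv (by funext p; revert p; decide +kernel)).symm
theorem lvV : lv rV = Spor.leechV := (eq_lv (by funext p; revert p; decide +kernel)).symm

theorem lv_add {r s t : Rw} (h : band (memR r) (memR s) = true) (e : ∀ p, rv r p + rv s p = rv t p) : lv r + lv s = lv t := by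
  rw [band_eq] at h
  exact eq_lv (by rw [AddSubgroup.coe_add, coe_lv h.1, coe_lv h.2]; exact funext e)

theorem lv_neg {r t : Rw} (h : memR r = true) (e : ∀ p, -rv r p = rv t p) : -lv r = lv t :=
  eq_lv (by rw [AddSubgroup.coe_neg, coe_lv h]; exact funext e)

theorem lvN : -lv rU = lv rN := lv_neg (by decide +kernel) (by decide +kernel)
theorem lvW : lv rU + lv rV = -lv rW := by
  rw [lv_neg (r := rW) (t := (rW.2, rW.1)) (by decide +kernel) (by decide +kernel)]
  exact lv_add (by decide +kernel) (by decide +kernel)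
theorem lvV2 : lv rV + lv rU1 = -lv rV2 := by
  rw [lv_neg (r := rV2) (t := (rV2.2, rV2.1)) (by decide +kernel) (by decide +kernel)]
  exact lv_add (by decide +kernel) (by decide +kernel)
theorem lvE : lv rU + lv rU1 = lv rE := lv_add (by decide +kernel) (by decide +kernel)

theorem ncard_coe (P : ZV → Prop) : {x | x ∈ leechLattice ∧ P x}.ncard = {x : LL | P x}.ncard := by
  rw [← Set.ncard_image_of_injective {x : LL | P x} Subtype.val_injective]
  congr 1; ext x; exact ⟨fun ⟨a, b⟩ => ⟨⟨x, a⟩, b, rfl⟩, fun ⟨y, a, b⟩ => b ▸ ⟨y.2, a⟩⟩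

theorem ncard_tr (g : Co0) {P Q : LL → Prop} (h : ∀ x, P (g • x) ↔ Q x) : {x | P x}.ncard = {x | Q x}.ncard := by
  rw [← Set.ncard_smul_set g {x | Q x}]
  congr 1; ext x
  rw [Set.mem_smul_set_iff_inv_smul_mem, Set.mem_setOf_eq, Set.mem_setOf_eq, ← h, smul_inv_smul]

theorem fix_neg {g : Co0} {x : LL} : g • (-x) = -x ↔ g • x = x := by rw [co_neg, neg_inj]

/-- the subgroup of permutations of the lattice -/
noncomputable def eqvSpor {K : Subgroup Co0} {S : Subgroup (Equiv.Perm LL)} (h1 : S ≤ Co0)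
    (h : ∀ g : Co0, g ∈ K ↔ (g : Equiv.Perm LL) ∈ S) : K ≃* S := subEquiv h1 h

noncomputable def eCo2 : FixV [rU] ≃* Spor.Co2 := subEquiv inf_le_left fun g => by
  simp only [mem_FixV, List.forall_mem_singleton, lvU]; exact ⟨fun h => ⟨g.2, h⟩, fun h => h.2⟩
noncomputable def eCo3 : FixV [rV] ≃* Spor.Co3 := subEquiv inf_le_left fun g => by
  simp only [mem_FixV, List.forall_mem_singleton, lvV]; exact ⟨fun h => ⟨g.2, h⟩, fun h => h.2⟩
noncomputable def eMcL : FixV [rU, rV] ≃* Spor.McL := subEquiv (inf_le_left.trans inf_le_left) fun g => by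
  simp only [mem_FixV, List.forall_mem_cons, List.not_mem_nil, lvV, lvU]
  exact ⟨fun h => ⟨⟨g.2, h.2.1⟩, h.1⟩, fun h => ⟨h.2, h.1.2, by simp⟩⟩
noncomputable def eHS : FixV [rU1, rV] ≃* Spor.HS := subEquiv (inf_le_left.trans inf_le_left) fun g => by
  simp only [mem_FixV, List.forall_mem_cons, List.not_mem_nil, lvV, lvU1]
  exact ⟨fun h => ⟨⟨g.2, h.2.1⟩, h.1⟩, fun h => ⟨h.2, h.1.2, by simp⟩⟩

theorem fixV2 {r s : Rw} {g : Co0} : g ∈ FixV [r, s] ↔ g • lv r = lv r ∧ g • lv s = lv s := by simp [mem_FixV]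
theorem fixV1 {r : Rw} {g : Co0} : g ∈ FixV [r] ↔ g • lv r = lv r := by simp [mem_FixV]

theorem fix_NV : FixV [rN, rV] = FixV [rU, rV] := by ext g; rw [fixV2, fixV2, ← lvN, fix_neg]
theorem fix_WU : FixV [rW, rU] = FixV [rU, rV] := by
  ext g; rw [fixV2, fixV2]
  refine ⟨fun ⟨a, b⟩ => ⟨b, ?_⟩, fun ⟨a, b⟩ => ⟨?_, a⟩⟩
  · have := fix_neg.2 a
    rwa [← lvW, co_add, b, add_right_inj] at this
  · rw [← fix_neg, ← lvW, co_add, a, b]
theorem fix_V2V : FixV [rV2, rV] = FixV [rU1, rV] := by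
  ext g; rw [fixV2, fixV2]
  refine ⟨fun ⟨a, b⟩ => ⟨?_, b⟩, fun ⟨a, b⟩ => ⟨?_, b⟩⟩
  · have := fix_neg.2 a
    rwa [← lvV2, co_add, b, add_right_inj] at this
  · rw [← fix_neg, ← lvV2, co_add, a, b]

end Cfsg.Agent.H6.Le
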