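/- Models on pairs of opposite vectors; stabilisers of lists of vectors. -/
import Cfsg.Agent.H6.LeF
import Cfsg.Agent.H6.Simp2

namespace Cfsg.Agent.H6
open MulAction Pointwise Finset

noncomputable def PX (o : ℕ) (S : ℕ → List ℕ) (i : ℕ) : Set LL := {LX o S i, -LX o S i}

theorem rv_swap (r : Rw) : rv (r.2, r.1) = -rv r := funext fun p => by simp [rv]
theorem neg_dot (x y : ZV) : dotInt (-x) y = -dotInt x y := by simp [dotInt]

noncomputable def prepP (N o : ℕ) (S : ℕ → List ℕ) (A : ℕ → Rw) (n : Net) (s p : ℕ) : Bool :=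
  dmK N o S (A p) (0 :: 0 :: 0 :: lmap n.app (S p)) (Nat.mul 8 o) fun m1 =>
    dmK N o S ((A p).2, (A p).1) (0 :: 0 :: 0 :: lmap n.app (S p)) (Nat.mul 8 o) fun m2 =>
      Nat.beq (Nat.lor (Nat.land m1 (Nat.xor s (fullM N))) (Nat.land m2 s)) (fullM N)

theorem IsMat.prep {g : Co0} {A : ℕ → Rw} (h : IsMat g A) {N o : ℕ} {S : ℕ → List ℕ} (hS : lsC o S = true) {n : Net}
    (hn : n.Ok N) {s : ℕ} (hc : Rng (prepP N o S A n s) 0 24) : Rep N (PX o S) g n := ⟨hn, fun i hi => by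
  have key : ∀ p, ((g • LX o S i : LL) : ZV) p = if s.testBit i then -vec o S (n.fn i) p else vec o S (n.fn i) p := fun p => by
    obtain ⟨m1, a1, h1⟩ := dmK_spec (hc _ (Nat.zero_le _) (idx_lt p))
    obtain ⟨m2, a2, h2⟩ := dmK_spec h1
    have e : ((m1 &&& (s ^^^ fullM N)) ||| (m2 &&& s)).testBit i = true := by
      rw [show (m1 &&& (s ^^^ fullM N)) ||| (m2 &&& s) = fullM N from beq_eq.1 h2]; exact testBit_fullM.2 hi
    have b1 := (a1 i hi).1
    have b2 := (a2 i hi).1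
    have b3 := h (LX o S i) p
    rw [coe_LX hS] at b3
    simp only [sv_zero_cons, sv_app hn, rv_swap, neg_dot, ← b3, show Nat.mul 8 o = 8 * o from rfl] at b1 b2
    simp only [Nat.testBit_or, Nat.testBit_and, Nat.testBit_xor, testBit_fullM.2 hi] at e
    unfold vec
    cases c : s.testBit i
    · have := b1 (by simpa [c] using e); simp only [Bool.false_eq_true, if_false]; push_cast at this; omega
    · have := b2 (by simpa [c] using e); simp only [if_true]; push_cast at this; omega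
  rw [PX, PX, Set.smul_set_insert, Set.smul_set_singleton, co_neg]
  cases c : s.testBit i
  · rw [show g • LX o S i = LX o S (n.fn i) from Subtype.ext (by
      rw [coe_LX hS]; exact funext fun p => by simpa [c] using key p)]
  · rw [show g • LX o S i = -LX o S (n.fn i) from Subtype.ext (by
      rw [AddSubgroup.coe_neg, coe_LX hS]; exact funext fun p => by simpa [c] using key p), neg_neg, Set.pair_comm]⟩

theorem IsMat.prep' {g : Co0} {A : ℕ → Rw} (h : IsMat g A) {N o : ℕ} {S : ℕ → List ℕ} (hS : lsC o S = true) {n : Net}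
    {s : ℕ} (hc : band (n.ok N) (nall (prepP N o S A n s) 24) = true) : Rep N (PX o S) g n := by
  rw [band_eq, nall_eq] at hc
  exact h.prep hS (Net.ok_of hc.1) fun p _ hp => hc.2 p hp

noncomputable def pinjC (N o : ℕ) (S : ℕ → List ℕ) (p : ℕ) (r : Rw) (d : ℕ) : Bool :=
  band (ptR o S p r) (band (memR r) (band (dotR r r d)
    (dmK N o S r (cstL (fullM N) 20 d) 128 fun m1 => dmK N o S (r.2, r.1) (cstL (fullM N) 20 d) 128 fun m2 =>
      Nat.beq (Nat.lor m1 m2) (Nat.pow 2 p))))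

theorem inj_of_pinjC {N o : ℕ} {S : ℕ → List ℕ} (hS : lsC o S = true) {p d : ℕ} {r : Rw} (h : pinjC N o S p r d = true) :
    ∀ j < N, PX o S p = PX o S j → p = j := fun j hj e => by
  simp only [pinjC, band_eq] at h
  obtain ⟨h1, h2, h3, h4⟩ := h
  have hd : d ≤ 1000 := by rw [dotR, band_eq, ble_eq] at h3; exact h3.1
  obtain ⟨m1, a1, h4⟩ := dmK_spec h4
  obtain ⟨m2, a2, h4⟩ := dmK_spec h4
  have b1 := (a1 j hj).2
  have b2 := (a2 j hj).2
  rw [sv_cstL (testBit_fullM.2 hj) (by omega), ← coe_LX hS] at b1 b2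
  have b3 := dot_of_dotR h3
  have : LX o S j ∈ PX o S p := e ▸ Set.mem_insert _ _
  have t : (m1 ||| m2).testBit j = true := by
    rw [Nat.testBit_or, Bool.or_eq_true]
    rw [PX, LX_eq_lv h1] at this
    rcases this with c | c
    · exact Or.inl (b1 (by rw [c, coe_lv h2]; exact b3))
    · exact Or.inr (b2 (by rw [c, AddSubgroup.coe_neg, coe_lv h2, rv_swap, neg_dot, dot_neg, neg_neg]; exact b3))
  rw [show m1 ||| m2 = 2 ^ p from beq_eq.1 h4] at t
  simpa [Nat.testBit_two_pow] using t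

theorem IsPre.isModelL {G Ω : Type*} [Group G] [MulAction G Ω] {N : ℕ} {X : ℕ → Ω} {gens : ℕ → G} {nets : ℕ → Net}
    (h : IsPre N X gens nets vT) {hl : List ℕ} {p : ℕ} (hr : RchL nets hl (Nat.pow 2 p) (fullM N))
    (hx : ∀ j < N, X p = X j → p = j) : IsModel N X gens nets vT := by
  refine ⟨h, fun i hi j hj e => ?_⟩
  obtain ⟨w, -, h2⟩ := hr i (testBit_fullM.2 hi)
  have h3 : ∀ l ∈ w, vT l = true := fun _ _ => rfl
  have h4 : p = fnW nets w i := by
    have h' : (2 ^ p).testBit (fnW nets w i) = true := h2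
    simpa [Nat.testBit_two_pow] using h'
  apply h.ok.fnW_inj h3
  rw [← h4]
  refine hx _ ((h.ok.fnW_lt h3 j).2 hj) ?_
  rw [h4, ← h.cmpW h3 hi, ← h.cmpW h3 hj, e]

theorem cl_le_of_all {G : Type*} [Group G] {g : ℕ → G} {K : Subgroup G} (h : ∀ l, g l ∈ K) (ws : List (List ℕ)) :
    cl g ws ≤ K := cl_le.2 fun _ _ => wp_mem fun l _ => h l

theorem le_fix_cons {K : Subgroup Co0} {vs : List Rw} (h1 : K ≤ FixV vs) {x : LL} (h2 : K ≤ stabilizer Co0 x) {r : Rw}
    (e : x = lv r) : K ≤ FixV (r :: vs) := by rw [FixV_cons, ← e]; exact le_inf h1 h2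

/-- the class is an orbit of the stabiliser -/
def CO (cs : List (Rw × ℕ)) (r : Rw) (n : ℕ) : Prop :=
  (Cls cs).ncard = n ∧ orbit (FixV (lmap Prod.fst cs)) (lv r) = Cls cs

theorem CO.of {cs : List (Rw × ℕ)} {r : Rw} {n : ℕ} (hn : (Cls cs).ncard = n) (h : inC r cs = true) {N o : ℕ}
    {S : ℕ → List ℕ} {g : ℕ → Co0} {nets : ℕ → Net} (m : IsModel N (LX o S) g nets vT) {ws : List (List ℕ)}
    (hK : cl g ws ≤ FixV (lmap Prod.fst cs)) {k rr p : ℕ}
    (hc : band (ptR o S p r) (orbGe N k nets vT ws rr p n) = true) : CO cs r n := by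
  rw [band_eq] at hc
  exact ⟨hn, (orbit_eq_cls hn h hK (LX_eq_lv hc.1 ▸ m.le_ncard_orbit hc.2)).2⟩

theorem CO.mem {cs : List (Rw × ℕ)} {r : Rw} {n : ℕ} (h : CO cs r n) : lv r ∈ Cls cs := h.2 ▸ mem_orbit_self _

theorem CO.card {cs : List (Rw × ℕ)} {r : Rw} {n : ℕ} (h : CO cs r n) :
    Nat.card (FixV (lmap Prod.fst cs)) = n * Nat.card (FixV (r :: lmap Prod.fst cs)) := by
  rw [card_eq_ncard_orbit_mul _ (lv r), ← FixV_cons, h.2, h.1]

theorem CO.down {cs : List (Rw × ℕ)} {r : Rw} {n m : ℕ} (h : CO cs r n) (h0 : 0 < n)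
    (e : Nat.card (FixV (lmap Prod.fst cs)) = n * m) : Nat.card (FixV (r :: lmap Prod.fst cs)) = m :=
  Nat.eq_of_mul_eq_mul_left h0 (h.card.symm.trans e)

theorem CO.ex {cs : List (Rw × ℕ)} {r : Rw} {n : ℕ} (h : CO cs r n) {x : LL} (hx : x ∈ Cls cs) :
    ∃ k ∈ FixV (lmap Prod.fst cs), k • lv r = x := by
  rw [← h.2] at hx; exact mem_orbit_sub.1 hx

theorem CO.tr {cs : List (Rw × ℕ)} {r : Rw} {n : ℕ} (h : CO cs r n) {x y : LL} (hx : x ∈ Cls cs) (hy : y ∈ Cls cs) :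
    ∃ k ∈ FixV (lmap Prod.fst cs), k • x = y := by
  obtain ⟨a, a1, rfl⟩ := h.ex hx
  obtain ⟨b, b1, rfl⟩ := h.ex hy
  exact ⟨b * a⁻¹, Subgroup.mul_mem _ b1 (Subgroup.inv_mem _ a1), by rw [mul_smul, inv_smul_smul]⟩

theorem conj_smul' (g k : Co0) {a b : LL} (h : k • a = b) : (g * k * g⁻¹) • g • a = g • b := by
  rw [mul_smul, mul_smul, inv_smul_smul, h]

theorem eq_of_dot {x y : LL} (h1 : sqNorm (x : ZV) = dotInt (x : ZV) y) (h2 : sqNorm (y : ZV) = dotInt (x : ZV) y) : x = y :=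
  Subtype.ext (sub_eq_zero.1 (sqNorm_eq_zero (by rw [sqNorm_sub]; omega)))

theorem cover_of_sum {α : Type*} {A : Set α} (hA : A.Finite) (φ : α → ℤ) (l : List (ℤ × ℕ))
    (hd : (l.map Prod.fst).Nodup) (h : ∀ a ∈ l, {y | y ∈ A ∧ φ y = a.1}.ncard = a.2) (hs : A.ncard = (l.map Prod.snd).sum) :
    ∀ y ∈ A, φ y ∈ l.map Prod.fst := by
  have key : {y | y ∈ A ∧ φ y ∈ l.map Prod.fst}.ncard = (l.map Prod.snd).sum := by
    clear hs
    induction l with
    | nil => simp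
    | cons a l ih =>
      rw [List.map_cons, List.nodup_cons] at hd
      rw [List.map_cons, List.map_cons, List.sum_cons, ← ih hd.2 fun b hb => h b (List.mem_cons_of_mem _ hb),
        ← h a List.mem_cons_self, ← Set.ncard_union_eq (s := {y | y ∈ A ∧ φ y = a.1})
          (t := {y | y ∈ A ∧ φ y ∈ l.map Prod.fst}) (Set.disjoint_left.2 fun y c1 c2 => hd.1 (c1.2 ▸ c2.2))
          (hA.subset fun _ c => c.1) (hA.subset fun _ c => c.1)]
      congr 1; ext y; simp only [List.mem_cons, Set.mem_setOf_eq, Set.mem_union]; tauto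
  have := Set.eq_of_subset_of_ncard_le (s := {y | y ∈ A ∧ φ y ∈ l.map Prod.fst}) (fun _ c => c.1) (by omega) hA
  exact fun y hy => (this.symm ▸ hy : y ∈ {y | y ∈ A ∧ φ y ∈ l.map Prod.fst}).2

/-- a product identity, checked on the generators of the lattice -/
noncomputable def mulC (A B C D : ℕ → Rw) (S1 S2 S3 : ℕ → List ℕ) : Bool :=
  band (band (lsC 12 S1) (lsC 12 S3)) (band (band (lmapC 50 12 GS 12 S1 B) (lmapC 50 12 S1 12 S2 A))
    (band (lmapC 50 12 GS 12 S3 D) (lmapC 50 12 S3 12 S2 C)))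

theorem mul_eq_of_mulC {a b c d : Co0} {A B C D : ℕ → Rw} (ha : IsMat a A) (hb : IsMat b B) (hc : IsMat c C)
    (hd : IsMat d D) {S1 S2 S3 : ℕ → List ℕ} (h : mulC A B C D S1 S2 S3 = true) : a * b = c * d := by
  simp only [mulC, band_eq] at h
  obtain ⟨⟨h1, h3⟩, ⟨b1, a1⟩, d1, c1⟩ := h
  refine co_ext_gen fun i hi => Subtype.ext ?_
  have e1 : b • LX 12 GS i = LX 12 S1 i := Subtype.ext ((hb.smul_eq (LMap.of_chk b1) GS_ls hi).trans (coe_LX h1 i).symm)
  have e3 : d • LX 12 GS i = LX 12 S3 i := Subtype.ext ((hd.smul_eq (LMap.of_chk d1) GS_ls hi).trans (coe_LX h3 i).symm)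
  rw [mul_smul, mul_smul, e1, e3, ha.smul_eq (LMap.of_chk a1) h1 hi, hc.smul_eq (LMap.of_chk c1) h3 hi]

theorem lk1_ge {G : Type*} [Group G] {gl : List G} {l : ℕ} (h : gl.length ≤ l) : lk 1 gl l = 1 := by
  rw [lk_eq, List.getD_eq_default _ _ h]

theorem mem_norm_fix {vs : List Rw} {n : Co0} (h : ∀ r ∈ vs, ∃ x : LL, n • x = lv r ∧ ∀ g ∈ FixV vs, g • x = x) :
    n ∈ Subgroup.normalizer (FixV vs : Set Co0) :=
  Subgroup.mem_normalizer_fintype fun g hg r hr => by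
    obtain ⟨x, e, f⟩ := h r hr
    rw [← e, conj_smul' n g (f g hg)]

theorem conj_aut {G : Type*} [Group G] {K : Subgroup G} {n : G} (h : n ∈ Subgroup.normalizer (K : Set G)) :
    ∃ β : MulAut K, ∀ x y : K, n * x = y * n → β x = y :=
  ⟨K.normalizerMonoidHom ⟨n, h⟩, fun x y e => Subtype.ext (by
    show n * x * n⁻¹ = y
    rw [e, mul_inv_cancel_right])⟩

noncomputable instance instActSetLL : MulAction Co0 (Set LL) := Set.mulActionSet

end Cfsg.Agent.H6
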