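/- Automorphisms by conjugation, on letters. -/
import Cfsg.Agent.H6.LeG

namespace Cfsg.Agent.H6

theorem conj_sub {G : Type*} [Group G] {K : Subgroup G} {g g' : ℕ → G} {h : ∀ l, g l ∈ K} {h' : ∀ l, g' l ∈ K} {n : G}
    (hn : n ∈ Subgroup.normalizer (K : Set G)) (h0 : n * g 0 = g' 0 * n) (h1 : n * g 2 = g' 2 * n)
    (h2 : n * g 4 = g' 4 * n) : ∃ β : MulAut K, ∀ i < 3,
      β (dG (subA g K h) [[0], [2], [4]] i) = wp (subA g' K h') (lk [] [[0], [2], [4]] i) := by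
  obtain ⟨β, hβ⟩ := conj_aut hn
  refine ⟨β, fun i hi => hβ _ _ ?_⟩
  rw [dG_eq, wp_subA, wp_subA]
  interval_cases i
  · simpa [wp, lk_eq] using h0
  · simpa [wp, lk_eq] using h1
  · simpa [wp, lk_eq] using h2

end Cfsg.Agent.H6
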