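import Cfsg.Agent.H6.LeG
set_option maxRecDepth 100000
set_option Elab.async false
namespace Cfsg.Agent.H6.Le
open Cfsg.Agent.H6
universe u

abbrev rv2 : Rw := ((nat_lit 0x400000000000000000000040),(nat_lit 0))
abbrev rv3 : Rw := ((nat_lit 0x400000000000000000000400),(nat_lit 0))
abbrev rv4 : Rw := ((nat_lit 0x400000000000000000004000),(nat_lit 0))
abbrev rv5 : Rw := ((nat_lit 0x200000200200000000202222),(nat_lit 0))
abbrev rv6 : Rw := ((nat_lit 0x400000000000000000400000),(nat_lit 0))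
abbrev rv7 : Rw := ((nat_lit 0x400000000000000000040000),(nat_lit 0))
abbrev rv8 : Rw := ((nat_lit 0x220000020020000000020222),(nat_lit 0))
abbrev rv9 : Rw := ((nat_lit 0x2200200202000000022002),(nat_lit 0))
abbrev rv10 : Rw := ((nat_lit 0x220002220202000000000002),(nat_lit 0))
abbrev rv11 : Rw := ((nat_lit 0x4000000000004),(nat_lit 0))
abbrev rv12 : Rw := ((nat_lit 0x40000000000004),(nat_lit 0))
abbrev rv13 : Rw := ((nat_lit 0x220202002022000000000200),(nat_lit 0))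
abbrev rv14 : Rw := ((nat_lit 0x4000000000000004),(nat_lit 0))
abbrev rv15 : Rw := ((nat_lit 0x40000000000000004),(nat_lit 0))
abbrev rv16 : Rw := ((nat_lit 0x20020022222000000000020),(nat_lit 0))
abbrev rv17 : Rw := ((nat_lit 0x400000000000004),(nat_lit 0))
abbrev rv18 : Rw := ((nat_lit 0x222022002200000002000000),(nat_lit 0))
abbrev rv19 : Rw := ((nat_lit 0x222202202000020000000),(nat_lit 0))
abbrev rv20 : Rw := ((nat_lit 0x2222022020000200000000),(nat_lit 0))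
abbrev rv21 : Rw := ((nat_lit 0x22220220200002000000000),(nat_lit 0))
abbrev rv22 : Rw := ((nat_lit 0x202200022202020000000000),(nat_lit 0))
abbrev rv23 : Rw := ((nat_lit 0x222000222020200000000000),(nat_lit 0))
theorem ub24 : Nat.card (FixV [rv23,rv22,rv21,rv20,rv19,rv18,rv17,rv16,rv15,rv14,rv13,rv12,rv11,rv10,rv9,rv8,rv7,rv6,rv5,rv4,rv3,rv2,rU1,rU]) ≤ 1 := fixV_bot (by decide +kernel) (C := [[0,0,0,0,0,0,0,0,0,0,0,0,0,0,0,0,0,0,0,0,0,0,-1,1],[0,0,0,0,0,0,0,0,0,0,0,0,0,0,0,0,0,0,0,0,0,2,-1,-1],[0,0,0,0,0,0,0,0,0,0,0,0,0,0,0,0,0,0,0,0,2,0,-1,-1],[0,0,0,0,0,0,0,0,0,0,0,0,0,0,0,0,0,0,0,2,0,0,-1,-1],[0,0,0,0,0,0,0,0,0,0,0,0,0,0,0,0,2,0,0,0,0,0,-1,-1],[0,0,0,0,0,0,0,0,0,0,0,0,0,0,0,0,0,2,0,0,0,0,-1,-1],[0,0,0,0,0,4,0,-4,4,-2,4,-2,6,-8,-4,4,0,-6,12,-4,-10,-6,13,5],[0,0,0,0,4,0,2,-4,-2,2,-4,0,2,0,0,8,-4,2,-4,2,0,0,3,-3],[0,0,0,4,0,0,2,-4,-2,0,0,-4,6,-4,-4,8,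-2,-4,8,-2,-8,-6,11,5],[0,0,4,0,0,0,2,-4,0,2,0,2,4,0,-4,0,2,0,0,2,0,2,1,-7],[0,4,0,0,0,0,-2,0,-2,-2,0,0,0,0,-4,0,2,-2,4,0,-2,-2,-3,3],[4,0,0,0,0,0,2,0,2,-4,4,-2,2,-4,-4,-4,4,-2,4,0,-2,0,-3,1],[0,0,0,0,0,0,0,0,0,0,0,0,2,0,0,0,0,0,0,0,0,0,1,-1],[0,0,0,0,0,0,0,0,0,0,0,2,0,0,0,0,0,0,0,0,0,0,1,-1],[0,0,0,0,0,0,2,0,0,0,0,0,0,0,0,0,0,0,0,0,0,0,1,-1],[0,0,0,0,0,0,0,0,0,2,0,0,0,0,0,0,0,0,0,0,0,0,1,-1],[0,0,0,0,0,0,0,0,2,0,0,0,0,0,0,0,0,0,0,0,0,0,1,-1],[0,0,0,0,0,0,-2,0,0,0,0,0,0,0,0,0,0,-2,4,-2,-2,-2,3,3],[0,0,0,0,0,0,0,0,0,0,0,2,-2,4,0,-4,2,2,-4,2,4,4,-7,-5],[0,0,0,0,0,0,-2,4,0,-2,0,0,-2,0,0,-4,2,0,0,0,2,0,-5,3],[0,0,0,0,0,0,0,0,2,-2,4,-2,0,-4,0,0,0,-2,4,-2,-4,-2,3,5],[0,0,0,0,0,0,0,0,-2,2,-4,2,-2,4,4,0,-2,4,-8,2,6,4,-5,-5],[0,0,0,0,0,0,0,0,-2,0,0,-2,0,0,0,4,-2,0,0,0,-2,-2,1,3],[0,0,0,0,0,0,0,0,0,0,0,0,0,0,0,0,0,0,0,0,0,0,1,1]]) (d := 8) (by norm_num) (by decide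 +kernel)
theorem cn23 : (Cls [(rv22,144),(rv21,144),(rv20,144),(rv19,136),(rv18,144),(rv17,128),(rv16,144),(rv15,136),(rv14,136),(rv13,144),(rv12,136),(rv11,128),(rv10,144),(rv9,136),(rv8,144),(rv7,136),(rv6,136),(rv5,136),(rv4,136),(rv3,136),(rv2,136),(rU1,136),(rU,136)]).ncard = 1 := big.ncard_cls (k := 15) (by decide +kernel)
theorem ub23 : Nat.card (FixV [rv22,rv21,rv20,rv19,rv18,rv17,rv16,rv15,rv14,rv13,rv12,rv11,rv10,rv9,rv8,rv7,rv6,rv5,rv4,rv3,rv2,rU1,rU]) ≤ 1 := le_of_le_of_eq (ub_step (r := rv23) (cs := [(rv22,144),(rv21,144),(rv20,144),(rv19,136),(rv18,144),(rv17,128),(rv16,144),(rv15,136),(rv14,136),(rv13,144),(rv12,136),(rv11,128),(rv10,144),(rv9,136),(rv8,144),(rv7,136),(rv6,136),(rv5,136),(rv4,136),(rv3,136),(rv2,136),(rU1,136),(rU,136)]) ub24 cn23 (by decide +kernel)) (by norm_num)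
theorem cn22 : (Cls [(rv21,144),(rv20,144),(rv19,144),(rv18,144),(rv17,136),(rv16,144),(rv15,136),(rv14,136),(rv13,144),(rv12,128),(rv11,136),(rv10,144),(rv9,144),(rv8,136),(rv7,136),(rv6,136),(rv5,136),(rv4,136),(rv3,136),(rv2,136),(rU1,136),(rU,136)]).ncard = 1 := big.ncard_cls (k := 15) (by decide +kernel)
theorem ub22 : Nat.card (FixV [rv21,rv20,rv19,rv18,rv17,rv16,rv15,rv14,rv13,rv12,rv11,rv10,rv9,rv8,rv7,rv6,rv5,rv4,rv3,rv2,rU1,rU]) ≤ 1 := le_of_le_of_eq (ub_step (r := rv22) (cs := [(rv21,144),(rv20,144),(rv19,144),(rv18,144),(rv17,136),(rv16,144),(rv15,136),(rv14,136),(rv13,144),(rv12,128),(rv11,136),(rv10,144),(rv9,144),(rv8,136),(rv7,136),(rv6,136),(rv5,136),(rv4,136),(rv3,136),(rv2,136),(rU1,136),(rU,136)]) ub23 cn22 (by decide +kernel)) (by norm_num)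
theorem cn21 : (Cls [(rv20,144),(rv19,144),(rv18,144),(rv17,136),(rv16,144),(rv15,136),(rv14,128),(rv13,136),(rv12,128),(rv11,128),(rv10,144),(rv9,144),(rv8,136),(rv7,128),(rv6,128),(rv5,136),(rv4,128),(rv3,128),(rv2,128),(rU1,128),(rU,128)]).ncard = 1 := big.ncard_cls (k := 15) (by decide +kernel)
theorem ub21 : Nat.card (FixV [rv20,rv19,rv18,rv17,rv16,rv15,rv14,rv13,rv12,rv11,rv10,rv9,rv8,rv7,rv6,rv5,rv4,rv3,rv2,rU1,rU]) ≤ 1 := le_of_le_of_eq (ub_step (r := rv21) (cs := [(rv20,144),(rv19,144),(rv18,144),(rv17,136),(rv16,144),(rv15,136),(rv14,128),(rv13,136),(rv12,128),(rv11,128),(rv10,144),(rv9,144),(rv8,136),(rv7,128),(rv6,128),(rv5,136),(rv4,128),(rv3,128),(rv2,128),(rU1,128),(rU,128)]) ub22 cn21 (by decide +kernel)) (by norm_num)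
theorem cn20 : (Cls [(rv19,144),(rv18,144),(rv17,128),(rv16,144),(rv15,136),(rv14,136),(rv13,144),(rv12,136),(rv11,128),(rv10,136),(rv9,136),(rv8,136),(rv7,128),(rv6,128),(rv5,128),(rv4,128),(rv3,128),(rv2,128),(rU1,128),(rU,128)]).ncard = 1 := big.ncard_cls (k := 15) (by decide +kernel)
theorem ub20 : Nat.card (FixV [rv19,rv18,rv17,rv16,rv15,rv14,rv13,rv12,rv11,rv10,rv9,rv8,rv7,rv6,rv5,rv4,rv3,rv2,rU1,rU]) ≤ 1 := le_of_le_of_eq (ub_step (r := rv20) (cs := [(rv19,144),(rv18,144),(rv17,128),(rv16,144),(rv15,136),(rv14,136),(rv13,144),(rv12,136),(rv11,128),(rv10,136),(rv9,136),(rv8,136),(rv7,128),(rv6,128),(rv5,128),(rv4,128),(rv3,128),(rv2,128),(rU1,128),(rU,128)]) ub21 cn20 (by decide +kernel)) (by norm_num)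
theorem cn19 : (Cls [(rv18,144),(rv17,136),(rv16,144),(rv15,128),(rv14,136),(rv13,144),(rv12,128),(rv11,136),(rv10,144),(rv9,144),(rv8,128),(rv7,128),(rv6,128),(rv5,136),(rv4,128),(rv3,128),(rv2,128),(rU1,128),(rU,128)]).ncard = 1 := big.ncard_cls (k := 15) (by decide +kernel)
theorem ub19 : Nat.card (FixV [rv18,rv17,rv16,rv15,rv14,rv13,rv12,rv11,rv10,rv9,rv8,rv7,rv6,rv5,rv4,rv3,rv2,rU1,rU]) ≤ 1 := le_of_le_of_eq (ub_step (r := rv19) (cs := [(rv18,144),(rv17,136),(rv16,144),(rv15,128),(rv14,136),(rv13,144),(rv12,128),(rv11,136),(rv10,144),(rv9,144),(rv8,128),(rv7,128),(rv6,128),(rv5,136),(rv4,128),(rv3,128),(rv2,128),(rU1,128),(rU,128)]) ub20 cn19 (by decide +kernel)) (by norm_num)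
theorem cn18 : (Cls [(rv17,136),(rv16,144),(rv15,128),(rv14,136),(rv13,144),(rv12,128),(rv11,128),(rv10,144),(rv9,136),(rv8,136),(rv7,136),(rv6,136),(rv5,136),(rv4,136),(rv3,136),(rv2,136),(rU1,136),(rU,136)]).ncard = 1 := big.ncard_cls (k := 15) (by decide +kernel)
theorem ub18 : Nat.card (FixV [rv17,rv16,rv15,rv14,rv13,rv12,rv11,rv10,rv9,rv8,rv7,rv6,rv5,rv4,rv3,rv2,rU1,rU]) ≤ 1 := le_of_le_of_eq (ub_step (r := rv18) (cs := [(rv17,136),(rv16,144),(rv15,128),(rv14,136),(rv13,144),(rv12,128),(rv11,128),(rv10,144),(rv9,136),(rv8,136),(rv7,136),(rv6,136),(rv5,136),(rv4,136),(rv3,136),(rv2,136),(rU1,136),(rU,136)]) ub19 cn18 (by decide +kernel)) (by norm_num)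
theorem cn17 : (Cls [(rv16,136),(rv15,144),(rv14,144),(rv13,128),(rv12,144),(rv11,144),(rv10,144),(rv9,144),(rv8,136),(rv7,128),(rv6,128),(rv5,144),(rv4,128),(rv3,128),(rv2,128),(rU1,112),(rU,144)]).ncard = 1 := big.ncard_cls (k := 15) (by decide +kernel)
theorem ub17 : Nat.card (FixV [rv16,rv15,rv14,rv13,rv12,rv11,rv10,rv9,rv8,rv7,rv6,rv5,rv4,rv3,rv2,rU1,rU]) ≤ 1 := le_of_le_of_eq (ub_step (r := rv17) (cs := [(rv16,136),(rv15,144),(rv14,144),(rv13,128),(rv12,144),(rv11,144),(rv10,144),(rv9,144),(rv8,136),(rv7,128),(rv6,128),(rv5,144),(rv4,128),(rv3,128),(rv2,128),(rU1,112),(rU,144)]) ub18 cn17 (by decide +kernel)) (by norm_num)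
theorem cn16 : (Cls [(rv15,136),(rv14,136),(rv13,144),(rv12,136),(rv11,136),(rv10,144),(rv9,136),(rv8,144),(rv7,128),(rv6,128),(rv5,136),(rv4,128),(rv3,128),(rv2,136),(rU1,128),(rU,128)]).ncard = 1 := big.ncard_cls (k := 15) (by decide +kernel)
theorem ub16 : Nat.card (FixV [rv15,rv14,rv13,rv12,rv11,rv10,rv9,rv8,rv7,rv6,rv5,rv4,rv3,rv2,rU1,rU]) ≤ 1 := le_of_le_of_eq (ub_step (r := rv16) (cs := [(rv15,136),(rv14,136),(rv13,144),(rv12,136),(rv11,136),(rv10,144),(rv9,136),(rv8,144),(rv7,128),(rv6,128),(rv5,136),(rv4,128),(rv3,128),(rv2,136),(rU1,128),(rU,128)]) ub17 cn16 (by decide +kernel)) (by norm_num)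
theorem cn15 : (Cls [(rv14,144),(rv13,128),(rv12,144),(rv11,144),(rv10,144),(rv9,136),(rv8,144),(rv7,128),(rv6,128),(rv5,136),(rv4,128),(rv3,128),(rv2,128),(rU1,112),(rU,144)]).ncard = 1 := big.ncard_cls (k := 15) (by decide +kernel)
theorem ub15 : Nat.card (FixV [rv14,rv13,rv12,rv11,rv10,rv9,rv8,rv7,rv6,rv5,rv4,rv3,rv2,rU1,rU]) ≤ 1 := le_of_le_of_eq (ub_step (r := rv15) (cs := [(rv14,144),(rv13,128),(rv12,144),(rv11,144),(rv10,144),(rv9,136),(rv8,144),(rv7,128),(rv6,128),(rv5,136),(rv4,128),(rv3,128),(rv2,128),(rU1,112),(rU,144)]) ub16 cn15 (by decide +kernel)) (by norm_num)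
theorem cn14 : (Cls [(rv13,136),(rv12,144),(rv11,144),(rv10,136),(rv9,136),(rv8,136),(rv7,128),(rv6,128),(rv5,136),(rv4,128),(rv3,128),(rv2,128),(rU1,112),(rU,144)]).ncard = 1 := big.ncard_cls (k := 15) (by decide +kernel)
theorem ub14 : Nat.card (FixV [rv13,rv12,rv11,rv10,rv9,rv8,rv7,rv6,rv5,rv4,rv3,rv2,rU1,rU]) ≤ 1 := le_of_le_of_eq (ub_step (r := rv14) (cs := [(rv13,136),(rv12,144),(rv11,144),(rv10,136),(rv9,136),(rv8,136),(rv7,128),(rv6,128),(rv5,136),(rv4,128),(rv3,128),(rv2,128),(rU1,112),(rU,144)]) ub15 cn14 (by decide +kernel)) (by norm_num)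
theorem cn13 : (Cls [(rv12,136),(rv11,136),(rv10,144),(rv9,136),(rv8,144),(rv7,136),(rv6,136),(rv5,136),(rv4,136),(rv3,144),(rv2,136),(rU1,136),(rU,136)]).ncard = 1 := big.ncard_cls (k := 15) (by decide +kernel)
theorem ub13 : Nat.card (FixV [rv12,rv11,rv10,rv9,rv8,rv7,rv6,rv5,rv4,rv3,rv2,rU1,rU]) ≤ 1 := le_of_le_of_eq (ub_step (r := rv13) (cs := [(rv12,136),(rv11,136),(rv10,144),(rv9,136),(rv8,144),(rv7,136),(rv6,136),(rv5,136),(rv4,136),(rv3,144),(rv2,136),(rU1,136),(rU,136)]) ub14 cn13 (by decide +kernel)) (by norm_num)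
theorem cn12 : (Cls [(rv11,144),(rv10,136),(rv9,136),(rv8,144),(rv7,128),(rv6,128),(rv5,136),(rv4,128),(rv3,128),(rv2,128),(rU1,112),(rU,144)]).ncard = 1 := big.ncard_cls (k := 15) (by decide +kernel)
theorem ub12 : Nat.card (FixV [rv11,rv10,rv9,rv8,rv7,rv6,rv5,rv4,rv3,rv2,rU1,rU]) ≤ 1 := le_of_le_of_eq (ub_step (r := rv12) (cs := [(rv11,144),(rv10,136),(rv9,136),(rv8,144),(rv7,128),(rv6,128),(rv5,136),(rv4,128),(rv3,128),(rv2,128),(rU1,112),(rU,144)]) ub13 cn12 (by decide +kernel)) (by norm_num)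
theorem cn11 : (Cls [(rv10,144),(rv9,144),(rv8,136),(rv7,128),(rv6,128),(rv5,136),(rv4,128),(rv3,128),(rv2,128),(rU1,112),(rU,144)]).ncard = 1 := big.ncard_cls (k := 15) (by decide +kernel)
theorem ub11 : Nat.card (FixV [rv10,rv9,rv8,rv7,rv6,rv5,rv4,rv3,rv2,rU1,rU]) ≤ 1 := le_of_le_of_eq (ub_step (r := rv11) (cs := [(rv10,144),(rv9,144),(rv8,136),(rv7,128),(rv6,128),(rv5,136),(rv4,128),(rv3,128),(rv2,128),(rU1,112),(rU,144)]) ub12 cn11 (by decide +kernel)) (by norm_num)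
theorem cn10 : (Cls [(rv9,144),(rv8,144),(rv7,136),(rv6,136),(rv5,144),(rv4,136),(rv3,136),(rv2,136),(rU1,128),(rU,144)]).ncard = 1 := big.ncard_cls (k := 15) (by decide +kernel)
theorem ub10 : Nat.card (FixV [rv9,rv8,rv7,rv6,rv5,rv4,rv3,rv2,rU1,rU]) ≤ 1 := le_of_le_of_eq (ub_step (r := rv10) (cs := [(rv9,144),(rv8,144),(rv7,136),(rv6,136),(rv5,144),(rv4,136),(rv3,136),(rv2,136),(rU1,128),(rU,144)]) ub11 cn10 (by decide +kernel)) (by norm_num)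
theorem cn9 : (Cls [(rv8,136),(rv7,136),(rv6,128),(rv5,144),(rv4,136),(rv3,128),(rv2,128),(rU1,120),(rU,136)]).ncard = 4 := big.ncard_cls (k := 15) (by decide +kernel)
theorem ub9 : Nat.card (FixV [rv8,rv7,rv6,rv5,rv4,rv3,rv2,rU1,rU]) ≤ 4 := le_of_le_of_eq (ub_step (r := rv9) (cs := [(rv8,136),(rv7,136),(rv6,128),(rv5,144),(rv4,136),(rv3,128),(rv2,128),(rU1,120),(rU,136)]) ub10 cn9 (by decide +kernel)) (by norm_num)
theorem cn8 : (Cls [(rv7,144),(rv6,136),(rv5,144),(rv4,136),(rv3,144),(rv2,144),(rU1,128),(rU,144)]).ncard = 4 := big.ncard_cls (k := 15) (by decide +kernel)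
theorem ub8 : Nat.card (FixV [rv7,rv6,rv5,rv4,rv3,rv2,rU1,rU]) ≤ 16 := le_of_le_of_eq (ub_step (r := rv8) (cs := [(rv7,144),(rv6,136),(rv5,144),(rv4,136),(rv3,144),(rv2,144),(rU1,128),(rU,144)]) ub9 cn8 (by decide +kernel)) (by norm_num)
theorem cn7 : (Cls [(rv6,144),(rv5,136),(rv4,144),(rv3,144),(rv2,144),(rU1,144),(rU,144)]).ncard = 32 := big.ncard_cls (k := 15) (by decide +kernel)
theorem ub7 : Nat.card (FixV [rv6,rv5,rv4,rv3,rv2,rU1,rU]) ≤ 512 := le_of_le_of_eq (ub_step (r := rv7) (cs := [(rv6,144),(rv5,136),(rv4,144),(rv3,144),(rv2,144),(rU1,144),(rU,144)]) ub8 cn7 (by decide +kernel)) (by norm_num)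
theorem cn6 : (Cls [(rv5,144),(rv4,144),(rv3,144),(rv2,144),(rU1,144),(rU,144)]).ncard = 3 := big.ncard_cls (k := 15) (by decide +kernel)
theorem ub6 : Nat.card (FixV [rv5,rv4,rv3,rv2,rU1,rU]) ≤ 1536 := le_of_le_of_eq (ub_step (r := rv6) (cs := [(rv5,144),(rv4,144),(rv3,144),(rv2,144),(rU1,144),(rU,144)]) ub7 cn6 (by decide +kernel)) (by norm_num)
theorem cn5 : (Cls [(rv4,144),(rv3,144),(rv2,144),(rU1,128),(rU,144)]).ncard = 4 := big.ncard_cls (k := 15) (by decide +kernel)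
theorem ub5 : Nat.card (FixV [rv4,rv3,rv2,rU1,rU]) ≤ 6144 := le_of_le_of_eq (ub_step (r := rv5) (cs := [(rv4,144),(rv3,144),(rv2,144),(rU1,128),(rU,144)]) ub6 cn5 (by decide +kernel)) (by norm_num)
theorem cn4 : (Cls [(rv3,144),(rv2,144),(rU1,144),(rU,144)]).ncard = 40 := big.ncard_cls (k := 15) (by decide +kernel)
theorem ub4 : Nat.card (FixV [rv3,rv2,rU1,rU]) ≤ 245760 := le_of_le_of_eq (ub_step (r := rv4) (cs := [(rv3,144),(rv2,144),(rU1,144),(rU,144)]) ub5 cn4 (by decide +kernel)) (by norm_num)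
theorem cn3 : (Cls [(rv2,144),(rU1,144),(rU,144)]).ncard = 42 := big.ncard_cls (k := 15) (by decide +kernel)
theorem ub3 : Nat.card (FixV [rv2,rU1,rU]) ≤ 10321920 := le_of_le_of_eq (ub_step (r := rv3) (cs := [(rv2,144),(rU1,144),(rU,144)]) ub4 cn3 (by decide +kernel)) (by norm_num)
theorem cn2 : (Cls [(rU1,144),(rU,144)]).ncard = 44 := big.ncard_cls (k := 15) (by decide +kernel)
theorem ub2 : Nat.card (FixV [rU1,rU]) ≤ 454164480 := le_of_le_of_eq (ub_step (r := rv2) (cs := [(rU1,144),(rU,144)]) ub3 cn2 (by decide +kernel)) (by norm_num)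
theorem cn1 : (Cls [(rU,128)]).ncard = 93150 := big.ncard_cls (k := 15) (by decide +kernel)
theorem ub1 : Nat.card (FixV [rU]) ≤ 42305421312000 := le_of_le_of_eq (ub_step (r := rU1) (cs := [(rU,128)]) ub2 cn1 (by decide +kernel)) (by norm_num)

end Cfsg.Agent.H6.Le
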