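import Cfsg.Agent.H6.LeH1
set_option maxRecDepth 100000
set_option Elab.async false
namespace Cfsg.Agent.H6.Le
open Cfsg.Agent.H6
universe u

theorem hK2b : cl bg [[2],[3],[6]] ≤ FixV [rU] := le_fix_cons (FixV_nil ▸ le_top) (bpre.cl_le_stab (p := 0) (by decide +kernel)) bpt2
abbrev rX : Rw := ((nat_lit 64),(nat_lit 4))
theorem n4600 : (Cls [(rU,112)]).ncard = 4600 := big.ncard_cls (k := 15) (by decide +kernel)
theorem co4600 : CO [(rU,112)] rX 4600 := CO.of n4600 (by decide +kernel) bmod hK2b (k := 15) (rr := 100) (p := 3) (by decide +kernel)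
theorem n47104 : (Cls [(rU,120)]).ncard = 47104 := big.ncard_cls (k := 15) (by decide +kernel)
theorem co47104 : CO [(rU,120)] rW 47104 := CO.of n47104 (by decide +kernel) bmod hK2b (k := 15) (rr := 100) (p := 98256) (by decide +kernel)
theorem n93150 : (Cls [(rU,128)]).ncard = 93150 := big.ncard_cls (k := 15) (by decide +kernel)
theorem co93150 : CO [(rU,128)] rU1 93150 := CO.of n93150 (by decide +kernel) bmod hK2b (k := 15) (rr := 100) (p := 90) (by decide +kernel)

end Cfsg.Agent.H6.Le
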