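import Cfsg.Agent.H6.LeIo2
set_option maxRecDepth 100000
set_option Elab.async false
namespace Cfsg.Agent.H6.Le.C2
open Cfsg.Agent.H6
universe u

noncomputable def cm70T : BT := (BT.br [[0]] (BT.kid 0 [] (BT.frc 0 [0] [] (BT.frc 0 [0,0,0] [] (BT.frc 0 [0,0,0] [] (BT.frc 2 [0] [] BT.live)))) (BT.kid 793 [1] (BT.frc 0 [0] [3,5,10,9] (BT.frc 0 [0,0,0] [5,7,8,5,8,8] (BT.out 0 [0,0,0]))) (BT.kid 1294 [2] (BT.out 0 [0]) (BT.kid 3954 [0,2] (BT.out 0 [0]) (BT.kid 3432 [0,3] (BT.out 0 [0]) (BT.kid 3002 [0,4] (BT.out 0 [0]) (BT.kid 3152 [0,5] (BT.out 0 [0]) (BT.kid 2620 [0,6] (BT.out 0 [0]) (BT.kid 1705 [0,7] (BT.out 0 [0]) (BT.kid 3082 [0,8] (BT.out 0 [0]) (BT.kid 4 [0,9] (BT.out 0 [0]) (BT.kid 3166 [0,10] (BT.frc 0 [0] [3,5,7,10] (BT.out 0 [0,0,0])) (BT.kid 904 [1,1] (BT.out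 0 [0]) (BT.kid 2761 [1,2] (BT.out 0 [0]) (BT.kid 436 [1,3] (BT.out 0 [0]) (BT.kid 2707 [1,4] (BT.out 0 [0]) (BT.kid 3233 [1,5] (BT.out 0 [0]) (BT.kid 3265 [1,6] (BT.out 0 [0]) (BT.kid 296 [1,7] (BT.out 0 [0]) (BT.kid 736 [1,8] (BT.out 0 [0]) (BT.kid 1240 [1,9] (BT.out 0 [0]) (BT.kid 1277 [1,10] (BT.out 0 [0]) (BT.kid 1444 [2,1] (BT.out 0 [0]) (BT.kid 2987 [2,3] (BT.frc 0 [0] [3,6,8,6,5] (BT.out 0 [0,0,0])) (BT.kid 4136 [2,5] (BT.out 0 [0]) (BT.kid 4036 [2,6] (BT.frc 0 [0] [3,3,3,3,6] (BT.out 0 [0,0,0])) (BT.kid 3193 [2,7] (BT.out 0 [0]) (BT.kid 3391 [2,8] (BT.out 0 [0]) (BT.kid 3584 [2,9] (BT.out 0 [0]) (BT.kid 1512 [2,10] (BT.frc 0 [0] [4,8,3,8] (BT.out 0 [0,0,0])) (BT.kid 962 [0,0,2] (BT.out 0 [0]) (BT.kid 3246 [0,0,3] (BT.frc 0 [0] [4,3,3,10] (BT.frc 0 [0,0,0] [5,8,7,10]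 (BT.out 0 [0,0,0]))) (BT.kid 3034 [0,0,4] (BT.out 0 [0]) (BT.kid 2748 [0,0,6] (BT.out 0 [0]) (BT.kid 1322 [0,0,7] (BT.frc 0 [0] [3,9,4,10] (BT.out 0 [0,0,0])) (BT.kid 2600 [0,0,9] (BT.out 0 [0]) (BT.kid 120 [0,0,10] (BT.out 0 [0]) (BT.kid 897 [0,1,2] (BT.out 0 [0]) (BT.kid 2389 [0,1,3] (BT.out 0 [0]) (BT.kid 2743 [0,1,4] (BT.out 0 [0]) (BT.kid 1874 [0,1,5] (BT.out 0 [0]) (BT.kid 825 [0,1,7] (BT.out 0 [0]) (BT.kid 760 [0,1,9] (BT.frc 0 [0] [3,3,3,7,7] (BT.frc 0 [0,0,0] [6,9,10,5,10] (BT.out 0 [0,0,0]))) (BT.kid 994 [0,2,1] (BT.out 0 [0]) (BT.kid 3473 [0,2,3] (BT.out 0 [0]) (BT.kid 4286 [0,2,4] (BT.out 0 [0]) (BT.kid 1978 [0,2,5] (BT.out 0 [0]) (BT.kid 3295 [0,2,7] (BT.out 0 [0]) (BT.kid 1417 [0,2,8] (BT.frc 0 [0] [3,3,7,6] (BT.out 0 [0,0,0])) (BT.kid 3928 [0,2,9] (BT.out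 0 [0]) (BT.kid 2554 [0,3,3] (BT.frc 0 [0] [3,5,8,4] (BT.frc 0 [0,0,0] [5,6,7,8,5,9] (BT.out 0 [0,0,0]))) (BT.kid 21 [0,3,4] (BT.out 0 [0]) (BT.kid 1758 [0,3,5] (BT.frc 0 [0] [3,6,7,10] (BT.out 0 [0,0,0])) (BT.kid 143 [0,3,6] (BT.out 0 [0]) (BT.kid 1139 [0,3,8] (BT.out 0 [0]) (BT.kid 3122 [0,3,9] (BT.out 0 [0]) (BT.kid 1130 [0,3,10] (BT.out 0 [0]) (BT.kid 3312 [0,4,4] (BT.out 0 [0]) (BT.kid 3466 [0,4,5] (BT.out 0 [0]) (BT.kid 3348 [0,4,6] (BT.out 0 [0]) (BT.kid 2031 [0,4,7] (BT.frc 0 [0] [3,4,5,4,5] (BT.out 0 [0,0,0])) (BT.kid 3350 [0,4,9] (BT.out 0 [0]) (BT.kid 726 [0,4,10] (BT.out 0 [0]) (BT.kid 638 [0,5,1] (BT.out 0 [0]) (BT.kid 2746 [0,5,3] (BT.frc 0 [0] [3,6] (BT.out 0 [0,0,0])) (BT.kid 1922 [0,5,5] (BT.out 0 [0]) (BT.kid 2942 [0,5,6] (BT.frc 0 [0] [3,8,6,9] (BT.out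 0 [0,0,0])) (BT.kid 3320 [0,5,7] (BT.out 0 [0]) (BT.kid 2304 [0,6,2] (BT.out 0 [0]) (BT.kid 3054 [0,6,3] (BT.out 0 [0]) (BT.kid 2854 [0,6,4] (BT.out 0 [0]) (BT.kid 1129 [0,6,5] (BT.out 0 [0]) (BT.kid 714 [0,6,6] (BT.frc 0 [0] [3,10,3] (BT.frc 0 [0,0,0] [5,5,6,7,6,7] (BT.out 0 [0,0,0]))) (BT.kid 3494 [0,6,9] (BT.frc 0 [0] [3,7,8,7] (BT.frc 0 [0,0,0] [5,5,8,6,6] (BT.out 0 [0,0,0]))) (BT.kid 2236 [0,7,1] (BT.out 0 [0]) (BT.kid 1300 [0,7,2] (BT.out 0 [0]) (BT.kid 2456 [0,7,4] (BT.out 0 [0]) (BT.kid 2888 [0,7,6] (BT.out 0 [0]) (BT.kid 2712 [0,7,8] (BT.out 0 [0]) (BT.kid 1228 [0,7,9] (BT.frc 0 [0] [3,6,6,5] (BT.out 0 [0,0,0])) (BT.kid 3228 [0,7,10] (BT.out 0 [0]) (BT.kid 3384 [0,8,3] (BT.frc 0 [0] [3,7,7] (BT.frc 0 [0,0,0] [6,10,9,8,7] (BT.frc 0 [0,0,0] [7,8,10,9,7] (BT.out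 2 [0])))) (BT.kid 3380 [0,8,5] (BT.out 0 [0]) (BT.kid 2760 [0,8,6] (BT.out 0 [0]) (BT.kid 3114 [0,8,8] (BT.frc 0 [0] [3,7,7,8] (BT.out 0 [0,0,0])) (BT.kid 3192 [0,8,9] (BT.out 0 [0]) (BT.kid 422 [0,9,1] (BT.out 0 [0]) (BT.kid 1927 [0,9,6] (BT.out 0 [0]) (BT.kid 3336 [0,9,7] (BT.out 0 [0]) (BT.kid 3404 [0,9,8] (BT.out 0 [0]) (BT.kid 3412 [0,9,10] (BT.out 0 [0]) (BT.kid 600 [0,10,4] (BT.out 0 [0]) (BT.kid 3084 [0,10,5] (BT.out 0 [0]) (BT.kid 2644 [0,10,6] (BT.out 0 [0]) (BT.kid 1298 [1,0,2] (BT.out 0 [0]) (BT.kid 605 [1,0,3] (BT.out 0 [0]) (BT.kid 2940 [1,0,8] (BT.frc 0 [0] [3,6,3] (BT.out 0 [0,0,0])) (BT.kid 3476 [1,0,10] (BT.out 0 [0]) (BT.kid 4084 [1,1,7] (BT.out 0 [0]) (BT.kid 4080 [1,1,8] (BT.out 0 [0]) (BT.kid 1791 [1,1,10] (BT.frc 0 [0] [3,5,5,9,6] (BT.frc 0 [0,0,0]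 [6,6,9,6,9] (BT.frc 0 [0,0,0] [7,9,7,7,8,10] (BT.out 2 [0])))) (BT.kid 2059 [1,2,3] (BT.out 0 [0]) (BT.kid 1397 [1,2,4] (BT.out 0 [0]) (BT.kid 4468 [1,2,5] (BT.out 0 [0]) (BT.kid 423 [1,2,6] (BT.frc 0 [0] [4,7,7,7] (BT.out 0 [0,0,0])) (BT.kid 455 [1,2,7] (BT.out 0 [0]) (BT.kid 2225 [1,2,10] (BT.out 0 [0]) (BT.kid 546 [1,3,1] (BT.out 0 [0]) (BT.kid 2848 [1,3,2] (BT.out 0 [0]) (BT.kid 1470 [1,3,4] (BT.frc 0 [0] [3,4,8,4,4] (BT.out 0 [0,0,0])) (BT.kid 3521 [1,3,10] (BT.out 0 [0]) (BT.kid 2069 [1,4,4] (BT.out 0 [0]) (BT.kid 535 [1,4,5] (BT.out 0 [0]) (BT.kid 2438 [1,4,7] (BT.out 0 [0]) (BT.kid 2547 [1,4,10] (BT.out 0 [0]) (BT.kid 158 [1,5,2] (BT.out 0 [0]) (BT.kid 1739 [1,5,3] (BT.out 0 [0]) (BT.kid 2514 [1,5,5] (BT.out 0 [0]) (BT.kid 2627 [1,5,9] (BT.out 0 [0]) (BT.kid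 4548 [1,5,10] (BT.out 0 [0]) (BT.kid 156 [1,6,2] (BT.out 0 [0]) (BT.kid 1372 [1,6,3] (BT.out 0 [0]) (BT.kid 4356 [1,6,10] (BT.out 0 [0]) (BT.kid 2436 [1,7,2] (BT.out 0 [0]) (BT.kid 1900 [1,7,4] (BT.out 0 [0]) (BT.kid 3097 [1,7,5] (BT.out 0 [0]) (BT.kid 3301 [1,8,3] (BT.out 0 [0]) (BT.kid 217 [1,8,7] (BT.frc 0 [0] [3,3,8,4,6] (BT.frc 0 [0,0,0] [5,7,10,7,5] (BT.frc 0 [0,0,0] [8,10,7,8,9] (BT.out 2 [0])))) (BT.kid 4339 [1,9,1] (BT.out 0 [0]) (BT.kid 2809 [1,9,3] (BT.out 0 [0]) (BT.kid 1658 [1,9,5] (BT.frc 0 [0] [3,7,5,10] (BT.frc 0 [0,0,0] [6,5,6,7,10] (BT.out 0 [0,0,0]))) (BT.kid 1841 [1,9,8] (BT.out 0 [0]) (BT.kid 2214 [1,9,9] (BT.out 0 [0]) (BT.kid 973 [1,10,1] (BT.out 0 [0]) (BT.kid 2050 [1,10,3] (BT.out 0 [0]) (BT.kid 1866 [1,10,8] (BT.out 0 [0]) (BT.kid 4176 [2,0,3]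 (BT.frc 0 [0] [3,3,6,5,7] (BT.out 0 [0,0,0])) (BT.kid 3059 [2,0,6] (BT.out 0 [0]) (BT.kid 1496 [2,1,1] (BT.out 0 [0]) (BT.kid 2328 [2,1,7] (BT.out 0 [0]) (BT.kid 807 [2,3,4] (BT.frc 0 [0] [3,4] (BT.out 0 [0,0,0])) (BT.kid 4274 [2,3,5] (BT.out 0 [0]) (BT.kid 1091 [2,3,10] (BT.out 0 [0]) (BT.kid 433 [2,4,2] (BT.frc 0 [0] [3,4,7,6,5] (BT.frc 0 [0,0,0] [6,10,5,8] (BT.out 0 [0,0,0]))) (BT.kid 402 [2,4,3] (BT.out 0 [0]) (BT.kid 4178 [2,4,4] (BT.out 0 [0]) (BT.kid 2437 [2,4,6] (BT.out 0 [0]) (BT.kid 892 [2,4,7] (BT.out 0 [0]) (BT.kid 3760 [2,4,9] (BT.out 0 [0]) (BT.kid 2094 [2,4,10] (BT.out 0 [0]) (BT.kid 2793 [2,5,2] (BT.out 0 [0]) (BT.kid 3430 [2,6,2] (BT.out 0 [0]) (BT.kid 2109 [2,6,3] (BT.out 0 [0]) (BT.kid 1909 [2,6,10] (BT.out 0 [0]) (BT.kid 4186 [2,7,3] (BT.out 0 [0])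 (BT.kid 1585 [2,7,8] (BT.out 0 [0]) (BT.kid 420 [2,8,4] (BT.out 0 [0]) (BT.kid 865 [2,8,5] (BT.out 0 [0]) (BT.kid 2261 [2,8,7] (BT.out 0 [0]) (BT.kid 1679 [2,9,3] (BT.frc 0 [0] [4,5,9,3] (BT.out 0 [0,0,0])) (BT.kid 3139 [2,9,7] (BT.out 0 [0]) (BT.kid 106 [2,9,8] (BT.out 0 [0]) (BT.kid 2055 [2,10,2] (BT.out 0 [0]) (BT.kid 3363 [2,10,6] (BT.out 0 [0]) (BT.kid 4480 [2,10,8] (BT.out 0 [0]) (BT.kid 2957 [0,0,0,9] (BT.out 0 [0]) (BT.kid 2768 [0,0,2,3] (BT.out 0 [0]) (BT.kid 2683 [0,0,3,1] (BT.out 0 [0]) (BT.kid 3098 [0,0,3,3] (BT.out 0 [0]) (BT.kid 976 [0,0,3,6] (BT.frc 0 [0] [3,5,8,10] (BT.out 0 [0,0,0])) (BT.kid 2856 [0,0,3,8] (BT.out 0 [0]) (BT.kid 510 [0,0,6,1] (BT.out 0 [0]) (BT.kid 2035 [0,0,6,6] (BT.out 0 [0]) (BT.kid 2900 [0,0,6,8] (BT.out 0 [0]) (BT.kid 3052 [0,0,7,9]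 (BT.out 0 [0]) (BT.kid 1324 [0,0,8,7] (BT.out 0 [0]) (BT.kid 3518 [0,0,9,3] (BT.frc 0 [0] [3,3,7,8,5] (BT.frc 0 [0,0,0] [6,5,8,9,8,6] (BT.frc 0 [0,0,0] [7,7,8,9,10,8] (BT.frc 2 [0] [9,9,10] (BT.nc 0 0))))) (BT.kid 2479 [0,0,9,8] (BT.out 0 [0]) (BT.kid 2772 [0,0,9,10] (BT.out 0 [0]) (BT.kid 2894 [0,0,10,9] (BT.out 0 [0]) (BT.kid 3623 [0,1,1,3] (BT.out 0 [0]) (BT.kid 2000 [0,1,6,10] (BT.out 0 [0]) (BT.kid 1323 [0,2,0,10] (BT.frc 0 [0] [3,3,8,5,9] (BT.frc 0 [0,0,0] [5,5,5,6,5,6] (BT.out 0 [0,0,0]))) (BT.kid 827 [0,2,5,7] (BT.out 0 [0]) (BT.kid 590 [0,2,6,5] (BT.frc 0 [0] [3,3,4,5,10] (BT.frc 0 [0,0,0] [5,8,10,9,8] (BT.frc 0 [0,0,0] [7,8,10,8,9,10] (BT.out 2 [0])))) (BT.kid 2899 [0,2,6,7] (BT.out 0 [0]) (BT.kid 4038 [0,2,6,9] (BT.frc 0 [0] [4,3,3,8] (BT.frc 0 [0,0,0] [6,7,6,9,8]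 (BT.out 0 [0,0,0]))) (BT.kid 3708 [0,2,8,4] (BT.out 0 [0]) (BT.kid 586 [0,2,8,8] (BT.out 0 [0]) (BT.kid 997 [0,2,10,5] (BT.out 0 [0]) (BT.kid 3479 [0,3,1,6] (BT.out 0 [0]) (BT.kid 3358 [0,3,3,5] (BT.out 0 [0]) (BT.kid 2680 [0,3,3,10] (BT.out 0 [0]) (BT.kid 1534 [0,3,6,6] (BT.out 0 [0]) (BT.kid 3188 [0,3,7,8] (BT.out 0 [0]) (BT.kid 125 [0,3,8,9] (BT.frc 0 [0] [4,4,10,8] (BT.out 0 [0,0,0])) (BT.kid 2762 [0,3,8,10] (BT.out 0 [0]) (BT.kid 3808 [0,5,1,5] (BT.out 0 [0]) (BT.kid 2370 [0,7,2,4] (BT.out 0 [0]) (BT.kid 251 [1,0,3,1] (BT.out 0 [0]) BT.nil)))))))))))))))))))))))))))))))))))))))))))))))))))))))))))))))))))))))))))))))))))))))))))))))))))))))))))))))))))))))))))))))))))))))))))))))))))))))))))))))))))))))))))))))))))))))))))))))))))))))))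
theorem cm70 : (spA 4600 x68s fA2).Clm (FixV [rU]) (LX 4 mvS) false 0 chA20 [] [] := SP.Clm.ofN (T := cm70T) (by decide +kernel)
noncomputable def cm71T : BT := (BT.br [[0]] (BT.kid 3231 [] (BT.br [[0]] (BT.kid 1 [] (BT.frc 0 [1] [] (BT.frc 0 [1,1] [] (BT.frc 0 [1] [] BT.live))) (BT.kid 1614 [11] (BT.out 0 [1]) (BT.kid 2165 [1,11] (BT.out 0 [1]) (BT.kid 3069 [1,12] (BT.out 0 [1]) (BT.kid 3159 [1,13] (BT.frc 0 [1] [12,12,15,17,17] (BT.frc 0 [1,1] [15,14,16,17,16] (BT.frc 0 [1] [17,17,17,18,17,18,18,17] (BT.nc 1 1)))) (BT.kid 2845 [1,14] (BT.out 0 [1]) (BT.kid 2583 [1,15] (BT.out 0 [1]) (BT.kid 1457 [1,16] (BT.out 0 [1]) (BT.kid 3221 [1,17] (BT.out 0 [1]) (BT.kid 2765 [1,18] (BT.out 0 [1]) (BT.kid 2477 [11,11] (BT.out 0 [1]) (BT.kid 2062 [11,12] (BT.frc 0 [1] [12,16,16,14]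 (BT.out 0 [1,1])) (BT.kid 532 [11,13] (BT.out 0 [1]) (BT.kid 1287 [11,14] (BT.frc 0 [1] [13,13,12,14] (BT.out 0 [1,1])) (BT.kid 1843 [11,16] (BT.out 0 [1]) (BT.kid 2403 [11,18] (BT.frc 0 [1] [12,13,16] (BT.out 0 [1,1])) (BT.kid 1548 [1,1,11] (BT.frc 0 [1] [13,17,16] (BT.frc 0 [1,1] [15,14,15] (BT.out 0 [1]))) (BT.kid 3164 [1,1,12] (BT.frc 0 [1] [12,13,13,12,18] (BT.out 0 [1,1])) (BT.kid 739 [1,1,13] (BT.frc 0 [1] [12,15,15,12] (BT.frc 0 [1,1] [15,15,15,17,14] (BT.out 0 [1]))) (BT.kid 2942 [1,1,14] (BT.out 0 [1]) (BT.kid 413 [1,1,15] (BT.out 0 [1]) (BT.kid 1421 [1,1,16] (BT.out 0 [1]) (BT.kid 3468 [1,1,17] (BT.frc 0 [1] [12,12,18,13] (BT.out 0 [1,1])) (BT.kid 1502 [1,1,18] (BT.frc 0 [1] [12,15,12,16] (BT.out 0 [1,1])) (BT.kid 1858 [1,11,12] (BT.frc 0 [1] [12,17,13,14]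 (BT.out 0 [1,1])) (BT.kid 3869 [1,11,13] (BT.out 0 [1]) (BT.kid 2541 [1,11,15] (BT.out 0 [1]) (BT.kid 848 [1,11,17] (BT.out 0 [1]) (BT.kid 1847 [1,11,18] (BT.frc 0 [1] [13,12,16] (BT.out 0 [1,1])) (BT.kid 2619 [1,12,12] (BT.out 0 [1]) (BT.kid 3317 [1,12,13] (BT.frc 0 [1] [12,12,12,13,14] (BT.frc 0 [1,1] [16,14,15,16,17] (BT.frc 0 [1] [17,17,18,17,17,17] (BT.nc 1 1)))) (BT.kid 2599 [1,12,15] (BT.out 0 [1]) (BT.kid 621 [1,12,16] (BT.frc 0 [1] [12,13,12,17] (BT.out 0 [1,1])) (BT.kid 2737 [1,12,18] (BT.out 0 [1]) (BT.kid 3806 [1,13,11] (BT.frc 0 [1] [12,18,14,15] (BT.frc 0 [1,1] [15,14,15,17,16] (BT.frc 0 [1] [17,17,18,18] (BT.nc 1 1)))) (BT.kid 3275 [1,13,18] (BT.frc 0 [1] [13,15,12] (BT.out 0 [1,1])) (BT.kid 494 [1,14,11] (BT.out 0 [1]) (BT.kid 2605 [1,14,13] (BT.out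 0 [1]) (BT.kid 550 [1,14,14] (BT.frc 0 [1] [12,14,13,17] (BT.frc 0 [1,1] [15,14,15,16,16] (BT.out 0 [1]))) (BT.kid 1445 [1,14,15] (BT.out 0 [1]) (BT.kid 3233 [1,14,17] (BT.frc 0 [1] [12,16,18,13] (BT.frc 0 [1,1] [15,15,18,15,14] (BT.frc 0 [1] [17,17,18,17,18,18,17] (BT.nc 1 1)))) (BT.kid 1759 [1,14,18] (BT.out 0 [1]) (BT.kid 2683 [1,15,15] (BT.out 0 [1]) (BT.kid 3295 [1,15,16] (BT.out 0 [1]) (BT.kid 2751 [1,16,17] (BT.out 0 [1]) (BT.kid 3191 [1,16,18] (BT.frc 0 [1] [12,13,12,13] (BT.out 0 [1,1])) (BT.kid 716 [1,17,11] (BT.out 0 [1]) (BT.kid 3211 [1,17,13] (BT.out 0 [1]) (BT.kid 3407 [1,17,17] (BT.out 0 [1]) (BT.kid 1709 [1,18,15] (BT.frc 0 [1] [12,13,12] (BT.out 0 [1,1])) (BT.kid 3485 [11,1,15] (BT.frc 0 [1] [13,18,17,16] (BT.frc 0 [1,1] [15,14,15,15,16] (BT.out 0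 [1]))) (BT.kid 2939 [11,1,16] (BT.frc 0 [1] [12,17,17] (BT.out 0 [1,1])) (BT.kid 3423 [11,1,17] (BT.out 0 [1]) (BT.kid 2757 [11,11,12] (BT.out 0 [1]) (BT.kid 3293 [11,11,14] (BT.out 0 [1]) (BT.kid 2999 [11,11,15] (BT.frc 0 [1] [13,12,15,17] (BT.out 0 [1,1])) (BT.kid 1827 [11,12,17] (BT.out 0 [1]) (BT.kid 2791 [11,13,11] (BT.out 0 [1]) (BT.kid 2854 [11,13,17] (BT.out 0 [1]) (BT.kid 3550 [11,13,18] (BT.out 0 [1]) (BT.kid 2070 [11,14,11] (BT.frc 0 [1] [12,13,12,17] (BT.out 0 [1,1])) (BT.kid 773 [11,14,12] (BT.out 0 [1]) (BT.kid 2440 [11,14,13] (BT.out 0 [1]) (BT.kid 2248 [11,14,18] (BT.out 0 [1]) (BT.kid 1362 [11,16,12] (BT.frc 0 [1] [12,13,14,12,16] (BT.out 0 [1,1])) (BT.kid 3751 [11,17,12] (BT.out 0 [1]) (BT.kid 2167 [11,17,14] (BT.out 0 [1]) (BT.kid 2515 [11,17,16]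 (BT.out 0 [1]) (BT.kid 2485 [11,18,11] (BT.out 0 [1]) (BT.kid 3366 [11,18,12] (BT.out 0 [1]) (BT.kid 2551 [11,18,17] (BT.out 0 [1]) (BT.kid 404 [11,18,18] (BT.frc 0 [1] [12,16,18,13] (BT.frc 0 [1,1] [15,14,18,14,16] (BT.out 0 [1]))) (BT.kid 3719 [1,1,12,16] (BT.out 0 [1]) (BT.kid 1991 [1,1,13,18] (BT.out 0 [1]) (BT.kid 4255 [1,1,14,17] (BT.out 0 [1]) (BT.kid 2127 [1,1,15,13] (BT.frc 0 [1] [13,12,15] (BT.frc 0 [1,1] [15,15,18,17,14] (BT.out 0 [1]))) (BT.kid 3743 [1,1,15,14] (BT.frc 0 [1] [12,12,13] (BT.frc 0 [1,1] [15,14,14,16,17] (BT.frc 0 [1] [18,17,18,18] (BT.nc 1 1)))) (BT.kid 1094 [1,11,15,11] (BT.out 0 [1]) (BT.kid 1035 [1,12,11,18] (BT.out 0 [1]) (BT.kid 2586 [1,12,17,11] (BT.frc 0 [1] [12,15,13,14,12] (BT.out 0 [1,1])) (BT.kid 3227 [1,15,18,13] (BT.frc 0 [1]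 [13,14,13,13] (BT.out 0 [1,1])) BT.nil)))))))))))))))))))))))))))))))))))))))))))))))))))))))))))))))))))))))))))))))))) (BT.kid 3920 [2] (BT.br [[0]] (BT.kid 888 [] (BT.frc 0 [1] [12,17,16,17] (BT.frc 0 [1,1] [15,16,15,18,18] (BT.frc 0 [1] [17,17,18,17,17,18,17] (BT.nc 1 1)))) (BT.kid 4024 [11] (BT.out 0 [1]) (BT.kid 3672 [1,11] (BT.out 0 [1]) (BT.kid 2241 [1,12] (BT.out 0 [1]) (BT.kid 3734 [1,13] (BT.frc 0 [1] [13,16,13] (BT.frc 0 [1,1] [16,14,16] (BT.frc 0 [1] [17,18,18,17,18] (BT.nc 1 1)))) (BT.kid 2808 [1,14] (BT.out 0 [1]) (BT.kid 635 [1,15] (BT.out 0 [1]) (BT.kid 3604 [1,16] (BT.out 0 [1]) (BT.kid 689 [1,17] (BT.out 0 [1]) (BT.kid 1978 [1,18] (BT.out 0 [1]) (BT.kid 4272 [11,11] (BT.out 0 [1]) (BT.kid 1373 [11,12] (BT.frc 0 [1] [12,17,13,12] (BT.out 0 [1,1]))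 (BT.kid 4456 [11,13] (BT.out 0 [1]) (BT.kid 3927 [11,14] (BT.frc 0 [1] [12,17,13] (BT.out 0 [1,1])) (BT.kid 4202 [11,16] (BT.out 0 [1]) (BT.kid 4038 [11,18] (BT.frc 0 [1] [12,16,16,14] (BT.out 0 [1,1])) (BT.kid 2379 [1,1,11] (BT.frc 0 [1] [12,12,18,15] (BT.frc 0 [1,1] [16,14,16,18,17] (BT.out 0 [1]))) (BT.kid 2656 [1,1,12] (BT.frc 0 [1] [13,16,16] (BT.out 0 [1,1])) (BT.kid 1307 [1,1,13] (BT.frc 0 [1] [12,17,13,14] (BT.frc 0 [1,1] [15,15,14,14] (BT.out 0 [1]))) (BT.kid 1828 [1,1,14] (BT.out 0 [1]) (BT.kid 1667 [1,1,15] (BT.out 0 [1]) (BT.kid 3792 [1,1,16] (BT.out 0 [1]) (BT.kid 2899 [1,1,17] (BT.frc 0 [1] [12,13,15,18] (BT.out 0 [1,1])) (BT.kid 2666 [1,1,18] (BT.frc 0 [1] [12,15,15,12] (BT.out 0 [1,1])) (BT.kid 1114 [1,11,12] (BT.frc 0 [1] [12,12,17,17] (BT.out 0 [1,1]))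 (BT.kid 3832 [1,11,13] (BT.out 0 [1]) (BT.kid 4339 [1,11,15] (BT.out 0 [1]) (BT.kid 3933 [1,11,17] (BT.out 0 [1]) (BT.kid 4418 [1,11,18] (BT.frc 0 [1] [12,13,16,14,14] (BT.out 0 [1,1])) (BT.kid 1884 [1,12,12] (BT.out 0 [1]) (BT.kid 4240 [1,12,13] (BT.frc 0 [1] [12,15,14,12] (BT.frc 0 [1,1] [15,15,17,18] (BT.frc 0 [1] [17,17,17,18,18,17,18] (BT.nc 1 3499)))) (BT.kid 519 [1,12,15] (BT.out 0 [1]) (BT.kid 3960 [1,12,16] (BT.frc 0 [1] [12,15,17,13] (BT.out 0 [1,1])) (BT.kid 673 [1,12,18] (BT.out 0 [1]) (BT.kid 4458 [1,13,11] (BT.frc 0 [1] [12,14,13,17] (BT.frc 0 [1,1] [15,14,15,17,16] (BT.frc 0 [1] [17,18,17,17] (BT.nc 1 1)))) (BT.kid 2041 [1,13,18] (BT.frc 0 [1] [12,13,12,17] (BT.out 0 [1,1])) (BT.kid 3728 [1,14,11] (BT.out 0 [1]) (BT.kid 3592 [1,14,13] (BT.out 0 [1])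 (BT.kid 2966 [1,14,14] (BT.frc 0 [1] [13,18,16] (BT.frc 0 [1,1] [15,14,16,17,16] (BT.out 0 [1]))) (BT.kid 1504 [1,14,15] (BT.out 0 [1]) (BT.kid 158 [1,14,17] (BT.frc 0 [1] [12,14,13,12] (BT.frc 0 [1,1] [16,15,14,17] (BT.frc 0 [1] [17,17,17,18,17,17,18] (BT.nc 1 1)))) (BT.kid 1822 [1,14,18] (BT.out 0 [1]) (BT.kid 2891 [1,15,15] (BT.out 0 [1]) (BT.kid 349 [1,15,16] (BT.out 0 [1]) (BT.kid 1786 [1,16,17] (BT.out 0 [1]) (BT.kid 610 [1,16,18] (BT.frc 0 [1] [12,17,18] (BT.out 0 [1,1])) (BT.kid 3917 [1,17,11] (BT.out 0 [1]) (BT.kid 2769 [1,17,13] (BT.out 0 [1]) (BT.kid 2960 [1,17,17] (BT.out 0 [1]) (BT.kid 189 [1,18,15] (BT.frc 0 [1] [12,14,12,15] (BT.out 0 [1,1])) (BT.kid 4352 [11,1,15] (BT.frc 0 [1] [12,16] (BT.frc 0 [1,1] [15,16,14,15,16] (BT.out 0 [1]))) (BT.kid 1402 [11,1,16]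 (BT.frc 0 [1] [12,18,16,17] (BT.out 0 [1,1])) (BT.kid 481 [11,1,17] (BT.out 0 [1]) (BT.kid 3862 [11,11,12] (BT.out 0 [1]) (BT.kid 3618 [11,11,14] (BT.out 0 [1]) (BT.kid 56 [11,11,15] (BT.frc 0 [1] [12,18,15] (BT.out 0 [1,1])) (BT.kid 4178 [11,12,17] (BT.out 0 [1]) (BT.kid 893 [11,13,11] (BT.out 0 [1]) (BT.kid 4412 [11,13,17] (BT.out 0 [1]) (BT.kid 4448 [11,13,18] (BT.out 0 [1]) (BT.kid 3876 [11,14,11] (BT.frc 0 [1] [12,13,16,14,14] (BT.out 0 [1,1])) (BT.kid 531 [11,14,12] (BT.out 0 [1]) (BT.kid 2113 [11,14,13] (BT.out 0 [1]) (BT.kid 3913 [11,14,18] (BT.out 0 [1]) (BT.kid 3857 [11,16,12] (BT.frc 0 [1] [12,12,15,17,16] (BT.out 0 [1,1])) (BT.kid 73 [11,17,12] (BT.out 0 [1]) (BT.kid 4324 [11,17,14] (BT.out 0 [1]) (BT.kid 1418 [11,17,16] (BT.out 0 [1]) (BT.kid 4208 [11,18,11]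 (BT.out 0 [1]) (BT.kid 3392 [11,18,12] (BT.out 0 [1]) (BT.kid 1855 [11,18,17] (BT.out 0 [1]) (BT.kid 2171 [11,18,18] (BT.frc 0 [1] [13,15,13,12] (BT.frc 0 [1,1] [15,15,18,14] (BT.out 0 [1]))) (BT.kid 1650 [1,1,12,16] (BT.out 0 [1]) (BT.kid 2918 [1,1,13,18] (BT.out 0 [1]) (BT.kid 228 [1,1,14,17] (BT.out 0 [1]) (BT.kid 4076 [1,1,15,13] (BT.frc 0 [1] [12,13,16,16] (BT.frc 0 [1,1] [16,14,15,17,14] (BT.out 0 [1]))) (BT.kid 1280 [1,1,15,14] (BT.frc 0 [1] [12,12,15,14] (BT.frc 0 [1,1] [14,18,15,18] (BT.frc 0 [1] [18,17,18,17,17,18] (BT.nc 1 1)))) (BT.kid 1478 [1,11,15,11] (BT.out 0 [1]) (BT.kid 4562 [1,12,11,18] (BT.out 0 [1]) (BT.kid 2242 [1,12,17,11] (BT.frc 0 [1] [12,13,16,14,14] (BT.out 0 [1,1])) (BT.kid 91 [1,15,18,13] (BT.frc 0 [1] [13,12,12] (BT.out 0 [1,1])) BT.nil))))))))))))))))))))))))))))))))))))))))))))))))))))))))))))))))))))))))))))))))))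 BT.nil)))
theorem cm71 : (spB 4600 x68s cx2 fB2).Clm (FixV [rU]) (LX 4 mvS) false 0 chB20 [] [] := SP.Clm.ofN (T := cm71T) (by decide +kernel)

end Cfsg.Agent.H6.Le.C2
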