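import Cfsg.Agent.H6.LeIo3
set_option maxRecDepth 100000
set_option Elab.async false
namespace Cfsg.Agent.H6.Le.C2
open Cfsg.Agent.H6
universe u

noncomputable def tl2 : List (List ℕ) := [[],[1],[1,1],[1,1,1],[1,1,1,1],[1,1,1,1,1],[1,1,1,1,1,1],[1,1,1,1,1,1,1],[1,1,1,1,1,1,1,1],[1,1,1,1,1,1,1,1,1],[1,1,1,1,1,1,1,1,1,1]]
noncomputable def orels2 : List (List ℕ × ℕ) := [([0,0,2,1],11),([0,0,1,2,0,0,2,1,1,2,0,2,1,0,1,2],12)]
theorem ex72 : exRow 4600 x68s orels2 1 [] 5 tl2 [(0,3231),(0,3231),(0,3231),(0,3231),(0,3231),(0,3231),(0,3231),(0,3231),(0,3231),(0,3231),(1,3231)] = true := by decide +kernel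
theorem ex73 : exRow 4600 x68s orels2 1 [] 1 tl2 [(0,0),(0,3231),(0,3231),(0,3231),(0,3231),(0,3231),(0,3231),(0,3231),(0,3231),(0,3231),(0,3231)] = true := by decide +kernel
theorem oh22 : relC 4600 na2 x68s chB20 23 2 10 0 cx2 orels2 = true := by decide +kernel
theorem oh32 : tabC x68s chB20 cx2 tl2 [[1,2,3,4,5,6,7,8,9,10,0]] = true := by decide +kernel
theorem od2 : OutD (FixV [rU]) 4600 (LX 4 mvS) x68s (dG g2 wa2) chB20 tl2 1 [] := OutD.of om02 card2 der69 chA2ok0 chB2ok0 fAok2 fBok2 cm70 cm71 (by norm_num) (ks := [1,5]) (by decide +kernel) oh22 oh32 (List.forall_mem_cons.2 ⟨⟨_, ex73⟩, (List.forall_mem_cons.2 ⟨⟨_, ex72⟩, (by simp)⟩)⟩)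
theorem out2 : Nat.card (Out (FixV [rU])) = 1 := od2.one

end Cfsg.Agent.H6.Le.C2
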