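import Cfsg.Agent.H6.LeL1
set_option maxRecDepth 100000
set_option Elab.async false
namespace Cfsg.Agent.H6.Le.Hs
open Cfsg.Agent.H6
universe u

noncomputable def waH : List (List ℕ) := [[0],[2],[4]]
noncomputable def naH0 : Net := (Net.cons (nat_lit 64) (nat_lit 0xdc1f3035f9572777)
  (Net.cons (nat_lit 32) (nat_lit 0x2ed37107000000003af8882e)
  (Net.cons (nat_lit 16) (nat_lit 0xb32700007e8500004fac0000f492)
  (Net.cons (nat_lit 8) (nat_lit 0x3a007a008d00b000ac008200a0008d)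
  (Net.cons (nat_lit 4) (nat_lit 0x5070006030b0001030802020d0b0c0c)
  (Net.cons (nat_lit 2) (nat_lit 0x11100213232210220030220211122001)
  (Net.cons (nat_lit 1) (nat_lit 0x10410014111014145400010114140544)
  (Net.cons (nat_lit 2) (nat_lit 0x2020000200200020202000000)
  (Net.cons (nat_lit 4) (nat_lit 0x20e08000800040c080c0a000a080c00)
  (Net.cons (nat_lit 8) (nat_lit 0x4a006a000400a000b40088000000c2)
  (Net.cons (nat_lit 16) (nat_lit 0xf33000007ea40000462c0000b794)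
  (Net.cons (nat_lit 32) (nat_lit 0xf6ce71380000000039f8c2ea)
  (Net.cons (nat_lit 64) (nat_lit 0xdc1f30357b36bd42)
  Net.nil)))))))))))))
noncomputable def naH1 : Net := (Net.cons (nat_lit 64) (nat_lit 0x4f6aa2b71b949a82)
  (Net.cons (nat_lit 32) (nat_lit 0x3e172d7400000000eff771ed)
  (Net.cons (nat_lit 16) (nat_lit 0x4a0b00001dce0000bef90000515a)
  (Net.cons (nat_lit 8) (nat_lit 0x1800730050008c007d00a400090000)
  (Net.cons (nat_lit 4) (nat_lit 0xe0c0a04000e000d0407060507000800)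
  (Net.cons (nat_lit 2) (nat_lit 0x10113321001020102120020021102001)
  (Net.cons (nat_lit 1) (nat_lit 0x11401404001441444451500011411004)
  (Net.cons (nat_lit 2) (nat_lit 0x20002000000220022000000020002000)
  (Net.cons (nat_lit 4) (nat_lit 0xc080e02000c000204040c000e000800)
  (Net.cons (nat_lit 8) (nat_lit 0x1c007800d000ce0014001600580010)
  (Net.cons (nat_lit 16) (nat_lit 0x676a00005de6000082fc00004156)
  (Net.cons (nat_lit 32) (nat_lit 0x3c1f2df4000000005f6768e2)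
  (Net.cons (nat_lit 64) (nat_lit 0x4f6aa2badcea1318)
  Net.nil)))))))))))))
noncomputable def naH2 : Net := (Net.cons (nat_lit 64) (nat_lit 0xda8dfe45eca6f78)
  (Net.cons (nat_lit 32) (nat_lit 0x5808d6350000000051ff0126)
  (Net.cons (nat_lit 16) (nat_lit 0x16000000dace000020e00000368e)
  (Net.cons (nat_lit 8) (nat_lit 0x8800d7008c002a00360070006e0010)
  (Net.cons (nat_lit 4) (nat_lit 0x9000a02050d0e0a020b05080c0d0002)
  (Net.cons (nat_lit 2) (nat_lit 0x11000331122102020020012232020211)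
  (Net.cons (nat_lit 1) (nat_lit 0x5001115005441404110000114450410)
  (Net.cons (nat_lit 2) (nat_lit 0x2220000002202000000022200200)
  (Net.cons (nat_lit 4) (nat_lit 0x8000a060c080400060a0402080c0002)
  (Net.cons (nat_lit 8) (nat_lit 0x80004a00d800080004005000f00050)
  (Net.cons (nat_lit 16) (nat_lit 0x56a000007c24000020e80000ded8)
  (Net.cons (nat_lit 32) (nat_lit 0x5ca0837e0000000091ec2130)
  (Net.cons (nat_lit 64) (nat_lit 0xda8dfe785e59160)
  Net.nil)))))))))))))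
noncomputable def naHl : List Net := [naH0,naH1,naH2]
noncomputable abbrev naH : ℕ → Net := lk Net.nil naHl
theorem om0H : IsModel 100 (LX 4 mvS) (dG gH waH) naH vT := mvm.dG (k := 7) (by decide +kernel)
theorem od0H : Der 100 (LX 4 mvS) (cl (dG gH waH) (lw [0, 1, 2])) (resN naH [0, 1, 2]) := Der.letters om0H _
noncomputable def x24 : Net := (Net.cons (nat_lit 64) (nat_lit 0x560bad9d17baa150)
  (Net.cons (nat_lit 32) (nat_lit 0xa98d9932000000005432fb4d)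
  (Net.cons (nat_lit 16) (nat_lit 0xf0a800003ef700002ed2000093c6)
  (Net.cons (nat_lit 8) (nat_lit 0x9100fc00b6005700e00039003a00a8)
  (Net.cons (nat_lit 4) (nat_lit 0x20901090e0e0d0e0b0a0f0d00030408)
  (Net.cons (nat_lit 2) (nat_lit 0x22230113000103313022110302312303)
  (Net.cons (nat_lit 1) (nat_lit 0x1000414144101515144411510510501)
  (Net.cons (nat_lit 2) (nat_lit 0x2000022200002000020020000000002)
  (Net.cons (nat_lit 4) (nat_lit 0xa00000e020a0c0c0a08020a000c0e0c)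
  (Net.cons (nat_lit 8) (nat_lit 0x10007c00f000140080005c00120068)
  (Net.cons (nat_lit 16) (nat_lit 0xf82a00003ea40000aeb600009166)
  (Net.cons (nat_lit 32) (nat_lit 0xbd8f3c32000000007c52f944)
  (Net.cons (nat_lit 64) (nat_lit 0x560bad96048050cc)
  Net.nil)))))))))))))
noncomputable def x24s : ℕ → Net := upd (resN naH [0, 1, 2]) 3 x24
theorem der25 : Der 100 (LX 4 mvS) (cl (dG gH waH) (lw [0, 1, 2])) x24s := od0H.ext (k := 7) (w := [2,0,0,1,2,2,2,2,2,2,1,0,2,2]) 3 (by decide +kernel)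
noncomputable def x26 : Net := (Net.cons (nat_lit 64) (nat_lit 0xe9f95355845a88d3)
  (Net.cons (nat_lit 32) (nat_lit 0x8db3c04f00000000689c1198)
  (Net.cons (nat_lit 16) (nat_lit 0xd48000004e590000943c0000bd2d)
  (Net.cons (nat_lit 8) (nat_lit 0x38008e00fc0034007e009e00e40003)
  (Net.cons (nat_lit 4) (nat_lit 0xb0409010403010a040d0004020b04)
  (Net.cons (nat_lit 2) (nat_lit 0x2200010100200120220020200220020)
  (Net.cons (nat_lit 1) (nat_lit 0x41504401441104011014400104011440)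
  (Net.cons (nat_lit 2) (nat_lit 0x2000202020202022020200200000020)
  (Net.cons (nat_lit 4) (nat_lit 0x808080c0a0804080800040000000a00)
  (Net.cons (nat_lit 8) (nat_lit 0x30000c006800640060008600c40000)
  (Net.cons (nat_lit 16) (nat_lit 0x1588000024c80000b0a000003d68)
  (Net.cons (nat_lit 32) (nat_lit 0xc423800600000000789a9190)
  (Net.cons (nat_lit 64) (nat_lit 0xe9f9535e948f8200)
  Net.nil)))))))))))))
noncomputable def x26s : ℕ → Net := upd x24s 4 x26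
theorem der27 : Der 100 (LX 4 mvS) (cl (dG gH waH) (lw [0, 1, 2])) x26s := der25.ext (k := 7) (w := [0,3,3,0,1,3,0,0]) 4 (by decide +kernel)
noncomputable def x28 : Net := (Net.cons (nat_lit 64) (nat_lit 0xf735824254f243dd)
  (Net.cons (nat_lit 32) (nat_lit 0x240d2fc2000000002fb1eb38)
  (Net.cons (nat_lit 16) (nat_lit 0xc0b40000e6db0000410a00004842)
  (Net.cons (nat_lit 8) (nat_lit 0x850036007f0014008300080008008d)
  (Net.cons (nat_lit 4) (nat_lit 0x10c0e0a0d000002080b0a0400000901)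
  (Net.cons (nat_lit 2) (nat_lit 0x2022101100200000030022210022300)
  (Net.cons (nat_lit 1) (nat_lit 0x14415140110140104511154040040110)
  (Net.cons (nat_lit 2) (nat_lit 0x2020020220020202020202000020200)
  (Net.cons (nat_lit 4) (nat_lit 0x20c000c00000402000a0a0408000400)
  (Net.cons (nat_lit 8) (nat_lit 0x40054006400c000a0000000c000ac)
  (Net.cons (nat_lit 16) (nat_lit 0x60b80000e6fe00004f0a000008ce)
  (Net.cons (nat_lit 32) (nat_lit 0x133d2dcc0000000027399b10)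
  (Net.cons (nat_lit 64) (nat_lit 0xf735824628f06a68)
  Net.nil)))))))))))))
noncomputable def x28s : ℕ → Net := upd x26s 5 x28
theorem der29 : Der 100 (LX 4 mvS) (cl (dG gH waH) (lw [0, 1, 2])) x28s := der27.ext (k := 7) (w := [1,4,4,1,1]) 5 (by decide +kernel)
noncomputable def x30 : Net := (Net.cons (nat_lit 64) (nat_lit 0x62514e106e0a8020)
  (Net.cons (nat_lit 32) (nat_lit 0xa8a16800000000006b800840)
  (Net.cons (nat_lit 16) (nat_lit 0x48100000e31000002a400000b928)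
  (Net.cons (nat_lit 8) (nat_lit 0xf200560012008800a000a200280052)
  (Net.cons (nat_lit 4) (nat_lit 0xe000a0808040c00000c00020c080805)
  (Net.cons (nat_lit 2) (nat_lit 0x22002000100303203102002020201222)
  (Net.cons (nat_lit 1) (nat_lit 0x14411041050510400000010140440040)
  (Net.cons (nat_lit 2) (nat_lit 0x20202000000000200000000020200020)
  (Net.cons (nat_lit 4) (nat_lit 0xe00080808040c00000800020408000c)
  (Net.cons (nat_lit 8) (nat_lit 0x1200520012008000a000a2002800d8)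
  (Net.cons (nat_lit 16) (nat_lit 0x40000000e310000022400000b828)
  (Net.cons (nat_lit 32) (nat_lit 0xa8a16800000000006b800840)
  (Net.cons (nat_lit 64) (nat_lit 0x62514e106e0a8020)
  Net.nil)))))))))))))
noncomputable def x30s : ℕ → Net := upd x28s 6 x30
theorem der31 : Der 100 (LX 4 mvS) (cl (dG gH waH) (lw [0, 1, 2])) x30s := der29.ext (k := 7) (w := [4,5,5,4,5,4,4]) 6 (by decide +kernel)
noncomputable def x32 : Net := (Net.cons (nat_lit 64) (nat_lit 0x910a590bc7911978)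
  (Net.cons (nat_lit 32) (nat_lit 0x8a09d94c0000000009b10a2d)
  (Net.cons (nat_lit 16) (nat_lit 0x89480000bc240000cf34000055d0)
  (Net.cons (nat_lit 8) (nat_lit 0x4800000076004700f0007b00820086)
  (Net.cons (nat_lit 4) (nat_lit 0x80000000f08020f0e0a0f0409020c06)
  (Net.cons (nat_lit 2) (nat_lit 0x10001003303020210000200300201030)
  (Net.cons (nat_lit 1) (nat_lit 0x1014004110011111405110411100441)
  (Net.cons (nat_lit 2) (nat_lit 0x20002000000202000000000000000)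
  (Net.cons (nat_lit 4) (nat_lit 0x8000c080008060a080600000800)
  (Net.cons (nat_lit 8) (nat_lit 0x480000002e00440054001e00b800e2)
  (Net.cons (nat_lit 16) (nat_lit 0x88400000cc3c0000c970000075d0)
  (Net.cons (nat_lit 32) (nat_lit 0xa09894c000000004db5aa3c)
  (Net.cons (nat_lit 64) (nat_lit 0x910a590bc7911938)
  Net.nil)))))))))))))
noncomputable def x32s : ℕ → Net := upd x30s 7 x32
theorem der33 : Der 100 (LX 4 mvS) (cl (dG gH waH) (lw [0, 1, 2])) x32s := der31.ext (k := 7) (w := [4,5,4,4,4,5,5,4,5,4]) 7 (by decide +kernel)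
noncomputable def x34 : Net := (Net.cons (nat_lit 64) (nat_lit 0xa1e7f2061a3a40fb)
  (Net.cons (nat_lit 32) (nat_lit 0xb691012800000000170e8078)
  (Net.cons (nat_lit 16) (nat_lit 0x61ef000092ec00001a1a0000c5c8)
  (Net.cons (nat_lit 8) (nat_lit 0x8d00e2004c00ea0004007f00600008)
  (Net.cons (nat_lit 4) (nat_lit 0xb0a00040a0e09000e0601080f060d)
  (Net.cons (nat_lit 2) (nat_lit 0x11021200122200220110000010231211)
  (Net.cons (nat_lit 1) (nat_lit 0x15151001504104010040400011144445)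
  (Net.cons (nat_lit 2) (nat_lit 0x202020020200020220020)
  (Net.cons (nat_lit 4) (nat_lit 0x80a020c020408000e0800080e0802)
  (Net.cons (nat_lit 8) (nat_lit 0x880040000400e200080078006800c6)
  (Net.cons (nat_lit 16) (nat_lit 0xe2e800003a2600001e1600009dc0)
  (Net.cons (nat_lit 32) (nat_lit 0xb6d303200000000011068026)
  (Net.cons (nat_lit 64) (nat_lit 0xa1e7f2023ca843c6)
  Net.nil)))))))))))))
noncomputable def x34s : ℕ → Net := upd x32s 8 x34
theorem der35 : Der 100 (LX 4 mvS) (cl (dG gH waH) (lw [0, 1, 2])) x34s := der33.ext (k := 7) (w := [5,4,5]) 8 (by decide +kernel)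
noncomputable def x36 : Net := (Net.cons (nat_lit 64) (nat_lit 0x88c70c1b6b19591a)
  (Net.cons (nat_lit 32) (nat_lit 0x58c5b61c000000001f728024)
  (Net.cons (nat_lit 16) (nat_lit 0x20c100002266000054700000cdc4)
  (Net.cons (nat_lit 8) (nat_lit 0xf8001800600041007a004f00c50004)
  (Net.cons (nat_lit 4) (nat_lit 0x5080b0406040a060a0005030b0204)
  (Net.cons (nat_lit 2) (nat_lit 0x202001210200200310102003101030)
  (Net.cons (nat_lit 1) (nat_lit 0x151050405101110450114101415001)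
  (Net.cons (nat_lit 2) (nat_lit 0x202000200202020000022000000000)
  (Net.cons (nat_lit 4) (nat_lit 0xe0006000602080608000400020006)
  (Net.cons (nat_lit 8) (nat_lit 0xf800920068006200580048009c00b2)
  (Net.cons (nat_lit 16) (nat_lit 0xb8c2000026300000547000009fc8)
  (Net.cons (nat_lit 32) (nat_lit 0x58c5b61c000000003d7ad044)
  (Net.cons (nat_lit 64) (nat_lit 0x88c70c1b6b19591a)
  Net.nil)))))))))))))
noncomputable def x36s : ℕ → Net := upd x34s 9 x36
theorem der37 : Der 100 (LX 4 mvS) (cl (dG gH waH) (lw [0, 1, 2])) x36s := der35.ext (k := 7) (w := [8,7,6,8,6,7]) 9 (by decide +kernel)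
noncomputable def x38 : Net := (Net.cons (nat_lit 64) (nat_lit 0xaa77bebbe0983859)
  (Net.cons (nat_lit 32) (nat_lit 0x48fef70b00000000be058b77)
  (Net.cons (nat_lit 16) (nat_lit 0xd15800003982000098c10000601c)
  (Net.cons (nat_lit 8) (nat_lit 0x3c00f2008c003f0045006a00f40081)
  (Net.cons (nat_lit 4) (nat_lit 0x30b02080205020502000b0b020c0c09)
  (Net.cons (nat_lit 2) (nat_lit 0x1221021201201010103001303320100)
  (Net.cons (nat_lit 1) (nat_lit 0x50101440101410114501101144140440)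
  (Net.cons (nat_lit 2) (nat_lit 0x200000202020000002000202020000)
  (Net.cons (nat_lit 4) (nat_lit 0x208000400000a040a04000206080c08)
  (Net.cons (nat_lit 8) (nat_lit 0x84009600280000000c006800d40090)
  (Net.cons (nat_lit 16) (nat_lit 0xb1f40000bb820000d3c00000319c)
  (Net.cons (nat_lit 32) (nat_lit 0x62fa73a000000000eb85ca76)
  (Net.cons (nat_lit 64) (nat_lit 0xaa77beb16d86c008)
  Net.nil)))))))))))))
noncomputable def x38s : ℕ → Net := upd x36s 10 x38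
theorem der39 : Der 100 (LX 4 mvS) (cl (dG gH waH) (lw [0, 1, 2])) x38s := der37.ext (k := 7) (w := [3,0,0,0,1,1,0,3]) 10 (by decide +kernel)
noncomputable def x40 : Net := (Net.cons (nat_lit 64) (nat_lit 0xa063ff4021561708)
  (Net.cons (nat_lit 32) (nat_lit 0x84b7446a00000000ac359026)
  (Net.cons (nat_lit 16) (nat_lit 0x85a20000ac1a000039b1000048b6)
  (Net.cons (nat_lit 8) (nat_lit 0x110010008600ec0038001100c20009)
  (Net.cons (nat_lit 4) (nat_lit 0xb040001010804060208090b09040202)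
  (Net.cons (nat_lit 2) (nat_lit 0x2200210001221200001000320000232)
  (Net.cons (nat_lit 1) (nat_lit 0x1410414010111055404100110140541)
  (Net.cons (nat_lit 2) (nat_lit 0x200222020220000000200220020022)
  (Net.cons (nat_lit 4) (nat_lit 0xa00040e020c08040008000800040202)
  (Net.cons (nat_lit 8) (nat_lit 0x3000fa00e600ae00ac00a000ca0048)
  (Net.cons (nat_lit 16) (nat_lit 0x85a2000004100000b9040000053a)
  (Net.cons (nat_lit 32) (nat_lit 0xa4b6772400000000b7299082)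
  (Net.cons (nat_lit 64) (nat_lit 0xa063ff4504bbbec6)
  Net.nil)))))))))))))
noncomputable def x40s : ℕ → Net := upd x38s 11 x40
theorem der41 : Der 100 (LX 4 mvS) (cl (dG gH waH) (lw [0, 1, 2])) x40s := der39.ext (k := 7) (w := [10,1,10,10,1,10,1,10,1,10,10]) 11 (by decide +kernel)
noncomputable def x42 : Net := (Net.cons (nat_lit 64) (nat_lit 0x4f8e0000000000)
  (Net.cons (nat_lit 32) (nat_lit 0x2a7fae00000000001a961210)
  (Net.cons (nat_lit 16) (nat_lit 0xa43000000a5c000036e0000090c2)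
  (Net.cons (nat_lit 8) (nat_lit 0x20024008800620010003000c90010)
  (Net.cons (nat_lit 4) (nat_lit 0xc08040a0a0d0e0804020408060d0804)
  (Net.cons (nat_lit 2) (nat_lit 0x20012020220223012332000000200020)
  (Net.cons (nat_lit 1) (nat_lit 0x40404010014440000004010015151014)
  (Net.cons (nat_lit 2) (nat_lit 0x20002020020220000002000020000020)
  (Net.cons (nat_lit 4) (nat_lit 0x40804080a0c0e00040200000c040004)
  (Net.cons (nat_lit 8) (nat_lit 0x24008800620010000000320010)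
  (Net.cons (nat_lit 16) (nat_lit 0xa43000000a5c000036e0000090c2)
  (Net.cons (nat_lit 32) (nat_lit 0x2a7fae00000000001a961210)
  (Net.cons (nat_lit 64) (nat_lit 0x4f8e0000000000)
  Net.nil)))))))))))))
noncomputable def x42s : ℕ → Net := upd x40s 12 x42
theorem der43 : Der 100 (LX 4 mvS) (cl (dG gH waH) (lw [0, 1, 2])) x42s := der41.ext (k := 7) (w := [11,11,1,11]) 12 (by decide +kernel)
noncomputable def x44 : Net := (Net.cons (nat_lit 64) (nat_lit 0x21a020009d00a410)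
  (Net.cons (nat_lit 32) (nat_lit 0x2030404800000000704695a8)
  (Net.cons (nat_lit 16) (nat_lit 0x6000000079a800004a980000466c)
  (Net.cons (nat_lit 8) (nat_lit 0x10002000d800c80004005c00180088)
  (Net.cons (nat_lit 4) (nat_lit 0x10000060e02020d08050a08080e0c00)
  (Net.cons (nat_lit 2) (nat_lit 0x20200002000020233013001100013003)
  (Net.cons (nat_lit 1) (nat_lit 0x40000001011411155041504001501455)
  (Net.cons (nat_lit 2) (nat_lit 0x20000002000020200002000000002000)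
  (Net.cons (nat_lit 4) (nat_lit 0x202020408080a08000e0000)
  (Net.cons (nat_lit 8) (nat_lit 0x10002000d800c80004001400180088)
  (Net.cons (nat_lit 16) (nat_lit 0x60000000588800004a980000466c)
  (Net.cons (nat_lit 32) (nat_lit 0x2030404800000000304e8488)
  (Net.cons (nat_lit 64) (nat_lit 0x21a020009d00a410)
  Net.nil)))))))))))))
noncomputable def x44s : ℕ → Net := upd x42s 13 x44
theorem der45 : Der 100 (LX 4 mvS) (cl (dG gH waH) (lw [0, 1, 2])) x44s := der43.ext (k := 7) (w := [12,1,1,1,1,12,1,12]) 13 (by decide +kernel)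
noncomputable def x46 : Net := (Net.cons (nat_lit 64) (nat_lit 0x76d3d9021c00000)
  (Net.cons (nat_lit 32) (nat_lit 0xc54f401400000000e8061044)
  (Net.cons (nat_lit 16) (nat_lit 0xb0000000144e0000800800002118)
  (Net.cons (nat_lit 8) (nat_lit 0x42008a006000000004001200000022)
  (Net.cons (nat_lit 4) (nat_lit 0x10a04000a0004010000000408000a00)
  (Net.cons (nat_lit 2) (nat_lit 0x20000001010002201002001020302003)
  (Net.cons (nat_lit 1) (nat_lit 0x40410100500151400400400105510115)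
  (Net.cons (nat_lit 2) (nat_lit 0x20000000000002200000000000000000)
  (Net.cons (nat_lit 4) (nat_lit 0xa00000a0004000000000408000a00)
  (Net.cons (nat_lit 8) (nat_lit 0x400002004000000004001200000022)
  (Net.cons (nat_lit 16) (nat_lit 0xb000000014420000800800002118)
  (Net.cons (nat_lit 32) (nat_lit 0xc54f401400000000e8061004)
  (Net.cons (nat_lit 64) (nat_lit 0x76d3d9021c00000)
  Net.nil)))))))))))))
noncomputable def x46s : ℕ → Net := upd x44s 14 x46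
theorem der47 : Der 100 (LX 4 mvS) (cl (dG gH waH) (lw [0, 1, 2])) x46s := der45.ext (k := 7) (w := [13,1,1]) 14 (by decide +kernel)
noncomputable def x48 : Net := (Net.cons (nat_lit 64) (nat_lit 0xe7e1e6275a1288c0)
  (Net.cons (nat_lit 32) (nat_lit 0xadc20388000000004a06105d)
  (Net.cons (nat_lit 16) (nat_lit 0x65a200007ebb0000198a0000a95b)
  (Net.cons (nat_lit 8) (nat_lit 0x6400cf00e200b800cc000200350020)
  (Net.cons (nat_lit 4) (nat_lit 0xa0c0000070604010b0a000d0b0f0201)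
  (Net.cons (nat_lit 2) (nat_lit 0x2020102010112012310022021030221)
  (Net.cons (nat_lit 1) (nat_lit 0x41050444100140100140001011145444)
  (Net.cons (nat_lit 2) (nat_lit 0x22000002000200000220002022200220)
  (Net.cons (nat_lit 4) (nat_lit 0x80804000c0400020a000802040008)
  (Net.cons (nat_lit 8) (nat_lit 0x400ca0088009800cc000a003000d0)
  (Net.cons (nat_lit 16) (nat_lit 0x7800000da8200000984000099da)
  (Net.cons (nat_lit 32) (nat_lit 0x8a03e588000000005a020042)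
  (Net.cons (nat_lit 64) (nat_lit 0xe7e1e6257a1c47e0)
  Net.nil)))))))))))))
noncomputable def x48s : ℕ → Net := upd x46s 15 x48
theorem der49 : Der 100 (LX 4 mvS) (cl (dG gH waH) (lw [0, 1, 2])) x48s := der47.ext (k := 7) (w := [14,2]) 15 (by decide +kernel)
theorem nokH : NetsOk 100 x48s vT := der49.elim fun _ h => h.1.ok
noncomputable def chAH6 : Ch := []
noncomputable def chAHD5 : ℕ := (nat_lit 0x2200000000020000)
noncomputable def chAH5 : Ch := (17, chAHD5, [9]) :: chAH6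
theorem chAHok5 : ChnL (FixV [rU1,rV]) 100 (LX 4 mvS) x48s chAH5 3 := ChnL.cons2 (l0 := [9]) (n := 3) (B := 1) (k := 4) (rr := 300) ChnL.nil (by decide +kernel) (by decide +kernel)
noncomputable def chAHD4 : ℕ := (nat_lit 0x860119202270800000820000)
noncomputable def chAH4 : Ch := (95, chAHD4, [6,7,8,9]) :: chAH5
theorem chAHok4 : ChnL (FixV [rU1,rV]) 100 (LX 4 mvS) x48s chAH4 48 := ChnL.cons2 (l0 := [6,7,8]) (n := 16) (B := 3) (k := 4) (rr := 300) chAHok5 (by decide +kernel) (by decide +kernel)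
noncomputable def chAHD3 : ℕ := (nat_lit 0x860719202270800800920000)
noncomputable def chAH3 : Ch := (82, chAHD3, [4,5,6,7,8,9]) :: chAH4
theorem chAHok3 : ChnL (FixV [rU1,rV]) 100 (LX 4 mvS) x48s chAH3 960 := ChnL.cons2 (l0 := [4,5]) (n := 20) (B := 48) (k := 4) (rr := 300) chAHok4 (by decide +kernel) (by decide +kernel)
noncomputable def chAHD2 : ℕ := (nat_lit 0x860719202270808800920000)
noncomputable def chAH2 : Ch := (39, chAHD2, [1,4,5,6,7,8,9]) :: chAH3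
theorem chAHok2 : ChnL (FixV [rU1,rV]) 100 (LX 4 mvS) x48s chAH2 20160 := ChnL.cons2 (l0 := [1,4]) (n := 21) (B := 960) (k := 4) (rr := 300) chAHok3 (by decide +kernel) (by decide +kernel)
noncomputable def chAHD1 : ℕ := (nat_lit 0x860719202270808800924000)
noncomputable def chAH1 : Ch := (14, chAHD1, [0,1,3,4,5,6,7,8,9]) :: chAH2
theorem chAHok1 : ChnL (FixV [rU1,rV]) 100 (LX 4 mvS) x48s chAH1 443520 := ChnL.cons2 (l0 := [0,1,3]) (n := 22) (B := 20160) (k := 4) (rr := 300) chAHok2 (by decide +kernel) (by decide +kernel)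
noncomputable def chAHD0 : ℕ := (nat_lit 0xfffffffffffffffffffffffff)
noncomputable def chAH0 : Ch := (10, chAHD0, [0,1,2,3,4,5,6,7,8,9]) :: chAH1
theorem chAHok0 : ChnL (FixV [rU1,rV]) 100 (LX 4 mvS) x48s chAH0 44352000 := ChnL.cons2 (l0 := [0,1,2]) (n := 100) (B := 443520) (k := 4) (rr := 300) chAHok1 (by decide +kernel) (by decide +kernel)
noncomputable def chBH7 : Ch := []
noncomputable def chBHD6 : ℕ := (nat_lit 0x400800000000000000000000)
noncomputable def chBH6 : Ch := (83, chBHD6, [14]) :: chBH7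
theorem chBHok6 : ChnL (FixV [rU1,rV]) 100 (LX 4 mvS) x48s chBH6 2 := ChnL.cons2 (l0 := [14]) (n := 2) (B := 1) (k := 4) (rr := 300) ChnL.nil (by decide +kernel) (by decide +kernel)
noncomputable def chBHD5 : ℕ := (nat_lit 0x400800020001000000000008)
noncomputable def chBH5 : Ch := (3, chBHD5, [1,13,14]) :: chBH6
theorem chBHok5 : ChnL (FixV [rU1,rV]) 100 (LX 4 mvS) x48s chBH5 10 := ChnL.cons2 (l0 := [1,13]) (n := 5) (B := 2) (k := 4) (rr := 300) chBHok6 (by decide +kernel) (by decide +kernel)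
noncomputable def chBHD4 : ℕ := (nat_lit 0x840000000000008800820000)
noncomputable def chBH4 : Ch := (23, chBHD4, [1,12,13,14]) :: chBH5
theorem chBHok4 : ChnL (FixV [rU1,rV]) 100 (LX 4 mvS) x48s chBH4 60 := ChnL.cons2 (l0 := [1,12]) (n := 6) (B := 10) (k := 4) (rr := 300) chBHok5 (by decide +kernel) (by decide +kernel)
noncomputable def chBHD3 : ℕ := (nat_lit 0x20210000210000000004000)
noncomputable def chBH3 : Ch := (14, chBHD3, [1,11,12,13,14]) :: chBH4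
theorem chBHok3 : ChnL (FixV [rU1,rV]) 100 (LX 4 mvS) x48s chBH3 360 := ChnL.cons2 (l0 := [1,11]) (n := 6) (B := 60) (k := 4) (rr := 300) chBHok4 (by decide +kernel) (by decide +kernel)
noncomputable def chBHD2 : ℕ := (nat_lit 0x221800000000001261a040330)
noncomputable def chBH2 : Ch := (33, chBHD2, [1,10,11,12,13,14]) :: chBH3
theorem chBHok2 : ChnL (FixV [rU1,rV]) 100 (LX 4 mvS) x48s chBH2 5760 := ChnL.cons2 (l0 := [1,10]) (n := 16) (B := 360) (k := 4) (rr := 300) chBHok3 (by decide +kernel) (by decide +kernel)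
noncomputable def chBHD1 : ℕ := (nat_lit 0xf79f8e6dfdd8f7f77ff6dbbff)
noncomputable def chBH1 : Ch := (73, chBHD1, [0,1,3,10,11,12,13,14]) :: chBH2
theorem chBHok1 : ChnL (FixV [rU1,rV]) 100 (LX 4 mvS) x48s chBH1 443520 := ChnL.cons2 (l0 := [0,1,3]) (n := 77) (B := 5760) (k := 4) (rr := 300) chBHok2 (by decide +kernel) (by decide +kernel)
noncomputable def chBHD0 : ℕ := (nat_lit 0xfffffffffffffffffffffffff)
noncomputable def chBH0 : Ch := (10, chBHD0, [0,1,2,3,10,11,12,13,14]) :: chBH1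
theorem chBHok0 : ChnL (FixV [rU1,rV]) 100 (LX 4 mvS) x48s chBH0 44352000 := ChnL.cons2 (l0 := [0,1,2]) (n := 100) (B := 443520) (k := 4) (rr := 300) chBHok1 (by decide +kernel) (by decide +kernel)
noncomputable def fAH0 : ℕ := (nat_lit 1024)
noncomputable def fAH : List (List ℕ × ℕ) := [([0],fAH0)]
noncomputable def fBH0 : ℕ := (nat_lit 0x2000000000200804400)
noncomputable def fBH : List (List ℕ × ℕ) := [([1],fBH0)]
noncomputable def cxH : List (List ℕ) := [[1],[15]]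
theorem fAokH : (spA 100 x48s fAH).FixOk := SP.fixOk_of _ nokH (k := 7) (by decide +kernel)
theorem fBokH : (spB 100 x48s cxH fBH).FixOk := SP.fixOk_of _ nokH (k := 7) (by decide +kernel)
noncomputable def cm50T : BT := (BT.br [] (BT.kid 10 [] (BT.br [[0]] (BT.kid 14 [] (BT.frc 0 [0] [] (BT.frc 0 [0] [] (BT.frc 0 [0] [] (BT.frc 0 [0] [] BT.live)))) (BT.kid 76 [0,4] (BT.frc 0 [0] [1,4,6] (BT.frc 0 [0] [5,4] (BT.frc 0 [0] [6,9] (BT.out 0 [0])))) BT.nil))) BT.nil))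
theorem cm50 : (spA 100 x48s fAH).Clm (FixV [rU1,rV]) (LX 4 mvS) false 0 chAH0 [] [] := SP.Clm.ofN (T := cm50T) (by decide +kernel)
noncomputable def cm51T : BT := (BT.br [[0],[1]] (BT.kid 10 [] (BT.br [[0]] (BT.kid 73 [] (BT.br [] (BT.kid 33 [] (BT.br [] (BT.kid 14 [] (BT.br [] (BT.kid 23 [] (BT.br [[0]] (BT.kid 3 [] (BT.frc 0 [1] [] BT.live) BT.nil)) BT.nil)) BT.nil)) BT.nil)) (BT.kid 33 [0,0,1,3] (BT.br [] (BT.kid 73 [10,1,11] (BT.br [] (BT.kid 23 [11,11] (BT.br [] (BT.kid 14 [12,1,1] (BT.br [[0]] (BT.kid 40 [] (BT.out 0 [1]) BT.nil)) BT.nil)) BT.nil)) BT.nil)) BT.nil))) BT.nil))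
theorem cm51 : (spB 100 x48s cxH fBH).Clm (FixV [rU1,rV]) (LX 4 mvS) false 0 chBH0 [] [] := SP.Clm.ofN (T := cm51T) (by decide +kernel)
noncomputable def tlH : List (List ℕ) := [[],[1],[15],[1,1],[15,1],[15,15],[1,1,1],[15,1,1],[15,15,1],[15,15,15],[1,1,1,1],[15,1,1,1],[15,15,1,1],[15,15,15,1],[15,15,15,15],[15,1,1,1,1],[15,15,1,1,1],[15,15,15,1,1],[15,15,15,15,1],[15,15,1,1,1,1],[15,15,15,1,1,1],[15,15,15,15,1,1],[15,15,15,1,1,1,1],[15,15,15,15,1,1,1],[15,15,15,15,1,1,1,1]]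
noncomputable def orelsH : List (List ℕ × ℕ) := [([0,0,0,2],4)]
theorem ex52 : exRow 100 x48s orelsH 2 [15,15,15,1,1,1,1] 2 tlH [(0,10),(0,10),(0,10),(0,10),(0,10),(0,10),(0,10),(0,10),(0,10),(0,10),(0,10),(0,10),(0,10),(0,10),(0,73),(0,10),(0,10),(0,10),(0,73),(0,10),(0,10),(0,73),(0,0),(0,73),(0,73)] = true := by decide +kernel
theorem ex53 : exRow 100 x48s orelsH 2 [15,15,15,1,1,1,1] 1 tlH [(0,0),(0,10),(0,10),(0,10),(0,10),(0,10),(0,10),(0,10),(0,10),(0,10),(0,10),(0,10),(0,10),(0,10),(0,73),(0,10),(0,10),(0,10),(0,73),(0,10),(0,10),(0,73),(0,10),(0,73),(0,73)] = true := by decide +kernel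
theorem oh2H : relC 100 naH x48s chBH0 11 3 4 0 cxH orelsH = true := by decide +kernel
theorem oh3H : tabC x48s chBH0 cxH tlH [[1,3,4,6,7,8,10,11,12,13,0,15,16,17,18,2,19,20,21,5,22,23,9,24,14],[2,4,5,7,8,9,11,12,13,14,15,16,17,18,0,19,20,21,1,22,23,3,24,6,10]] = true := by decide +kernel
theorem odH : OutD (FixV [rU1,rV]) 100 (LX 4 mvS) x48s (dG gH waH) chBH0 tlH 2 [15,15,15,1,1,1,1] := OutD.of om0H C3.cardH der49 chAHok0 chBHok0 fAokH fBokH cm50 cm51 (by norm_num) (ks := [1,2]) (by decide +kernel) oh2H oh3H (List.forall_mem_cons.2 ⟨⟨_, ex53⟩, (List.forall_mem_cons.2 ⟨⟨_, ex52⟩, (by simp)⟩)⟩)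
noncomputable def An : ℕ → Rw := lk (0, 0) [((nat_lit 2),(nat_lit 0x620200000002020200020000)),((nat_lit 0x20200000002000200020000),(nat_lit 0x200000000000060000000002)),((nat_lit 0x2000220002002000200),(nat_lit 0x2020222000200020202020)),((nat_lit 0x22200200002000020),(nat_lit 0x2022200020002020202200)),((nat_lit 0x2020000000000022000220),(nat_lit 0x2222220202000202000)),((nat_lit 0x20220000202000000200),(nat_lit 0x2002002220000022202020)),((nat_lit 0x200200000000202220),(nat_lit 0x2022022020202022000000)),((nat_lit 0x2020000002020002020),(nat_lit 0x2020202220200002200200)),((nat_lit 0x2002200000200002002000),(nat_lit 0x20022220002020200220)),((nat_lit 0x20002000002002202000),(nat_lit 0x2002220220200020000220)),((nat_lit 0x2002022000000000200200),(nat_lit 0x20200220202022002020)),((nat_lit 0x2020200020002200),(nat_lit 0x2022220200002002200020)),((nat_lit 0x2000202200002020000000),(nat_lit 0x22020020200002202220)),((nat_lit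 0x20200000002020200000000),(nat_lit 0x200000000000000000060002)),((nat_lit 0x22202020000000000020),(nat_lit 0x2000020200202022202200)),((nat_lit 0x200000002020200020000),(nat_lit 0x260000000000000000000002)),((nat_lit 0x22000200200020200000),(nat_lit 0x2000222020002002002220)),((nat_lit 0x20000000002020200020000),(nat_lit 0x200600000000000000000002)),((nat_lit 0x20200000000020200020000),(nat_lit 0x200000000006000000000002)),((nat_lit 0x20200000002020000020000),(nat_lit 0x200000000000000600000002)),((nat_lit 0x2020020220000000002000),(nat_lit 0x2202000202022200220)),((nat_lit 0x220020000022200000),(nat_lit 0x2022002200202000002220)),((nat_lit 0x2000000020202000200020),(nat_lit 0x22222200000022002200)),((nat_lit 0x200000000000000000000000),(nat_lit 0x20200000002020200020006))]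
theorem Anm : IsMat (coM An) An := isMat_coM (T := lk [] [[(nat_lit 0x22feaee73fc9b),(nat_lit 0x17ffffe7fffcf),(nat_lit 0x3fffffe000020),(nat_lit 0x2fffffeffffff),(nat_lit 0x1000000)],[(nat_lit 0x22feaee73fc9b),(nat_lit 0x15015103e8482),(nat_lit 0x2fffbffcd7b7d),(nat_lit 0x3ffffffffffff)],[(nat_lit 0x22feaee73fc9b),(nat_lit 0x22b88aab77d92),(nat_lit 0x1d47755080265),(nat_lit 0x3ffffffffffff)],[(nat_lit 0x22feaee73fc9b),(nat_lit 0x22e22acddf6b9),(nat_lit 0x1d1dd53200944),(nat_lit 0x3ffffffffffff)],[(nat_lit 0x22feaee73fc9b),(nat_lit 0x207ea28d1bbbf),(nat_lit 0x1f815d72e0040),(nat_lit 0x3ffffffffffff)],[(nat_lit 0x22feaee73fc9b),(nat_lit 0x224e0eae6ec7f),(nat_lit 0x1db1f15090380),(nat_lit 0x3ffffffffffff)],[(nat_lit 0x22feaee73fc9b),(nat_lit 0x22daac0b7fe71),(nat_lit 0x1d2553f480106),(nat_lit 0x3ffffffffffff)],[(nat_lit 0x22feaee73fc9b),(nat_lit 0x22ae864fb96be),(nat_lit 0x1d5179b044141),(nat_lit 0x3ffffffffffff)],[(nat_lit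 0x22feaee73fc9b),(nat_lit 0x209e2a6f9ec59),(nat_lit 0x1f61d59060324),(nat_lit 0x3ffffffffffff)],[(nat_lit 0x22feaee73fc9b),(nat_lit 0x2276886c7efb3),(nat_lit 0x1d8977918004c),(nat_lit 0x3ffffffffffff)],[(nat_lit 0x22feaee73fc9b),(nat_lit 0x20a6acaf765f9),(nat_lit 0x1f59535089204),(nat_lit 0x3ffffffffffff)],[(nat_lit 0x22feaee73fc9b),(nat_lit 0x22f4262ba7d7b),(nat_lit 0x1d0bd9d440284),(nat_lit 0x3ffffffffffff)],[(nat_lit 0x22feaee73fc9b),(nat_lit 0x20d286ef6b89e),(nat_lit 0x1f2d791084360),(nat_lit 0x3ffffffffffff)],[(nat_lit 0x22feaee73fc9b),(nat_lit 0x150151020c94b),(nat_lit 0x2ffffefdf37f4),(nat_lit 0x3ffffffffffff)],[(nat_lit 0x22feaee73fc9b),(nat_lit 0x2214aecdb75b7),(nat_lit 0x1deb513048a40),(nat_lit 0x3ffffffffffff)],[(nat_lit 0x22feaee73fc9b),(nat_lit 0x1501510716504),(nat_lit 0x2bfffff8e9bff),(nat_lit 0x3ffffffffffff)],[(nat_lit 0x22feaee73fc9b),(nat_lit 0x223a24ee3db9a),(nat_lit 0x1dc5db10c0464),(nat_lit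 0x3ffffffffffff)],[(nat_lit 0x22feaee73fc9b),(nat_lit 0x1501510135ac0),(nat_lit 0x2efffffeca77f),(nat_lit 0x3ffffffffffff)],[(nat_lit 0x22feaee73fc9b),(nat_lit 0x1501510461c0d),(nat_lit 0x2ffefffbde3f6),(nat_lit 0x3ffffffffffff)],[(nat_lit 0x22feaee73fc9b),(nat_lit 0x150151040a2a1),(nat_lit 0x2fffeffbf5f5e),(nat_lit 0x3ffffffffffff)],[(nat_lit 0x22feaee73fc9b),(nat_lit 0x2068ae6b2daff),(nat_lit 0x1f975190c2500),(nat_lit 0x3ffffffffffff)],[(nat_lit 0x22feaee73fc9b),(nat_lit 0x22cca0effffdf),(nat_lit 0x1d335f1000030),(nat_lit 0x3ffffffffffff)],[(nat_lit 0x22feaee73fc9b),(nat_lit 0x20fc0cce19cdf),(nat_lit 0x1f03f331c0320),(nat_lit 0x3ffffffffffff)],[(nat_lit 0x22feaee73fc9b),(nat_lit 0x17ffffe05336e),(nat_lit 0x1800000000000),(nat_lit 0x3ffffffffffff)]]) (by decide +kernel)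
noncomputable def AHb0 : ℕ → Rw := lk (0, 0) [((nat_lit 0x2002200000200002002006),(nat_lit 0x200000000000000000000000)),((nat_lit 0x220020002002220020220),(nat_lit 0x20000002220020000200000)),((nat_lit 0x20220020222022000000200),(nat_lit 0x2000000220220020)),((nat_lit 0x20020020222000220220000),(nat_lit 0x200002000022000000220)),((nat_lit 0x20220002022002000220020),(nat_lit 0x20200020220000200)),((nat_lit 0x222022200220220),(nat_lit 0x20220022000000020000000)),((nat_lit 0x220022220020200020020),(nat_lit 0x20000000002002020200200)),((nat_lit 0x20000022202022020020020),(nat_lit 0x220000020000200200200)),((nat_lit 0x200000000000000006000002),(nat_lit 0x2002200000200000002000)),((nat_lit 0x200000000000600000000002),(nat_lit 0x2002200000000002002000)),((nat_lit 0x20020022000022200220200),(nat_lit 0x200000222000020000020)),((nat_lit 0x20200022202000200200220),(nat_lit 0x20000020022020020000)),((nat_lit 0x200000000000000000006002),(nat_lit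 0x2002200000200002000000)),((nat_lit 0x200006000000000000000002),(nat_lit 0x2000200000200002002000)),((nat_lit 0x20200020020022220200020),(nat_lit 0x20002202000000020200)),((nat_lit 0x200000600000000000000002),(nat_lit 0x2002000000200002002000)),((nat_lit 0x206000000000000000000002),(nat_lit 0x2200000200002002000)),((nat_lit 0x20220000200020020220220),(nat_lit 0x22022002200000000)),((nat_lit 0x200022022020020220200),(nat_lit 0x20020000200002200000020)),((nat_lit 0x20200002220002220020200),(nat_lit 0x20020002020000200020)),((nat_lit 0x20022220002020200220),(nat_lit 0x20200000002020200020000)),((nat_lit 0x20020002022020220000220),(nat_lit 0x200020200002000220000)),((nat_lit 0x220002202022220200000),(nat_lit 0x20000020020000000020220)),((nat_lit 0x602002200000200002002000),(nat_lit 2))]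
theorem AHb0m : IsMat (coM AHb0) AHb0 := isMat_coM (T := lk [] [[(nat_lit 0x259f7b670dc53),(nat_lit 0x32608487def8d),(nat_lit 0x2fffffe7dffdf),(nat_lit 0x3fffffe7dffdf),(nat_lit 0x1820020)],[(nat_lit 0x259f7b670dc53),(nat_lit 0x40e4209f0589),(nat_lit 0x3bf1bdfeffbff),(nat_lit 0x3ffffffffffff)],[(nat_lit 0x259f7b670dc53),(nat_lit 0x81b2cba780),(nat_lit 0x3ff7e4dbf7fff),(nat_lit 0x3ffffffffffff)],[(nat_lit 0x259f7b670dc53),(nat_lit 0x1086069c2438),(nat_lit 0x3ef79f9efffff),(nat_lit 0x3ffffffffffff)],[(nat_lit 0x259f7b670dc53),(nat_lit 0x14584bd0a08),(nat_lit 0x3feba7bdfffff),(nat_lit 0x3ffffffffffff)],[(nat_lit 0x259f7b670dc53),(nat_lit 0x598080884327),(nat_lit 0x3a67f7fffbfff),(nat_lit 0x3ffffffffffff)],[(nat_lit 0x259f7b670dc53),(nat_lit 0x4012a4c4a984),(nat_lit 0x3bfed5bbfffff),(nat_lit 0x3ffffffffffff)],[(nat_lit 0x259f7b670dc53),(nat_lit 0x182124a04348),(nat_lit 0x3e7dedbffffff),(nat_lit 0x3ffffffffffff)],[(nat_lit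 0x259f7b670dc53),(nat_lit 0x37ffffe44d702),(nat_lit 0x1800041bb28fd),(nat_lit 0x3ffffffffffff)],[(nat_lit 0x259f7b670dc53),(nat_lit 0x37ffffe12f0d3),(nat_lit 0x1800801ed0fac),(nat_lit 0x3ffffffffffff)],[(nat_lit 0x259f7b670dc53),(nat_lit 0x10708289ba8c),(nat_lit 0x3ef8f7dffe7ff),(nat_lit 0x3ffffffffffff)],[(nat_lit 0x259f7b670dc53),(nat_lit 0x82690c93106),(nat_lit 0x3f7d96ffffffd),(nat_lit 0x3ffffffffffff)],[(nat_lit 0x259f7b670dc53),(nat_lit 0x37ffffe219a70),(nat_lit 0x1800009de658f),(nat_lit 0x3ffffffffffff)],[(nat_lit 0x259f7b670dc53),(nat_lit 0x37ffffe70291a),(nat_lit 0x18400018fd6e5),(nat_lit 0x3ffffffffffff)],[(nat_lit 0x259f7b670dc53),(nat_lit 0x8d0149509b0),(nat_lit 0x3f72febfff7ff),(nat_lit 0x3ffffffffffff)],[(nat_lit 0x259f7b670dc53),(nat_lit 0x37ffffe34144d),(nat_lit 0x1820001cbebb2),(nat_lit 0x3ffffffffffff)],[(nat_lit 0x259f7b670dc53),(nat_lit 0x37ffffe494c57),(nat_lit 0x1a00001beb3a8),(nat_lit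 0x3ffffffffffff)],[(nat_lit 0x259f7b670dc53),(nat_lit 0x1b300af0007),(nat_lit 0x3fe4cfffffffe),(nat_lit 0x3ffffffffffff)],[(nat_lit 0x259f7b670dc53),(nat_lit 0x4843028212dc),(nat_lit 0x3b7bcfdffffbf),(nat_lit 0x3ffffffffffff)],[(nat_lit 0x259f7b670dc53),(nat_lit 0x914228ce6a4),(nat_lit 0x3f6ebddff7bff),(nat_lit 0x3ffffffffffff)],[(nat_lit 0x259f7b670dc53),(nat_lit 0x5015108130ba),(nat_lit 0x3afeaefffffef),(nat_lit 0x3ffffffffffff)],[(nat_lit 0x259f7b670dc53),(nat_lit 0x114230c662c0),(nat_lit 0x3eebdcfffbfff),(nat_lit 0x3ffffffffffff)],[(nat_lit 0x259f7b670dc53),(nat_lit 0x412016aa01ed),(nat_lit 0x3bedfe9dffffe),(nat_lit 0x3ffffffffffff)],[(nat_lit 0x259f7b670dc53),(nat_lit 0x326084807232c),(nat_lit 0x8000007fffff),(nat_lit 0x2ffffff7fffff),(nat_lit 0x1000000800000)]]) (by decide +kernel)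
noncomputable def AHb2 : ℕ → Rw := lk (0, 0) [((nat_lit 0x22202020000000000026),(nat_lit 0x200000000000000000000000)),((nat_lit 0x22000000002220222002200),(nat_lit 0x200020200002000220000)),((nat_lit 0x200060000000000000000002),(nat_lit 0x2202020000000000020)),((nat_lit 0x200000000000000000000062),(nat_lit 0x22202020000000000000)),((nat_lit 0x20000020202202202020200),(nat_lit 0x2200000000020020202000)),((nat_lit 0x2200000202022022020200),(nat_lit 0x20000020000200200202000)),((nat_lit 0x200000006000000000000002),(nat_lit 0x22200020000000000020)),((nat_lit 0x2200020200220202022000),(nat_lit 0x20000000002002020200200)),((nat_lit 0x22200020202002220002000),(nat_lit 0x220002220200)),((nat_lit 0x20200000200022202202200),(nat_lit 0x2000020002200020020000)),((nat_lit 0x22000020202020000222200),(nat_lit 0x200000000202222000000)),((nat_lit 0x200000202200220222200),(nat_lit 0x22000020000022002000000)),((nat_lit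 0x200000600000000000000002),(nat_lit 0x22002020000000000020)),((nat_lit 0x22200000002202002222000),(nat_lit 0x20200020220000200)),((nat_lit 0x2000020200202022202200),(nat_lit 0x20200000002020200020000)),((nat_lit 0x20200020000222020022200),(nat_lit 0x2000000202000202200000)),((nat_lit 0x200000000060000000000002),(nat_lit 0x22202000000000000020)),((nat_lit 0x22200020000000222220200),(nat_lit 0x202222000002000)),((nat_lit 0x20002022222222000),(nat_lit 0x22200000200200000000200)),((nat_lit 0x2200020002222200200200),(nat_lit 0x20000000200000022022000)),((nat_lit 0x200006000000000000000002),(nat_lit 0x20202020000000000020)),((nat_lit 0x22000000200222220220000),(nat_lit 0x200020002000002002200)),((nat_lit 0x20200020202220022200000),(nat_lit 0x2000000000002200022200)),((nat_lit 0x600022202020000000000020),(nat_lit 2))]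
theorem AHb2m : IsMat (coM AHb2) AHb2 := isMat_coM (T := lk [] [[(nat_lit 0x2715ffc5245bd),(nat_lit 0x30ea0027f76e3),(nat_lit 0x2fffffe7f77ff),(nat_lit 0x3fffffe7f77ff),(nat_lit 0x1808800)],[(nat_lit 0x2715ffc5245bd),(nat_lit 0x114230e66240),(nat_lit 0x3eebdcfffbfff),(nat_lit 0x3ffffffffffff)],[(nat_lit 0x2715ffc5245bd),(nat_lit 0x37ffffe585335),(nat_lit 0x1880001afacca),(nat_lit 0x3ffffffffffff)],[(nat_lit 0x2715ffc5245bd),(nat_lit 0x37ffffe2266bc),(nat_lit 0x1800003fd9943),(nat_lit 0x3ffffffffffff)],[(nat_lit 0x2715ffc5245bd),(nat_lit 0x3004a8bb2a41),(nat_lit 0x3cffb57edffff),(nat_lit 0x3ffffffffffff)],[(nat_lit 0x2715ffc5245bd),(nat_lit 0x410928ea1e42),(nat_lit 0x3bef6d7bffbff),(nat_lit 0x3ffffffffffff)],[(nat_lit 0x2715ffc5245bd),(nat_lit 0x37ffffe070533),(nat_lit 0x1808001f8facc),(nat_lit 0x3ffffffffffff)],[(nat_lit 0x2715ffc5245bd),(nat_lit 0x4012a4e4a904),(nat_lit 0x3bfed5bbfffff),(nat_lit 0x3ffffffffffff)],[(nat_lit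 0x2715ffc5245bd),(nat_lit 0xc748c7144),(nat_lit 0x3fff38bfffffb),(nat_lit 0x3ffffffffffff)],[(nat_lit 0x2715ffc5245bd),(nat_lit 0x21189099204e),(nat_lit 0x3dee76ffffff7),(nat_lit 0x3ffffffffffff)],[(nat_lit 0x2715ffc5245bd),(nat_lit 0x100bc0a8b6a2),(nat_lit 0x3eff43fffff5f),(nat_lit 0x3ffffffffffff)],[(nat_lit 0x2715ffc5245bd),(nat_lit 0x610640dc1806),(nat_lit 0x39ef9bfefffff),(nat_lit 0x3ffffffffffff)],[(nat_lit 0x2715ffc5245bd),(nat_lit 0x37ffffe1414cd),(nat_lit 0x1820001ebeb32),(nat_lit 0x3ffffffffffff)],[(nat_lit 0x2715ffc5245bd),(nat_lit 0x145849d0a88),(nat_lit 0x3feba7bffff7f),(nat_lit 0x3ffffffffffff)],[(nat_lit 0x2715ffc5245bd),(nat_lit 0x501510a1303a),(nat_lit 0x3afeaefffffef),(nat_lit 0x3ffffffffffff)],[(nat_lit 0x2715ffc5245bd),(nat_lit 0x205160a542a2),(nat_lit 0x3dfae9fffffdf),(nat_lit 0x3ffffffffffff)],[(nat_lit 0x2715ffc5245bd),(nat_lit 0x37ffffe43c14c),(nat_lit 0x1802001bc3eb3),(nat_lit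 0x3ffffffffffff)],[(nat_lit 0x2715ffc5245bd),(nat_lit 0x5e08adb510),(nat_lit 0x3ffa1f7fffaff),(nat_lit 0x3ffffffffffff)],[(nat_lit 0x2715ffc5245bd),(nat_lit 0x70480480805b),(nat_lit 0x38fb7fbffffff),(nat_lit 0x3ffffffffffff)],[(nat_lit 0x2715ffc5245bd),(nat_lit 0x4040d889d380),(nat_lit 0x3bfbf27ffbfff),(nat_lit 0x3ffffffffffff)],[(nat_lit 0x2715ffc5245bd),(nat_lit 0x37ffffe50299a),(nat_lit 0x1840001afd665),(nat_lit 0x3ffffffffffff)],[(nat_lit 0x2715ffc5245bd),(nat_lit 0x11104cae8263),(nat_lit 0x3eeefb3fdfffe),(nat_lit 0x3ffffffffffff)],[(nat_lit 0x2715ffc5245bd),(nat_lit 0x20031ca11c51),(nat_lit 0x3dffce3fffffe),(nat_lit 0x3ffffffffffff)],[(nat_lit 0x2715ffc5245bd),(nat_lit 0x30ea00205ba42),(nat_lit 0x8000007fffff),(nat_lit 0x2ffffff7fffff),(nat_lit 0x1000000800000)]]) (by decide +kernel)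
theorem AHb2fHb : coM AHb2 ∈ FixV [rU1,rV] := AHb2m.fix (by decide +kernel)
theorem AH1fHb : coM AH1 ∈ FixV [rU1,rV] := AH1m.fix (by decide +kernel)
theorem AHb0fHb : coM AHb0 ∈ FixV [rU1,rV] := AHb0m.fix (by decide +kernel)
noncomputable def glHb : List Co0 := [coM AHb0,(coM AHb0)⁻¹,coM AH1,(coM AH1)⁻¹,coM AHb2,(coM AHb2)⁻¹]
noncomputable def g0Hb : ℕ → Co0 := lk 1 glHb
theorem hKHb : ∀ l, g0Hb l ∈ FixV [rU1,rV] := lk_mem_sub (List.forall_mem_cons.2 ⟨AHb0fHb, List.forall_mem_cons.2 ⟨Subgroup.inv_mem _ AHb0fHb, (List.forall_mem_cons.2 ⟨AH1fHb, List.forall_mem_cons.2 ⟨Subgroup.inv_mem _ AH1fHb, (List.forall_mem_cons.2 ⟨AHb2fHb, List.forall_mem_cons.2 ⟨Subgroup.inv_mem _ AHb2fHb, (by simp)⟩⟩)⟩⟩)⟩⟩)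
noncomputable def gHb : ℕ → (FixV [rU1,rV]) := subA g0Hb _ hKHb
theorem hgeHb : ∀ l, llen il ≤ l → gHb l = 1 := fun _ h => Subtype.ext (lk1_ge (gl := glHb) (le_of_eq_of_le (by decide +kernel) h))
noncomputable def mbn0 : Net := (Net.cons (nat_lit 64) (nat_lit 0x1ffbf73acec4bb9e)
  (Net.cons (nat_lit 32) (nat_lit 0x20e8ce340000000095d6d8c7)
  (Net.cons (nat_lit 16) (nat_lit 0x55d7000041cf000095400000e818)
  (Net.cons (nat_lit 8) (nat_lit 0x23008f008c008f00200055002a0087)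
  (Net.cons (nat_lit 4) (nat_lit 0x60302060d09070300040c0d08010806)
  (Net.cons (nat_lit 2) (nat_lit 0x33030031030103302002010020002223)
  (Net.cons (nat_lit 1) (nat_lit 0x41041110404151401014404500110504)
  (Net.cons (nat_lit 2) (nat_lit 0x20000020000000002002000000000002)
  (Net.cons (nat_lit 4) (nat_lit 0x6020000040c000600020c0008000006)
  (Net.cons (nat_lit 8) (nat_lit 0x1800260008007e00e00090000a006c)
  (Net.cons (nat_lit 16) (nat_lit 0x63e4000003b00000c5000000e014)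
  (Net.cons (nat_lit 32) (nat_lit 0x28bb0f0800000000b5d6d844)
  (Net.cons (nat_lit 64) (nat_lit 0x1ffbf7318d65031c)
  Net.nil)))))))))))))
theorem mbn0r : Rep 100 (LX 4 mvS) (coM AHb0) mbn0 := AHb0m.rep' mvSls (by decide +kernel)
noncomputable def mbn1 : Net := (Net.cons (nat_lit 64) (nat_lit 0x4f6aa2b71b949a82)
  (Net.cons (nat_lit 32) (nat_lit 0x3e172d7400000000eff771ed)
  (Net.cons (nat_lit 16) (nat_lit 0x4a0b00001dce0000bef90000515a)
  (Net.cons (nat_lit 8) (nat_lit 0x1800730050008c007d00a400090000)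
  (Net.cons (nat_lit 4) (nat_lit 0xe0c0a04000e000d0407060507000800)
  (Net.cons (nat_lit 2) (nat_lit 0x10113321001020102120020021102001)
  (Net.cons (nat_lit 1) (nat_lit 0x11401404001441444451500011411004)
  (Net.cons (nat_lit 2) (nat_lit 0x20002000000220022000000020002000)
  (Net.cons (nat_lit 4) (nat_lit 0xc080e02000c000204040c000e000800)
  (Net.cons (nat_lit 8) (nat_lit 0x1c007800d000ce0014001600580010)
  (Net.cons (nat_lit 16) (nat_lit 0x676a00005de6000082fc00004156)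
  (Net.cons (nat_lit 32) (nat_lit 0x3c1f2df4000000005f6768e2)
  (Net.cons (nat_lit 64) (nat_lit 0x4f6aa2badcea1318)
  Net.nil)))))))))))))
theorem mbn1r : Rep 100 (LX 4 mvS) (coM AH1) mbn1 := AH1m.rep' mvSls (by decide +kernel)
noncomputable def mbn2 : Net := (Net.cons (nat_lit 64) (nat_lit 0xbf6a761f3c36257c)
  (Net.cons (nat_lit 32) (nat_lit 0x8c38ba9a00000000b7d5c2f0)
  (Net.cons (nat_lit 16) (nat_lit 0x32f80000b3560000a6d00000b160)
  (Net.cons (nat_lit 8) (nat_lit 0x3000b600ae001d00130098000900aa)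
  (Net.cons (nat_lit 4) (nat_lit 0x80204090a010a070005060c0f010c00)
  (Net.cons (nat_lit 2) (nat_lit 0x22001032321221111010132321212203)
  (Net.cons (nat_lit 1) (nat_lit 0x14101411150145104001454111154001)
  (Net.cons (nat_lit 2) (nat_lit 0x20200202000200000000200020002002)
  (Net.cons (nat_lit 4) (nat_lit 0x8080404000002020000080a0e000400)
  (Net.cons (nat_lit 8) (nat_lit 0x3000f800d20018000200b800c000aa)
  (Net.cons (nat_lit 16) (nat_lit 0x9ce00000e7540000a4540000b9ca)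
  (Net.cons (nat_lit 32) (nat_lit 0x35588c8200000000b745ca10)
  (Net.cons (nat_lit 64) (nat_lit 0xbf6a761684930650)
  Net.nil)))))))))))))
theorem mbn2r : Rep 100 (LX 4 mvS) (coM AHb2) mbn2 := AHb2m.rep' mvSls (by decide +kernel)
noncomputable def mbl : List Net := [mbn0,mbn0.rev,mbn1,mbn1.rev,mbn2,mbn2.rev]
noncomputable abbrev mb : ℕ → Net := lk Net.nil mbl
theorem mbp : IsPre 100 (LX 4 mvS) g0Hb mb vT := IsPre.ofLists (.cons mbn0r (.cons mbn0r.inv (.cons mbn1r (.cons mbn1r.inv (.cons mbn2r (.cons mbn2r.inv .nil))))))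
theorem mbm0 : IsModel 100 (LX 4 mvS) g0Hb mb vT := ⟨mbp, mvm0.inj⟩
theorem mbm : IsModel 100 (LX 4 mvS) gHb mb vT := mbm0.subA hKHb
theorem cj0 : coM An * coM AH0 = coM AHb0 * coM An := mul_eq_of_mulC Anm AH0m AHb0m Anm (S1 := lk [] [[(nat_lit 0x26d67de1ee4e2),(nat_lit 0x31298203bd7bd),(nat_lit 0x2fffffe3ff7ff),(nat_lit 0x3fffffe3ff7ff),(nat_lit 0x1c00800)],[(nat_lit 0x26d67de1ee4e2),(nat_lit 0x46244e48138),(nat_lit 0x3fb9dbbffffdf),(nat_lit 0x3ffffffffffff)],[(nat_lit 0x26d67de1ee4e2),(nat_lit 0x5028aa86a14),(nat_lit 0x3fafd75ffbfff),(nat_lit 0x3ffffffffffff)],[(nat_lit 0x26d67de1ee4e2),(nat_lit 0x610640d41807),(nat_lit 0x39ef9bfefffff),(nat_lit 0x3ffffffffffff)],[(nat_lit 0x26d67de1ee4e2),(nat_lit 0x37ffffe15e0a7),(nat_lit 0x1801001ea1f59),(nat_lit 0x3ffffffffffff)],[(nat_lit 0x26d67de1ee4e2),(nat_lit 0x484302aa125d),(nat_lit 0x3b7bcfdf7ffbf),(nat_lit 0x3ffffffffffff)],[(nat_lit 0x26d67de1ee4e2),(nat_lit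 0xd0150f09302),(nat_lit 0x3f2feafff7fff),(nat_lit 0x3ffffffffffff)],[(nat_lit 0x26d67de1ee4e2),(nat_lit 0x4c040ca21d39),(nat_lit 0x3b3fbf3fdfbff),(nat_lit 0x3ffffffffffff)],[(nat_lit 0x26d67de1ee4e2),(nat_lit 0x254ab95208),(nat_lit 0x3ffdab5efffff),(nat_lit 0x3ffffffffffff)],[(nat_lit 0x26d67de1ee4e2),(nat_lit 0x37ffffe0f0532),(nat_lit 0x1808001f0facd),(nat_lit 0x3ffffffffffff)],[(nat_lit 0x26d67de1ee4e2),(nat_lit 0x4040d881d381),(nat_lit 0x3bfbf27ffbfff),(nat_lit 0x3ffffffffffff)],[(nat_lit 0x26d67de1ee4e2),(nat_lit 0x37ffffe1c14cc),(nat_lit 0x1820001e3eb33),(nat_lit 0x3ffffffffffff)],[(nat_lit 0x26d67de1ee4e2),(nat_lit 0x14584950a89),(nat_lit 0x3feba7bffff7f),(nat_lit 0x3ffffffffffff)],[(nat_lit 0x26d67de1ee4e2),(nat_lit 0x2800c6824715),(nat_lit 0x3d7ff39fdffff),(nat_lit 0x3ffffffffffff)],[(nat_lit 0x26d67de1ee4e2),(nat_lit 0x20031ca91c50),(nat_lit 0x3dffce3f7ffff),(nat_lit 0x3ffffffffffff)],[(nat_lit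 0x26d67de1ee4e2),(nat_lit 0x37ffffe3af052),(nat_lit 0x1800801e50fad),(nat_lit 0x3ffffffffffff)],[(nat_lit 0x26d67de1ee4e2),(nat_lit 0x296008e12655),(nat_lit 0x3d69ff7ffdbff),(nat_lit 0x3ffffffffffff)],[(nat_lit 0x26d67de1ee4e2),(nat_lit 0x82690e13187),(nat_lit 0x3f7d96fffff7d),(nat_lit 0x3ffffffffffff)],[(nat_lit 0x26d67de1ee4e2),(nat_lit 0x37ffffe066bc0),(nat_lit 0x1800021f9943f),(nat_lit 0x3ffffffffffff)],[(nat_lit 0x26d67de1ee4e2),(nat_lit 0x244412c1a099),(nat_lit 0x3dbbbedff7fff),(nat_lit 0x3ffffffffffff)],[(nat_lit 0x26d67de1ee4e2),(nat_lit 0x41201682016c),(nat_lit 0x3bedfe9ffffff),(nat_lit 0x3ffffffffffff)],[(nat_lit 0x26d67de1ee4e2),(nat_lit 0x642180a5092f),(nat_lit 0x39bde7ffbffdf),(nat_lit 0x3ffffffffffff)],[(nat_lit 0x26d67de1ee4e2),(nat_lit 0x37ffffe40a66a),(nat_lit 0x1900001bf5995),(nat_lit 0x3ffffffffffff)],[(nat_lit 0x26d67de1ee4e2),(nat_lit 0x3129820411b1c),(nat_lit 0x8000007fffff),(nat_lit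 0x2ffffff7fffff),(nat_lit 0x1000000800000)]]) (S2 := lk [] [[(nat_lit 0x243edfe10ecb7),(nat_lit 0x17ffffe1fffff),(nat_lit 0x3fffffe600000),(nat_lit 0x2fffffeffffff),(nat_lit 0x1000000)],[(nat_lit 0x243edfe10ecb7),(nat_lit 0x203ad26d13f37),(nat_lit 0x1fc52d92e4048),(nat_lit 0x3ffffffffffff)],[(nat_lit 0x243edfe10ecb7),(nat_lit 0x20309dee7e9be),(nat_lit 0x1fcf621181640),(nat_lit 0x3ffffffffffff)],[(nat_lit 0x243edfe10ecb7),(nat_lit 0x201e17c98dcba),(nat_lit 0x1fe1e83670340),(nat_lit 0x3ffffffffffff)],[(nat_lit 0x243edfe10ecb7),(nat_lit 0x13c120008c52d),(nat_lit 0x2fbffffff3bda),(nat_lit 0x3ffffffffffff)],[(nat_lit 0x243edfe10ecb7),(nat_lit 0x2016cbab4d9bd),(nat_lit 0x1fe93454b2240),(nat_lit 0x3ffffffffffff)],[(nat_lit 0x243edfe10ecb7),(nat_lit 0x13c12001650a3),(nat_lit 0x2fffdffefbf5c),(nat_lit 0x3ffffffffffff)],[(nat_lit 0x243edfe10ecb7),(nat_lit 0x2436c4cb34bb7),(nat_lit 0x1bc93b34c9048),(nat_lit 0x3ffffffffffff)],[(nat_lit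 0x243edfe10ecb7),(nat_lit 0x241add0b4ee6d),(nat_lit 0x1be522f4b1102),(nat_lit 0x3ffffffffffff)],[(nat_lit 0x243edfe10ecb7),(nat_lit 0x2434572b96d67),(nat_lit 0x1bcba8d461288),(nat_lit 0x3ffffffffffff)],[(nat_lit 0x243edfe10ecb7),(nat_lit 0x243e18ad49df3),(nat_lit 0x1bc1e752b020c),(nat_lit 0x3ffffffffffff)],[(nat_lit 0x243edfe10ecb7),(nat_lit 0x24184eee3f4df),(nat_lit 0x1be7b110c0b20),(nat_lit 0x3ffffffffffff)],[(nat_lit 0x243edfe10ecb7),(nat_lit 0x24225bcdee6a5),(nat_lit 0x1bdda43211948),(nat_lit 0x3ffffffffffff)],[(nat_lit 0x243edfe10ecb7),(nat_lit 0x13c1200450c11),(nat_lit 0x2ffefffbff3ee),(nat_lit 0x3ffffffffffff)],[(nat_lit 0x243edfe10ecb7),(nat_lit 0x202e4d6b2f2f5),(nat_lit 0x1fd1b294d0508),(nat_lit 0x3ffffffffffff)],[(nat_lit 0x243edfe10ecb7),(nat_lit 0x13c1200104adc),(nat_lit 0x2efffffefb76b),(nat_lit 0x3ffffffffffff)],[(nat_lit 0x243edfe10ecb7),(nat_lit 0x240cd1efcefc3),(nat_lit 0x1bf32e1031038),(nat_lit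 0x3ffffffffffff)],[(nat_lit 0x243edfe10ecb7),(nat_lit 0x202cde8d2edda),(nat_lit 0x1fd32172d1201),(nat_lit 0x3ffffffffffff)],[(nat_lit 0x243edfe10ecb7),(nat_lit 0x242a87ac5e63f),(nat_lit 0x1bd57852a11c0),(nat_lit 0x3ffffffffffff)],[(nat_lit 0x243edfe10ecb7),(nat_lit 0x243c8b4e9bebe),(nat_lit 0x1bc374b160141),(nat_lit 0x3ffffffffffff)],[(nat_lit 0x243edfe10ecb7),(nat_lit 0x13c120031a060),(nat_lit 0x2dfffffcf5fdf),(nat_lit 0x3ffffffffffff)],[(nat_lit 0x243edfe10ecb7),(nat_lit 0x13c120000bf82),(nat_lit 0x2f7ffffff537d),(nat_lit 0x3ffffffffffff)],[(nat_lit 0x243edfe10ecb7),(nat_lit 0x24069e6fd3cd7),(nat_lit 0x1bf961902c308),(nat_lit 0x3ffffffffffff)],[(nat_lit 0x243edfe10ecb7),(nat_lit 0x17ffffe65335e),(nat_lit 0x1800000000000),(nat_lit 0x3ffffffffffff)]]) (S3 := lk [] [[(nat_lit 0x22feaee73fc9b),(nat_lit 0x17ffffe7fffcf),(nat_lit 0x3fffffe000020),(nat_lit 0x2fffffeffffff),(nat_lit 0x1000000)],[(nat_lit 0x22feaee73fc9b),(nat_lit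 0x15015103e8482),(nat_lit 0x2fffbffcd7b7d),(nat_lit 0x3ffffffffffff)],[(nat_lit 0x22feaee73fc9b),(nat_lit 0x22b88aab77d92),(nat_lit 0x1d47755080265),(nat_lit 0x3ffffffffffff)],[(nat_lit 0x22feaee73fc9b),(nat_lit 0x22e22acddf6b9),(nat_lit 0x1d1dd53200944),(nat_lit 0x3ffffffffffff)],[(nat_lit 0x22feaee73fc9b),(nat_lit 0x207ea28d1bbbf),(nat_lit 0x1f815d72e0040),(nat_lit 0x3ffffffffffff)],[(nat_lit 0x22feaee73fc9b),(nat_lit 0x224e0eae6ec7f),(nat_lit 0x1db1f15090380),(nat_lit 0x3ffffffffffff)],[(nat_lit 0x22feaee73fc9b),(nat_lit 0x22daac0b7fe71),(nat_lit 0x1d2553f480106),(nat_lit 0x3ffffffffffff)],[(nat_lit 0x22feaee73fc9b),(nat_lit 0x22ae864fb96be),(nat_lit 0x1d5179b044141),(nat_lit 0x3ffffffffffff)],[(nat_lit 0x22feaee73fc9b),(nat_lit 0x209e2a6f9ec59),(nat_lit 0x1f61d59060324),(nat_lit 0x3ffffffffffff)],[(nat_lit 0x22feaee73fc9b),(nat_lit 0x2276886c7efb3),(nat_lit 0x1d8977918004c),(nat_lit 0x3ffffffffffff)],[(nat_lit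 0x22feaee73fc9b),(nat_lit 0x20a6acaf765f9),(nat_lit 0x1f59535089204),(nat_lit 0x3ffffffffffff)],[(nat_lit 0x22feaee73fc9b),(nat_lit 0x22f4262ba7d7b),(nat_lit 0x1d0bd9d440284),(nat_lit 0x3ffffffffffff)],[(nat_lit 0x22feaee73fc9b),(nat_lit 0x20d286ef6b89e),(nat_lit 0x1f2d791084360),(nat_lit 0x3ffffffffffff)],[(nat_lit 0x22feaee73fc9b),(nat_lit 0x150151020c94b),(nat_lit 0x2ffffefdf37f4),(nat_lit 0x3ffffffffffff)],[(nat_lit 0x22feaee73fc9b),(nat_lit 0x2214aecdb75b7),(nat_lit 0x1deb513048a40),(nat_lit 0x3ffffffffffff)],[(nat_lit 0x22feaee73fc9b),(nat_lit 0x1501510716504),(nat_lit 0x2bfffff8e9bff),(nat_lit 0x3ffffffffffff)],[(nat_lit 0x22feaee73fc9b),(nat_lit 0x223a24ee3db9a),(nat_lit 0x1dc5db10c0464),(nat_lit 0x3ffffffffffff)],[(nat_lit 0x22feaee73fc9b),(nat_lit 0x1501510135ac0),(nat_lit 0x2efffffeca77f),(nat_lit 0x3ffffffffffff)],[(nat_lit 0x22feaee73fc9b),(nat_lit 0x1501510461c0d),(nat_lit 0x2ffefffbde3f6),(nat_lit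 0x3ffffffffffff)],[(nat_lit 0x22feaee73fc9b),(nat_lit 0x150151040a2a1),(nat_lit 0x2fffeffbf5f5e),(nat_lit 0x3ffffffffffff)],[(nat_lit 0x22feaee73fc9b),(nat_lit 0x2068ae6b2daff),(nat_lit 0x1f975190c2500),(nat_lit 0x3ffffffffffff)],[(nat_lit 0x22feaee73fc9b),(nat_lit 0x22cca0effffdf),(nat_lit 0x1d335f1000030),(nat_lit 0x3ffffffffffff)],[(nat_lit 0x22feaee73fc9b),(nat_lit 0x20fc0cce19cdf),(nat_lit 0x1f03f331c0320),(nat_lit 0x3ffffffffffff)],[(nat_lit 0x22feaee73fc9b),(nat_lit 0x17ffffe05336e),(nat_lit 0x1800000000000),(nat_lit 0x3ffffffffffff)]]) (by decide +kernel)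
theorem cj1 : coM An * coM AH1 = coM AH1 * coM An := mul_eq_of_mulC Anm AH1m AH1m Anm (S1 := lk [] [[(nat_lit 0x1000000ad4e38),(nat_lit 0x7fbffe2d7f7e),(nat_lit 0xfffffe2d7f7e),(nat_lit 0x1fffffe2d7f7e),(nat_lit 0x2000001d28081)],[(nat_lit 0x1000000ad4e38),(nat_lit 0x40a420120711),(nat_lit 0x3bf5bdfeff9ef),(nat_lit 0x3ffffffffffff)],[(nat_lit 0x1000000ad4e38),(nat_lit 0x10308204b814),(nat_lit 0x3efcf7dfbe7ef),(nat_lit 0x3ffffffffffff)],[(nat_lit 0x1000000ad4e38),(nat_lit 0x1a0440431811),(nat_lit 0x3e5fbbffcf7ef),(nat_lit 0x3ffffffffffff)],[(nat_lit 0x1000000ad4e38),(nat_lit 0x7008042d8243),(nat_lit 0x38ff7fbd2fdff),(nat_lit 0x3ffffffffffff)],[(nat_lit 0x1000000ad4e38),(nat_lit 0x188422b080a),(nat_lit 0x3fe77bddef7f7),(nat_lit 0x3ffffffffffff)],[(nat_lit 0x1000000ad4e38),(nat_lit 0x29200844244c),(nat_lit 0x3d6dff7fbdbf7),(nat_lit 0x3ffffffffffff)],[(nat_lit 0x1000000ad4e38),(nat_lit 0x42244418321),(nat_lit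 0x3fbddbbfefdde),(nat_lit 0x3ffffffffffff)],[(nat_lit 0x1000000ad4e38),(nat_lit 0x1102304b6058),(nat_lit 0x3eefdcff6bfe7),(nat_lit 0x3ffffffffffff)],[(nat_lit 0x1000000ad4e38),(nat_lit 0x148108244006),(nat_lit 0x3eb7ef7fbbffb),(nat_lit 0x3ffffffffffff)],[(nat_lit 0x1000000ad4e38),(nat_lit 0x4000d824d198),(nat_lit 0x3bfff27dbbfe7),(nat_lit 0x3ffffffffffff)],[(nat_lit 0x1000000ad4e38),(nat_lit 0x89014180b28),(nat_lit 0x3f76febf7f5f7),(nat_lit 0x3ffffffffffff)],[(nat_lit 0x1000000ad4e38),(nat_lit 0x10584300890),(nat_lit 0x3fefa7bdfff6f),(nat_lit 0x3ffffffffffff)],[(nat_lit 0x1000000ad4e38),(nat_lit 0x22828000462d),(nat_lit 0x3dd7d7fffbdd7),(nat_lit 0x3ffffffffffff)],[(nat_lit 0x1000000ad4e38),(nat_lit 0x471000114696),(nat_lit 0x3b8effffeb9ef),(nat_lit 0x3ffffffffffff)],[(nat_lit 0x1000000ad4e38),(nat_lit 0x24041264a280),(nat_lit 0x3dbfbeddb7dff),(nat_lit 0x3ffffffffffff)],[(nat_lit 0x1000000ad4e38),(nat_lit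 0x2002e4100c2),(nat_lit 0x3fdffd1befffd),(nat_lit 0x3ffffffffffff)],[(nat_lit 0x1000000ad4e38),(nat_lit 0xc08a0152529),(nat_lit 0x3f3f75ffafbd7),(nat_lit 0x3ffffffffffff)],[(nat_lit 0x1000000ad4e38),(nat_lit 0x4803020f1044),(nat_lit 0x3b7fcfdf2ffbf),(nat_lit 0x3ffffffffffff)],[(nat_lit 0x1000000ad4e38),(nat_lit 0x22910161a70),(nat_lit 0x3fdd6effbf5cf),(nat_lit 0x3ffffffffffff)],[(nat_lit 0x1000000ad4e38),(nat_lit 0x2011600840ba),(nat_lit 0x3dfee9ff7ffc7),(nat_lit 0x3ffffffffffff)],[(nat_lit 0x1000000ad4e38),(nat_lit 0x7fbffe7fceb9),(nat_lit 0xffbfff7fceb9),(nat_lit 0x1ffbfff7fceb9),(nat_lit 0x2004000803146)],[(nat_lit 0x1000000ad4e38),(nat_lit 0x1e0800b708),(nat_lit 0x3ffe1f7fff8f7),(nat_lit 0x3ffffffffffff)],[(nat_lit 0x1000000ad4e38),(nat_lit 0x7fbffe57b3df),(nat_lit 0x28000007fffff),(nat_lit 0x2ffffff7fffff),(nat_lit 0x1000000800000)]]) (S2 := lk [] [[(nat_lit 0x2715ffc5245bd),(nat_lit 0x17ffffe57ffff),(nat_lit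 0x3fffffe280000),(nat_lit 0x2fffffeffffff),(nat_lit 0x1000000)],[(nat_lit 0x2715ffc5245bd),(nat_lit 0x2311f24db963d),(nat_lit 0x1cee0db246842),(nat_lit 0x3ffffffffffff)],[(nat_lit 0x2715ffc5245bd),(nat_lit 0x2715388de34f9),(nat_lit 0x18eac77218a06),(nat_lit 0x3ffffffffffff)],[(nat_lit 0x2715ffc5245bd),(nat_lit 0x261543cfaf31f),(nat_lit 0x19eabc30508e0),(nat_lit 0x3ffffffffffff)],[(nat_lit 0x2715ffc5245bd),(nat_lit 0x10ea0021184f1),(nat_lit 0x2ffdfffeffb4e),(nat_lit 0x3ffffffffffff)],[(nat_lit 0x2715ffc5245bd),(nat_lit 0x21059bc8e5dbb),(nat_lit 0x1efa64331a240),(nat_lit 0x3ffffffffffff)],[(nat_lit 0x2715ffc5245bd),(nat_lit 0x2515ce0f359ec),(nat_lit 0x1aea31f0ca203),(nat_lit 0x3ffffffffffff)],[(nat_lit 0x2715ffc5245bd),(nat_lit 0x250476ccb65f3),(nat_lit 0x1afb893249a08),(nat_lit 0x3ffffffffffff)],[(nat_lit 0x2715ffc5245bd),(nat_lit 0x10ea0020a1688),(nat_lit 0x2f7fffff5fb77),(nat_lit 0x3ffffffffffff)],[(nat_lit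 0x2715ffc5245bd),(nat_lit 0x2314d58b6ecb9),(nat_lit 0x1ceb2a7491242),(nat_lit 0x3ffffffffffff)],[(nat_lit 0x2715ffc5245bd),(nat_lit 0x10ea002702301),(nat_lit 0x2fffffd8ffefe),(nat_lit 0x3ffffffffffff)],[(nat_lit 0x2715ffc5245bd),(nat_lit 0x23056d4b85bff),(nat_lit 0x1cfa92b45a400),(nat_lit 0x3ffffffffffff)],[(nat_lit 0x2715ffc5245bd),(nat_lit 0x10ea002026c27),(nat_lit 0x2fbfffffdbbda),(nat_lit 0x3ffffffffffff)],[(nat_lit 0x2715ffc5245bd),(nat_lit 0x20117f8d2c5e6),(nat_lit 0x1fee8072d3a00),(nat_lit 0x3ffffffffffff)],[(nat_lit 0x2715ffc5245bd),(nat_lit 0x2604fb0fcc7de),(nat_lit 0x19fb04f033801),(nat_lit 0x3ffffffffffff)],[(nat_lit 0x2715ffc5245bd),(nat_lit 0x27101f4fff0ad),(nat_lit 0x18efe0b000f42),(nat_lit 0x3ffffffffffff)],[(nat_lit 0x2715ffc5245bd),(nat_lit 0x2415b54e96ffc),(nat_lit 0x1bea4ab169002),(nat_lit 0x3ffffffffffff)],[(nat_lit 0x2715ffc5245bd),(nat_lit 0x2510e9cf7071f),(nat_lit 0x1aef16308b860),(nat_lit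 0x3ffffffffffff)],[(nat_lit 0x2715ffc5245bd),(nat_lit 0x2701a78cf4f35),(nat_lit 0x18fe58720b0c2),(nat_lit 0x3ffffffffffff)],[(nat_lit 0x2715ffc5245bd),(nat_lit 0x2601dccb427fd),(nat_lit 0x19fe23309d802),(nat_lit 0x3ffffffffffff)],[(nat_lit 0x2715ffc5245bd),(nat_lit 0x10ea002465170),(nat_lit 0x2fdffffbdbecf),(nat_lit 0x3ffffffffffff)],[(nat_lit 0x2715ffc5245bd),(nat_lit 0x2214aecf37587),(nat_lit 0x1deb5130c8a50),(nat_lit 0x3ffffffffffff)],[(nat_lit 0x2715ffc5245bd),(nat_lit 0x10ea00255408e),(nat_lit 0x2ff7fffafbf73),(nat_lit 0x3ffffffffffff)],[(nat_lit 0x2715ffc5245bd),(nat_lit 0x17ffffe2d335e),(nat_lit 0x1800000000000),(nat_lit 0x3ffffffffffff)]]) (S3 := lk [] [[(nat_lit 0x22feaee73fc9b),(nat_lit 0x17ffffe7fffcf),(nat_lit 0x3fffffe000020),(nat_lit 0x2fffffeffffff),(nat_lit 0x1000000)],[(nat_lit 0x22feaee73fc9b),(nat_lit 0x15015103e8482),(nat_lit 0x2fffbffcd7b7d),(nat_lit 0x3ffffffffffff)],[(nat_lit 0x22feaee73fc9b),(nat_lit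 0x22b88aab77d92),(nat_lit 0x1d47755080265),(nat_lit 0x3ffffffffffff)],[(nat_lit 0x22feaee73fc9b),(nat_lit 0x22e22acddf6b9),(nat_lit 0x1d1dd53200944),(nat_lit 0x3ffffffffffff)],[(nat_lit 0x22feaee73fc9b),(nat_lit 0x207ea28d1bbbf),(nat_lit 0x1f815d72e0040),(nat_lit 0x3ffffffffffff)],[(nat_lit 0x22feaee73fc9b),(nat_lit 0x224e0eae6ec7f),(nat_lit 0x1db1f15090380),(nat_lit 0x3ffffffffffff)],[(nat_lit 0x22feaee73fc9b),(nat_lit 0x22daac0b7fe71),(nat_lit 0x1d2553f480106),(nat_lit 0x3ffffffffffff)],[(nat_lit 0x22feaee73fc9b),(nat_lit 0x22ae864fb96be),(nat_lit 0x1d5179b044141),(nat_lit 0x3ffffffffffff)],[(nat_lit 0x22feaee73fc9b),(nat_lit 0x209e2a6f9ec59),(nat_lit 0x1f61d59060324),(nat_lit 0x3ffffffffffff)],[(nat_lit 0x22feaee73fc9b),(nat_lit 0x2276886c7efb3),(nat_lit 0x1d8977918004c),(nat_lit 0x3ffffffffffff)],[(nat_lit 0x22feaee73fc9b),(nat_lit 0x20a6acaf765f9),(nat_lit 0x1f59535089204),(nat_lit 0x3ffffffffffff)],[(nat_lit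 0x22feaee73fc9b),(nat_lit 0x22f4262ba7d7b),(nat_lit 0x1d0bd9d440284),(nat_lit 0x3ffffffffffff)],[(nat_lit 0x22feaee73fc9b),(nat_lit 0x20d286ef6b89e),(nat_lit 0x1f2d791084360),(nat_lit 0x3ffffffffffff)],[(nat_lit 0x22feaee73fc9b),(nat_lit 0x150151020c94b),(nat_lit 0x2ffffefdf37f4),(nat_lit 0x3ffffffffffff)],[(nat_lit 0x22feaee73fc9b),(nat_lit 0x2214aecdb75b7),(nat_lit 0x1deb513048a40),(nat_lit 0x3ffffffffffff)],[(nat_lit 0x22feaee73fc9b),(nat_lit 0x1501510716504),(nat_lit 0x2bfffff8e9bff),(nat_lit 0x3ffffffffffff)],[(nat_lit 0x22feaee73fc9b),(nat_lit 0x223a24ee3db9a),(nat_lit 0x1dc5db10c0464),(nat_lit 0x3ffffffffffff)],[(nat_lit 0x22feaee73fc9b),(nat_lit 0x1501510135ac0),(nat_lit 0x2efffffeca77f),(nat_lit 0x3ffffffffffff)],[(nat_lit 0x22feaee73fc9b),(nat_lit 0x1501510461c0d),(nat_lit 0x2ffefffbde3f6),(nat_lit 0x3ffffffffffff)],[(nat_lit 0x22feaee73fc9b),(nat_lit 0x150151040a2a1),(nat_lit 0x2fffeffbf5f5e),(nat_lit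 0x3ffffffffffff)],[(nat_lit 0x22feaee73fc9b),(nat_lit 0x2068ae6b2daff),(nat_lit 0x1f975190c2500),(nat_lit 0x3ffffffffffff)],[(nat_lit 0x22feaee73fc9b),(nat_lit 0x22cca0effffdf),(nat_lit 0x1d335f1000030),(nat_lit 0x3ffffffffffff)],[(nat_lit 0x22feaee73fc9b),(nat_lit 0x20fc0cce19cdf),(nat_lit 0x1f03f331c0320),(nat_lit 0x3ffffffffffff)],[(nat_lit 0x22feaee73fc9b),(nat_lit 0x17ffffe05336e),(nat_lit 0x1800000000000),(nat_lit 0x3ffffffffffff)]]) (by decide +kernel)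
theorem cj2 : coM An * coM AH2 = coM AHb2 * coM An := mul_eq_of_mulC Anm AH2m AHb2m Anm (S1 := lk [] [[(nat_lit 0x2715ffc5245bd),(nat_lit 0x30ea0027f76e3),(nat_lit 0x2fffffe7f77ff),(nat_lit 0x3fffffe7f77ff),(nat_lit 0x1808800)],[(nat_lit 0x2715ffc5245bd),(nat_lit 0x610640dc1806),(nat_lit 0x39ef9bfefffff),(nat_lit 0x3ffffffffffff)],[(nat_lit 0x2715ffc5245bd),(nat_lit 0x410928ea1e42),(nat_lit 0x3bef6d7bffbff),(nat_lit 0x3ffffffffffff)],[(nat_lit 0x2715ffc5245bd),(nat_lit 0x4012a4e4a904),(nat_lit 0x3bfed5bbfffff),(nat_lit 0x3ffffffffffff)],[(nat_lit 0x2715ffc5245bd),(nat_lit 0x37ffffe50299a),(nat_lit 0x1840001afd665),(nat_lit 0x3ffffffffffff)],[(nat_lit 0x2715ffc5245bd),(nat_lit 0x4040d889d380),(nat_lit 0x3bfbf27ffbfff),(nat_lit 0x3ffffffffffff)],[(nat_lit 0x2715ffc5245bd),(nat_lit 0x145849d0a88),(nat_lit 0x3feba7bffff7f),(nat_lit 0x3ffffffffffff)],[(nat_lit 0x2715ffc5245bd),(nat_lit 0x114230e66240),(nat_lit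 0x3eebdcfffbfff),(nat_lit 0x3ffffffffffff)],[(nat_lit 0x2715ffc5245bd),(nat_lit 0x37ffffe2266bc),(nat_lit 0x1800003fd9943),(nat_lit 0x3ffffffffffff)],[(nat_lit 0x2715ffc5245bd),(nat_lit 0x100bc0a8b6a2),(nat_lit 0x3eff43fffff5f),(nat_lit 0x3ffffffffffff)],[(nat_lit 0x2715ffc5245bd),(nat_lit 0x37ffffe585335),(nat_lit 0x1880001afacca),(nat_lit 0x3ffffffffffff)],[(nat_lit 0x2715ffc5245bd),(nat_lit 0xc748c7144),(nat_lit 0x3fff38bfffffb),(nat_lit 0x3ffffffffffff)],[(nat_lit 0x2715ffc5245bd),(nat_lit 0x37ffffe43c14c),(nat_lit 0x1802001bc3eb3),(nat_lit 0x3ffffffffffff)],[(nat_lit 0x2715ffc5245bd),(nat_lit 0x205160a542a2),(nat_lit 0x3dfae9fffffdf),(nat_lit 0x3ffffffffffff)],[(nat_lit 0x2715ffc5245bd),(nat_lit 0x501510a1303a),(nat_lit 0x3afeaefffffef),(nat_lit 0x3ffffffffffff)],[(nat_lit 0x2715ffc5245bd),(nat_lit 0x3004a8bb2a41),(nat_lit 0x3cffb57edffff),(nat_lit 0x3ffffffffffff)],[(nat_lit 0x2715ffc5245bd),(nat_lit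 0x5e08adb510),(nat_lit 0x3ffa1f7fffaff),(nat_lit 0x3ffffffffffff)],[(nat_lit 0x2715ffc5245bd),(nat_lit 0x70480480805b),(nat_lit 0x38fb7fbffffff),(nat_lit 0x3ffffffffffff)],[(nat_lit 0x2715ffc5245bd),(nat_lit 0x20031ca11c51),(nat_lit 0x3dffce3fffffe),(nat_lit 0x3ffffffffffff)],[(nat_lit 0x2715ffc5245bd),(nat_lit 0x21189099204e),(nat_lit 0x3dee76ffffff7),(nat_lit 0x3ffffffffffff)],[(nat_lit 0x2715ffc5245bd),(nat_lit 0x37ffffe070533),(nat_lit 0x1808001f8facc),(nat_lit 0x3ffffffffffff)],[(nat_lit 0x2715ffc5245bd),(nat_lit 0x11104cae8263),(nat_lit 0x3eeefb3fdfffe),(nat_lit 0x3ffffffffffff)],[(nat_lit 0x2715ffc5245bd),(nat_lit 0x37ffffe1414cd),(nat_lit 0x1820001ebeb32),(nat_lit 0x3ffffffffffff)],[(nat_lit 0x2715ffc5245bd),(nat_lit 0x30ea00205ba42),(nat_lit 0x8000007fffff),(nat_lit 0x2ffffff7fffff),(nat_lit 0x1000000800000)]]) (S2 := lk [] [[(nat_lit 0x2000000000000),(nat_lit 0x2000000800000),(nat_lit 0x38000007fffff),(nat_lit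 0x2800000ffffff),(nat_lit 0x7fffff000000)],[(nat_lit 0x2000000000000),(nat_lit 0x20000008facca),(nat_lit 0x1f7ffff705335),(nat_lit 0x3ffffffffffff)],[(nat_lit 0x2000000000000),(nat_lit 0x2000000cca1f5),(nat_lit 0x1fffeff335e0a),(nat_lit 0x3ffffffffffff)],[(nat_lit 0x2000000000000),(nat_lit 0x2000000b287d6),(nat_lit 0x1fffbff4d7829),(nat_lit 0x3ffffffffffff)],[(nat_lit 0x2000000000000),(nat_lit 0x2000000a1f599),(nat_lit 0x1feffff5e0a66),(nat_lit 0x3ffffffffffff)],[(nat_lit 0x2000000000000),(nat_lit 0x2000000e50fac),(nat_lit 0x1fff7ff1af053),(nat_lit 0x3ffffffffffff)],[(nat_lit 0x2000000000000),(nat_lit 0x2000000fd6650),(nat_lit 0x1bfffff0299af),(nat_lit 0x3ffffffffffff)],[(nat_lit 0x2000000000000),(nat_lit 0x20000009943eb),(nat_lit 0x1fffdff66bc14),(nat_lit 0x3ffffffffffff)],[(nat_lit 0x2000000000000),(nat_lit 0x2000000eb3287),(nat_lit 0x1fffffb14cd78),(nat_lit 0x3ffffffffffff)],[(nat_lit 0x2000000000000),(nat_lit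 0x2000000e650fa),(nat_lit 0x1ffff7f19af05),(nat_lit 0x3ffffffffffff)],[(nat_lit 0x2000000000000),(nat_lit 0x2000000d6650f),(nat_lit 0x1fffff7299af0),(nat_lit 0x3ffffffffffff)],[(nat_lit 0x2000000000000),(nat_lit 0x2000000d9943e),(nat_lit 0x1ffffdf266bc1),(nat_lit 0x3ffffffffffff)],[(nat_lit 0x2000000000000),(nat_lit 0x20000009f5994),(nat_lit 0x1efffff60a66b),(nat_lit 0x3ffffffffffff)],[(nat_lit 0x2000000000000),(nat_lit 0x200000087d665),(nat_lit 0x1fbffff78299a),(nat_lit 0x3ffffffffffff)],[(nat_lit 0x2000000000000),(nat_lit 0x2000000beb328),(nat_lit 0x1dfffff414cd7),(nat_lit 0x3ffffffffffff)],[(nat_lit 0x2000000000000),(nat_lit 0x2000000c3eb32),(nat_lit 0x1fdffff3c14cd),(nat_lit 0x3ffffffffffff)],[(nat_lit 0x2000000000000),(nat_lit 0x2000000acca1f),(nat_lit 0x1ffffef5335e0),(nat_lit 0x3ffffffffffff)],[(nat_lit 0x2000000000000),(nat_lit 0x2000000d0facc),(nat_lit 0x1ff7fff2f0533),(nat_lit 0x3ffffffffffff)],[(nat_lit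 0x2000000000000),(nat_lit 0x2000000943eb3),(nat_lit 0x1ffdfff6bc14c),(nat_lit 0x3ffffffffffff)],[(nat_lit 0x2000000000000),(nat_lit 0x2000000f59943),(nat_lit 0x1fffffd0a66bc),(nat_lit 0x3ffffffffffff)],[(nat_lit 0x2000000000000),(nat_lit 0x2000000ca1f59),(nat_lit 0x1ffefff35e0a6),(nat_lit 0x3ffffffffffff)],[(nat_lit 0x2000000000000),(nat_lit 0x2000000a87d66),(nat_lit 0x1ffbfff578299),(nat_lit 0x3ffffffffffff)],[(nat_lit 0x2000000000000),(nat_lit 0x2000000b3287d),(nat_lit 0x1ffffbf4cd782),(nat_lit 0x3ffffffffffff)],[(nat_lit 0x2000000000000),(nat_lit 0x2000000facca1),(nat_lit 0x1fffffe05335e),(nat_lit 0x3ffffffffffff)]]) (S3 := lk [] [[(nat_lit 0x22feaee73fc9b),(nat_lit 0x17ffffe7fffcf),(nat_lit 0x3fffffe000020),(nat_lit 0x2fffffeffffff),(nat_lit 0x1000000)],[(nat_lit 0x22feaee73fc9b),(nat_lit 0x15015103e8482),(nat_lit 0x2fffbffcd7b7d),(nat_lit 0x3ffffffffffff)],[(nat_lit 0x22feaee73fc9b),(nat_lit 0x22b88aab77d92),(nat_lit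 0x1d47755080265),(nat_lit 0x3ffffffffffff)],[(nat_lit 0x22feaee73fc9b),(nat_lit 0x22e22acddf6b9),(nat_lit 0x1d1dd53200944),(nat_lit 0x3ffffffffffff)],[(nat_lit 0x22feaee73fc9b),(nat_lit 0x207ea28d1bbbf),(nat_lit 0x1f815d72e0040),(nat_lit 0x3ffffffffffff)],[(nat_lit 0x22feaee73fc9b),(nat_lit 0x224e0eae6ec7f),(nat_lit 0x1db1f15090380),(nat_lit 0x3ffffffffffff)],[(nat_lit 0x22feaee73fc9b),(nat_lit 0x22daac0b7fe71),(nat_lit 0x1d2553f480106),(nat_lit 0x3ffffffffffff)],[(nat_lit 0x22feaee73fc9b),(nat_lit 0x22ae864fb96be),(nat_lit 0x1d5179b044141),(nat_lit 0x3ffffffffffff)],[(nat_lit 0x22feaee73fc9b),(nat_lit 0x209e2a6f9ec59),(nat_lit 0x1f61d59060324),(nat_lit 0x3ffffffffffff)],[(nat_lit 0x22feaee73fc9b),(nat_lit 0x2276886c7efb3),(nat_lit 0x1d8977918004c),(nat_lit 0x3ffffffffffff)],[(nat_lit 0x22feaee73fc9b),(nat_lit 0x20a6acaf765f9),(nat_lit 0x1f59535089204),(nat_lit 0x3ffffffffffff)],[(nat_lit 0x22feaee73fc9b),(nat_lit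 0x22f4262ba7d7b),(nat_lit 0x1d0bd9d440284),(nat_lit 0x3ffffffffffff)],[(nat_lit 0x22feaee73fc9b),(nat_lit 0x20d286ef6b89e),(nat_lit 0x1f2d791084360),(nat_lit 0x3ffffffffffff)],[(nat_lit 0x22feaee73fc9b),(nat_lit 0x150151020c94b),(nat_lit 0x2ffffefdf37f4),(nat_lit 0x3ffffffffffff)],[(nat_lit 0x22feaee73fc9b),(nat_lit 0x2214aecdb75b7),(nat_lit 0x1deb513048a40),(nat_lit 0x3ffffffffffff)],[(nat_lit 0x22feaee73fc9b),(nat_lit 0x1501510716504),(nat_lit 0x2bfffff8e9bff),(nat_lit 0x3ffffffffffff)],[(nat_lit 0x22feaee73fc9b),(nat_lit 0x223a24ee3db9a),(nat_lit 0x1dc5db10c0464),(nat_lit 0x3ffffffffffff)],[(nat_lit 0x22feaee73fc9b),(nat_lit 0x1501510135ac0),(nat_lit 0x2efffffeca77f),(nat_lit 0x3ffffffffffff)],[(nat_lit 0x22feaee73fc9b),(nat_lit 0x1501510461c0d),(nat_lit 0x2ffefffbde3f6),(nat_lit 0x3ffffffffffff)],[(nat_lit 0x22feaee73fc9b),(nat_lit 0x150151040a2a1),(nat_lit 0x2fffeffbf5f5e),(nat_lit 0x3ffffffffffff)],[(nat_lit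 0x22feaee73fc9b),(nat_lit 0x2068ae6b2daff),(nat_lit 0x1f975190c2500),(nat_lit 0x3ffffffffffff)],[(nat_lit 0x22feaee73fc9b),(nat_lit 0x22cca0effffdf),(nat_lit 0x1d335f1000030),(nat_lit 0x3ffffffffffff)],[(nat_lit 0x22feaee73fc9b),(nat_lit 0x20fc0cce19cdf),(nat_lit 0x1f03f331c0320),(nat_lit 0x3ffffffffffff)],[(nat_lit 0x22feaee73fc9b),(nat_lit 0x17ffffe05336e),(nat_lit 0x1800000000000),(nat_lit 0x3ffffffffffff)]]) (by decide +kernel)
theorem nrm : coM An ∈ Subgroup.normalizer ((FixV [rU1,rV]) : Set Co0) := mem_norm_fix (List.forall_mem_cons.2 ⟨⟨lv rU1, Anm.smul_lv (by decide +kernel), fun _ h => (fixV2.1 h).1⟩, (List.forall_mem_cons.2 ⟨⟨lv rV2, Anm.smul_lv (by decide +kernel), fun _ h => (fixV2.1 (fix_V2V ▸ h)).1⟩, (by simp)⟩)⟩)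
theorem outH : Nat.card (Out (FixV [rU1,rV])) = 2 := by
  obtain ⟨β, hβ⟩ := conj_sub (h := hKH) (h' := hKHb) nrm cj0 cj1 cj2
  exact odH.two β mbm.toIsPre hβ (row := [(0,73),(0,73),(0,10),(0,73),(0,10),(0,10),(0,73),(0,10),(0,10),(0,10),(0,73),(0,10),(0,10),(0,10),(0,10),(0,10),(0,10),(0,10),(0,10),(0,10),(0,10),(0,10),(0,10),(0,10),(0,10)]) (by decide +kernel)

end Cfsg.Agent.H6.Le.Hs
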