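/- Transport of classes; the classes of the lattice modulo twice itself. -/
import Cfsg.Agent.H6.LeK1

namespace Cfsg.Agent.H6
open MulAction Pointwise Finset

def Cz (l : List (LL × ℤ)) (x : LL) : Prop := sqNorm (x : ZV) = 32 ∧ ∀ c ∈ l, dotInt (c.1 : ZV) x = c.2

def TO (l : List (LL × ℤ)) (n : ℕ) : Prop :=
  {x | Cz l x}.ncard = n ∧ ∀ x y, Cz l x → Cz l y → ∃ g : Co0, (∀ c ∈ l, g • c.1 = c.1) ∧ g • x = y

theorem cz_smul {l : List (LL × ℤ)} (g : Co0) (x : LL) : Cz (l.map fun c => (g • c.1, c.2)) (g • x) ↔ Cz l x := by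
  simp only [Cz, List.forall_mem_map, co_norm, co_dot]

theorem TO.smul {l : List (LL × ℤ)} {n : ℕ} (h : TO l n) (g : Co0) : TO (l.map fun c => (g • c.1, c.2)) n := by
  refine ⟨(Le.ncard_tr g (cz_smul g)).trans h.1, fun x y hx hy => ?_⟩
  rw [← smul_inv_smul g x, cz_smul] at hx
  rw [← smul_inv_smul g y, cz_smul] at hy
  obtain ⟨k, k1, k2⟩ := h.2 _ _ hx hy
  refine ⟨g * k * g⁻¹, List.forall_mem_map.2 fun c hc => conj_smul' g k (k1 c hc), ?_⟩
  simpa using conj_smul' g k k2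

theorem cls_iff {cs : List (Rw × ℕ)} (hm : lall memR (lmap Prod.fst cs) = true) {l : List (LL × ℤ)}
    (e : cs.map (fun c => (lv c.1, (c.2 : ℤ) - 128)) = l) (x : LL) : x ∈ Cls cs ↔ Cz l x := by
  rw [← e]
  refine and_congr_right fun _ => ?_
  rw [List.forall_mem_map]
  refine forall₂_congr fun c hc => ?_
  rw [coe_lv ((lall_eq _ _).1 hm _ (by rw [lmap_eq]; exact List.mem_map_of_mem hc))]
  omega

theorem CO.to {cs : List (Rw × ℕ)} {r : Rw} {n : ℕ} (h : CO cs r n) (hm : lall memR (lmap Prod.fst cs) = true)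
    {l : List (LL × ℤ)} (e : cs.map (fun c => (lv c.1, (c.2 : ℤ) - 128)) = l) : TO l n ∧ Cz l (lv r) := by
  refine ⟨⟨by rw [← h.1]; congr 1; ext x; exact (cls_iff hm e x).symm, fun x y hx hy => ?_⟩, (cls_iff hm e _).1 h.mem⟩
  obtain ⟨k, k1, k2⟩ := h.tr ((cls_iff hm e _).2 hx) ((cls_iff hm e _).2 hy)
  exact ⟨k, e ▸ List.forall_mem_map.2 fun c hc => k1 _ (by rw [lmap_eq]; exact List.mem_map_of_mem hc), k2⟩

theorem cz1 {a x : LL} {d : ℤ} : Cz [(a, d)] x ↔ sqNorm (x : ZV) = 32 ∧ dotInt (a : ZV) x = d := by simp [Cz]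
theorem cz2 {a b x : LL} {d e : ℤ} :
    Cz [(a, d), (b, e)] x ↔ sqNorm (x : ZV) = 32 ∧ dotInt (a : ZV) x = d ∧ dotInt (b : ZV) x = e := by simp [Cz]
theorem cz_cons {a x : LL} {d : ℤ} {l : List (LL × ℤ)} : Cz ((a, d) :: l) x ↔ Cz l x ∧ dotInt (a : ZV) x = d := by
  simp only [Cz, List.forall_mem_cons]; tauto

theorem TO.orbit {l : List (LL × ℤ)} {n : ℕ} (h : TO l n) {K : Subgroup Co0} (hK : ∀ g, g ∈ K ↔ ∀ c ∈ l, g • c.1 = c.1)
    {y : LL} (hy : Cz l y) : orbit K y = {x | Cz l x} := by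
  ext x
  rw [mem_orbit_sub]
  refine ⟨fun ⟨k, k1, k2⟩ => ⟨k2 ▸ (co_norm k y).trans hy.1, fun c hc => ?_⟩, fun hx => ?_⟩
  · rw [← k2, ← (hK k).1 k1 c hc, co_dot, hy.2 c hc]
  · obtain ⟨g, g1, g2⟩ := h.2 _ _ hy hx
    exact ⟨g, (hK g).2 g1, g2⟩

theorem conj_equiv {G : Type*} [Group G] {K K' : Subgroup G} (g : G) (h : ∀ x, x ∈ K' ↔ g⁻¹ * x * g ∈ K) :
    Nonempty (K ≃* K') := by
  have : K' = K.map (MulAut.conj g).toMonoidHom := by
    ext x; rw [h, Subgroup.mem_map_equiv]; rfl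
  exact ⟨this ▸ (MulAut.conj g).subgroupMap K⟩

theorem simple_card_congr {G H : Type*} [Group G] [Group H] (e : Nonempty (G ≃* H)) {n : ℕ} (h : IsSimpleGroup G)
    (c : Nat.card G = n) : IsSimpleGroup H ∧ Nat.card H = n :=
  ⟨simple_congr e.some h, (Nat.card_congr e.some.toEquiv).symm.trans c⟩

theorem fix_conj {g x : Co0} {a : LL} : x • g • a = g • a ↔ (g⁻¹ * x * g) • a = a := by
  rw [mul_smul, mul_smul, inv_smul_eq_iff]

/-! ### classes modulo `2Λ` -/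

instance instFinLL : Module.Finite ℤ LL :=
  Module.Finite.of_injective leechLattice.subtype.toIntLinearMap Subtype.val_injective

def D2 : AddSubgroup LL := (nsmulAddMonoidHom (α := LL) 2).range

theorem finrank_le : Module.finrank ℤ LL ≤ 24 :=
  (LinearMap.finrank_le_finrank_of_injective (f := leechLattice.subtype.toIntLinearMap) Subtype.val_injective).trans
    (by rw [Module.finrank_fintype_fun_eq_card, card_golayPt])

theorem idx_D2 : D2.index = 2 ^ Module.finrank ℤ LL := AddSubgroup.index_range_nsmul LL 2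

def Cg (x y : LL) : Prop := ∃ z : LL, x - y = 2 • z

theorem mk_eq_iff {x y : LL} : (x : LL ⧸ D2) = y ↔ Cg x y := by
  rw [eq_comm, QuotientAddGroup.eq, neg_add_eq_sub]
  exact ⟨fun ⟨z, e⟩ => ⟨z, e.symm⟩, fun ⟨z, e⟩ => ⟨z, e.symm⟩⟩

theorem Cg.smul {x y : LL} (h : Cg x y) (g : Co0) : Cg (g • x) (g • y) := by
  obtain ⟨z, e⟩ := h
  exact ⟨g • z, by rw [← co_sub, e, two_smul, two_smul, co_add]⟩

theorem Cg.short {x y : LL} (h : Cg x y) (hx : sqNorm (x : ZV) ≤ 64) (hy : sqNorm (y : ZV) ≤ 64) :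
    x = y ∨ x = -y ∨ (sqNorm (x : ZV) = 64 ∧ sqNorm (y : ZV) = 64 ∧ dotInt (x : ZV) y = 0) := by
  obtain ⟨z, e⟩ := h
  have sc : ∀ u : LL, sqNorm ((2 • u : LL) : ZV) = 4 * sqNorm (u : ZV) := fun u => by
    rw [two_smul, AddSubgroup.coe_add, sqNorm_add, dot_self]; ring
  have e2 : x + y = 2 • (z + y) := by rw [smul_add, ← e, two_smul]; abel
  by_cases h1 : z = 0
  · rw [h1, smul_zero, sub_eq_zero] at e; exact Or.inl e
  by_cases h2 : z + y = 0
  · rw [h2, smul_zero, add_eq_zero_iff_eq_neg] at e2; exact Or.inr (Or.inl e2)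
  have a := (mem_LL.1 z.2).min fun c => h1 (Subtype.ext c)
  have b := (mem_LL.1 (z + y).2).min fun c => h2 (Subtype.ext c)
  have c := sc z
  have d := sc (z + y)
  rw [← e, AddSubgroup.coe_sub, sqNorm_sub] at c
  rw [← e2, AddSubgroup.coe_add, sqNorm_add] at d
  exact Or.inr (Or.inr ⟨by omega, by omega, by omega⟩)

theorem Cg.norm {x y : LL} (h : Cg x y) (hx : sqNorm (x : ZV) ≤ 64) (hy : sqNorm (y : ZV) ≤ 64) :
    sqNorm (x : ZV) = sqNorm (y : ZV) := by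
  rcases h.short hx hy with e | e | e
  · rw [e]
  · rw [e, AddSubgroup.coe_neg, sqNorm_neg]
  · omega

theorem ncard_le_mul {α β : Type*} {A : Set α} (hA : A.Finite) (f : α → β) {k : ℕ}
    (h : ∀ a ∈ A, ∃ s : Set α, s.Finite ∧ s.ncard ≤ k ∧ ∀ x ∈ A, f x = f a → x ∈ s) : A.ncard ≤ k * (f '' A).ncard := by
  classical
  lift A to Finset α using hA
  rw [← coe_image, Set.ncard_coe_finset, Set.ncard_coe_finset]
  refine card_le_mul_card_image _ _ fun b hb => ?_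
  obtain ⟨a, ha, rfl⟩ := mem_image.1 hb
  obtain ⟨s, s1, s2, s3⟩ := h a ha
  rw [← Set.ncard_coe_finset]
  exact (Set.ncard_le_ncard (fun x hx => s3 x (mem_filter.1 hx).1 (mem_filter.1 hx).2) s1).trans s2

theorem two_fib {A : Set LL} {n : ℤ} (hn : n < 64) (hA : ∀ x ∈ A, sqNorm (x : ZV) = n) :
    A.ncard ≤ 2 * ((fun x : LL => (x : LL ⧸ D2)) '' A).ncard :=
  ncard_le_mul ((fin_shell n).subset hA) _ fun a ha => ⟨{a, -a}, Set.toFinite _, Set.ncard_insert_le _ _ |>.trans (by simp),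
    fun x hx e => by
      have b := hA a ha
      have c := hA x hx
      rcases (mk_eq_iff.1 e).short (by omega) (by omega) with h | h | h
      · exact Or.inl h
      · exact Or.inr h
      · omega⟩

noncomputable def negCo : Co0 := coS _ univ_mem_csets
theorem negCo_smul (x : LL) : negCo • x = -x := Subtype.ext (by rw [negCo, coS_smul]; funext i; simp [sgn])

noncomputable def e8 (p : GolayPt) : LL := ⟨ee p 8, mem_LL.2 (LS.of_four (fun i => by unfold ee; split_ifs <;> rfl) (by rw [sum_ee]; rfl))⟩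
theorem coe_e8 (p : GolayPt) : (e8 p : ZV) = ee p 8 := rfl
theorem norm_e8 (p : GolayPt) : sqNorm (e8 p : ZV) = 64 := by rw [← dot_self, coe_e8, dot_ee]; simp [ee]
theorem e8_none : lv Le.rE = e8 none := (Le.eq_lv (by funext p; revert p; decide +kernel)).symm

theorem cg_e8 (p q : GolayPt) : Cg (e8 p) (e8 q) :=
  ⟨⟨ee p 4 - ee q 4, mem_LL.2 (LS.of_four (fun i => by simp only [ee, Pi.sub_apply]; split_ifs <;> rfl)
    (by simp only [Pi.sub_apply, sum_sub_distrib, sum_ee]; rfl))⟩, Subtype.ext (funext fun i => by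
      show ee p 8 i - ee q 8 i = 2 • (ee p 4 i - ee q 4 i)
      simp only [ee]; split_ifs <;> rfl)⟩

theorem Cg.trans {x y z : LL} (a : Cg x y) (b : Cg y z) : Cg x z := mk_eq_iff.1 ((mk_eq_iff.2 a).trans (mk_eq_iff.2 b))
theorem Cg.symm {x y : LL} (a : Cg x y) : Cg y x := mk_eq_iff.1 (mk_eq_iff.2 a).symm
theorem cg_neg (x : LL) : Cg (-x) x := ⟨-x, by rw [two_smul]; abel⟩

def SC : Set LL := Set.range e8 ∪ Set.range fun p => -e8 p

theorem mem_SC {x : LL} : x ∈ SC ↔ sqNorm (x : ZV) = 64 ∧ Cg x (e8 none) := by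
  refine ⟨?_, fun ⟨h1, h2⟩ => ?_⟩
  · rintro (⟨p, rfl⟩ | ⟨p, rfl⟩)
    · exact ⟨norm_e8 p, cg_e8 _ _⟩
    · exact ⟨(sqNorm_neg _).trans (norm_e8 p), (cg_neg _).trans (cg_e8 _ _)⟩
  by_contra c
  have : (x : ZV) = 0 := funext fun p => by
    rcases (h2.trans (cg_e8 _ p)).short h1.le (norm_e8 p).le with e | e | e
    · exact absurd (Or.inl ⟨p, e.symm⟩) c
    · exact absurd (Or.inr ⟨p, e.symm⟩) c
    · have := e.2.2
      rw [dot_comm, coe_e8, dot_ee] at this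
      show (x : ZV) p = 0
      omega
  rw [this] at h1; simp [sqNorm] at h1

theorem ncard_SC : SC.ncard = 48 := by
  have i1 : Function.Injective e8 := fun p q e => by
    by_contra c
    have := congrFun (congrArg Subtype.val e) p
    simp [coe_e8, ee, c] at this
  rw [SC, Set.ncard_union_eq _ (Set.toFinite _) (Set.toFinite _), Set.ncard_range_of_injective i1,
    Set.ncard_range_of_injective (f := fun p => -e8 p) (neg_injective.comp i1), Nat.card_eq_fintype_card, card_golayPt]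
  rw [Set.disjoint_left]
  rintro _ ⟨p, rfl⟩ ⟨q, e⟩
  have := congrFun (congrArg Subtype.val e) p
  simp only [AddSubgroup.coe_neg, coe_e8, ee, Pi.neg_apply, if_true] at this
  split_ifs at this <;> omega

theorem SC_orbit {x : LL} (h : x ∈ SC) : x ∈ orbit Co0 (e8 none) := by
  have k : ∀ p, e8 p ∈ orbit Co0 (e8 none) := fun p => by
    have : pt (idx p) ∈ orbit (cl mg (lw [0, 2])) (pt 23) :=
      (mP.toIsPre.orbit_of_transChk (r := 30) (by decide +kernel)).ge ⟨_, idx_lt p, rfl⟩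
    obtain ⟨σ, -, e⟩ := mem_orbit_sub.1 this
    rw [pt_idx, pt_23] at e
    refine ⟨coP σ, Subtype.ext (funext fun i => ?_)⟩
    show ((coP σ • e8 none : LL) : ZV) i = _
    rw [coP_smul, coe_e8, coe_e8, ← e]
    simp only [ee, inv_smul_eq_iff]
  rcases h with ⟨p, rfl⟩ | ⟨p, rfl⟩
  · exact k p
  · obtain ⟨g, e⟩ := k p
    exact ⟨negCo * g, by simp only [mul_smul, negCo_smul]; exact congrArg _ e⟩

namespace Le

theorem n46 : (Cls [(rE, 160)]).ncard = 46 := big.ncard_cls (k := 15) (by decide +kernel)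
theorem fix_UE : FixV [rU, rE] = FixV [rU1, rU] := by
  ext g; rw [fixV2, fixV2]
  refine ⟨fun ⟨a, b⟩ => ⟨?_, a⟩, fun ⟨a, b⟩ => ⟨b, ?_⟩⟩
  · rwa [← lvE, co_add, a, add_right_inj] at b
  · rw [← lvE, co_add, a, b]
theorem cardUU : Nat.card (FixV [rU1, rU]) = 454164480 := co93150.down (by norm_num) (C2.card2.trans (by norm_num))
theorem stab_eq (r : Rw) : stabilizer Co0 (lv r) = FixV [r] := by ext g; exact fixV1.symm
theorem card_orb (x : LL) : (orbit Co0 x).ncard * Nat.card (stabilizer Co0 x) = 8315553613086720000 := by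
  have := card_eq_ncard_orbit_mul (⊤ : Subgroup Co0) x
  rw [orbit_top, top_inf_eq, Subgroup.card_top, C2.card0] at this
  exact this.symm
theorem norbV : (orbit Co0 (lv rV)).ncard = 16773120 := by
  have := card_orb (lv rV)
  rw [stab_eq, C3.card3] at this
  exact Nat.eq_of_mul_eq_mul_right (by norm_num) (this.trans (by norm_num))
theorem normV : sqNorm (lv rV : ZV) = 48 := by
  have := dot_of_dotR (r := rV) (s := rV) (d := 176) (by decide +kernel)
  rw [coe_lv (by decide +kernel), ← dot_self]; omega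

theorem count : (orbit Co0 (e8 none)).ncard = 398034000 ∧ D2.index = 2 ^ 24 ∧
    ∀ x : LL, ∃ y, Cg x y ∧ (y = 0 ∨ sqNorm (y : ZV) = 32 ∨ y ∈ orbit Co0 (lv rV) ∨ y ∈ orbit Co0 (e8 none)) := by
  have hE : 398034000 ≤ (orbit Co0 (e8 none)).ncard := by
    have a := card_orb (lv rE)
    have b : Nat.card (FixV [rE]) ≤ 46 * 454164480 :=
      ub_step (r := rU) (cs := [(rE, 160)]) (le_of_eq (fix_UE ▸ cardUU)) n46 (by decide +kernel)
    rw [stab_eq, e8_none] at a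
    by_contra c
    have := Nat.mul_le_mul (Nat.le_of_lt_succ (show _ < 398033999 + 1 from not_le.1 c)) b
    omega
  have n2 : ∀ x ∈ orbit Co0 (lv rV), sqNorm (x : ZV) = 48 := fun _ ⟨g, e⟩ => e ▸ (co_norm g _).trans normV
  have n3 : ∀ x ∈ orbit Co0 (e8 none), sqNorm (x : ZV) = 64 := fun _ ⟨g, e⟩ => e ▸ (co_norm g _).trans (norm_e8 _)
  have a1 := two_fib (n := 32) (A := {x : LL | sqNorm (x : ZV) = 32}) (by norm_num) fun _ h => h
  have a2 := two_fib (by norm_num) n2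
  have a3 := ncard_le_mul ((fin_shell 64).subset n3) (fun x : LL => (x : LL ⧸ D2)) (k := 48) fun a ⟨g, e⟩ =>
    ⟨g • SC, (Set.finite_of_ncard_pos (by rw [ncard_SC]; norm_num)).smul_set, by rw [Set.ncard_smul_set, ncard_SC],
      fun x hx c => Set.mem_smul_set_iff_inv_smul_mem.2 (mem_SC.2 ⟨(co_norm _ _).trans (n3 x hx), by
        simpa [← e] using (mk_eq_iff.1 c).smul g⁻¹⟩)⟩
  rw [n32] at a1
  rw [norbV] at a2
  have i1 : D2.index ≤ 2 ^ 24 := idx_D2 ▸ Nat.pow_le_pow_right (by norm_num) finrank_le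
  haveI : Finite (LL ⧸ D2) := Nat.finite_of_card_ne_zero (idx_D2.trans_ne (by positivity))
  have dj : ∀ {A B : Set LL} {a b : ℤ}, a ≠ b → a ≤ 64 → b ≤ 64 → (∀ x ∈ A, sqNorm (x : ZV) = a) →
      (∀ x ∈ B, sqNorm (x : ZV) = b) → Disjoint ((fun x : LL => (x : LL ⧸ D2)) '' A) ((fun x : LL => (x : LL ⧸ D2)) '' B) :=
    fun hab ha hb h1 h2 => Set.disjoint_left.2 fun _ ⟨x, hx, e1⟩ ⟨y, hy, e2⟩ => hab (by
      rw [← h1 x hx, ← h2 y hy]
      exact (mk_eq_iff.1 (e1.trans e2.symm)).norm (by rw [h1 x hx]; exact ha) (by rw [h2 y hy]; exact hb))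
  have n0 : ∀ x ∈ ({0} : Set LL), sqNorm (x : ZV) = 0 := fun x h => by rw [show x = 0 from h]; simp [sqNorm]
  have n1 : ∀ x ∈ {x : LL | sqNorm (x : ZV) = 32}, sqNorm (x : ZV) = 32 := fun _ h => h
  set S := (fun x : LL => (x : LL ⧸ D2)) '' {0} ∪ ((fun x : LL => (x : LL ⧸ D2)) '' {x : LL | sqNorm (x : ZV) = 32} ∪
    ((fun x : LL => (x : LL ⧸ D2)) '' orbit Co0 (lv rV) ∪ (fun x : LL => (x : LL ⧸ D2)) '' orbit Co0 (e8 none))) with hS
  have c1 : S.ncard ≤ D2.index := Set.ncard_le_card S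
  have c2 : S.ncard = 1 + (((fun x : LL => (x : LL ⧸ D2)) '' {x : LL | sqNorm (x : ZV) = 32}).ncard +
      (((fun x : LL => (x : LL ⧸ D2)) '' orbit Co0 (lv rV)).ncard +
        ((fun x : LL => (x : LL ⧸ D2)) '' orbit Co0 (e8 none)).ncard)) := by
   rw [hS, Set.ncard_union_eq (by
      simp only [Set.disjoint_union_right]
      exact ⟨dj (by norm_num) (by norm_num) (by norm_num) n0 n1, dj (by norm_num) (by norm_num) (by norm_num) n0 n2,
        dj (by norm_num) (by norm_num) (by norm_num) n0 n3⟩),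
    Set.ncard_union_eq (by
      simp only [Set.disjoint_union_right]
      exact ⟨dj (by norm_num) (by norm_num) (by norm_num) n1 n2, dj (by norm_num) (by norm_num) (by norm_num) n1 n3⟩),
    Set.ncard_union_eq (dj (by norm_num) (by norm_num) (by norm_num) n2 n3), Set.image_singleton, Set.ncard_singleton]
  refine ⟨by omega, by omega, fun x => ?_⟩
  have : S = Set.univ := Set.eq_of_subset_of_ncard_le (Set.subset_univ _) (by
    rw [Set.ncard_univ]; show D2.index ≤ _; omega)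
  rcases this.ge (Set.mem_univ (x : LL ⧸ D2)) with ⟨y, h, e⟩ | ⟨y, h, e⟩ | ⟨y, h, e⟩ | ⟨y, h, e⟩ <;>
    exact ⟨y, mk_eq_iff.1 e.symm, by tauto⟩

theorem finrank_LL : Module.finrank ℤ LL = 24 := Nat.pow_right_injective (le_refl 2) (idx_D2.symm.trans count.2.1)

theorem neg_mem_orbit {x y : LL} (h : y ∈ orbit Co0 x) : -y ∈ orbit Co0 x := by
  obtain ⟨g, e⟩ := h
  exact ⟨negCo * g, by simp only [mul_smul, negCo_smul]; exact congrArg _ e⟩

theorem short {x : LL} (hx : sqNorm (x : ZV) ≤ 64) : x = 0 ∨ sqNorm (x : ZV) = 32 ∨ x ∈ orbit Co0 (lv rV) ∨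
    x ∈ orbit Co0 (e8 none) := by
  obtain ⟨y, c, h | h | h | ⟨g, h⟩⟩ := count.2.2 x
  · have := c.norm hx (by rw [h]; simp [sqNorm])
    exact Or.inl (Subtype.ext (sqNorm_eq_zero (by rw [this, h]; simp [sqNorm])))
  · exact Or.inr (Or.inl ((c.norm hx (by omega)).trans h))
  · have n : sqNorm (y : ZV) = 48 := by obtain ⟨g, rfl⟩ := h; exact (co_norm g _).trans normV
    rcases c.short hx (by omega) with e | e | e
    · exact Or.inr (Or.inr (Or.inl (e ▸ h)))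
    · exact Or.inr (Or.inr (Or.inl (e ▸ neg_mem_orbit h)))
    · omega
  · have n : sqNorm (y : ZV) = 64 := h ▸ (co_norm g _).trans (norm_e8 _)
    obtain ⟨k, e⟩ := SC_orbit (x := g⁻¹ • x) (mem_SC.2 ⟨(co_norm _ _).trans ((c.norm hx n.le).trans n), by
      simpa [← h] using c.smul g⁻¹⟩)
    exact Or.inr (Or.inr (Or.inr ⟨g * k, by simp only [mul_smul] at e ⊢; rw [e, smul_inv_smul]⟩))

theorem orbV : orbit Co0 (lv rV) = {x : LL | sqNorm (x : ZV) = 48} := by
  refine Set.ext fun x => ⟨fun ⟨g, e⟩ => e ▸ (co_norm g _).trans normV, fun (h : sqNorm _ = 48) => ?_⟩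
  rcases short (x := x) (by omega) with e | e | e | ⟨g, e⟩
  · rw [e] at h; simp [sqNorm] at h
  · omega
  · exact e
  · have : sqNorm (x : ZV) = 64 := e ▸ (co_norm g _).trans (norm_e8 _)
    omega

theorem orbE : orbit Co0 (e8 none) = {x : LL | sqNorm (x : ZV) = 64} := by
  refine Set.ext fun x => ⟨fun ⟨g, e⟩ => e ▸ (co_norm g _).trans (norm_e8 _), fun (h : sqNorm _ = 64) => ?_⟩
  rcases short (x := x) (by omega) with e | e | ⟨g, e⟩ | e
  · rw [e] at h; simp [sqNorm] at h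
  · omega
  · have : sqNorm (x : ZV) = 48 := e ▸ (co_norm g _).trans normV
    omega
  · exact e

theorem ex32 {v : LL} (h : sqNorm (v : ZV) = 32) : ∃ g : Co0, g • lv rU = v := orbU.ge h
theorem ex48 {v : LL} (h : sqNorm (v : ZV) = 48) : ∃ g : Co0, g • lv rV = v := orbV.ge h
theorem ex64 {v : LL} (h : sqNorm (v : ZV) = 64) : ∃ g : Co0, g • e8 none = v := orbE.ge h

theorem t16 : TO [(lv rU, -16)] 4600 ∧ Cz [(lv rU, -16)] (lv rX) := co4600.to (by decide +kernel) rfl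
theorem t8 : TO [(lv rU, -8)] 47104 ∧ Cz [(lv rU, -8)] (lv rW) := co47104.to (by decide +kernel) rfl
theorem t0 : TO [(lv rU, 0)] 93150 ∧ Cz [(lv rU, 0)] (lv rU1) := co93150.to (by decide +kernel) rfl
theorem t552 : TO [(lv rV, 24)] 552 ∧ Cz [(lv rV, 24)] (lv rN) := C3.co552.to (by decide +kernel) rfl
theorem t11178 : TO [(lv rV, -16)] 11178 ∧ Cz [(lv rV, -16)] (lv rU1) := C3.co11178.to (by decide +kernel) rfl

/-- moving a further point of a class to its standard position -/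
theorem _root_.Cfsg.Agent.H6.TO.std {l : List (LL × ℤ)} {n : ℕ} {r : LL} (h : TO l n ∧ Cz l r) (g : Co0) {x : LL}
    (hx : Cz (l.map fun c => (g • c.1, c.2)) x) : ∃ k : Co0, (∀ c ∈ l, k • c.1 = g • c.1) ∧ k • r = x := by
  rw [← smul_inv_smul g x, cz_smul] at hx
  obtain ⟨k, k1, k2⟩ := h.1.2 _ _ h.2 hx
  exact ⟨g * k, fun c hc => by rw [mul_smul, k1 c hc], by rw [mul_smul, k2, smul_inv_smul]⟩

theorem pair8 {v w : LL} (hv : sqNorm (v : ZV) = 32) (hw : sqNorm (w : ZV) = 32) (h : dotInt (v : ZV) w = -8) :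
    ∃ g : Co0, g • lv rU = v ∧ g • lv rW = w := by
  obtain ⟨g, rfl⟩ := ex32 hv
  obtain ⟨k, a, b⟩ := TO.std t8 g (cz1.2 ⟨hw, h⟩)
  exact ⟨k, a _ List.mem_cons_self, b⟩

theorem n_iff {u x : LL} (hu : sqNorm (u : ZV) = 48) (hx : sqNorm (x : ZV) = 32) :
    sqNorm ((u : ZV) - (x : ZV)) = 32 ↔ dotInt (u : ZV) x = 24 := by rw [sqNorm_sub]; omega

theorem pair552 {u v : LL} (hu : sqNorm (u : ZV) = 48) (hv : sqNorm (v : ZV) = 32 ∧ sqNorm ((u : ZV) - (v : ZV)) = 32) :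
    ∃ g : Co0, g • lv rV = u ∧ g • lv rN = v := by
  obtain ⟨g, rfl⟩ := ex48 hu
  obtain ⟨k, a, b⟩ := TO.std t552 g (cz1.2 ⟨hv.1, (n_iff hu hv.1).1 hv.2⟩)
  exact ⟨k, a _ List.mem_cons_self, b⟩

theorem pair16 {u x : LL} (hu : sqNorm (u : ZV) = 48) (hx : sqNorm (x : ZV) = 32 ∧ dotInt (u : ZV) x = -16) :
    ∃ g : Co0, g • lv rV = u ∧ g • lv rU1 = x := by
  obtain ⟨g, rfl⟩ := ex48 hu
  obtain ⟨k, a, b⟩ := TO.std t11178 g (cz1.2 hx)
  exact ⟨k, a _ List.mem_cons_self, b⟩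

theorem pairH {v w : LL} (hv : sqNorm (v : ZV) = 48) (hw : sqNorm (w : ZV) = 48) (h : dotInt (v : ZV) w = -32) :
    ∃ g : Co0, g • lv rV = v ∧ g • lv rV2 = w := by
  obtain ⟨g, a, b⟩ := pair16 (x := -(v + w)) hv ⟨by
    rw [AddSubgroup.coe_neg, sqNorm_neg, AddSubgroup.coe_add, sqNorm_add]; omega, by
    rw [AddSubgroup.coe_neg, dot_neg, AddSubgroup.coe_add, dot_add, dot_self]; omega⟩
  refine ⟨g, a, ?_⟩
  rw [← neg_neg (lv rV2), ← lvV2, co_neg, co_add, a, b]; abel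

end Le
end Cfsg.Agent.H6
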