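/- The McLaughlin and Higman–Sims configurations. -/
import Cfsg.Agent.H6.LeM
import Cfsg.Agent.H6.LeJ1
import Cfsg.Agent.H6.LeL1

namespace Cfsg.Agent.H6.Le
open MulAction Pointwise

theorem t275 : TO [(lv rN, 16), (lv rV, 24)] 275 ∧ Cz [(lv rN, 16), (lv rV, 24)] (lv Mc.rx0) :=
  Mc.co275.to (by decide +kernel) rfl
theorem t112 : TO [(lv Mc.rx0, 8), (lv rN, 16), (lv rV, 24)] 112 := (Mc.co112.to (by decide +kernel) rfl).1
theorem t162 : TO [(lv Mc.rx0, 16), (lv rN, 16), (lv rV, 24)] 162 := (Mc.co162.to (by decide +kernel) rfl).1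
theorem t2025 : TO [(lv rW, 16), (lv rU, 0)] 2025 ∧ Cz [(lv rW, 16), (lv rU, 0)] (lv rU1) :=
  Mc.co2025.to (by decide +kernel) rfl
theorem t330 : TO [(lv rU1, 0), (lv rW, 16), (lv rU, 0)] 330 := (Mc.co330.to (by decide +kernel) rfl).1
theorem t462 : TO [(lv rU1, 16), (lv rW, 16), (lv rU, 0)] 462 := (Mc.co462.to (by decide +kernel) rfl).1
theorem t1232 : TO [(lv rU1, 8), (lv rW, 16), (lv rU, 0)] 1232 := (Mc.co1232.to (by decide +kernel) rfl).1
theorem t100 : TO [(lv rV2, -24), (lv rV, 24)] 100 ∧ Cz [(lv rV2, -24), (lv rV, 24)] (lv rN) :=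
  Hs.co100.to (by decide +kernel) rfl
theorem t22 : TO [(lv rN, 8), (lv rV2, -24), (lv rV, 24)] 22 := (Hs.co22.to (by decide +kernel) rfl).1
theorem t77 : TO [(lv rN, 16), (lv rV2, -24), (lv rV, 24)] 77 := (Hs.co77.to (by decide +kernel) rfl).1
theorem t352 : TO [(lv rV2, -24), (lv rV, 16)] 352 ∧ Cz [(lv rV2, -24), (lv rV, 16)] (lv Hs.rx1) :=
  Hs.co352.to (by decide +kernel) rfl
theorem w352 : TO [(lv rU1, -8), (lv rV, -16)] 352 := (Hs.cow352.to (by decide +kernel) rfl).1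
theorem w4125 : TO [(lv rU1, 0), (lv rV, -16)] 4125 := (Hs.cow4125.to (by decide +kernel) rfl).1
theorem w5600 : TO [(lv rU1, 8), (lv rV, -16)] 5600 := (Hs.cow5600.to (by decide +kernel) rfl).1
theorem w1100 : TO [(lv rU1, 16), (lv rV, -16)] 1100 := (Hs.cow1100.to (by decide +kernel) rfl).1

theorem fin_cz (l : List (LL × ℤ)) : {x | Cz l x}.Finite := (fin_shell 32).subset fun _ h => h.1

theorem _root_.Cfsg.Agent.H6.TO.ex {l : List (LL × ℤ)} {n : ℕ} (h : TO l n) (h0 : 0 < n) : ∃ x, Cz l x :=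
  Set.nonempty_of_ncard_ne_zero (s := {x | Cz l x}) (by rw [h.1]; omega)

theorem dot32 {l : List (LL × ℤ)} {x y : LL} (hx : Cz l x) (hy : Cz l y) : dotInt (x : ZV) y = 32 ↔ y = x :=
  ⟨fun h => (eq_of_dot (hx.1.trans h.symm) (hy.1.trans h.symm)).symm, fun h => by rw [h, dot_self, hx.1]⟩

/-- the inner products with a point of a class -/
theorem cover {l : List (LL × ℤ)} {n : ℕ} (h : TO l n) {x : LL} (hx : Cz l x) (m : List (ℤ × ℕ))
    (hd : (32 :: m.map Prod.fst).Nodup) (hm : ∀ a ∈ m, TO ((x, a.1) :: l) a.2) (hs : n = 1 + (m.map Prod.snd).sum) {y : LL}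
    (hy : Cz l y) : y = x ∨ dotInt (x : ZV) y ∈ m.map Prod.fst := by
  have := cover_of_sum (fin_cz l) (fun y => dotInt (x : ZV) y) ((32, 1) :: m) hd (List.forall_mem_cons.2 ⟨?_, fun a ha => ?_⟩)
    (h.1.trans hs) y hy
  · exact (List.mem_cons.1 this).imp_left (dot32 hx hy).1
  · rw [← Set.ncard_singleton x]; congr 1; ext y
    exact ⟨fun c => (dot32 hx c.1).1 c.2, fun c => by rw [show y = x from c]; exact ⟨hx, (dot32 hx hx).2 rfl⟩⟩
  · rw [← (hm a ha).1]; congr 1; ext y; exact cz_cons.symm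

theorem mc_iff {u v x : LL} (hu : sqNorm (u : ZV) = 48) : (sqNorm (x : ZV) = 32 ∧ sqNorm ((u : ZV) - (x : ZV)) = 32 ∧
    dotInt (v : ZV) x = 16) ↔ Cz [(v, 16), (u, 24)] x := by
  rw [cz2]; exact and_congr_right fun h => by rw [n_iff hu h, and_comm]

theorem sw_iff {v w x : LL} {d e : ℤ} : (sqNorm (x : ZV) = 32 ∧ dotInt (v : ZV) x = d ∧ dotInt (w : ZV) x = e) ↔
    Cz [(w, e), (v, d)] x := by rw [cz2, and_comm (a := dotInt (v : ZV) x = d)]

end Cfsg.Agent.H6.Le
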