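/- The centre of `Co0`, a square root of `-1`, actions of quotients. -/
import Cfsg.Agent.H6.LeM

set_option maxRecDepth 100000
namespace Cfsg.Agent.H6
open MulAction Pointwise Finset

theorem pm_step {g : Co0} (H : ∀ x : LL, sqNorm (x : ZV) = 32 → g • x = x ∨ g • x = -x) {s : Rw} (hs : g • lv s = lv s)
    {r : Rw} {d : ℕ} (hc : band (inC r [(s, d)]) (beqb (Nat.beq d 128) false) = true) : g • lv r = lv r := by
  rw [band_eq, beqb_eq] at hc
  have m := mem_cls hc.1
  refine (H _ m.1).resolve_right fun e => ?_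
  have hm : memR s = true := by
    have := hc.1
    simp only [inC, band_eq, lall_eq] at this
    exact this.2.2.1 s List.mem_cons_self
  have a := m.2 _ List.mem_cons_self
  have b := co_dot g (lv s) (lv r)
  rw [hs, e, AddSubgroup.coe_neg, dot_neg, coe_lv hm] at b
  have : d = 128 := by simp only at a; omega
  rw [this] at hc; exact absurd hc.2 (by decide)

theorem dots {x y : LL} (hx : sqNorm (x : ZV) = 32) (hy : sqNorm (y : ZV) = 32) : y = x ∨ y = -x ∨
    dotInt (x : ZV) y = -16 ∨ dotInt (x : ZV) y = -8 ∨ dotInt (x : ZV) y = 0 ∨ dotInt (x : ZV) y = 8 ∨ dotInt (x : ZV) y = 16 := by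
  by_cases h1 : y = x
  · exact Or.inl h1
  by_cases h2 : y = -x
  · exact Or.inr (Or.inl h2)
  have a := (mem_LL.1 (x - y).2).min fun c => h1 (sub_eq_zero.1 (Subtype.ext c)).symm
  have b := (mem_LL.1 (x + y).2).min fun c => h2 (eq_neg_of_add_eq_zero_right (Subtype.ext c))
  have c := (mem_LL.1 (x + y).2).even
  rw [AddSubgroup.coe_sub, sqNorm_sub] at a
  rw [AddSubgroup.coe_add, sqNorm_add] at b c
  omega

theorem TO.moved {l : List (LL × ℤ)} {n : ℕ} (h : TO l n) (h1 : 1 < n) {y : LL} (hy : Cz l y) :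
    ∃ g : Co0, (∀ c ∈ l, g • c.1 = c.1) ∧ g • y ≠ y := by
  obtain ⟨z, hz, e⟩ := Set.exists_ne_of_one_lt_ncard (h.1 ▸ h1) y
  obtain ⟨g, a, b⟩ := h.2 _ _ hy hz
  exact ⟨g, a, b ▸ e⟩

noncomputable def dgM (s : Bool) (p : ℕ) : Rw := cond s (0, 8 * 16 ^ p) (8 * 16 ^ p, 0)
theorem isMat_neg : IsMat negCo (dgM true) := fun x p => by
  rw [negCo_smul, show rv (dgM true (idx p)) = ee p (-8) by funext q; revert p q; decide +kernel, dot_ee]; simp
theorem isMat_one : IsMat 1 (dgM false) := fun x p => by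
  rw [one_smul, show rv (dgM false (idx p)) = ee p 8 by funext q; revert p q; decide +kernel, dot_ee]

theorem neg_sq : negCo * negCo = 1 := co_ext fun x => by rw [mul_smul, negCo_smul, negCo_smul, neg_neg, one_smul]
theorem neg_comm (g : Co0) : g * negCo = negCo * g := co_ext fun x => by
  rw [mul_smul, mul_smul, negCo_smul, negCo_smul, co_neg]
theorem neg_moves {x : LL} (h : sqNorm (x : ZV) ≠ 0) : negCo • x ≠ x := fun e => h (by
  have := co_dot negCo x x
  nth_rw 1 [e, negCo_smul] at this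
  rw [AddSubgroup.coe_neg, dot_neg, dot_self] at this; omega)

theorem exists_act {G Ω : Type*} [Group G] [MulAction G Ω] {N : ℕ} [NeZero N] {X : ℕ → Ω} {g : ℕ → G} {nets : ℕ → Net}
    (m : IsModel N X g nets vT) (hinv : ∀ a : G, ∀ i < N, ∃ j < N, a • X i = X j) (Z : Subgroup G) [Z.Normal]
    (hZ : ∀ z ∈ Z, ∀ i < N, z • X i = X i) : ∃ φ : G ⧸ Z →* Equiv.Perm (Fin N),
      (∀ l, φ (g l) = finG m.ok l) ∧ ∀ (a : G) (i : Fin N), X (φ a i) = a • X i := by
  let ψ := (idxHom m.inj ⊤ fun a _ => hinv a).comp Subgroup.topEquiv.symm.toMonoidHom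
  have hψ : ∀ (a : G) (i : Fin N), X (ψ a i) = a • X i := fun a i => idxHom_spec m.inj ⊤ (fun a _ => hinv a) ⟨a, trivial⟩ i
  refine ⟨QuotientGroup.lift Z ψ fun z hz => Equiv.ext fun i => Fin.ext (m.inj _ (Fin.is_lt _) _ i.2 ?_), fun l =>
    Equiv.ext fun i => Fin.ext (m.inj _ (Fin.is_lt _) _ (Fin.is_lt _) ?_), hψ⟩
  · rw [hψ, hZ z hz _ i.2]; rfl
  · exact (hψ _ i).trans (m.cmp l rfl _ i.2)

namespace Le

theorem normU : sqNorm (lv rU : ZV) = 32 := orbU.le (mem_orbit_self _)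

theorem pm_one {g : Co0} (H : ∀ x : LL, sqNorm (x : ZV) = 32 → g • x = x ∨ g • x = -x) (frU : g • lv rU = lv rU) : g = 1 := by
  have frv2 := pm_step H frU (r := rv2) (d := 144) (by decide +kernel)
  have frv3 := pm_step H frU (r := rv3) (d := 144) (by decide +kernel)
  have frv4 := pm_step H frU (r := rv4) (d := 144) (by decide +kernel)
  have frv5 := pm_step H frU (r := rv5) (d := 144) (by decide +kernel)
  have frv6 := pm_step H frU (r := rv6) (d := 144) (by decide +kernel)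
  have frv7 := pm_step H frU (r := rv7) (d := 144) (by decide +kernel)
  have frv8 := pm_step H frU (r := rv8) (d := 144) (by decide +kernel)
  have frv9 := pm_step H frU (r := rv9) (d := 136) (by decide +kernel)
  have frv10 := pm_step H frU (r := rv10) (d := 144) (by decide +kernel)
  have frv11 := pm_step H frU (r := rv11) (d := 144) (by decide +kernel)
  have frv12 := pm_step H frU (r := rv12) (d := 144) (by decide +kernel)
  have frv13 := pm_step H frU (r := rv13) (d := 136) (by decide +kernel)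
  have frv14 := pm_step H frU (r := rv14) (d := 144) (by decide +kernel)
  have frv15 := pm_step H frU (r := rv15) (d := 144) (by decide +kernel)
  have frv16 := pm_step H frv2 (r := rv16) (d := 136) (by decide +kernel)
  have frv17 := pm_step H frU (r := rv17) (d := 144) (by decide +kernel)
  have frv18 := pm_step H frU (r := rv18) (d := 136) (by decide +kernel)
  have frv19 := pm_step H frv5 (r := rv19) (d := 136) (by decide +kernel)
  have frv20 := pm_step H frv8 (r := rv20) (d := 136) (by decide +kernel)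
  have frv21 := pm_step H frv5 (r := rv21) (d := 136) (by decide +kernel)
  have frv22 := pm_step H frU (r := rv22) (d := 136) (by decide +kernel)
  have frv23 := pm_step H frU (r := rv23) (d := 136) (by decide +kernel)
  have frU1 := pm_step H frv2 (r := rU1) (d := 144) (by decide +kernel)
  refine (Subgroup.eq_bot_iff_forall _).1 ((Subgroup.card_le_one_iff_eq_bot _).1 ub24) g ?_
  simp only [mem_FixV, List.forall_mem_cons]
  exact ⟨frv23, frv22, frv21, frv20, frv19, frv18, frv17, frv16, frv15, frv14, frv13, frv12, frv11, frv10, frv9, frv8, frv7, frv6, frv5, frv4, frv3, frv2, frU1, frU, by simp⟩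

theorem pm_all {g : Co0} (H : ∀ x : LL, sqNorm (x : ZV) = 32 → g • x = x ∨ g • x = -x) : g = 1 ∨ g = negCo := by
  refine (H _ normU).imp (pm_one H) fun e => ?_
  have := pm_one (g := negCo * g) (fun x hx => (H x hx).symm.imp (fun c => by rw [mul_smul, c, negCo_smul, neg_neg])
    fun c => by rw [mul_smul, c, negCo_smul]) (by rw [mul_smul, e, negCo_smul, neg_neg])
  rw [← one_mul g, ← neg_sq, mul_assoc, this, mul_one]

theorem fix_Co2 {y : LL} (hy : sqNorm (y : ZV) = 32) (h : ∀ g : Co0, g • lv rU = lv rU → g • y = y) :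
    y = lv rU ∨ y = -lv rU := by
  have k : ∀ {d : ℤ} {n : ℕ} {y : LL}, TO [(lv rU, d)] n → 1 < n → sqNorm (y : ZV) = 32 →
      (∀ g : Co0, g • lv rU = lv rU → g • y = y) → dotInt (lv rU : ZV) y ≠ d := fun t h1 hy h e => by
    obtain ⟨g, a, b⟩ := t.moved h1 (cz1.2 ⟨hy, e⟩)
    exact b (h g (a _ List.mem_cons_self))
  have hy' : sqNorm ((-y : LL) : ZV) = 32 := (sqNorm_neg _).trans hy
  have h' : ∀ g : Co0, g • lv rU = lv rU → g • -y = -y := fun g e => fix_neg.2 (h g e)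
  have a1 := k t16.1 (by norm_num) hy h
  have a2 := k t8.1 (by norm_num) hy h
  have a3 := k t0.1 (by norm_num) hy h
  have a4 := k t16.1 (by norm_num) hy' h'
  have a5 := k t8.1 (by norm_num) hy' h'
  rw [AddSubgroup.coe_neg, dot_neg] at a4 a5
  rcases dots normU hy with e | e | e
  · exact Or.inl e
  · exact Or.inr e
  · omega

theorem mem_center {g : Co0} : g ∈ Subgroup.center Co0 ↔ g = 1 ∨ g = negCo := by
  refine ⟨fun h => pm_all fun x hx => ?_, ?_⟩
  · obtain ⟨k, rfl⟩ := ex32 hx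
    have c := Subgroup.mem_center_iff.1 h
    rw [← mul_smul, ← c, mul_smul, ← co_neg]
    exact (fix_Co2 ((co_norm _ _).trans normU) fun a e => by rw [← mul_smul, c, mul_smul, e]).imp (congrArg _) (congrArg _)
  · rintro (rfl | rfl)
    · exact Subgroup.one_mem _
    · exact Subgroup.mem_center_iff.2 neg_comm

theorem neg_ne : negCo ≠ 1 := fun e => neg_moves (x := lv rU) (by rw [normU]; norm_num) (by rw [e, one_smul])

theorem card_center : Nat.card (Subgroup.center Co0) = 2 := by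
  rw [← Set.ncard_pair neg_ne.symm, ← Nat.card_coe_set_eq]
  exact Nat.card_congr (Equiv.setCongr (Set.ext fun _ => mem_center))

theorem card1 : Nat.card (Co0 ⧸ Subgroup.center Co0) = 4157776806543360000 :=
  card_quot_eq (C2.card0.trans (by norm_num)) card_center (by norm_num)

noncomputable def Ai : ℕ → Rw := lk (0, 0) [((nat_lit 0),(nat_lit 0x80000000000)),((nat_lit 0),(nat_lit 0x80000)),((nat_lit 0x800000000000000),(nat_lit 0)),((nat_lit 0),(nat_lit 0x8000000000000000000000)),((nat_lit 128),(nat_lit 0)),((nat_lit 0),(nat_lit 0x800000000)),((nat_lit 0x8000000000000000),(nat_lit 0)),((nat_lit 0x8000000000000000000),(nat_lit 0)),((nat_lit 0x800000),(nat_lit 0)),((nat_lit 0x80000000000000),(nat_lit 0)),((nat_lit 8),(nat_lit 0)),((nat_lit 0x800000000000000000),(nat_lit 0)),((nat_lit 0),(nat_lit 0x800000000000000000000000)),((nat_lit 0),(nat_lit 0x8000000000)),((nat_lit 0),(nat_lit 2048)),((nat_lit 0),(nat_lit 0x8000000)),((nat_lit 0x800000000000000000000),(nat_lit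 0)),((nat_lit 0),(nat_lit 0x800000000000)),((nat_lit 0),(nat_lit 0x80000000)),((nat_lit 0x80000000000000000000000),(nat_lit 0)),((nat_lit 0),(nat_lit 0x80000000000000000)),((nat_lit 32768),(nat_lit 0)),((nat_lit 0),(nat_lit 0x80000000000000000000)),((nat_lit 0x8000000000000),(nat_lit 0))]
theorem Aim : IsMat (coM Ai) Ai := isMat_coM (T := lk [] [[(nat_lit 0x2000000000000),(nat_lit 0x2000000b287d6),(nat_lit 0x1fffbff4d7829),(nat_lit 0x3ffffffffffff)],[(nat_lit 0x2000000000000),(nat_lit 0x2000000acca1f),(nat_lit 0x1ffffef5335e0),(nat_lit 0x3ffffffffffff)],[(nat_lit 0x2000000000000),(nat_lit 0xa87d66),(nat_lit 0x3ffbfffffffff),(nat_lit 0x3ffbfffffffff),(nat_lit 0x4000000000)],[(nat_lit 0x2000000000000),(nat_lit 0x2000000beb328),(nat_lit 0x1dfffff414cd7),(nat_lit 0x3ffffffffffff)],[(nat_lit 0x2000000000000),(nat_lit 0xf59943),(nat_lit 0x3fffffdffffff),(nat_lit 0x3fffffdffffff),(nat_lit 0x2000000)],[(nat_lit 0x2000000000000),(nat_lit 0x2000000cca1f5),(nat_lit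 0x1fffeff335e0a),(nat_lit 0x3ffffffffffff)],[(nat_lit 0x2000000000000),(nat_lit 0xd0facc),(nat_lit 0x3ff7fffffffff),(nat_lit 0x3ff7fffffffff),(nat_lit 0x8000000000)],[(nat_lit 0x2000000000000),(nat_lit 0x87d665),(nat_lit 0x3fbffffffffff),(nat_lit 0x3fbffffffffff),(nat_lit 0x40000000000)],[(nat_lit 0x2000000000000),(nat_lit 0xd9943e),(nat_lit 0x3ffffdfffffff),(nat_lit 0x3ffffdfffffff),(nat_lit 0x20000000)],[(nat_lit 0x2000000000000),(nat_lit 0x943eb3),(nat_lit 0x3ffdfffffffff),(nat_lit 0x3ffdfffffffff),(nat_lit 0x2000000000)],[(nat_lit 0x2000000000000),(nat_lit 0xfacca1),(nat_lit 0x3fffffeffffff),(nat_lit 0x3fffffeffffff),(nat_lit 0x1000000)],[(nat_lit 0x2000000000000),(nat_lit 0xc3eb32),(nat_lit 0x3fdffffffffff),(nat_lit 0x3fdffffffffff),(nat_lit 0x20000000000)],[(nat_lit 0x2000000000000),(nat_lit 0x2000000800000),(nat_lit 0x38000007fffff),(nat_lit 0x2800000ffffff),(nat_lit 0x7fffff000000)],[(nat_lit 0x2000000000000),(nat_lit 0x20000009943eb),(nat_lit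 0x1fffdff66bc14),(nat_lit 0x3ffffffffffff)],[(nat_lit 0x2000000000000),(nat_lit 0x2000000eb3287),(nat_lit 0x1fffffb14cd78),(nat_lit 0x3ffffffffffff)],[(nat_lit 0x2000000000000),(nat_lit 0x2000000b3287d),(nat_lit 0x1ffffbf4cd782),(nat_lit 0x3ffffffffffff)],[(nat_lit 0x2000000000000),(nat_lit 0x9f5994),(nat_lit 0x3efffffffffff),(nat_lit 0x3efffffffffff),(nat_lit 0x100000000000)],[(nat_lit 0x2000000000000),(nat_lit 0x2000000e50fac),(nat_lit 0x1fff7ff1af053),(nat_lit 0x3ffffffffffff)],[(nat_lit 0x2000000000000),(nat_lit 0x2000000e650fa),(nat_lit 0x1ffff7f19af05),(nat_lit 0x3ffffffffffff)],[(nat_lit 0x2000000000000),(nat_lit 0xfd6650),(nat_lit 0x3bfffffffffff),(nat_lit 0x3bfffffffffff),(nat_lit 0x400000000000)],[(nat_lit 0x2000000000000),(nat_lit 0x2000000a1f599),(nat_lit 0x1feffff5e0a66),(nat_lit 0x3ffffffffffff)],[(nat_lit 0x2000000000000),(nat_lit 0xd6650f),(nat_lit 0x3fffff7ffffff),(nat_lit 0x3fffff7ffffff),(nat_lit 0x8000000)],[(nat_lit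 0x2000000000000),(nat_lit 0x20000008facca),(nat_lit 0x1f7ffff705335),(nat_lit 0x3ffffffffffff)],[(nat_lit 0x2000000000000),(nat_lit 0xca1f59),(nat_lit 0x3ffefffffffff),(nat_lit 0x3ffefffffffff),(nat_lit 0x1000000000)]]) (by decide +kernel)
theorem ii : coM Ai * coM Ai = negCo * 1 := mul_eq_of_mulC Aim Aim isMat_neg isMat_one (S1 := lk [] [[(nat_lit 0x2000000000000),(nat_lit 0x2000000b287d6),(nat_lit 0x1fffbff4d7829),(nat_lit 0x3ffffffffffff)],[(nat_lit 0x2000000000000),(nat_lit 0x2000000acca1f),(nat_lit 0x1ffffef5335e0),(nat_lit 0x3ffffffffffff)],[(nat_lit 0x2000000000000),(nat_lit 0xa87d66),(nat_lit 0x3ffbfffffffff),(nat_lit 0x3ffbfffffffff),(nat_lit 0x4000000000)],[(nat_lit 0x2000000000000),(nat_lit 0x2000000beb328),(nat_lit 0x1dfffff414cd7),(nat_lit 0x3ffffffffffff)],[(nat_lit 0x2000000000000),(nat_lit 0xf59943),(nat_lit 0x3fffffdffffff),(nat_lit 0x3fffffdffffff),(nat_lit 0x2000000)],[(nat_lit 0x2000000000000),(nat_lit 0x2000000cca1f5),(nat_lit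 0x1fffeff335e0a),(nat_lit 0x3ffffffffffff)],[(nat_lit 0x2000000000000),(nat_lit 0xd0facc),(nat_lit 0x3ff7fffffffff),(nat_lit 0x3ff7fffffffff),(nat_lit 0x8000000000)],[(nat_lit 0x2000000000000),(nat_lit 0x87d665),(nat_lit 0x3fbffffffffff),(nat_lit 0x3fbffffffffff),(nat_lit 0x40000000000)],[(nat_lit 0x2000000000000),(nat_lit 0xd9943e),(nat_lit 0x3ffffdfffffff),(nat_lit 0x3ffffdfffffff),(nat_lit 0x20000000)],[(nat_lit 0x2000000000000),(nat_lit 0x943eb3),(nat_lit 0x3ffdfffffffff),(nat_lit 0x3ffdfffffffff),(nat_lit 0x2000000000)],[(nat_lit 0x2000000000000),(nat_lit 0xfacca1),(nat_lit 0x3fffffeffffff),(nat_lit 0x3fffffeffffff),(nat_lit 0x1000000)],[(nat_lit 0x2000000000000),(nat_lit 0xc3eb32),(nat_lit 0x3fdffffffffff),(nat_lit 0x3fdffffffffff),(nat_lit 0x20000000000)],[(nat_lit 0x2000000000000),(nat_lit 0x2000000800000),(nat_lit 0x38000007fffff),(nat_lit 0x2800000ffffff),(nat_lit 0x7fffff000000)],[(nat_lit 0x2000000000000),(nat_lit 0x20000009943eb),(nat_lit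 0x1fffdff66bc14),(nat_lit 0x3ffffffffffff)],[(nat_lit 0x2000000000000),(nat_lit 0x2000000eb3287),(nat_lit 0x1fffffb14cd78),(nat_lit 0x3ffffffffffff)],[(nat_lit 0x2000000000000),(nat_lit 0x2000000b3287d),(nat_lit 0x1ffffbf4cd782),(nat_lit 0x3ffffffffffff)],[(nat_lit 0x2000000000000),(nat_lit 0x9f5994),(nat_lit 0x3efffffffffff),(nat_lit 0x3efffffffffff),(nat_lit 0x100000000000)],[(nat_lit 0x2000000000000),(nat_lit 0x2000000e50fac),(nat_lit 0x1fff7ff1af053),(nat_lit 0x3ffffffffffff)],[(nat_lit 0x2000000000000),(nat_lit 0x2000000e650fa),(nat_lit 0x1ffff7f19af05),(nat_lit 0x3ffffffffffff)],[(nat_lit 0x2000000000000),(nat_lit 0xfd6650),(nat_lit 0x3bfffffffffff),(nat_lit 0x3bfffffffffff),(nat_lit 0x400000000000)],[(nat_lit 0x2000000000000),(nat_lit 0x2000000a1f599),(nat_lit 0x1feffff5e0a66),(nat_lit 0x3ffffffffffff)],[(nat_lit 0x2000000000000),(nat_lit 0xd6650f),(nat_lit 0x3fffff7ffffff),(nat_lit 0x3fffff7ffffff),(nat_lit 0x8000000)],[(nat_lit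 0x2000000000000),(nat_lit 0x20000008facca),(nat_lit 0x1f7ffff705335),(nat_lit 0x3ffffffffffff)],[(nat_lit 0x2000000000000),(nat_lit 0xca1f59),(nat_lit 0x3ffefffffffff),(nat_lit 0x3ffefffffffff),(nat_lit 0x1000000000)]]) (S2 := lk [] [[(nat_lit 0x2000000000000),(nat_lit 0x2000000facca1),(nat_lit 0x1fffffe05335e),(nat_lit 0x3ffffffffffff)],[(nat_lit 0x2000000000000),(nat_lit 0x2000000f59943),(nat_lit 0x1fffffd0a66bc),(nat_lit 0x3ffffffffffff)],[(nat_lit 0x2000000000000),(nat_lit 0x2000000eb3287),(nat_lit 0x1fffffb14cd78),(nat_lit 0x3ffffffffffff)],[(nat_lit 0x2000000000000),(nat_lit 0x2000000d6650f),(nat_lit 0x1fffff7299af0),(nat_lit 0x3ffffffffffff)],[(nat_lit 0x2000000000000),(nat_lit 0x2000000acca1f),(nat_lit 0x1ffffef5335e0),(nat_lit 0x3ffffffffffff)],[(nat_lit 0x2000000000000),(nat_lit 0x2000000d9943e),(nat_lit 0x1ffffdf266bc1),(nat_lit 0x3ffffffffffff)],[(nat_lit 0x2000000000000),(nat_lit 0x2000000b3287d),(nat_lit 0x1ffffbf4cd782),(nat_lit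 0x3ffffffffffff)],[(nat_lit 0x2000000000000),(nat_lit 0x2000000e650fa),(nat_lit 0x1ffff7f19af05),(nat_lit 0x3ffffffffffff)],[(nat_lit 0x2000000000000),(nat_lit 0x2000000cca1f5),(nat_lit 0x1fffeff335e0a),(nat_lit 0x3ffffffffffff)],[(nat_lit 0x2000000000000),(nat_lit 0x20000009943eb),(nat_lit 0x1fffdff66bc14),(nat_lit 0x3ffffffffffff)],[(nat_lit 0x2000000000000),(nat_lit 0x2000000b287d6),(nat_lit 0x1fffbff4d7829),(nat_lit 0x3ffffffffffff)],[(nat_lit 0x2000000000000),(nat_lit 0x2000000e50fac),(nat_lit 0x1fff7ff1af053),(nat_lit 0x3ffffffffffff)],[(nat_lit 0x2000000000000),(nat_lit 0x2000000ca1f59),(nat_lit 0x1ffefff35e0a6),(nat_lit 0x3ffffffffffff)],[(nat_lit 0x2000000000000),(nat_lit 0x2000000943eb3),(nat_lit 0x1ffdfff6bc14c),(nat_lit 0x3ffffffffffff)],[(nat_lit 0x2000000000000),(nat_lit 0x2000000a87d66),(nat_lit 0x1ffbfff578299),(nat_lit 0x3ffffffffffff)],[(nat_lit 0x2000000000000),(nat_lit 0x2000000d0facc),(nat_lit 0x1ff7fff2f0533),(nat_lit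 0x3ffffffffffff)],[(nat_lit 0x2000000000000),(nat_lit 0x2000000a1f599),(nat_lit 0x1feffff5e0a66),(nat_lit 0x3ffffffffffff)],[(nat_lit 0x2000000000000),(nat_lit 0x2000000c3eb32),(nat_lit 0x1fdffff3c14cd),(nat_lit 0x3ffffffffffff)],[(nat_lit 0x2000000000000),(nat_lit 0x200000087d665),(nat_lit 0x1fbffff78299a),(nat_lit 0x3ffffffffffff)],[(nat_lit 0x2000000000000),(nat_lit 0x20000008facca),(nat_lit 0x1f7ffff705335),(nat_lit 0x3ffffffffffff)],[(nat_lit 0x2000000000000),(nat_lit 0x20000009f5994),(nat_lit 0x1efffff60a66b),(nat_lit 0x3ffffffffffff)],[(nat_lit 0x2000000000000),(nat_lit 0x2000000beb328),(nat_lit 0x1dfffff414cd7),(nat_lit 0x3ffffffffffff)],[(nat_lit 0x2000000000000),(nat_lit 0x2000000fd6650),(nat_lit 0x1bfffff0299af),(nat_lit 0x3ffffffffffff)],[(nat_lit 0x2000000000000),(nat_lit 0x2000000800000),(nat_lit 0x38000007fffff),(nat_lit 0x2800000ffffff),(nat_lit 0x7fffff000000)]]) (S3 := GS) (by decide +kernel)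
theorem ii_smul (x : LL) : coM Ai • coM Ai • x = -x := by rw [← mul_smul, ii, mul_one, negCo_smul]

end Le
end Cfsg.Agent.H6
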