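import Cfsg.Agent.H6.LeQ7
import Cfsg.Agent.H6.LeQ8
import Cfsg.Agent.H6.LeQ9
set_option maxRecDepth 100000
set_option Elab.async false
namespace Cfsg.Agent.H6.Le.C1
open Cfsg.Agent.H6
universe u

theorem px0 : PX 4 mpS 0 = {lv rU, -lv rU} := by rw [PX, LX_eq_lv (r := rU) (by decide +kernel)]
theorem smul_px (g : Co0) (x : LL) : g • ({x, -x} : Set LL) = {g • x, -(g • x)} := by
  rw [← co_neg]; exact Set.image_pair _ _ _
theorem neg_px (x : LL) : negCo • ({x, -x} : Set LL) = {x, -x} := by rw [smul_px, negCo_smul, neg_neg, Set.pair_comm]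
theorem orb0 : MulAction.orbit Co0 (PX 4 mpS 0) = rng 98280 (PX 4 mpS) := by
  have a := mpp.orbit_of_full (by norm_num) mprch
  have f : (MulAction.orbit Co0 (PX 4 mpS 0)).Finite := Set.finite_range _
  refine (Set.eq_of_subset_of_ncard_le (a ▸ fun _ ⟨k, e⟩ => ⟨k, e⟩) ?_ f).symm
  have b := card_eq_ncard_orbit_mul (⊤ : Subgroup Co0) (PX 4 mpS 0)
  rw [orbit_top, top_inf_eq, Subgroup.card_top, C2.card0] at b
  have c : 2 * Nat.card (FixV [rU]) ≤ Nat.card (MulAction.stabilizer Co0 (PX 4 mpS 0)) :=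
    two_mul_card_le (x := negCo) (fun g h => by rw [MulAction.mem_stabilizer_iff, px0, smul_px, fixV1.1 h])
      (by rw [MulAction.mem_stabilizer_iff, px0, neg_px]) fun h => neg_moves (by rw [normU]; norm_num) (fixV1.1 h)
  rw [C2.card2] at c
  rw [mpm0.ncard_rng]
  by_contra d
  have := Nat.mul_le_mul (Nat.succ_le_of_lt (not_le.1 d)) c
  omega
theorem act1 : ∃ φ : Spor.Co1 →* Equiv.Perm (Fin 98280),
    (∀ l, φ (g01 l) = finG mpm0.ok l) ∧ ∀ (a : Co0) (i : Fin 98280), PX 4 mpS (φ a i) = a • PX 4 mpS i :=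
  exists_act mpm0 (fun a i hi => by
    obtain ⟨k, e⟩ := orb0.ge ⟨i, hi, rfl⟩
    obtain ⟨j, hj, e2⟩ := orb0.le ⟨a * k, rfl⟩
    exact ⟨j, hj, by rw [e2, ← e]; exact (mul_smul _ _ _).symm⟩) _ fun z hz i _ => by
      rcases mem_center.1 hz with rfl | rfl
      · exact one_smul _ _
      · exact neg_px _
noncomputable def pi1 : Spor.Co1 →* Equiv.Perm (Fin 98280) := act1.choose
noncomputable instance instActCo1 : MulAction Spor.Co1 (Fin 98280) := homAct pi1
noncomputable def g1 (l : ℕ) : Spor.Co1 := g01 l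
theorem model1 : IsModel 98280 (finX 98280) g1 mp vT := homModel pi1 _ act1.choose_spec.1
theorem faith1 : Faith Spor.Co1 98280 (finX 98280) := fun a h => by
  obtain ⟨a, rfl⟩ := QuotientGroup.mk_surjective a
  refine (QuotientGroup.eq_one_iff a).2 (mem_center.2 (pm_all fun x hx => ?_))
  obtain ⟨k, rfl⟩ := ex32 hx
  obtain ⟨j, hj, e⟩ := orb0.le ⟨k, rfl⟩
  have b := act1.choose_spec.2 a (finX 98280 j)
  rw [show act1.choose a (finX 98280 j) = finX 98280 j from h j hj, finX_val hj, e] at b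
  simp only [px0, smul_px] at b
  exact b.ge (Set.mem_insert _ _)
theorem tr0 : MulAction.orbit (cl g1 (lw [0,1,2,3,4,5,6,7])) (finX 98280 0) = rng 98280 (finX 98280) :=
  model1.toIsPre.orbit_of_full (by norm_num) mprch
theorem tr1 : MulAction.orbit Spor.Co1 (finX 98280 0) = rng 98280 (finX 98280) :=
  Set.Subset.antisymm (by rw [rng_fin]; exact Set.subset_univ _) (by rw [← tr0]; exact fun _ ⟨k, e⟩ => ⟨k, e⟩)
noncomputable def psi : FixV [rU] →* Spor.Co1 := (QuotientGroup.mk' _).comp (FixV [rU]).subtype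
theorem psi_inj : Function.Injective psi := (injective_iff_map_eq_one _).2 fun a h => by
  rcases mem_center.1 ((QuotientGroup.eq_one_iff _).1 h) with e | e
  · exact Subtype.ext e
  · exact absurd ((show (a : Co0) = negCo from e) ▸ fixV1.1 a.2) (neg_moves (by rw [normU]; norm_num))
theorem psi_range : psi.range = cl g1 (lw [0,2,4]) := by
  rw [MonoidHom.range_eq_map, ← C2.top2, map_cl]
  refine le_antisymm (cl_lw_le.2 fun l hl => ?_) (cl_lw_le.2 fun l hl => ?_)
  · have k : ∀ l ∈ [0,2,4], g1 l ∈ cl g1 (lw [0,2,4]) := cl_lw_le.1 le_rfl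
    simp only [List.mem_cons, List.not_mem_nil, or_false] at hl
    rcases hl with rfl | rfl | rfl | rfl | rfl | rfl
    exacts [k 0 (by simp), Subgroup.inv_mem _ (k 0 (by simp)), k 2 (by simp), Subgroup.inv_mem _ (k 2 (by simp)), k 4 (by simp),
      Subgroup.inv_mem _ (k 4 (by simp))]
  · have k := cl_lw_le.1 (le_refl (cl (fun l => psi (C2.g2 l)) (lw [0,1,2,3,4,5])))
    simp only [List.mem_cons, List.not_mem_nil, or_false] at hl
    rcases hl with rfl | rfl | rfl
    exacts [k 0 (by simp), k 2 (by simp), k 4 (by simp)]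
theorem stab1 : cl g1 (lw [0,2,4]) = MulAction.stabilizer Spor.Co1 (finX 98280 0) :=
  stab_eq_of_card (model1.toIsPre.cl_le_stab fx0) (by rw [tr1, model1.ncard_rng]) (by norm_num) (card1.trans (by norm_num))
    (psi_range ▸ (C2.card2.symm.trans (Nat.card_congr (MonoidHom.ofInjective psi_inj).toEquiv)).le)
theorem simpleS : IsSimpleGroup (MulAction.stabilizer Spor.Co1 (finX 98280 0)) :=
  stab1 ▸ psi_range ▸ simple_congr (MonoidHom.ofInjective psi_inj) C2.simple2

theorem part0 : OrbPart (cl g1 (lw [0,2,4])) (rng 98280 (finX 98280)) [(finX 98280 0,1),(finX 98280 1,4600),(finX 98280 45,46575),(finX 98280 744,47104)] := OrbPart.full (OrbPart.consL model1 (k := 14) (n := 1) ol3 (by decide +kernel) (OrbPart.consL model1 (k := 14) (n := 4600) ol6 (by decide +kernel) (OrbPart.consL model1 (k := 14) (n := 46575) ol9 (by decide +kernel) (OrbPart.consL model1 (k := 14) (n := 47104) ol12 (by decide +kernel) OrbPart.nil)))) (by decide +kernel)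
theorem fxc : fixCnt 98280 17 14 mp vT [4] 264 = true := by decide +kernel
theorem simple1 : IsSimpleGroup Spor.Co1 := simple_of_simple_stab
  (isCoatom_of_sizes (by rw [← stab1, tr1]; exact part0) (by rw [tr1, model1.ncard_rng]) rfl (by norm_num) (by norm_num) (by decide +kernel))
  (core_free_fin faith1 tr1) simpleS (no_regular model1 tr1 fxc (model1.toIsPre.smul_of_ptc (by decide +kernel)) (by norm_num))

end Cfsg.Agent.H6.Le.C1
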