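import Cfsg.Agent.H6.LeQ2
import Cfsg.Agent.H6.LeQ3
import Cfsg.Agent.H6.LeQ4
import Cfsg.Agent.H6.LeQ5
set_option maxRecDepth 100000
set_option Elab.async false
namespace Cfsg.Agent.H6.Le.C1
open Cfsg.Agent.H6
universe u

noncomputable def mpl : List Net := [mpn0,mpn0.rev,mpn1,mpn1.rev,mpn2,mpn2.rev,mpn3,mpn3.rev]
noncomputable abbrev mp : ℕ → Net := lk Net.nil mpl
theorem mpp : IsPre 98280 (PX 4 mpS) g01 mp vT := IsPre.ofLists (.cons mpn0r (.cons mpn0r.inv (.cons mpn1r (.cons mpn1r.inv (.cons mpn2r (.cons mpn2r.inv (.cons mpn3r (.cons mpn3r.inv .nil))))))))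
theorem mpok : NetsOk 98280 mp vT := mpp.ok
theorem rc2 : RchL mp [0,1,2,3,4,5,6,7] (Nat.pow 2 0) (fullM 98280) := RchL.step RchL.refl mpok (ws := [[6],[0],[4],[0],[6],[0],[4],[2],[0],[6],[4],[0],[2],[6],[0],[4],[0],[6],[2],[0],[4],[6],[0],[2],[4],[0]]) (by decide +kernel)
theorem mprch : RchL mp [0,1,2,3,4,5,6,7] (Nat.pow 2 0) (fullM 98280) := rc2
theorem mpm0 : IsModel 98280 (PX 4 mpS) g01 mp vT := mpp.isModelL mprch (inj_of_pinjC mpSls (r := rU) (d := 160) (by decide +kernel))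
theorem fx0 : fixChk 98280 mp vT (lw [0,2,4]) 0 = true := by decide +kernel

end Cfsg.Agent.H6.Le.C1
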