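import Cfsg.Agent.H6.LeQo4
set_option maxRecDepth 100000
set_option Elab.async false
namespace Cfsg.Agent.H6.Le.C1
open Cfsg.Agent.H6
universe u

noncomputable def cm51T : BT := (BT.br [] (BT.kid 0 [] (BT.br [[0]] (BT.kid 1 [] (BT.frc 0 [0,0,0,0] [] (BT.frc 1 [0] [] (BT.frc 0 [0] [] (BT.frc 2 [0] [] BT.live)))) (BT.kid 50753 [1] (BT.out 0 [0,0,0,0]) (BT.kid 49735 [3] (BT.out 0 [0,0,0,0]) (BT.kid 34311 [0,3] (BT.out 0 [0,0,0,0]) (BT.kid 46821 [0,4] (BT.out 0 [0,0,0,0]) (BT.kid 49712 [0,5] (BT.frc 0 [0,0,0,0] [4,10] (BT.out 1 [0])) (BT.kid 49683 [0,6] (BT.out 0 [0,0,0,0]) (BT.kid 8522 [0,7] (BT.out 0 [0,0,0,0]) (BT.kid 10454 [0,8] (BT.out 0 [0,0,0,0]) (BT.kid 35167 [0,10] (BT.out 0 [0,0,0,0]) (BT.kid 19911 [0,11] (BT.out 0 [0,0,0,0]) (BT.kid 50875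 [1,3] (BT.out 0 [0,0,0,0]) (BT.kid 17735 [1,4] (BT.out 0 [0,0,0,0]) (BT.kid 38400 [1,5] (BT.out 0 [0,0,0,0]) (BT.kid 19340 [1,6] (BT.out 0 [0,0,0,0]) (BT.kid 46179 [1,7] (BT.out 0 [0,0,0,0]) (BT.kid 50625 [1,8] (BT.out 0 [0,0,0,0]) (BT.kid 22604 [1,10] (BT.out 0 [0,0,0,0]) (BT.kid 49654 [1,11] (BT.out 0 [0,0,0,0]) (BT.kid 22331 [3,1] (BT.frc 0 [0,0,0,0] [4,4,7,11,9] (BT.out 1 [0])) (BT.kid 8548 [3,3] (BT.out 0 [0,0,0,0]) (BT.kid 28813 [3,4] (BT.out 0 [0,0,0,0]) (BT.kid 96367 [3,6] (BT.out 0 [0,0,0,0]) (BT.kid 6653 [3,7] (BT.out 0 [0,0,0,0]) (BT.kid 2442 [3,8] (BT.frc 0 [0,0,0,0] [4,4,9,7,11] (BT.frc 1 [0] [7,8,7,10,8] (BT.out 0 [0]))) (BT.kid 50996 [3,9] (BT.out 0 [0,0,0,0]) (BT.kid 49144 [3,11] (BT.out 0 [0,0,0,0]) (BT.kid 51099 [0,0,3] (BT.frc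 0 [0,0,0,0] [4,6,5,8] (BT.frc 1 [0] [7,6,11,6,8] (BT.out 0 [0]))) (BT.kid 98151 [0,0,4] (BT.out 0 [0,0,0,0]) (BT.kid 96763 [0,0,5] (BT.out 0 [0,0,0,0]) (BT.kid 96384 [0,0,7] (BT.frc 0 [0,0,0,0] [4,4,4,8,5] (BT.frc 1 [0] [6,7,6,8,10] (BT.frc 0 [0] [9,10,11,8] (BT.out 2 [0])))) (BT.kid 4196 [0,0,8] (BT.out 0 [0,0,0,0]) (BT.kid 49564 [0,0,9] (BT.out 0 [0,0,0,0]) (BT.kid 26024 [0,0,10] (BT.out 0 [0,0,0,0]) (BT.kid 23199 [0,1,3] (BT.out 0 [0,0,0,0]) (BT.kid 98080 [0,1,4] (BT.out 0 [0,0,0,0]) (BT.kid 49996 [0,1,5] (BT.out 0 [0,0,0,0]) (BT.kid 31455 [0,1,6] (BT.out 0 [0,0,0,0]) (BT.kid 49675 [0,1,11] (BT.out 0 [0,0,0,0]) (BT.kid 22814 [0,3,1] (BT.out 0 [0,0,0,0]) (BT.kid 9368 [0,3,3] (BT.out 0 [0,0,0,0]) (BT.kid 97024 [0,3,5] (BT.out 0 [0,0,0,0]) (BT.kid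 96708 [0,3,6] (BT.frc 0 [0,0,0,0] [5,11,6,4] (BT.frc 1 [0] [7,7,8,6] (BT.out 0 [0]))) (BT.kid 39135 [0,3,7] (BT.out 0 [0,0,0,0]) (BT.kid 21935 [0,3,9] (BT.out 0 [0,0,0,0]) (BT.kid 38657 [0,3,11] (BT.out 0 [0,0,0,0]) (BT.kid 17723 [0,4,1] (BT.out 0 [0,0,0,0]) (BT.kid 50942 [0,4,3] (BT.out 0 [0,0,0,0]) (BT.kid 33286 [0,4,4] (BT.out 0 [0,0,0,0]) (BT.kid 12289 [0,4,6] (BT.out 0 [0,0,0,0]) (BT.kid 3251 [0,4,7] (BT.out 0 [0,0,0,0]) (BT.kid 4237 [0,4,9] (BT.out 0 [0,0,0,0]) (BT.kid 44148 [0,4,11] (BT.frc 0 [0,0,0,0] [4,4,7,7] (BT.out 1 [0])) (BT.kid 50077 [0,5,1] (BT.frc 0 [0,0,0,0] [5,8,9] (BT.frc 1 [0] [6,6,7,6,11] (BT.out 0 [0]))) (BT.kid 19207 [0,5,6] (BT.frc 0 [0,0,0,0] [5,5,10,10] (BT.frc 1 [0] [6,11,9,6,8] (BT.out 0 [0]))) (BT.kid 33296 [0,5,7]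 (BT.out 0 [0,0,0,0]) (BT.kid 31460 [0,5,9] (BT.out 0 [0,0,0,0]) (BT.kid 10448 [0,5,10] (BT.out 0 [0,0,0,0]) (BT.kid 2456 [0,5,11] (BT.out 0 [0,0,0,0]) (BT.kid 45959 [0,6,1] (BT.out 0 [0,0,0,0]) (BT.kid 97467 [0,6,4] (BT.out 0 [0,0,0,0]) (BT.kid 26304 [0,6,6] (BT.frc 0 [0,0,0,0] [5,4,6,9] (BT.out 1 [0])) (BT.kid 51000 [0,6,7] (BT.out 0 [0,0,0,0]) (BT.kid 2421 [0,6,8] (BT.out 0 [0,0,0,0]) (BT.kid 49695 [0,6,9] (BT.out 0 [0,0,0,0]) (BT.kid 38679 [0,6,10] (BT.out 0 [0,0,0,0]) (BT.kid 45949 [0,6,11] (BT.out 0 [0,0,0,0]) (BT.kid 50118 [0,7,1] (BT.frc 0 [0,0,0,0] [4,4,4,4,9] (BT.frc 1 [0] [7,6,6,8,10] (BT.frc 0 [0] [8,8,9,8,9,11,10] (BT.out 2 [0])))) (BT.kid 19358 [0,7,3] (BT.frc 0 [0,0,0,0] [5,11,10] (BT.out 1 [0])) (BT.kid 26328 [0,7,4] (BT.out 0 [0,0,0,0])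 (BT.kid 39091 [0,7,5] (BT.out 0 [0,0,0,0]) (BT.kid 4255 [0,7,8] (BT.out 0 [0,0,0,0]) (BT.kid 26044 [0,7,9] (BT.frc 0 [0,0,0,0] [4,7,10,7,11] (BT.out 1 [0])) (BT.kid 50096 [0,7,11] (BT.out 0 [0,0,0,0]) (BT.kid 1223 [0,8,1] (BT.out 0 [0,0,0,0]) (BT.kid 3294 [0,8,4] (BT.out 0 [0,0,0,0]) (BT.kid 11898 [0,8,5] (BT.out 0 [0,0,0,0]) (BT.kid 31447 [0,8,10] (BT.out 0 [0,0,0,0]) (BT.kid 9354 [0,8,11] (BT.out 0 [0,0,0,0]) (BT.kid 18316 [0,9,4] (BT.out 0 [0,0,0,0]) (BT.kid 4167 [0,9,5] (BT.frc 0 [0,0,0,0] [4,8,7,9] (BT.out 1 [0])) (BT.kid 18291 [0,9,9] (BT.frc 0 [0,0,0,0] [4,5,9] (BT.out 1 [0])) (BT.kid 96563 [0,9,10] (BT.out 0 [0,0,0,0]) (BT.kid 44275 [0,10,5] (BT.out 0 [0,0,0,0]) (BT.kid 50319 [0,10,8] (BT.out 0 [0,0,0,0]) (BT.kid 27405 [0,10,9] (BT.out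 0 [0,0,0,0]) (BT.kid 49391 [0,10,11] (BT.out 0 [0,0,0,0]) (BT.kid 23202 [0,11,1] (BT.out 0 [0,0,0,0]) (BT.kid 36899 [0,11,3] (BT.out 0 [0,0,0,0]) (BT.kid 11901 [0,11,4] (BT.out 0 [0,0,0,0]) (BT.kid 44160 [0,11,6] (BT.out 0 [0,0,0,0]) (BT.kid 49959 [0,11,7] (BT.out 0 [0,0,0,0]) (BT.kid 49143 [1,0,4] (BT.out 0 [0,0,0,0]) (BT.kid 50880 [1,0,5] (BT.frc 0 [0,0,0,0] [5,8,6,8] (BT.out 1 [0])) (BT.kid 50587 [1,0,7] (BT.frc 0 [0,0,0,0] [5,10,9,5] (BT.out 1 [0])) (BT.kid 96420 [1,0,8] (BT.out 0 [0,0,0,0]) (BT.kid 35551 [1,1,5] (BT.out 0 [0,0,0,0]) (BT.kid 49367 [1,1,7] (BT.frc 0 [0,0,0,0] [5,7,4,11] (BT.out 1 [0])) (BT.kid 17189 [1,1,8] (BT.frc 0 [0,0,0,0] [4,5,4,9,10] (BT.out 1 [0])) (BT.kid 2444 [1,1,9] (BT.frc 0 [0,0,0,0] [4,4,4,9] (BT.frc 1 [0] [6,6,11,7,8,9]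 (BT.out 0 [0]))) (BT.kid 97412 [1,1,10] (BT.out 0 [0,0,0,0]) (BT.kid 50861 [1,3,3] (BT.out 0 [0,0,0,0]) (BT.kid 12324 [1,3,4] (BT.out 0 [0,0,0,0]) (BT.kid 3295 [1,3,11] (BT.out 0 [0,0,0,0]) (BT.kid 50566 [1,4,1] (BT.out 0 [0,0,0,0]) (BT.kid 28270 [1,5,3] (BT.out 0 [0,0,0,0]) (BT.kid 5796 [1,5,5] (BT.out 0 [0,0,0,0]) (BT.kid 50734 [1,5,6] (BT.out 0 [0,0,0,0]) (BT.kid 4876 [1,6,9] (BT.out 0 [0,0,0,0]) (BT.kid 97163 [1,7,1] (BT.out 0 [0,0,0,0]) (BT.kid 22599 [1,7,5] (BT.out 0 [0,0,0,0]) (BT.kid 49426 [1,7,7] (BT.out 0 [0,0,0,0]) (BT.kid 29708 [1,7,11] (BT.out 0 [0,0,0,0]) (BT.kid 14114 [1,8,1] (BT.out 0 [0,0,0,0]) (BT.kid 4864 [1,8,4] (BT.out 0 [0,0,0,0]) (BT.kid 8 [1,8,8] (BT.out 0 [0,0,0,0]) (BT.kid 12298 [1,9,3] (BT.out 0 [0,0,0,0]) (BT.kid 19344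 [1,10,1] (BT.out 0 [0,0,0,0]) (BT.kid 13328 [1,10,5] (BT.out 0 [0,0,0,0]) (BT.kid 41559 [1,10,11] (BT.out 0 [0,0,0,0]) (BT.kid 10433 [1,11,3] (BT.out 0 [0,0,0,0]) (BT.kid 50377 [1,11,4] (BT.out 0 [0,0,0,0]) (BT.kid 5772 [1,11,10] (BT.out 0 [0,0,0,0]) (BT.kid 553 [3,0,3] (BT.out 0 [0,0,0,0]) (BT.kid 96522 [3,0,5] (BT.out 0 [0,0,0,0]) (BT.kid 98033 [3,0,6] (BT.out 0 [0,0,0,0]) (BT.kid 97602 [3,0,10] (BT.frc 0 [0,0,0,0] [5,8,6] (BT.out 1 [0])) (BT.kid 98061 [3,0,11] (BT.out 0 [0,0,0,0]) (BT.kid 5749 [3,1,1] (BT.frc 0 [0,0,0,0] [4,8,8,4,10] (BT.frc 1 [0] [6,9,6,6,11] (BT.out 0 [0]))) (BT.kid 96599 [3,1,5] (BT.out 0 [0,0,0,0]) (BT.kid 50584 [3,1,7] (BT.out 0 [0,0,0,0]) (BT.kid 49876 [3,1,8] (BT.out 0 [0,0,0,0]) (BT.kid 19186 [3,1,9] (BT.frc 0 [0,0,0,0]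 [4,11,6,9] (BT.frc 1 [0] [7,9,8,9,9] (BT.out 0 [0]))) (BT.kid 44319 [3,3,6] (BT.out 0 [0,0,0,0]) (BT.kid 97423 [3,3,9] (BT.out 0 [0,0,0,0]) (BT.kid 11566 [3,3,10] (BT.out 0 [0,0,0,0]) (BT.kid 96460 [3,3,11] (BT.out 0 [0,0,0,0]) (BT.kid 26298 [3,4,4] (BT.out 0 [0,0,0,0]) (BT.kid 11914 [3,4,5] (BT.frc 0 [0,0,0,0] [4,6,5] (BT.frc 1 [0] [6,6,7,8,8,10] (BT.out 0 [0]))) (BT.kid 97223 [3,4,7] (BT.out 0 [0,0,0,0]) (BT.kid 2445 [3,5,4] (BT.frc 0 [0,0,0,0] [4,7,10,7,4] (BT.frc 1 [0] [7,8,10,11] (BT.out 0 [0]))) (BT.kid 34310 [3,5,5] (BT.out 0 [0,0,0,0]) (BT.kid 41240 [3,5,10] (BT.out 0 [0,0,0,0]) (BT.kid 97757 [3,6,3] (BT.frc 0 [0,0,0,0] [4,9,4] (BT.frc 1 [0] [7,10,7,10] (BT.frc 0 [0] [8,8,8,11,8,9] (BT.out 2 [0])))) (BT.kid 45958 [3,6,4] (BT.out 0 [0,0,0,0])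 (BT.kid 23908 [3,6,5] (BT.out 0 [0,0,0,0]) (BT.kid 460 [3,7,1] (BT.out 0 [0,0,0,0]) (BT.kid 28801 [3,7,11] (BT.frc 0 [0,0,0,0] [4,9,8,9] (BT.frc 1 [0] [7,10,9,10] (BT.out 0 [0]))) (BT.kid 96444 [3,8,6] (BT.out 0 [0,0,0,0]) (BT.kid 97502 [3,9,3] (BT.out 0 [0,0,0,0]) (BT.kid 49615 [3,9,7] (BT.frc 0 [0,0,0,0] [4,6,11,10] (BT.frc 1 [0] [7,10,7,8,10] (BT.out 0 [0]))) (BT.kid 34340 [3,11,8] (BT.out 0 [0,0,0,0]) (BT.kid 4220 [3,11,10] (BT.out 0 [0,0,0,0]) (BT.kid 41253 [0,0,0,8] (BT.frc 0 [0,0,0,0] [4,5,8,9] (BT.out 1 [0])) (BT.kid 1716 [0,0,0,9] (BT.out 0 [0,0,0,0]) (BT.kid 32408 [0,0,3,3] (BT.out 0 [0,0,0,0]) (BT.kid 49268 [0,0,4,7] (BT.out 0 [0,0,0,0]) (BT.kid 30693 [0,0,5,4] (BT.out 0 [0,0,0,0]) (BT.kid 96879 [0,0,5,7] (BT.frc 0 [0,0,0,0] [5,8,6,6]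 (BT.out 1 [0])) (BT.kid 97616 [0,0,5,9] (BT.out 0 [0,0,0,0]) (BT.kid 19926 [0,0,6,6] (BT.out 0 [0,0,0,0]) (BT.kid 98251 [0,0,7,9] (BT.out 0 [0,0,0,0]) (BT.kid 49968 [0,0,7,10] (BT.out 0 [0,0,0,0]) (BT.kid 28786 [0,0,7,11] (BT.out 0 [0,0,0,0]) (BT.kid 4240 [0,0,8,1] (BT.out 0 [0,0,0,0]) (BT.kid 32394 [0,0,8,10] (BT.out 0 [0,0,0,0]) (BT.kid 7866 [0,0,9,1] (BT.frc 0 [0,0,0,0] [4,4,6,8,11] (BT.out 1 [0])) (BT.kid 97383 [0,0,10,7] (BT.out 0 [0,0,0,0]) (BT.kid 26055 [0,0,10,10] (BT.out 0 [0,0,0,0]) (BT.kid 8371 [0,0,11,10] (BT.out 0 [0,0,0,0]) (BT.kid 96816 [0,1,0,4] (BT.frc 0 [0,0,0,0] [4,7,9,7,6] (BT.out 1 [0])) (BT.kid 1095 [0,1,1,10] (BT.out 0 [0,0,0,0]) (BT.kid 1887 [0,1,3,8] (BT.out 0 [0,0,0,0]) (BT.kid 96292 [0,1,4,4] (BT.out 0 [0,0,0,0]) (BT.kid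 14495 [0,1,4,8] (BT.out 0 [0,0,0,0]) (BT.kid 51076 [0,1,5,4] (BT.out 0 [0,0,0,0]) (BT.kid 41211 [0,1,6,8] (BT.out 0 [0,0,0,0]) (BT.kid 6645 [0,1,6,10] (BT.out 0 [0,0,0,0]) (BT.kid 16397 [0,1,7,10] (BT.out 0 [0,0,0,0]) (BT.kid 50079 [0,1,9,8] (BT.frc 0 [0,0,0,0] [4,5,8,9] (BT.out 1 [0])) (BT.kid 21949 [0,1,11,7] (BT.out 0 [0,0,0,0]) (BT.kid 8509 [0,3,3,7] (BT.frc 0 [0,0,0,0] [4,7,7,9,5] (BT.out 1 [0])) (BT.kid 98020 [0,3,3,8] (BT.out 0 [0,0,0,0]) (BT.kid 39117 [0,3,5,6] (BT.out 0 [0,0,0,0]) (BT.kid 97040 [0,3,6,5] (BT.out 0 [0,0,0,0]) (BT.kid 50595 [0,3,8,8] (BT.out 0 [0,0,0,0]) (BT.kid 96924 [0,3,8,10] (BT.out 0 [0,0,0,0]) (BT.kid 11615 [0,3,9,11] (BT.out 0 [0,0,0,0]) (BT.kid 49329 [0,4,3,10] (BT.out 0 [0,0,0,0]) (BT.kid 4260 [0,4,4,9] (BT.out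 0 [0,0,0,0]) (BT.kid 49672 [0,4,6,4] (BT.out 0 [0,0,0,0]) (BT.kid 96811 [0,4,6,9] (BT.out 0 [0,0,0,0]) (BT.kid 44304 [0,4,6,11] (BT.out 0 [0,0,0,0]) (BT.kid 98248 [0,5,11,5] (BT.out 0 [0,0,0,0]) (BT.kid 22337 [0,6,4,4] (BT.frc 0 [0,0,0,0] [4,6,11,7] (BT.out 1 [0])) (BT.kid 12283 [0,6,5,4] (BT.out 0 [0,0,0,0]) (BT.kid 46791 [0,6,10,9] (BT.out 0 [0,0,0,0]) (BT.kid 98068 [0,6,10,11] (BT.out 0 [0,0,0,0]) (BT.kid 15860 [0,8,10,7] (BT.out 0 [0,0,0,0]) (BT.kid 28837 [0,9,3,6] (BT.out 0 [0,0,0,0]) BT.nil))))))))))))))))))))))))))))))))))))))))))))))))))))))))))))))))))))))))))))))))))))))))))))))))))))))))))))))))))))))))))))))))))))))))))))))))))))))))))))))))))))))))))))))))))))))))))))))))))))))))) BT.nil))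
theorem cm51 : (spA 98280 x49s fA1).Clm Spor.Co1 (finX 98280) false 0 chA10 [] [] := SP.Clm.ofN (T := cm51T) (by decide +kernel)
noncomputable def cm52T : BT := (BT.br [[0],[1],[2]] (BT.kid 0 [] (BT.br [] (BT.kid 16098 [] (BT.br [[0]] (BT.kid 97609 [] (BT.br [] (BT.kid 30899 [] (BT.br [[0]] (BT.kid 5 [] (BT.frc 0 [1] [] (BT.frc 0 [1] [] BT.live)) BT.nil)) BT.nil)) (BT.kid 50505 [12,12,12,1,13] (BT.br [] (BT.kid 24658 [14,1,18,1,14,1] (BT.br [[0]] (BT.kid 35509 [] (BT.frc 0 [1] [16,19] (BT.frc 0 [1] [19,18] (BT.nc 1 5))) BT.nil)) BT.nil)) BT.nil))) BT.nil)) BT.nil))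
theorem cm52 : (spB 98280 x49s cw1 fB1).Clm Spor.Co1 (finX 98280) false 0 chB10 [] [] := SP.Clm.ofN (T := cm52T) (by decide +kernel)

end Cfsg.Agent.H6.Le.C1
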