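import Cfsg.Agent.H6.LeQo5
set_option maxRecDepth 100000
set_option Elab.async false
namespace Cfsg.Agent.H6.Le.C1
open Cfsg.Agent.H6
universe u

noncomputable def tl1 : List (List ℕ) := [[],[1],[20],[21],[1,1],[20,1],[21,1],[20,20],[21,20],[20,21],[21,21],[1,1,1],[20,1,1],[21,1,1],[20,20,1],[21,20,1],[20,21,1],[21,21,1],[21,20,20],[21,21,20],[20,20,21],[21,21,21],[1,1,1,1],[20,1,1,1],[21,1,1,1],[20,20,1,1],[21,20,1,1],[20,21,1,1],[21,21,1,1],[21,20,20,1],[21,21,20,1],[20,20,21,1],[21,21,21,1],[21,21,20,20],[1,1,1,1,1],[20,1,1,1,1],[21,1,1,1,1],[20,20,1,1,1],[21,20,1,1,1],[20,21,1,1,1],[21,21,1,1,1],[21,20,20,1,1],[21,21,20,1,1],[20,20,21,1,1],[21,21,21,1,1],[21,21,20,20,1],[20,1,1,1,1,1],[21,1,1,1,1,1],[20,20,1,1,1,1],[21,20,1,1,1,1],[20,21,1,1,1,1],[21,21,1,1,1,1],[21,20,20,1,1,1],[21,21,20,1,1,1],[20,20,21,1,1,1],[21,21,21,1,1,1],[21,21,20,20,1,1],[20,20,1,1,1,1,1],[21,20,1,1,1,1,1],[20,21,1,1,1,1,1],[21,20,20,1,1,1,1],[21,21,20,1,1,1,1],[20,20,21,1,1,1,1],[21,21,21,1,1,1,1],[21,21,20,20,1,1,1],[21,21,20,20,1,1,1,1]]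
noncomputable def orels1 : List (List ℕ × ℕ) := [([0,2],23),([0,0,2],23),([0,0,2,0,0,2,0,1],12)]
theorem ex53 : exRow 98280 x49s orels1 1 [] 5 tl1 [(0,0),(1,0),(0,0),(0,0),(0,0),(0,0),(0,0),(0,16098),(0,0),(0,0),(0,0),(0,0),(0,0),(0,0),(0,16098),(0,0),(1,0),(0,0),(0,0),(0,0),(0,0),(0,0),(0,0),(0,0),(0,0),(0,16098),(0,0),(0,0),(0,0),(0,0),(0,0),(0,0),(0,0),(0,16098),(0,0),(0,0),(0,0),(0,16098),(0,0),(0,0),(0,0),(0,0),(0,0),(0,0),(1,0),(0,16098),(1,0),(0,0),(1,16098),(0,0),(0,0),(2,0),(0,0),(0,0),(0,0),(0,0),(0,16098),(0,16098),(0,0),(0,0),(0,0),(0,0),(1,0),(0,0),(0,16098),(0,16098)] = true := by decide +kernel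
theorem ex54 : exRow 98280 x49s orels1 1 [] 1 tl1 [(0,0),(0,0),(0,0),(0,0),(1,0),(0,0),(0,0),(0,16098),(0,0),(1,0),(0,0),(0,0),(0,0),(0,0),(0,16098),(0,0),(0,0),(0,0),(0,0),(1,0),(0,0),(0,0),(0,0),(0,0),(0,0),(0,16098),(1,0),(0,0),(0,0),(0,0),(0,0),(0,0),(0,0),(0,16098),(0,0),(0,0),(0,0),(0,16098),(0,0),(0,0),(0,0),(0,0),(0,0),(0,0),(0,0),(0,16098),(0,0),(0,0),(0,16098),(0,0),(0,0),(0,0),(0,0),(0,0),(0,0),(1,0),(0,16098),(1,16098),(0,0),(0,0),(0,0),(0,0),(0,0),(0,0),(0,16098),(0,16098)] = true := by decide +kernel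
theorem oh21 : relC 98280 na1 x49s chB10 23 2 10 1 cw1 orels1 = true := by decide +kernel
theorem oh31 : tabC x49s chB10 cw1 tl1 [[1,4,5,6,11,12,13,14,15,16,17,22,23,24,25,26,27,28,29,30,31,32,34,35,36,37,38,39,40,41,42,43,44,45,10,46,47,48,49,50,51,52,53,54,55,56,19,21,57,58,59,0,60,61,62,63,64,33,20,18,9,2,8,3,65,7],[2,5,7,9,12,14,16,17,6,20,19,23,25,27,28,13,31,30,15,33,32,18,35,37,39,40,24,43,42,26,45,44,29,4,46,48,50,51,36,54,53,38,56,55,41,11,57,59,0,47,62,61,49,64,63,52,22,1,21,8,58,65,3,60,34,10],[3,6,8,10,13,15,17,18,19,7,21,24,26,28,29,30,14,32,33,20,5,1,36,38,40,41,42,25,44,45,31,12,4,16,47,49,51,52,53,37,55,56,43,23,11,27,58,0,60,61,48,63,64,54,35,22,39,9,2,57,65,62,46,34,50,59]] = true := by decide +kernel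
theorem od1 : OutD Spor.Co1 98280 (finX 98280) x49s (dG g1 wa1) chB10 tl1 1 [] := OutD.of om01 card1 der50 chA1ok0 chB1ok0 fAok1 fBok1 cm51 cm52 (by norm_num) (ks := [1,5]) (by decide +kernel) oh21 oh31 (List.forall_mem_cons.2 ⟨⟨_, ex54⟩, (List.forall_mem_cons.2 ⟨⟨_, ex53⟩, (by simp)⟩)⟩)
theorem out1 : Nat.card (Out Spor.Co1) = 1 := od1.one

end Cfsg.Agent.H6.Le.C1
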