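import Cfsg.Agent.H6.LeR
import Cfsg.Agent.H6.LeI1
set_option maxRecDepth 100000
set_option Elab.async false
namespace Cfsg.Agent.H6.Le.S2c
open Cfsg.Agent.H6
universe u

noncomputable def il : List ℕ := [1,0,3,2,5,4,7,6,9,8,11,10,13,12,15,14]
noncomputable abbrev io : ℕ → ℕ := iota il
noncomputable def C1 : List (List ℕ) := []
noncomputable def m2n0 : Net := (Net.cons (nat_lit 32) (nat_lit 0x992bb848)
  (Net.cons (nat_lit 16) (nat_lit 0x33790000a310)
  (Net.cons (nat_lit 8) (nat_lit 0x1100cd002d004c)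
  (Net.cons (nat_lit 4) (nat_lit 0xc0d030a0c0609)
  (Net.cons (nat_lit 2) (nat_lit 0x2010202221103230)
  (Net.cons (nat_lit 1) (nat_lit 0x1114144444044011)
  (Net.cons (nat_lit 2) (nat_lit 0x220202002022002)
  (Net.cons (nat_lit 4) (nat_lit 0x20c08000a0404)
  (Net.cons (nat_lit 8) (nat_lit 0x28009800880028)
  (Net.cons (nat_lit 16) (nat_lit 0x22440000e3e8)
  (Net.cons (nat_lit 32) (nat_lit 0x9916a718)
  Net.nil)))))))))))
noncomputable def m2n1 : Net := (Net.cons (nat_lit 32) (nat_lit 0x9916a718)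
  (Net.cons (nat_lit 16) (nat_lit 0x224c0000ebb8)
  (Net.cons (nat_lit 8) (nat_lit 0x410066007300b2)
  (Net.cons (nat_lit 4) (nat_lit 0x8040d010a000c0a)
  (Net.cons (nat_lit 2) (nat_lit 0x1202200222011233)
  (Net.cons (nat_lit 1) (nat_lit 0x4051444114411004)
  (Net.cons (nat_lit 2) (nat_lit 0x220220220002)
  (Net.cons (nat_lit 4) (nat_lit 0x20400000c0a0e0c)
  (Net.cons (nat_lit 8) (nat_lit 0x420022005200e0)
  (Net.cons (nat_lit 16) (nat_lit 0x33780000af00)
  (Net.cons (nat_lit 32) (nat_lit 0x992bb848)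
  Net.nil)))))))))))
noncomputable def m2n2 : Net := (Net.cons (nat_lit 32) (nat_lit 0x94094155)
  (Net.cons (nat_lit 16) (nat_lit 0x78e60000d1b5)
  (Net.cons (nat_lit 8) (nat_lit 0xbc00b900a900b4)
  (Net.cons (nat_lit 4) (nat_lit 0x3030008060500)
  (Net.cons (nat_lit 2) (nat_lit 0x3013210030212123)
  (Net.cons (nat_lit 1) (nat_lit 0x1001040111511141)
  (Net.cons (nat_lit 2) (nat_lit 0x2000020020222)
  (Net.cons (nat_lit 4) (nat_lit 0xc00000002000404)
  (Net.cons (nat_lit 8) (nat_lit 0x1000bc00d800b2)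
  (Net.cons (nat_lit 16) (nat_lit 0x68e40000b8c0)
  (Net.cons (nat_lit 32) (nat_lit 0x9414789a)
  Net.nil)))))))))))
noncomputable def m2n3 : Net := (Net.cons (nat_lit 32) (nat_lit 0x6beb8365)
  (Net.cons (nat_lit 16) (nat_lit 0x463d00000dee)
  (Net.cons (nat_lit 8) (nat_lit 0xb20027003600ee)
  (Net.cons (nat_lit 4) (nat_lit 0xb040802050d0e05)
  (Net.cons (nat_lit 2) (nat_lit 0x1021111010210230)
  (Net.cons (nat_lit 1) (nat_lit 0x4144544101104040)
  (Net.cons (nat_lit 2) (nat_lit 0x2220020002200020)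
  (Net.cons (nat_lit 4) (nat_lit 0xa0002080e0c0c02)
  (Net.cons (nat_lit 8) (nat_lit 0xb4005600aa00c8)
  (Net.cons (nat_lit 16) (nat_lit 0x244a00001df2)
  (Net.cons (nat_lit 32) (nat_lit 0x6bf2beaa)
  Net.nil)))))))))))
noncomputable def m2n4 : Net := (Net.cons (nat_lit 32) (nat_lit 0x88fc1310)
  (Net.cons (nat_lit 16) (nat_lit 0x74d00000b99c)
  (Net.cons (nat_lit 8) (nat_lit 0xac000200800007)
  (Net.cons (nat_lit 4) (nat_lit 0x40200080f04050b)
  (Net.cons (nat_lit 2) (nat_lit 0x3003002011023221)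
  (Net.cons (nat_lit 1) (nat_lit 0x5445004541514441)
  (Net.cons (nat_lit 2) (nat_lit 0x2022022220)
  (Net.cons (nat_lit 4) (nat_lit 0x402000800040000)
  (Net.cons (nat_lit 8) (nat_lit 0x88000200800070)
  (Net.cons (nat_lit 16) (nat_lit 0x74c00000b99c)
  (Net.cons (nat_lit 32) (nat_lit 0x88fc1310)
  Net.nil)))))))))))
noncomputable def m2n5 : Net := (Net.cons (nat_lit 32) (nat_lit 0x88fc1310)
  (Net.cons (nat_lit 16) (nat_lit 0x74d00000b99c)
  (Net.cons (nat_lit 8) (nat_lit 0xac000200800007)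
  (Net.cons (nat_lit 4) (nat_lit 0x40200080f04050b)
  (Net.cons (nat_lit 2) (nat_lit 0x3003002011023221)
  (Net.cons (nat_lit 1) (nat_lit 0x5445004541514441)
  (Net.cons (nat_lit 2) (nat_lit 0x2022022220)
  (Net.cons (nat_lit 4) (nat_lit 0x402000800040000)
  (Net.cons (nat_lit 8) (nat_lit 0x88000200800070)
  (Net.cons (nat_lit 16) (nat_lit 0x74c00000b99c)
  (Net.cons (nat_lit 32) (nat_lit 0x88fc1310)
  Net.nil)))))))))))
noncomputable def m2n6 : Net := (Net.cons (nat_lit 32) (nat_lit 0x7202c704)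
  (Net.cons (nat_lit 16) (nat_lit 0x62aa000020a8)
  (Net.cons (nat_lit 8) (nat_lit 0xb200cc009c0082)
  (Net.cons (nat_lit 4) (nat_lit 0xe00060006000d)
  (Net.cons (nat_lit 2) (nat_lit 0x20023200232313)
  (Net.cons (nat_lit 1) (nat_lit 0x4011500414451014)
  (Net.cons (nat_lit 2) (nat_lit 0x20000200202002)
  (Net.cons (nat_lit 4) (nat_lit 0xa000600000002)
  (Net.cons (nat_lit 8) (nat_lit 0xb000cc001c0082)
  (Net.cons (nat_lit 16) (nat_lit 0x62aa000020a8)
  (Net.cons (nat_lit 32) (nat_lit 0x7202c704)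
  Net.nil)))))))))))
noncomputable def m2n7 : Net := (Net.cons (nat_lit 32) (nat_lit 0x7202c704)
  (Net.cons (nat_lit 16) (nat_lit 0x62aa000020a8)
  (Net.cons (nat_lit 8) (nat_lit 0xb200cc009c0082)
  (Net.cons (nat_lit 4) (nat_lit 0xe00060006000d)
  (Net.cons (nat_lit 2) (nat_lit 0x20023200232313)
  (Net.cons (nat_lit 1) (nat_lit 0x4011500414451014)
  (Net.cons (nat_lit 2) (nat_lit 0x20000200202002)
  (Net.cons (nat_lit 4) (nat_lit 0xa000600000002)
  (Net.cons (nat_lit 8) (nat_lit 0xb000cc001c0082)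
  (Net.cons (nat_lit 16) (nat_lit 0x62aa000020a8)
  (Net.cons (nat_lit 32) (nat_lit 0x7202c704)
  Net.nil)))))))))))
noncomputable def m2l : List Net := [m2n0,m2n1,m2n2,m2n3,m2n4,m2n5,m2n6,m2n7]
noncomputable abbrev m2 : ℕ → Net := lk Net.nil m2l
theorem m2ok : NetsOk 56 m2 vT := netsOk_of (by decide +kernel)
theorem m2s0 : Sat io [] (finG m2ok) := fin_sat_nil _ (k := 6) (n := 16) (by decide +kernel)
noncomputable def r0 : List ℕ := [0,0,0,0,0,0,0]
noncomputable def m3n0 : Net := (Net.cons (nat_lit 4) (nat_lit 12)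
  (Net.cons (nat_lit 2) (nat_lit 49)
  (Net.cons (nat_lit 1) (nat_lit 1)
  (Net.cons (nat_lit 4) (nat_lit 10)
  Net.nil))))
noncomputable def m3n1 : Net := (Net.cons (nat_lit 4) (nat_lit 10)
  (Net.cons (nat_lit 2) (nat_lit 51)
  (Net.cons (nat_lit 1) (nat_lit 4)
  (Net.cons (nat_lit 2) (nat_lit 2)
  (Net.cons (nat_lit 4) (nat_lit 12)
  Net.nil)))))
noncomputable def m3l : List Net := [m3n0,m3n1]
noncomputable abbrev m3 : ℕ → Net := lk Net.nil m3l
theorem m3ok : NetsOk 7 m3 vT := netsOk_of (by decide +kernel)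
theorem m3s0 : Sat io [] (finG m3ok) := fin_sat_nil _ (k := 3) (n := 16) (by decide +kernel)
noncomputable def C4 : List (List ℕ) := [r0]
theorem cl5 : Clo.{u} io C4 [] 7 m3 1 (mkB []) := Clo.start (by decide +kernel)
theorem imp6 : Imp.{u} io C4 C1 := Imp.of_chk (pfs := []) (by decide +kernel)
theorem ix7 : Idx.{u} io C4 [] [] 1 := (Idx.triv (Bound.nil) (by norm_num)).of_imp imp6
noncomputable def lk8 : List (List ℕ × List ℕ × Pf) := []
noncomputable def O9 : ℕ := (nat_lit 2)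
noncomputable def M10 : ℕ := (nat_lit 3)
noncomputable def b11 : ℕ := (nat_lit 1)
theorem cl12 : Clo.{u} io C4 [] 7 m3 M10 (mkB [(0,b11)]) := cl5.new (k := 0) (b := 0) (q := 0) (p := 1) (r := 200) (n := 1) (O := O9) (by decide +kernel) (lks := lk8) (by decide +kernel) (gens_of_lall2 (m := []) (by decide +kernel)) ix7 (by decide +kernel)
noncomputable def b13 : ℕ := (nat_lit 2)
theorem cl14 : Clo.{u} io C4 [] 7 m3 M10 (mkB [(0,b11),(1,b13)]) := cl12.ops (os := [Op.inv 0]) (by decide +kernel) (by decide +kernel)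
theorem ix15 : Idx.{u} io C4 [] [] 1 := (Idx.triv (Bound.nil) (by norm_num)).of_imp imp6
noncomputable def lk16 : List (List ℕ × List ℕ × Pf) := []
noncomputable def O17 : ℕ := (nat_lit 8)
noncomputable def M18 : ℕ := (nat_lit 11)
noncomputable def b19 : ℕ := (nat_lit 3)
theorem cl20 : Clo.{u} io C4 [] 7 m3 M18 (mkB [(0,b19),(1,b13)]) := cl14.new (k := 0) (b := 0) (q := 1) (p := 3) (r := 200) (n := 1) (O := O17) (by decide +kernel) (lks := lk16) (by decide +kernel) (gens_of_lall2 (m := []) (by decide +kernel)) ix15 (by decide +kernel)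
noncomputable def b21 : ℕ := (nat_lit 10)
theorem cl22 : Clo.{u} io C4 [] 7 m3 M18 (mkB [(0,b19),(1,b21)]) := cl20.ops (os := [Op.inv 0]) (by decide +kernel) (by decide +kernel)
theorem ix23 : Idx.{u} io C4 [] [] 1 := (Idx.triv (Bound.nil) (by norm_num)).of_imp imp6
noncomputable def lk24 : List (List ℕ × List ℕ × Pf) := []
noncomputable def O25 : ℕ := (nat_lit 32)
noncomputable def M26 : ℕ := (nat_lit 43)
noncomputable def b27 : ℕ := (nat_lit 11)
theorem cl28 : Clo.{u} io C4 [] 7 m3 M26 (mkB [(0,b27),(1,b21)]) := cl22.new (k := 0) (b := 0) (q := 3) (p := 5) (r := 200) (n := 1) (O := O25) (by decide +kernel) (lks := lk24) (by decide +kernel) (gens_of_lall2 (m := []) (by decide +kernel)) ix23 (by decide +kernel)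
noncomputable def b29 : ℕ := (nat_lit 42)
theorem cl30 : Clo.{u} io C4 [] 7 m3 M26 (mkB [(0,b27),(1,b29)]) := cl28.ops (os := [Op.inv 0]) (by decide +kernel) (by decide +kernel)
theorem ix31 : Idx.{u} io C4 [] [] 1 := (Idx.triv (Bound.nil) (by norm_num)).of_imp imp6
noncomputable def lk32 : List (List ℕ × List ℕ × Pf) := []
noncomputable def O33 : ℕ := (nat_lit 64)
noncomputable def M34 : ℕ := (nat_lit 107)
noncomputable def b35 : ℕ := (nat_lit 43)
theorem cl36 : Clo.{u} io C4 [] 7 m3 M34 (mkB [(0,b35),(1,b29)]) := cl30.new (k := 0) (b := 0) (q := 5) (p := 6) (r := 200) (n := 1) (O := O33) (by decide +kernel) (lks := lk32) (by decide +kernel) (gens_of_lall2 (m := []) (by decide +kernel)) ix31 (by decide +kernel)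
noncomputable def b37 : ℕ := (nat_lit 106)
theorem cl38 : Clo.{u} io C4 [] 7 m3 M34 (mkB [(0,b35),(1,b37)]) := cl36.ops (os := [Op.inv 0]) (by decide +kernel) (by decide +kernel)
theorem ix39 : Idx.{u} io C4 [] [] 1 := (Idx.triv (Bound.nil) (by norm_num)).of_imp imp6
noncomputable def lk40 : List (List ℕ × List ℕ × Pf) := []
noncomputable def O41 : ℕ := (nat_lit 16)
noncomputable def M42 : ℕ := (nat_lit 123)
noncomputable def b43 : ℕ := (nat_lit 107)
theorem cl44 : Clo.{u} io C4 [] 7 m3 M42 (mkB [(0,b43),(1,b37)]) := cl38.new (k := 0) (b := 0) (q := 6) (p := 4) (r := 200) (n := 1) (O := O41) (by decide +kernel) (lks := lk40) (by decide +kernel) (gens_of_lall2 (m := []) (by decide +kernel)) ix39 (by decide +kernel)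
noncomputable def b45 : ℕ := (nat_lit 122)
theorem cl46 : Clo.{u} io C4 [] 7 m3 M42 (mkB [(0,b43),(1,b45)]) := cl44.ops (os := [Op.inv 0]) (by decide +kernel) (by decide +kernel)
theorem ix47 : Idx.{u} io C4 [] [] 1 := (Idx.triv (Bound.nil) (by norm_num)).of_imp imp6
noncomputable def lk48 : List (List ℕ × List ℕ × Pf) := []
noncomputable def O49 : ℕ := (nat_lit 4)
noncomputable def M50 : ℕ := (nat_lit 127)
noncomputable def b51 : ℕ := (nat_lit 123)
theorem cl52 : Clo.{u} io C4 [] 7 m3 M50 (mkB [(0,b51),(1,b45)]) := cl46.new (k := 0) (b := 0) (q := 4) (p := 2) (r := 200) (n := 1) (O := O49) (by decide +kernel) (lks := lk48) (by decide +kernel) (gens_of_lall2 (m := []) (by decide +kernel)) ix47 (by decide +kernel)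
noncomputable def b53 : ℕ := (nat_lit 127)
noncomputable def b54 : ℕ := (nat_lit 127)
theorem cl55 : Clo.{u} io C4 [] 7 m3 M50 (mkB [(0,b53),(1,b54)]) := cl52.ops (os := [Op.inv 0,Op.rel 0 [] 1 [1,1,1,1,1] [([],1)],Op.inv 0]) (by decide +kernel) (by decide +kernel)
theorem sat57 : Sat io C4 (finG m3ok) := m3s0.fin (k := 3) (by decide +kernel)
theorem bd56 : Bound.{u} io C4 [0,1] 7 := cl55.bound (by decide +kernel) sat57 ((Bound.nil).of_imp imp6)
noncomputable def r1 : List ℕ := [2,2,2]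
noncomputable def r2 : List ℕ := [2,0,3,1,1]
noncomputable def m58n2 : Net := (Net.cons (nat_lit 1) (nat_lit 1)
  (Net.cons (nat_lit 1) (nat_lit 2)
  Net.nil))
noncomputable def m58n3 : Net := (Net.cons (nat_lit 1) (nat_lit 2)
  (Net.cons (nat_lit 1) (nat_lit 1)
  Net.nil))
noncomputable def m58l : List Net := [Net.nil,Net.nil,m58n2,m58n3]
noncomputable abbrev m58 : ℕ → Net := lk Net.nil m58l
theorem m58ok : NetsOk 3 m58 vT := netsOk_of (by decide +kernel)
theorem m58s0 : Sat io [] (finG m58ok) := fin_sat_nil _ (k := 2) (n := 16) (by decide +kernel)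
noncomputable def C59 : List (List ℕ) := [r0,r1,r2]
theorem cl60 : Clo.{u} io C59 [0,1] 3 m58 1 (mkB []) := Clo.start (by decide +kernel)
theorem imp61 : Imp.{u} io C59 C4 := Imp.of_chk (pfs := [[([],1)]]) (by decide +kernel)
theorem der63 : Der 56 (finX 56) (cl (finG m2ok) [[1,1]]) (fun _ => Net.nil) := Der.zero (finModel m2ok).inj
noncomputable def x64 : Net := (Net.cons (nat_lit 32) (nat_lit 0x445200c6)
  (Net.cons (nat_lit 16) (nat_lit 0x48400000042c)
  (Net.cons (nat_lit 8) (nat_lit 0x2400e800dd003a)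
  (Net.cons (nat_lit 4) (nat_lit 0xc080902030a0a0f)
  (Net.cons (nat_lit 2) (nat_lit 0x31203102220032)
  (Net.cons (nat_lit 1) (nat_lit 0x4011154141145140)
  (Net.cons (nat_lit 2) (nat_lit 0x2020000002000200)
  (Net.cons (nat_lit 4) (nat_lit 0xc08040008080800)
  (Net.cons (nat_lit 8) (nat_lit 0x6000fc00640010)
  (Net.cons (nat_lit 16) (nat_lit 0x4c200000af10)
  (Net.cons (nat_lit 32) (nat_lit 0x44ad9022)
  Net.nil)))))))))))
noncomputable def ns65 : ℕ → Net := upd (fun _ => Net.nil) 0 x64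
theorem der66 : Der 56 (finX 56) (cl (finG m2ok) [[1,1]]) ns65 := der63.add (wp_mem_cl (w := [1,1]) (by decide)) ((finModel m2ok).toIsPre.rep_word (k := 6) (w := [1,1]) (n := x64) (by decide +kernel)) 0
noncomputable def L67 : Lev := Lev.cons 0 7 [[0]] Lev.nil
theorem lc68 : Lev.chk 56 3 ns65 vT 100 L67 = true := by decide +kernel
theorem lb69 : 7 ≤ Nat.card (cl (finG m2ok) [[1,1]]) := le_of_eq_of_le (by decide +kernel) (der66.card_ge lc68)
theorem sat70 : Sat io C4 (finG m2ok) := m2s0.fin (k := 6) (by decide +kernel)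
theorem ix62 : Idx.{u} io C59 [0,1] [[1,1]] 1 := (Idx.of bd56 sat70 (by decide +kernel) lb69 (by decide +kernel)).of_imp imp61
noncomputable def lk71 : List (List ℕ × List ℕ × Pf) := [([1,1],[1],[([2,1,3],5)])]
noncomputable def O72 : ℕ := (nat_lit 2)
noncomputable def M73 : ℕ := (nat_lit 3)
noncomputable def b74 : ℕ := (nat_lit 1)
theorem cl75 : Clo.{u} io C59 [0,1] 3 m58 M73 (mkB [(2,b74)]) := cl60.new (k := 0) (b := 2) (q := 0) (p := 1) (r := 200) (n := 1) (O := O72) (by decide +kernel) (lks := lk71) (by decide +kernel) (gens_of_lall2 (m := [[0]]) (by decide +kernel)) ix62 (by decide +kernel)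
noncomputable def b76 : ℕ := (nat_lit 2)
theorem cl77 : Clo.{u} io C59 [0,1] 3 m58 M73 (mkB [(2,b74),(3,b76)]) := cl75.ops (os := [Op.inv 2]) (by decide +kernel) (by decide +kernel)
theorem der79 : Der 56 (finX 56) (cl (finG m2ok) [[1,1]]) (fun _ => Net.nil) := Der.zero (finModel m2ok).inj
noncomputable def x80 : Net := (Net.cons (nat_lit 32) (nat_lit 0x445200c6)
  (Net.cons (nat_lit 16) (nat_lit 0x48400000042c)
  (Net.cons (nat_lit 8) (nat_lit 0x2400e800dd003a)
  (Net.cons (nat_lit 4) (nat_lit 0xc080902030a0a0f)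
  (Net.cons (nat_lit 2) (nat_lit 0x31203102220032)
  (Net.cons (nat_lit 1) (nat_lit 0x4011154141145140)
  (Net.cons (nat_lit 2) (nat_lit 0x2020000002000200)
  (Net.cons (nat_lit 4) (nat_lit 0xc08040008080800)
  (Net.cons (nat_lit 8) (nat_lit 0x6000fc00640010)
  (Net.cons (nat_lit 16) (nat_lit 0x4c200000af10)
  (Net.cons (nat_lit 32) (nat_lit 0x44ad9022)
  Net.nil)))))))))))
noncomputable def ns81 : ℕ → Net := upd (fun _ => Net.nil) 0 x80
theorem der82 : Der 56 (finX 56) (cl (finG m2ok) [[1,1]]) ns81 := der79.add (wp_mem_cl (w := [1,1]) (by decide)) ((finModel m2ok).toIsPre.rep_word (k := 6) (w := [1,1]) (n := x80) (by decide +kernel)) 0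
noncomputable def L83 : Lev := Lev.cons 0 7 [[0]] Lev.nil
theorem lc84 : Lev.chk 56 3 ns81 vT 100 L83 = true := by decide +kernel
theorem lb85 : 7 ≤ Nat.card (cl (finG m2ok) [[1,1]]) := le_of_eq_of_le (by decide +kernel) (der82.card_ge lc84)
theorem ix78 : Idx.{u} io C59 [0,1] [[1,1]] 1 := (Idx.of bd56 sat70 (by decide +kernel) lb85 (by decide +kernel)).of_imp imp61
noncomputable def lk86 : List (List ℕ × List ℕ × Pf) := [([1,1],[1],[([2,1,3],5)])]
noncomputable def O87 : ℕ := (nat_lit 4)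
noncomputable def M88 : ℕ := (nat_lit 7)
noncomputable def b89 : ℕ := (nat_lit 3)
theorem cl90 : Clo.{u} io C59 [0,1] 3 m58 M88 (mkB [(2,b89),(3,b76)]) := cl77.new (k := 0) (b := 2) (q := 1) (p := 2) (r := 200) (n := 1) (O := O87) (by decide +kernel) (lks := lk86) (by decide +kernel) (gens_of_lall2 (m := [[0]]) (by decide +kernel)) ix78 (by decide +kernel)
noncomputable def b91 : ℕ := (nat_lit 7)
noncomputable def b92 : ℕ := (nat_lit 7)
theorem cl93 : Clo.{u} io C59 [0,1] 3 m58 M88 (mkB [(2,b91),(3,b92)]) := cl90.ops (os := [Op.inv 2,Op.rel 2 [] 3 [3] [([],3)],Op.inv 2]) (by decide +kernel) (by decide +kernel)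
theorem sat95 : Sat io C59 (finG m58ok) := m58s0.fin (k := 2) (by decide +kernel)
theorem bd94 : Bound.{u} io C59 [0,1,2,3] 21 := cl93.bound (by decide +kernel) sat95 (bd56.of_imp imp61)
noncomputable def r3 : List ℕ := [4,4]
noncomputable def r4 : List ℕ := [5,3,5,2,4,2,4,3]
noncomputable def r5 : List ℕ := [5,3,5,1,4,3,0,4,0,2]
noncomputable def r6 : List ℕ := [5,2,5,1,4,1,2,4,0,3]
noncomputable def r7 : List ℕ := [5,0,2,0,4,0,2,0,4,0,0,0,2]
noncomputable def r8 : List ℕ := [5,0,2,0,5,0,2,0,4,0,0,0,2]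
noncomputable def m96n0 : Net := (Net.cons (nat_lit 160) (nat_lit 0x75bc82950e242e7583ce5eeb52312fe89f38bfdc)
  (Net.cons (nat_lit 80) (nat_lit 0x206a8d491c10297c689600000000000000000000dcfab91b2f7ddff61ffc)
  (Net.cons (nat_lit 40) (nat_lit 0x6d5ee90e6c0000000000223d33cf830000000000af22969c2c00000000005be3ab3c7e)
  (Net.cons (nat_lit 20) (nat_lit 0xda1800000e9916000008243a00000fb1e000000dcfba000009b337000002c2df00000d71d6)
  (Net.cons (nat_lit 10) (nat_lit 0x12e002700035c001d4000550035200386000ae0033b0037f000fe000fc000130025d0038b00030)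
  (Net.cons (nat_lit 5) (nat_lit 0x60000700307c09010070501a030100100c0080c008100680802c0a0500b02014078030140204818)
  (Net.cons (nat_lit 1) (nat_lit 0x5000200000001400000010040100000000000000000420280000000500420)
  (Net.cons (nat_lit 1) (nat_lit 0x5090000800400001200a008400280002900100024080a001000000a5000010840500000000a50840)
  (Net.cons (nat_lit 1) (nat_lit 0x294a401000290052102501484010850948529004290a50908028005210a42148028400200a521080)
  (Net.cons (nat_lit 1) (nat_lit 0x5094812942120425284a4090a4290252942109485204a129481290a528425290a528001094a52940)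
  (Net.cons (nat_lit 1) (nat_lit 0x20404094040842001021204050908008404214a1210212848408404000840948020001280a1004a0)
  (Net.cons (nat_lit 5) (nat_lit 0x400006018038080300606018048060101e018140101c0600c060000400000000028000101200804)
  (Net.cons (nat_lit 10) (nat_lit 0x1f80021000100001440000e0038800138001ce00200000a8001b0002fe000fa002380029a0009c)
  (Net.cons (nat_lit 20) (nat_lit 0x1de1000000aa4660000090766000007a06600000c4718000008d85200000d649800000db1b0)
  (Net.cons (nat_lit 40) (nat_lit 0xcc4e01b120000000000bb9163d82a0000000000711bc684b40000000000f8e4a410c8)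
  (Net.cons (nat_lit 80) (nat_lit 0x60e28fcd8a7103a4c2420000000000000000000056b8a4519027aa1623a2)
  (Net.cons (nat_lit 160) (nat_lit 0x75bc8295804567c76b77bc347b4848afb8b9df46)
  Net.nil)))))))))))))))))
noncomputable def m96n1 : Net := (Net.cons (nat_lit 160) (nat_lit 0x75bc8295804567c76b77bc347b4848afb8b9df46)
  (Net.cons (nat_lit 80) (nat_lit 0x60e28fcd8a7103a4c2420000000000000000000014b9c207910b83cfe5f2)
  (Net.cons (nat_lit 40) (nat_lit 0xcc4e01b120000000000446e9c27d500000000007734d7106c0000000000b71bd12e06)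
  (Net.cons (nat_lit 20) (nat_lit 0x1de1000000aa466000006316e000001059600000ba5d00000058b8a000003ef62000009db58)
  (Net.cons (nat_lit 10) (nat_lit 0x1f8002100023800144003f90007100080003ba001d3003ff00233001a000294003c30032d000ae)
  (Net.cons (nat_lit 5) (nat_lit 0x40000440500417030190041d07c1e060080701e07807014050080e0680501408010010400000808)
  (Net.cons (nat_lit 1) (nat_lit 0x20000000000000100020010200000000000000000040000000204000000000000000002000000000)
  (Net.cons (nat_lit 1) (nat_lit 0x50840020000000240940028420000800102500000294050040528000204000808001085080040008)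
  (Net.cons (nat_lit 1) (nat_lit 0x294840948000404210a121485094050148520080210a5204a42902521484010a5000852900028004)
  (Net.cons (nat_lit 1) (nat_lit 0x509081284a00948129421090a5084242942521021284a5294852842109025204a10942129021010a)
  (Net.cons (nat_lit 1) (nat_lit 0x10a420000284a0210a128481080850108429021004a4284a12848121485280a1200052100120020)
  (Net.cons (nat_lit 5) (nat_lit 0x60000401801002010180481c068120501e0481c000040700404002000020200802010030020080e)
  (Net.cons (nat_lit 10) (nat_lit 0x12e00270001c0001d40023400150002c00033a0019600010000020033200294003e60013600028)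
  (Net.cons (nat_lit 20) (nat_lit 0xda1800000e991600000e334000000034900000088dd000000da5a400000b9f84000009410e)
  (Net.cons (nat_lit 40) (nat_lit 0x6d5ee90e6c0000000000ddc2cc307c00000000006f6f7b1cac0000000000941e98ce80)
  (Net.cons (nat_lit 80) (nat_lit 0x206a8d491c10297c6896000000000000000000009ebafe4f7f155dc7f434)
  (Net.cons (nat_lit 160) (nat_lit 0x75bc82950e242e7583ce5eeb52312fe89f38bfdc)
  Net.nil)))))))))))))))))
noncomputable def m96n2 : Net := (Net.cons (nat_lit 160) (nat_lit 0xc8ee2874dea6870372819981d1c9ada5085a840e)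
  (Net.cons (nat_lit 80) (nat_lit 0xfb6a2a673c7348e076ef000000000000000000001388a04d98cf661b4402)
  (Net.cons (nat_lit 40) (nat_lit 0xb6d4741e6f0000000000ffe501336b0000000000eee939603400000000008af3bc0d84)
  (Net.cons (nat_lit 20) (nat_lit 0xe005200000034d20000064102000007b8d3000006232200000580480000053430000009247e)
  (Net.cons (nat_lit 10) (nat_lit 0x10001000034a003fb003e5000e6000af0005b003ec000cd00032000240013b003090002c003c6)
  (Net.cons (nat_lit 5) (nat_lit 0x1c120600d008020500700419068190501704c0502008008080000101806008110581d0380b0401a)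
  (Net.cons (nat_lit 1) (nat_lit 0x20000200800000401004210040008000000000040001400000010000008020004050800408000)
  (Net.cons (nat_lit 1) (nat_lit 0x2040029425080a1080a409420280a521400000002800028020000202040101420084a1000a12102)
  (Net.cons (nat_lit 1) (nat_lit 0x294840148529404210252908529484210a0014240902529404000a40908121084010a5200a521484)
  (Net.cons (nat_lit 1) (nat_lit 0x12948029425090a5204a5214a1290a5294a40848528425280a108481290a429481214a4284250848)
  (Net.cons (nat_lit 1) (nat_lit 0x284852148108000280250000121005210a401025284812100001000004050842028025280a428480)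
  (Net.cons (nat_lit 5) (nat_lit 0x70100600601010070020400a0580a06000040000400a050080200000012010080680a0481405014)
  (Net.cons (nat_lit 10) (nat_lit 0x1800020c001800017200286002200011400078002dc0014c001180007200054001c8002fc00222)
  (Net.cons (nat_lit 20) (nat_lit 0xa2af400000826700000063b60000003f42000000a0c20000006c0640000091e6000000e17f6)
  (Net.cons (nat_lit 40) (nat_lit 0x77927439fa00000000003bd400cb860000000000ffe18f22400000000000b7b3a886ec)
  (Net.cons (nat_lit 80) (nat_lit 0x73040a377a2100441fa000000000000000000000258833ce5463b215b200)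
  (Net.cons (nat_lit 160) (nat_lit 0xc8ee28749c57c707ad0b6688a0ce2f81067c5120)
  Net.nil)))))))))))))))))
noncomputable def m96n3 : Net := (Net.cons (nat_lit 160) (nat_lit 0x80a6a8749c57c7478d2b6289a0cc2fc3267d511a)
  (Net.cons (nat_lit 80) (nat_lit 0xff050bb0f8650400bea000000000000000000000a749fdcabb599627a220)
  (Net.cons (nat_lit 40) (nat_lit 0xd335fb277a0000000000903ffeacc10000000000a638f15f57000000000095b7e084c4)
  (Net.cons (nat_lit 20) (nat_lit 0xcb4fc00000f4c06000007634d00000c4d5b000008362a00000d0ce600000dfcf000000d350c)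
  (Net.cons (nat_lit 10) (nat_lit 0x298003e8002cc0003e000090033500320002e40011e00309000f6002570006b0026500095003ee)
  (Net.cons (nat_lit 5) (nat_lit 0x780d0001505c020781102013064080781d0301806005058100201902007014150581b0101c06c1e)
  (Net.cons (nat_lit 1) (nat_lit 0x10008400400000200000000000004a0000040040000000000000148000000000200000109400)
  (Net.cons (nat_lit 1) (nat_lit 0x4010a4014a42802120400090052800029424000a5080042808000001294000108400484004252800)
  (Net.cons (nat_lit 1) (nat_lit 0x20484280a5294842108401084210a0210a420005290a12148420021214a4000a5280a5290a421480)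
  (Net.cons (nat_lit 1) (nat_lit 0x5094a1004a1290850902428485284212948108021284212942129424294a00842129425084a52940)
  (Net.cons (nat_lit 1) (nat_lit 0x284a020081080a0004a020420014002942509405290a108081080a520085204a020081084a109404)
  (Net.cons (nat_lit 5) (nat_lit 0x6004000100701005012040000280c0680e050180000003802008100701c02808028140200002014)
  (Net.cons (nat_lit 10) (nat_lit 0x3800180002940003600090003100008e001e00000a003c00011e001760008600084000f80031c)
  (Net.cons (nat_lit 20) (nat_lit 0xd14c200000e8ca600000766900000000fbc0000056424000005253600000e690000000e012c)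
  (Net.cons (nat_lit 40) (nat_lit 0xaa91fa27e60000000000107bfed48a000000000049698696a80000000000caa3f609a0)
  (Net.cons (nat_lit 80) (nat_lit 0xff2323e418f300a072ca00000000000000000000cf11e949cefa3e526446)
  (Net.cons (nat_lit 160) (nat_lit 0x80a6a874dea6878772e19d81d1c9bdad481b8c3c)
  Net.nil)))))))))))))))))
noncomputable def m96n4 : Net := (Net.cons (nat_lit 160) (nat_lit 0x15f87c528cbca1fba1a0ddfc35423082c2318810)
  (Net.cons (nat_lit 80) (nat_lit 0x49d7a90a05436dca19020000000000000000000056c986a9abf055376188)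
  (Net.cons (nat_lit 40) (nat_lit 0x35e36be1f80000000000f5c7f49a01000000000003da4a382c00000000005ec2af39a0)
  (Net.cons (nat_lit 20) (nat_lit 0xfe0e400000d4e290000028bbc00000027c000000d502000000b82ca00000577be00000ad1c8)
  (Net.cons (nat_lit 10) (nat_lit 0x17b000d6003e3003d600266003ee00194003b1002a40025e0002a003fa002fa0017900320000e0)
  (Net.cons (nat_lit 5) (nat_lit 0x781e0580704c130180206c0205c0804814038110000e0380802c12064130140e03c020101c02810)
  (Net.cons (nat_lit 1) (nat_lit 0x404000200000100020000250140000000090010002000000000050000000401000000802000000)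
  (Net.cons (nat_lit 1) (nat_lit 0x80a5004800102029404094a52802101405290a0094a009400000a000001280a500005014000000)
  (Net.cons (nat_lit 1) (nat_lit 0x21405280852148421480290a52940428084214a401484014a00008501485210a529004200a520424)
  (Net.cons (nat_lit 1) (nat_lit 0x128425094a52848429485294a52908121485284a0094a109400210a509024284a1200a5214a50948)
  (Net.cons (nat_lit 1) (nat_lit 0x1485200a1090a020025214a12800100405280a42942001405000a52902029005294012802528425)
  (Net.cons (nat_lit 5) (nat_lit 0x781e05818030080180a0100c0201004814008000000202008000120481406804060020101c02810)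
  (Net.cons (nat_lit 10) (nat_lit 0x284001f2003ac003d400266001ec00190002b0002a4002460002a001420015e0022400320000a0)
  (Net.cons (nat_lit 20) (nat_lit 0xfe0e400000c1e200000008bbc00000227c000000d502000000fc2c200000f7d9e000002d140)
  (Net.cons (nat_lit 40) (nat_lit 0x75e36bf1f00000000000d5c7fa8802000000000003da4a382c00000000005ec28f39a0)
  (Net.cons (nat_lit 80) (nat_lit 0x49d7a90a05436dca19020000000000000000000056c9840187f055336188)
  (Net.cons (nat_lit 160) (nat_lit 0x15f87c528cbca1fba1a0ddfc35423082c2318810)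
  Net.nil)))))))))))))))))
noncomputable def m96n5 : Net := (Net.cons (nat_lit 160) (nat_lit 0x15f87c528cbca1fba1a0ddfc35423082c2318810)
  (Net.cons (nat_lit 80) (nat_lit 0x49d7a90a05436dca19020000000000000000000056c986a9abf055376188)
  (Net.cons (nat_lit 40) (nat_lit 0x35e36be1f80000000000f5c7f49a01000000000003da4a382c00000000005ec2af39a0)
  (Net.cons (nat_lit 20) (nat_lit 0xfe0e400000d4e290000028bbc00000027c000000d502000000b82ca00000577be00000ad1c8)
  (Net.cons (nat_lit 10) (nat_lit 0x17b000d6003e3003d600266003ee00194003b1002a40025e0002a003fa002fa0017900320000e0)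
  (Net.cons (nat_lit 5) (nat_lit 0x781e0580704c130180206c0205c0804814038110000e0380802c12064130140e03c020101c02810)
  (Net.cons (nat_lit 1) (nat_lit 0x404000200000100020000250140000000090010002000000000050000000401000000802000000)
  (Net.cons (nat_lit 1) (nat_lit 0x80a5004800102029404094a52802101405290a0094a009400000a000001280a500005014000000)
  (Net.cons (nat_lit 1) (nat_lit 0x21405280852148421480290a52940428084214a401484014a00008501485210a529004200a520424)
  (Net.cons (nat_lit 1) (nat_lit 0x128425094a52848429485294a52908121485284a0094a109400210a509024284a1200a5214a50948)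
  (Net.cons (nat_lit 1) (nat_lit 0x1485200a1090a020025214a12800100405280a42942001405000a52902029005294012802528425)
  (Net.cons (nat_lit 5) (nat_lit 0x781e05818030080180a0100c0201004814008000000202008000120481406804060020101c02810)
  (Net.cons (nat_lit 10) (nat_lit 0x284001f2003ac003d400266001ec00190002b0002a4002460002a001420015e0022400320000a0)
  (Net.cons (nat_lit 20) (nat_lit 0xfe0e400000c1e200000008bbc00000227c000000d502000000fc2c200000f7d9e000002d140)
  (Net.cons (nat_lit 40) (nat_lit 0x75e36bf1f00000000000d5c7fa8802000000000003da4a382c00000000005ec28f39a0)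
  (Net.cons (nat_lit 80) (nat_lit 0x49d7a90a05436dca19020000000000000000000056c9840187f055336188)
  (Net.cons (nat_lit 160) (nat_lit 0x15f87c528cbca1fba1a0ddfc35423082c2318810)
  Net.nil)))))))))))))))))
noncomputable def m96l : List Net := [m96n0,m96n1,m96n2,m96n3,m96n4,m96n5]
noncomputable abbrev m96 : ℕ → Net := lk Net.nil m96l
theorem m96ok : NetsOk 288 m96 vT := netsOk_of (by decide +kernel)
theorem m96s0 : Sat io [] (finG m96ok) := fin_sat_nil _ (k := 9) (n := 16) (by decide +kernel)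
noncomputable def C97 : List (List ℕ) := [r0,r1,r2,r3,r4,r5,r6,r7,r8]
theorem cl98 : Clo.{u} io C97 [0,1,2,3] 288 m96 1 (mkB []) := Clo.start (by decide +kernel)
theorem imp99 : Imp.{u} io C97 C59 := Imp.of_chk (pfs := [[([],1)],[([],3)],[([],5)]]) (by decide +kernel)
theorem ix100 : Idx.{u} io C97 [0,1,2,3] [] 21 := (Idx.triv bd94 (by norm_num)).of_imp imp99
noncomputable def lk101 : List (List ℕ × List ℕ × Pf) := []
noncomputable def O102 : ℕ := (nat_lit 0x482b6ddfe)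
noncomputable def M103 : ℕ := (nat_lit 0x482b6ddff)
noncomputable def b104 : ℕ := (nat_lit 1)
theorem cl105 : Clo.{u} io C97 [0,1,2,3] 288 m96 M103 (mkB [(4,b104)]) := cl98.new (k := 6) (b := 4) (q := 0) (p := 1) (r := 200) (n := 21) (O := O102) (by decide +kernel) (lks := lk101) (by decide +kernel) (gens_of_lall2 (m := []) (by decide +kernel)) ix100 (by decide +kernel)
noncomputable def b106 : ℕ := (nat_lit 0x400800003)
noncomputable def b107 : ℕ := (nat_lit 0x400800003)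
theorem cl108 : Clo.{u} io C97 [0,1,2,3] 288 m96 M103 (mkB [(4,b106),(5,b107)]) := cl105.ops (os := [Op.inv 4,Op.rel 4 [] 5 [] [([],7)],Op.inv 4,Op.rel 5 [0,0,0,2] 5 [1,3,1,5,1,3,1] [([5,1,3,1,5,1,3,1,4],15)],Op.inv 5,Op.rel 4 [] 5 [] [([],7)],Op.inv 4]) (by decide +kernel) (by decide +kernel)
theorem der110 : Der 56 (finX 56) (cl (finG m2ok) [[2]]) (fun _ => Net.nil) := Der.zero (finModel m2ok).inj
noncomputable def ns111 : ℕ → Net := upd (fun _ => Net.nil) 0 (m2 2)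
theorem der112 : Der 56 (finX 56) (cl (finG m2ok) [[2]]) ns111 := der110.add (wp_mem_cl (w := [2]) (by decide)) (rep_letter (finModel m2ok) 2) 0
noncomputable def L113 : Lev := Lev.cons 0 3 [[0]] Lev.nil
theorem lc114 : Lev.chk 56 3 ns111 vT 100 L113 = true := by decide +kernel
theorem lb115 : 3 ≤ Nat.card (cl (finG m2ok) [[2]]) := le_of_eq_of_le (by decide +kernel) (der112.card_ge lc114)
theorem sat116 : Sat io C59 (finG m2ok) := m2s0.fin (k := 6) (by decide +kernel)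
theorem ix109 : Idx.{u} io C97 [0,1,2,3] [[2]] 7 := (Idx.of bd94 sat116 (by decide +kernel) lb115 (by decide +kernel)).of_imp imp99
noncomputable def lk117 : List (List ℕ × List ℕ × Pf) := [([2],[2,4,2,5,3],[([4,2,4],9)])]
noncomputable def O118 : ℕ := (nat_lit 0x60000000180010004010000)
noncomputable def M119 : ℕ := (nat_lit 0x60000000180010486b7ddff)
noncomputable def b120 : ℕ := (nat_lit 0x400800013)
theorem cl121 : Clo.{u} io C97 [0,1,2,3] 288 m96 M119 (mkB [(4,b120),(5,b107)]) := cl108.new (k := 6) (b := 4) (q := 4) (p := 16) (r := 200) (n := 7) (O := O118) (by decide +kernel) (lks := lk117) (by decide +kernel) (gens_of_lall2 (m := [[0]]) (by decide +kernel)) ix109 (by decide +kernel)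
noncomputable def b122 : ℕ := (nat_lit 0x404810113)
noncomputable def b123 : ℕ := (nat_lit 0x404810113)
theorem cl124 : Clo.{u} io C97 [0,1,2,3] 288 m96 M119 (mkB [(4,b122),(5,b123)]) := cl121.ops (os := [Op.inv 4,Op.rel 4 [] 5 [] [([],7)],Op.inv 4,Op.rel 5 [1,2] 4 [0,2,5,3,5,1] [([4,0,2],10)],Op.inv 5,Op.rel 4 [] 5 [] [([],7)],Op.inv 4]) (by decide +kernel) (by decide +kernel)
theorem der126 : Der 56 (finX 56) (cl (finG m2ok) [[2]]) (fun _ => Net.nil) := Der.zero (finModel m2ok).inj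
noncomputable def ns127 : ℕ → Net := upd (fun _ => Net.nil) 0 (m2 2)
theorem der128 : Der 56 (finX 56) (cl (finG m2ok) [[2]]) ns127 := der126.add (wp_mem_cl (w := [2]) (by decide)) (rep_letter (finModel m2ok) 2) 0
noncomputable def L129 : Lev := Lev.cons 0 3 [[0]] Lev.nil
theorem lc130 : Lev.chk 56 3 ns127 vT 100 L129 = true := by decide +kernel
theorem lb131 : 3 ≤ Nat.card (cl (finG m2ok) [[2]]) := le_of_eq_of_le (by decide +kernel) (der128.card_ge lc130)
theorem ix125 : Idx.{u} io C97 [0,1,2,3] [[2]] 7 := (Idx.of bd94 sat116 (by decide +kernel) lb131 (by decide +kernel)).of_imp imp99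
noncomputable def lk132 : List (List ℕ × List ℕ × Pf) := [([2],[2,4,2,5,3],[([4,2,4],9)])]
noncomputable def O133 : ℕ := (nat_lit 0x3018000000000088000080000)
noncomputable def M134 : ℕ := (nat_lit 0x3078000000180098486bfddff)
noncomputable def b135 : ℕ := (nat_lit 0x404810133)
theorem cl136 : Clo.{u} io C97 [0,1,2,3] 288 m96 M134 (mkB [(4,b135),(5,b123)]) := cl124.new (k := 6) (b := 4) (q := 5) (p := 19) (r := 200) (n := 7) (O := O133) (by decide +kernel) (lks := lk132) (by decide +kernel) (gens_of_lall2 (m := [[0]]) (by decide +kernel)) ix125 (by decide +kernel)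
noncomputable def b137 : ℕ := (nat_lit 0x8404898133)
noncomputable def b138 : ℕ := (nat_lit 0x8404898133)
theorem cl139 : Clo.{u} io C97 [0,1,2,3] 288 m96 M134 (mkB [(4,b137),(5,b138)]) := cl136.ops (os := [Op.inv 4,Op.rel 4 [] 5 [] [([],7)],Op.inv 4,Op.rel 4 [3,0] 5 [0,4,2,4,3,1] [([5,0,4,2,4],11)],Op.inv 4,Op.rel 4 [] 5 [] [([],7)],Op.inv 4]) (by decide +kernel) (by decide +kernel)
theorem ix140 : Idx.{u} io C97 [0,1,2,3] [] 21 := (Idx.triv bd94 (by norm_num)).of_imp imp99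
noncomputable def lk141 : List (List ℕ × List ℕ × Pf) := []
noncomputable def O142 : ℕ := (nat_lit 0x8500000000040060000d7600024078000200)
noncomputable def M143 : ℕ := (nat_lit 0x85000000000707e0000d77800bc4febfdfff)
noncomputable def b144 : ℕ := (nat_lit 0x84048b8133)
theorem cl145 : Clo.{u} io C97 [0,1,2,3] 288 m96 M143 (mkB [(4,b144),(5,b138)]) := cl139.new (k := 6) (b := 4) (q := 17) (p := 41) (r := 200) (n := 21) (O := O142) (by decide +kernel) (lks := lk141) (by decide +kernel) (gens_of_lall2 (m := []) (by decide +kernel)) ix140 (by decide +kernel)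
noncomputable def b146 : ℕ := (nat_lit 0x40000000000000ac4048bc337)
noncomputable def b147 : ℕ := (nat_lit 0x40000000000000ac4048bc337)
theorem cl148 : Clo.{u} io C97 [0,1,2,3] 288 m96 M143 (mkB [(4,b146),(5,b147)]) := cl145.ops (os := [Op.inv 4,Op.rel 4 [] 5 [] [([],7)],Op.inv 4,Op.rel 4 [3,0] 5 [0,4,2,4,3,1] [([5,0,4,2,4],11)],Op.inv 4,Op.rel 4 [] 5 [] [([],7)],Op.inv 4,Op.rel 4 [3,0] 5 [0,4,2,4,3,1] [([5,0,4,2,4],11)],Op.inv 4,Op.rel 4 [] 5 [] [([],7)],Op.inv 4,Op.rel 5 [0,0,0,2] 5 [1,3,1,5,1,3,1] [([5,1,3,1,5,1,3,1,4],15)],Op.inv 5,Op.rel 4 [] 5 [] [([],7)],Op.inv 4]) (by decide +kernel) (by decide +kernel)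
theorem ix149 : Idx.{u} io C97 [0,1,2,3] [] 21 := (Idx.triv bd94 (by norm_num)).of_imp imp99
noncomputable def lk150 : List (List ℕ × List ℕ × Pf) := []
noncomputable def O151 : ℕ := (nat_lit 0x2a00008008100000000000efc020000003a00002000)
noncomputable def M152 : ℕ := (nat_lit 0x2a0000885810000000707eefc0f77800bfefebfffff)
noncomputable def b153 : ℕ := (nat_lit 0x40000000000000ac4048bcb37)
theorem cl154 : Clo.{u} io C97 [0,1,2,3] 288 m96 M152 (mkB [(4,b153),(5,b147)]) := cl148.new (k := 6) (b := 4) (q := 11) (p := 33) (r := 200) (n := 21) (O := O151) (by decide +kernel) (lks := lk150) (by decide +kernel) (gens_of_lall2 (m := []) (by decide +kernel)) ix149 (by decide +kernel)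
noncomputable def b155 : ℕ := (nat_lit 0x88080000000040008000600800ace248bfb3f)
noncomputable def b156 : ℕ := (nat_lit 0x88080000000040008000600800ace248bfb3f)
theorem cl157 : Clo.{u} io C97 [0,1,2,3] 288 m96 M152 (mkB [(4,b155),(5,b156)]) := cl154.ops (os := [Op.inv 4,Op.rel 4 [] 5 [] [([],7)],Op.inv 4,Op.rel 5 [0,2] 5 [1,2,5,0,4,2] [([5,1,2,5,0,4,2,4],11)],Op.inv 5,Op.rel 4 [] 5 [] [([],7)],Op.inv 4,Op.rel 5 [3] 4 [2,5,3,5,3] [([4],9)],Op.inv 5,Op.rel 5 [0,2] 5 [1,2,5,0,4,2] [([5,1,2,5,0,4,2,4],11)],Op.inv 5,Op.rel 4 [] 5 [] [([],7)],Op.inv 4,Op.rel 5 [3,0] 4 [0,3,5,2,5,1] [([4,0,3],12)],Op.inv 5,Op.rel 4 [] 5 [] [([],7)],Op.inv 4,Op.rel 5 [3] 5 [3,5,3,4,2] [([5,3,5,3,4,2,4],9)],Op.inv 5,Op.rel 4 [] 5 [] [([],7)],Op.inv 4,Op.rel 4 [1,2] 5 [0,4,3,4,2,1] [([5,0,4,3,4],13)],Op.inv 4,Op.rel 4 [] 5 [] [([],7)],Op.inv 4]) (by decide +kernel) (by decide +kernel)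
theorem ix158 : Idx.{u} io C97 [0,1,2,3] [] 21 := (Idx.triv bd94 (by norm_num)).of_imp imp99
noncomputable def lk159 : List (List ℕ × List ℕ × Pf) := []
noncomputable def O160 : ℕ := (nat_lit 0x4a0000000020100000001000001fb800000000000803c00000400000)
noncomputable def M161 : ℕ := (nat_lit 0x4a000000002012a000089581001fb80707eefc0f7f83cbfefeffffff)
noncomputable def b162 : ℕ := (nat_lit 0x88080000000040008000600800ace248bfb7f)
theorem cl163 : Clo.{u} io C97 [0,1,2,3] 288 m96 M161 (mkB [(4,b162),(5,b156)]) := cl157.new (k := 6) (b := 4) (q := 6) (p := 22) (r := 200) (n := 21) (O := O160) (by decide +kernel) (lks := lk159) (by decide +kernel) (gens_of_lall2 (m := []) (by decide +kernel)) ix158 (by decide +kernel)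
noncomputable def b164 : ℕ := (nat_lit 0x20102000088080000120040408400608810ace2ccbfb7f)
noncomputable def b165 : ℕ := (nat_lit 0x20102000088080000120040408400608810ace2ccbfb7f)
theorem cl166 : Clo.{u} io C97 [0,1,2,3] 288 m96 M161 (mkB [(4,b164),(5,b165)]) := cl163.ops (os := [Op.inv 4,Op.rel 4 [] 5 [] [([],7)],Op.inv 4,Op.rel 5 [1,2] 4 [0,2,5,3,5,1] [([4,0,2],10)],Op.inv 5,Op.rel 4 [] 5 [] [([],7)],Op.inv 4,Op.rel 5 [0,3] 5 [3,0,5,0,4,3] [([5,3,0,5,0,4,3,4],13)],Op.inv 5,Op.rel 4 [] 5 [] [([],7)],Op.inv 4,Op.rel 5 [3] 4 [2,5,3,5,3] [([4],9)],Op.inv 5,Op.rel 4 [3,0] 5 [0,4,2,4,3,1] [([5,0,4,2,4],11)],Op.inv 4,Op.rel 4 [] 5 [] [([],7)],Op.inv 4,Op.rel 4 [1,2] 5 [0,4,3,4,2,1] [([5,0,4,3,4],13)],Op.inv 4,Op.rel 4 [] 5 [] [([],7)],Op.inv 4]) (by decide +kernel) (by decide +kernel)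
theorem der168 : Der 56 (finX 56) (cl (finG m2ok) [[2,0,0]]) (fun _ => Net.nil) := Der.zero (finModel m2ok).inj
noncomputable def x169 : Net := (Net.cons (nat_lit 32) (nat_lit 0x2321364a)
  (Net.cons (nat_lit 16) (nat_lit 0x760000b05a)
  (Net.cons (nat_lit 8) (nat_lit 0x16000100c400f9)
  (Net.cons (nat_lit 4) (nat_lit 0x70e010f0a050008)
  (Net.cons (nat_lit 2) (nat_lit 0x1003323212120313)
  (Net.cons (nat_lit 1) (nat_lit 0x4511004514501)
  (Net.cons (nat_lit 2) (nat_lit 0x2002002002)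
  (Net.cons (nat_lit 4) (nat_lit 0x40c000c02060000)
  (Net.cons (nat_lit 8) (nat_lit 0x16007800780070)
  (Net.cons (nat_lit 16) (nat_lit 0x19000007838)
  (Net.cons (nat_lit 32) (nat_lit 0x23231288)
  Net.nil)))))))))))
noncomputable def ns170 : ℕ → Net := upd (fun _ => Net.nil) 0 x169
theorem der171 : Der 56 (finX 56) (cl (finG m2ok) [[2,0,0]]) ns170 := der168.add (wp_mem_cl (w := [2,0,0]) (by decide)) ((finModel m2ok).toIsPre.rep_word (k := 6) (w := [2,0,0]) (n := x169) (by decide +kernel)) 0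
noncomputable def L172 : Lev := Lev.cons 0 3 [[0]] Lev.nil
theorem lc173 : Lev.chk 56 3 ns170 vT 100 L172 = true := by decide +kernel
theorem lb174 : 3 ≤ Nat.card (cl (finG m2ok) [[2,0,0]]) := le_of_eq_of_le (by decide +kernel) (der171.card_ge lc173)
theorem ix167 : Idx.{u} io C97 [0,1,2,3] [[2,0,0]] 7 := (Idx.of bd94 sat116 (by decide +kernel) lb174 (by decide +kernel)).of_imp imp99
noncomputable def lk175 : List (List ℕ × List ℕ × Pf) := [([1],[2,4,3,1,5,1,2],[([4,2,4],11)]),([0,2,0],[1,3,1,4,3,1,1,1],[([4,1,3,1,4],17)]),([0],[3,0,4,0,2,5,3],[([4,3,0,4,0,2],10)])]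
noncomputable def O176 : ℕ := (nat_lit 0x34000000000001000000420000004000000000000000000000000000)
noncomputable def M177 : ℕ := (nat_lit 0x7e000000002013a00008d781001ff80707eefc0f7f83cbfefeffffff)
noncomputable def b178 : ℕ := (nat_lit 0x20102000088080000120040408400608814ace2ccbfb7f)
theorem cl179 : Clo.{u} io C97 [0,1,2,3] 288 m96 M177 (mkB [(4,b178),(5,b165)]) := cl166.new (k := 6) (b := 4) (q := 46) (p := 110) (r := 200) (n := 7) (O := O176) (by decide +kernel) (lks := lk175) (by decide +kernel) (gens_of_lall2 (m := [[0,1,2]]) (by decide +kernel)) ix167 (by decide +kernel)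
noncomputable def b180 : ℕ := (nat_lit 0x4000000002011200008c28000016804040848062a814ace2ccbfb7f)
noncomputable def b181 : ℕ := (nat_lit 0x4000000002011200008c28000016804040848062a814ace2ccbfb7f)
theorem cl182 : Clo.{u} io C97 [0,1,2,3] 288 m96 M177 (mkB [(4,b180),(5,b181)]) := cl179.ops (os := [Op.inv 4,Op.rel 4 [] 5 [] [([],7)],Op.inv 4,Op.rel 5 [3] 5 [3,5,3,4,2] [([5,3,5,3,4,2,4],9)],Op.inv 5,Op.rel 4 [] 5 [] [([],7)],Op.inv 4,Op.rel 5 [1,2] 4 [0,2,5,3,5,1] [([4,0,2],10)],Op.inv 5,Op.rel 4 [] 5 [] [([],7)],Op.inv 4,Op.rel 4 [3,0] 5 [0,4,2,4,3,1] [([5,0,4,2,4],11)],Op.inv 4,Op.rel 4 [] 5 [] [([],7)],Op.inv 4,Op.rel 5 [3] 4 [3,1,5,1,2,5,0] [([4],11)],Op.inv 5,Op.rel 4 [] 5 [] [([],7)],Op.inv 4]) (by decide +kernel) (by decide +kernel)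
theorem der184 : Der 56 (finX 56) (cl (finG m2ok) [[2]]) (fun _ => Net.nil) := Der.zero (finModel m2ok).inj
noncomputable def ns185 : ℕ → Net := upd (fun _ => Net.nil) 0 (m2 2)
theorem der186 : Der 56 (finX 56) (cl (finG m2ok) [[2]]) ns185 := der184.add (wp_mem_cl (w := [2]) (by decide)) (rep_letter (finModel m2ok) 2) 0
noncomputable def L187 : Lev := Lev.cons 0 3 [[0]] Lev.nil
theorem lc188 : Lev.chk 56 3 ns185 vT 100 L187 = true := by decide +kernel
theorem lb189 : 3 ≤ Nat.card (cl (finG m2ok) [[2]]) := le_of_eq_of_le (by decide +kernel) (der186.card_ge lc188)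
theorem ix183 : Idx.{u} io C97 [0,1,2,3] [[2]] 7 := (Idx.of bd94 sat116 (by decide +kernel) lb189 (by decide +kernel)).of_imp imp99
noncomputable def lk190 : List (List ℕ × List ℕ × Pf) := [([2],[2,4,2,5,3],[([4,2,4],9)])]
noncomputable def O191 : ℕ := (nat_lit 0x300000040000000000000100420001000000000000000000000000000000000000)
noncomputable def M192 : ℕ := (nat_lit 0x30000004007e000000002113e20009d781001ff80707eefc0f7f83cbfefeffffff)
noncomputable def b193 : ℕ := (nat_lit 0x4000000002011200008c28000016804040848066a814ace2ccbfb7f)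
theorem cl194 : Clo.{u} io C97 [0,1,2,3] 288 m96 M192 (mkB [(4,b193),(5,b181)]) := cl182.new (k := 6) (b := 4) (q := 62) (p := 144) (r := 200) (n := 7) (O := O191) (by decide +kernel) (lks := lk190) (by decide +kernel) (gens_of_lall2 (m := [[0]]) (by decide +kernel)) ix183 (by decide +kernel)
noncomputable def b195 : ℕ := (nat_lit 0x200000000024000000002111600009c28000016804040a4c066a814ace2ccbfb7f)
noncomputable def b196 : ℕ := (nat_lit 0x200000000024000000002111600009c28000016804040a4c066a814ace2ccbfb7f)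
theorem cl197 : Clo.{u} io C97 [0,1,2,3] 288 m96 M192 (mkB [(4,b195),(5,b196)]) := cl194.ops (os := [Op.inv 4,Op.rel 4 [] 5 [] [([],7)],Op.inv 4,Op.rel 5 [1,2] 4 [0,2,5,3,5,1] [([4,0,2],10)],Op.inv 5,Op.rel 4 [] 5 [] [([],7)],Op.inv 4,Op.rel 5 [3] 5 [3,5,3,4,2] [([5,3,5,3,4,2,4],9)],Op.inv 5,Op.rel 4 [] 5 [] [([],7)],Op.inv 4,Op.rel 4 [3,0] 5 [0,4,2,4,3,1] [([5,0,4,2,4],11)],Op.inv 4]) (by decide +kernel) (by decide +kernel)
theorem der199 : Der 56 (finX 56) (cl (finG m2ok) [[2]]) (fun _ => Net.nil) := Der.zero (finModel m2ok).inj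
noncomputable def ns200 : ℕ → Net := upd (fun _ => Net.nil) 0 (m2 2)
theorem der201 : Der 56 (finX 56) (cl (finG m2ok) [[2]]) ns200 := der199.add (wp_mem_cl (w := [2]) (by decide)) (rep_letter (finModel m2ok) 2) 0
noncomputable def L202 : Lev := Lev.cons 0 3 [[0]] Lev.nil
theorem lc203 : Lev.chk 56 3 ns200 vT 100 L202 = true := by decide +kernel
theorem lb204 : 3 ≤ Nat.card (cl (finG m2ok) [[2]]) := le_of_eq_of_le (by decide +kernel) (der201.card_ge lc203)
theorem ix198 : Idx.{u} io C97 [0,1,2,3] [[2]] 7 := (Idx.of bd94 sat116 (by decide +kernel) lb204 (by decide +kernel)).of_imp imp99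
noncomputable def lk205 : List (List ℕ × List ℕ × Pf) := [([2],[2,4,2,5,3],[([4,2,4],9)])]
noncomputable def O206 : ℕ := (nat_lit 0x3000000000000000000c0000002000000000000000100008000000000000000)
noncomputable def M207 : ℕ := (nat_lit 0x30030004007e0000000021d3e2000bd781001ff80707effc0fff83cbfefeffffff)
noncomputable def b208 : ℕ := (nat_lit 0x200000000024000000002111600009c28000016804040a4c066a814ace3ccbfb7f)
theorem cl209 : Clo.{u} io C97 [0,1,2,3] 288 m96 M207 (mkB [(4,b208),(5,b196)]) := cl197.new (k := 6) (b := 4) (q := 28) (p := 63) (r := 200) (n := 7) (O := O206) (by decide +kernel) (lks := lk205) (by decide +kernel) (gens_of_lall2 (m := [[0]]) (by decide +kernel)) ix198 (by decide +kernel)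
noncomputable def b210 : ℕ := (nat_lit 0x200000000024000000002111600009c28000016804040b4c06ea814ade3ccbfb7f)
noncomputable def b211 : ℕ := (nat_lit 0x200000000024000000002111600009c28000016804040b4c06ea814ade3ccbfb7f)
theorem cl212 : Clo.{u} io C97 [0,1,2,3] 288 m96 M207 (mkB [(4,b210),(5,b211)]) := cl209.ops (os := [Op.inv 4,Op.rel 4 [] 5 [] [([],7)],Op.inv 4,Op.rel 4 [3,0] 5 [0,4,2,4,3,1] [([5,0,4,2,4],11)],Op.inv 4,Op.rel 4 [] 5 [] [([],7)],Op.inv 4]) (by decide +kernel) (by decide +kernel)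
theorem ix213 : Idx.{u} io C97 [0,1,2,3] [] 21 := (Idx.triv bd94 (by norm_num)).of_imp imp99
noncomputable def lk214 : List (List ℕ × List ℕ × Pf) := []
noncomputable def O215 : ℕ := (nat_lit 0x6c002000200000000000000006ddc0000000000000003c000001000000)
noncomputable def M216 : ℕ := (nat_lit 0x300300046c7e2000200021d3e2000bd787dddff80707effc0fffbfcbfeffffffff)
noncomputable def b217 : ℕ := (nat_lit 0x200000000024000000002111600009c28000016804040b4c06ea814ade3ccbfbff)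
theorem cl218 : Clo.{u} io C97 [0,1,2,3] 288 m96 M216 (mkB [(4,b217),(5,b211)]) := cl212.new (k := 6) (b := 4) (q := 7) (p := 24) (r := 200) (n := 21) (O := O215) (by decide +kernel) (lks := lk214) (by decide +kernel) (gens_of_lall2 (m := []) (by decide +kernel)) ix213 (by decide +kernel)
noncomputable def b219 : ℕ := (nat_lit 0x20000004402600002000211160000bc28350016806040f4c06ea914ade3dcbfbff)
noncomputable def b220 : ℕ := (nat_lit 0x20000004402600002000211160000bc28350016806040f4c06ea914ade3dcbfbff)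
theorem cl221 : Clo.{u} io C97 [0,1,2,3] 288 m96 M216 (mkB [(4,b219),(5,b220)]) := cl218.ops (os := [Op.inv 4,Op.rel 4 [] 5 [] [([],7)],Op.inv 4,Op.rel 5 [3] 5 [3,5,3,4,2] [([5,3,5,3,4,2,4],9)],Op.inv 5,Op.rel 4 [] 5 [] [([],7)],Op.inv 4,Op.rel 4 [3,0] 5 [0,4,2,4,3,1] [([5,0,4,2,4],11)],Op.inv 4,Op.rel 4 [] 5 [] [([],7)],Op.inv 4,Op.rel 5 [3] 5 [3,5,3,4,2] [([5,3,5,3,4,2,4],9)],Op.inv 5,Op.rel 4 [] 5 [] [([],7)],Op.inv 4,Op.rel 4 [3,0] 5 [0,4,2,4,3,1] [([5,0,4,2,4],11)],Op.inv 4,Op.rel 4 [] 5 [] [([],7)],Op.inv 4,Op.rel 5 [0,0,0,2] 5 [1,3,1,5,1,3,1] [([5,1,3,1,5,1,3,1,4],15)],Op.inv 5,Op.rel 4 [] 5 [] [([],7)],Op.inv 4]) (by decide +kernel) (by decide +kernel)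
theorem ix222 : Idx.{u} io C97 [0,1,2,3] [] 21 := (Idx.triv bd94 (by norm_num)).of_imp imp99
noncomputable def lk223 : List (List ℕ × List ℕ × Pf) := []
noncomputable def O224 : ℕ := (nat_lit 0x400200010000002000006001df800000000000000001003c00000000100000000)
noncomputable def M225 : ℕ := (nat_lit 0x340320047c7e2002200027d3fff80bd787dddff80707ffffcfffbfcbffffffffff)
noncomputable def b226 : ℕ := (nat_lit 0x20000004402600002000211160000bc28350016806040f4c06ea914ade3dcbffff)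
theorem cl227 : Clo.{u} io C97 [0,1,2,3] 288 m96 M225 (mkB [(4,b226),(5,b220)]) := cl221.new (k := 6) (b := 4) (q := 10) (p := 32) (r := 200) (n := 21) (O := O224) (by decide +kernel) (lks := lk223) (by decide +kernel) (gens_of_lall2 (m := []) (by decide +kernel)) ix222 (by decide +kernel)
noncomputable def b228 : ℕ := (nat_lit 0x34002004502e0000200023117e400bc383d0417807045f4ec6ea914aff3dcbffff)
noncomputable def b229 : ℕ := (nat_lit 0x34002004502e0000200023117e400bc383d0417807045f4ec6ea914aff3dcbffff)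
theorem cl230 : Clo.{u} io C97 [0,1,2,3] 288 m96 M225 (mkB [(4,b228),(5,b229)]) := cl227.ops (os := [Op.inv 4,Op.rel 4 [] 5 [] [([],7)],Op.inv 4,Op.rel 4 [2] 5 [3,4,2,4,2] [([5,3,4,2,4],9)],Op.inv 4,Op.rel 5 [0,2] 5 [1,2,5,0,4,2] [([5,1,2,5,0,4,2,4],11)],Op.inv 5,Op.rel 4 [] 5 [] [([],7)],Op.inv 4,Op.rel 5 [3] 5 [3,5,3,4,2] [([5,3,5,3,4,2,4],9)],Op.inv 5,Op.rel 4 [] 5 [] [([],7)],Op.inv 4,Op.rel 5 [0,2] 5 [1,2,5,0,4,2] [([5,1,2,5,0,4,2,4],11)],Op.inv 5,Op.rel 4 [] 5 [] [([],7)],Op.inv 4,Op.rel 5 [3] 5 [3,5,3,4,2] [([5,3,5,3,4,2,4],9)],Op.inv 5,Op.rel 4 [] 5 [] [([],7)],Op.inv 4,Op.rel 5 [0,2] 5 [1,2,5,0,4,2] [([5,1,2,5,0,4,2,4],11)],Op.inv 5,Op.rel 4 [] 5 [] [([],7)],Op.inv 4,Op.rel 4 [3,0] 5 [0,4,2,4,3,1] [([5,0,4,2,4],11)],Op.inv 4,Op.rel 4 [3,0] 5 [0,4,2,4,3,1] [([5,0,4,2,4],11)],Op.inv 4,Op.rel 4 [] 5 [] [([],7)],Op.inv 4,Op.rel 5 [3] 4 [2,5,3,5,3] [([4],9)],Op.inv 5]) (by decide +kernel) (by decide +kernel)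
theorem ix231 : Idx.{u} io C97 [0,1,2,3] [] 21 := (Idx.triv bd94 (by norm_num)).of_imp imp99
noncomputable def lk232 : List (List ℕ × List ℕ × Pf) := []
noncomputable def O233 : ℕ := (nat_lit 0x1800004000010004001efc0008000000000000000000f00000000000040000000000)
noncomputable def M234 : ℕ := (nat_lit 0x18340360047d7e24023efc27dbfff80bd787dddff807f7ffffcfffbfcfffffffffff)
noncomputable def b235 : ℕ := (nat_lit 0x34002004502e0000200023117e400bc383d0417807045f4ec6ea914aff3dcfffff)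
theorem cl236 : Clo.{u} io C97 [0,1,2,3] 288 m96 M234 (mkB [(4,b235),(5,b229)]) := cl230.new (k := 6) (b := 4) (q := 18) (p := 42) (r := 200) (n := 21) (O := O233) (by decide +kernel) (lks := lk232) (by decide +kernel) (gens_of_lall2 (m := []) (by decide +kernel)) ix231 (by decide +kernel)
noncomputable def b237 : ℕ := (nat_lit 0x34026004512e00002a682319fe600bd783d14b7807947f6ec6ea914eff3dcfffff)
noncomputable def b238 : ℕ := (nat_lit 0x34026004512e00002a682319fe600bd783d14b7807947f6ec6ea914eff3dcfffff)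
theorem cl239 : Clo.{u} io C97 [0,1,2,3] 288 m96 M234 (mkB [(4,b237),(5,b238)]) := cl236.ops (os := [Op.inv 4,Op.rel 4 [] 5 [] [([],7)],Op.inv 4,Op.rel 5 [3] 5 [3,5,3,4,2] [([5,3,5,3,4,2,4],9)],Op.inv 5,Op.rel 4 [] 5 [] [([],7)],Op.inv 4,Op.rel 4 [3,0] 5 [0,4,2,4,3,1] [([5,0,4,2,4],11)],Op.inv 4,Op.rel 4 [] 5 [] [([],7)],Op.inv 4,Op.rel 5 [3] 5 [3,5,3,4,2] [([5,3,5,3,4,2,4],9)],Op.inv 5,Op.rel 4 [] 5 [] [([],7)],Op.inv 4,Op.rel 4 [3,0] 5 [0,4,2,4,3,1] [([5,0,4,2,4],11)],Op.inv 4,Op.rel 4 [] 5 [] [([],7)],Op.inv 4,Op.rel 5 [3] 5 [3,5,3,4,2] [([5,3,5,3,4,2,4],9)],Op.inv 5,Op.rel 4 [] 5 [] [([],7)],Op.inv 4,Op.rel 5 [3] 5 [3,5,3,4,2] [([5,3,5,3,4,2,4],9)],Op.inv 5,Op.rel 4 [] 5 [] [([],7)],Op.inv 4,Op.rel 4 [3,0] 5 [0,4,2,4,3,1] [([5,0,4,2,4],11)],Op.inv 4,Op.rel 4 [] 5 [] [([],7)],Op.inv 4,Op.rel 5 [1,2] 4 [0,2,5,3,5,1] [([4,0,2],10)],Op.inv 5]) (by decide +kernel) (by decide +kernel)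
theorem ix240 : Idx.{u} io C97 [0,1,2,3] [] 21 := (Idx.triv bd94 (by norm_num)).of_imp imp99
noncomputable def lk241 : List (List ℕ × List ℕ × Pf) := []
noncomputable def O242 : ℕ := (nat_lit 0x40001800800000003dc0000800000060000800000078000000100000100000000000)
noncomputable def M243 : ℕ := (nat_lit 0x58341b60847d7e243ffefc2fdbfff86bd78fdddff87ff7ffffdfffbfdfffffffffff)
noncomputable def b244 : ℕ := (nat_lit 0x34026004512e00002a682319fe600bd783d14b7807947f6ec6ea914eff3ddfffff)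
theorem cl245 : Clo.{u} io C97 [0,1,2,3] 288 m96 M243 (mkB [(4,b244),(5,b238)]) := cl239.new (k := 6) (b := 4) (q := 20) (p := 44) (r := 200) (n := 21) (O := O242) (by decide +kernel) (lks := lk241) (by decide +kernel) (gens_of_lall2 (m := []) (by decide +kernel)) ix240 (by decide +kernel)
noncomputable def b246 : ℕ := (nat_lit 0x340a6084752e001f2a782b19fe604bd78bd14f783f94ff6ed6ebb15eff7ddfffff)
noncomputable def b247 : ℕ := (nat_lit 0x340a6084752e001f2a782b19fe604bd78bd14f783f94ff6ed6ebb15eff7ddfffff)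
theorem cl248 : Clo.{u} io C97 [0,1,2,3] 288 m96 M243 (mkB [(4,b246),(5,b247)]) := cl245.ops (os := [Op.inv 4,Op.rel 4 [] 5 [] [([],7)],Op.inv 4,Op.rel 5 [0,2] 5 [1,2,5,0,4,2] [([5,1,2,5,0,4,2,4],11)],Op.inv 5,Op.rel 4 [] 5 [] [([],7)],Op.inv 4,Op.rel 5 [3] 5 [3,5,3,4,2] [([5,3,5,3,4,2,4],9)],Op.inv 5,Op.rel 4 [] 5 [] [([],7)],Op.inv 4,Op.rel 4 [3,0] 5 [0,4,2,4,3,1] [([5,0,4,2,4],11)],Op.inv 4,Op.rel 4 [] 5 [] [([],7)],Op.inv 4,Op.rel 5 [3] 5 [3,5,3,4,2] [([5,3,5,3,4,2,4],9)],Op.inv 5,Op.rel 4 [] 5 [] [([],7)],Op.inv 4,Op.rel 4 [3,0] 5 [0,4,2,4,3,1] [([5,0,4,2,4],11)],Op.inv 4,Op.rel 4 [] 5 [] [([],7)],Op.inv 4,Op.rel 5 [3] 5 [3,5,3,4,2] [([5,3,5,3,4,2,4],9)],Op.inv 5,Op.rel 4 [] 5 [] [([],7)],Op.inv 4,Op.rel 4 [3,0] 5 [0,4,2,4,3,1] [([5,0,4,2,4],11)],Op.inv 4,Op.rel 4 [] 5 [] [([],7)],Op.inv 4]) (by decide +kernel) (by decide +kernel)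
theorem ix249 : Idx.{u} io C97 [0,1,2,3] [] 21 := (Idx.triv bd94 (by norm_num)).of_imp imp99
noncomputable def lk250 : List (List ℕ × List ℕ × Pf) := []
noncomputable def O251 : ℕ := (nat_lit 0x80000400018000db8001001000000014000002000780000000000000200000000000)
noncomputable def M252 : ℕ := (nat_lit 0xd8341f6085fd7effbffffc3fdbfff87fd78fdfdffffff7ffffdfffbfffffffffffff)
noncomputable def b253 : ℕ := (nat_lit 0x340a6084752e001f2a782b19fe604bd78bd14f783f94ff6ed6ebb15eff7dffffff)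
theorem cl254 : Clo.{u} io C97 [0,1,2,3] 288 m96 M252 (mkB [(4,b253),(5,b247)]) := cl248.new (k := 6) (b := 4) (q := 21) (p := 45) (r := 200) (n := 21) (O := O251) (by decide +kernel) (lks := lk250) (by decide +kernel) (gens_of_lall2 (m := []) (by decide +kernel)) ix249 (by decide +kernel)
noncomputable def b255 : ℕ := (nat_lit 0x340e6084753efc9f3b7c3f59fe605fd78bd35f7bbfb6ff6edfebb5feff7dffffff)
noncomputable def b256 : ℕ := (nat_lit 0x340e6084753efc9f3b7c3f59fe605fd78bd35f7bbfb6ff6edfebb5feff7dffffff)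
theorem cl257 : Clo.{u} io C97 [0,1,2,3] 288 m96 M252 (mkB [(4,b255),(5,b256)]) := cl254.ops (os := [Op.inv 4,Op.rel 4 [] 5 [] [([],7)],Op.inv 4,Op.rel 5 [3] 5 [3,5,3,4,2] [([5,3,5,3,4,2,4],9)],Op.inv 5,Op.rel 4 [] 5 [] [([],7)],Op.inv 4,Op.rel 5 [0,2] 5 [1,2,5,0,4,2] [([5,1,2,5,0,4,2,4],11)],Op.inv 5,Op.rel 4 [] 5 [] [([],7)],Op.inv 4,Op.rel 5 [3] 5 [3,5,3,4,2] [([5,3,5,3,4,2,4],9)],Op.inv 5,Op.rel 4 [] 5 [] [([],7)],Op.inv 4,Op.rel 5 [0,2] 5 [1,2,5,0,4,2] [([5,1,2,5,0,4,2,4],11)],Op.inv 5,Op.rel 4 [] 5 [] [([],7)],Op.inv 4,Op.rel 5 [3] 5 [3,5,3,4,2] [([5,3,5,3,4,2,4],9)],Op.inv 5,Op.rel 4 [] 5 [] [([],7)],Op.inv 4,Op.rel 4 [3,0] 5 [0,4,2,4,3,1] [([5,0,4,2,4],11)],Op.inv 4,Op.rel 4 [] 5 [] [([],7)],Op.inv 4,Op.rel 5 [3] 5 [3,5,3,4,2] [([5,3,5,3,4,2,4],9)],Op.inv 5,Op.rel 4 [] 5 [] [([],7)],Op.inv 4]) (by decide +kernel) (by decide +kernel)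
theorem ix258 : Idx.{u} io C97 [0,1,2,3] [] 21 := (Idx.triv bd94 (by norm_num)).of_imp imp99
noncomputable def lk259 : List (List ℕ × List ℕ × Pf) := []
noncomputable def O260 : ℕ := (nat_lit 0x9f3a0201000000000004000000287020200000000000000040000000000000)
noncomputable def M261 : ℕ := (nat_lit 0xd8341fffbfff7fffbffffc3fdffff87ffffffffffffff7ffffdfffffffffffffffff)
noncomputable def b262 : ℕ := (nat_lit 0x340e6084753efc9f3b7c3f59fe605fd78bd35f7bbfb6ff6edfebb5feff7fffffff)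
theorem cl263 : Clo.{u} io C97 [0,1,2,3] 288 m96 M261 (mkB [(4,b262),(5,b256)]) := cl257.new (k := 6) (b := 4) (q := 25) (p := 54) (r := 200) (n := 21) (O := O260) (by decide +kernel) (lks := lk259) (by decide +kernel) (gens_of_lall2 (m := []) (by decide +kernel)) ix258 (by decide +kernel)
noncomputable def b264 : ℕ := (nat_lit 0x340fefb6773ffcbf7b7c3f5ffff07fffbbffff7fbfb6ff7edffffffeff7fffffff)
noncomputable def b265 : ℕ := (nat_lit 0x340fefb6773ffcbf7b7c3f5ffff07fffbbffff7fbfb6ff7edffffffeff7fffffff)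
theorem cl266 : Clo.{u} io C97 [0,1,2,3] 288 m96 M261 (mkB [(4,b264),(5,b265)]) := cl263.ops (os := [Op.inv 4,Op.rel 4 [] 5 [] [([],7)],Op.inv 4,Op.rel 5 [3] 5 [3,5,3,4,2] [([5,3,5,3,4,2,4],9)],Op.inv 5,Op.rel 4 [] 5 [] [([],7)],Op.inv 4,Op.rel 5 [0,2] 5 [1,2,5,0,4,2] [([5,1,2,5,0,4,2,4],11)],Op.inv 5,Op.rel 4 [] 5 [] [([],7)],Op.inv 4,Op.rel 5 [3] 5 [3,5,3,4,2] [([5,3,5,3,4,2,4],9)],Op.inv 5,Op.rel 4 [] 5 [] [([],7)],Op.inv 4,Op.rel 5 [0,2] 5 [1,2,5,0,4,2] [([5,1,2,5,0,4,2,4],11)],Op.inv 5,Op.rel 4 [] 5 [] [([],7)],Op.inv 4,Op.rel 5 [3] 5 [3,5,3,4,2] [([5,3,5,3,4,2,4],9)],Op.inv 5,Op.rel 4 [] 5 [] [([],7)],Op.inv 4,Op.rel 5 [0,2] 5 [1,2,5,0,4,2] [([5,1,2,5,0,4,2,4],11)],Op.inv 5,Op.rel 4 [] 5 [] [([],7)],Op.inv 4,Op.rel 5 [3] 5 [3,5,3,4,2] [([5,3,5,3,4,2,4],9)],Op.inv 5,Op.rel 4 [] 5 [] [([],7)],Op.inv 4,Op.rel 5 [3] 5 [3,5,3,4,2] [([5,3,5,3,4,2,4],9)],Op.inv 5,Op.rel 4 [] 5 [] [([],7)],Op.inv 4,Op.rel 5 [0,2] 5 [1,2,5,0,4,2]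 [([5,1,2,5,0,4,2,4],11)],Op.inv 5,Op.rel 4 [] 5 [] [([],7)],Op.inv 4,Op.rel 5 [3] 5 [3,5,3,4,2] [([5,3,5,3,4,2,4],9)],Op.inv 5,Op.rel 5 [0,2] 5 [1,2,5,0,4,2] [([5,1,2,5,0,4,2,4],11)],Op.inv 5,Op.rel 4 [] 5 [] [([],7)],Op.inv 4,Op.rel 4 [2] 5 [3,4,2,4,2] [([5,3,4,2,4],9)],Op.inv 4]) (by decide +kernel) (by decide +kernel)
theorem ix267 : Idx.{u} io C97 [0,1,2,3] [] 21 := (Idx.triv bd94 (by norm_num)).of_imp imp99
noncomputable def lk268 : List (List ℕ × List ℕ × Pf) := []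
noncomputable def O269 : ℕ := (nat_lit 0x40004c3e00000000000400003c020000780000000000000080000200000000000000000)
noncomputable def M270 : ℕ := (nat_lit 0x400dcf7ffffbfff7fffffffffffffffffffffffffffffffffffffffffffffffffffffff)
noncomputable def b271 : ℕ := (nat_lit 0x340fefb6773ffcbf7b7c3f5ffff07fffbbffff7fbfb6ff7edffffffeffffffffff)
theorem cl272 : Clo.{u} io C97 [0,1,2,3] 288 m96 M270 (mkB [(4,b271),(5,b265)]) := cl266.new (k := 6) (b := 4) (q := 31) (p := 69) (r := 200) (n := 21) (O := O269) (by decide +kernel) (lks := lk268) (by decide +kernel) (gens_of_lall2 (m := []) (by decide +kernel)) ix267 (by decide +kernel)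
noncomputable def b273 : ℕ := (nat_lit 0x8477efefb6f77ffeff7fffbf7ffff7fffffbffff7fffffffffffffffffffffffffff)
noncomputable def b274 : ℕ := (nat_lit 0x8477efefb6f77ffeff7fffbf7ffff7fffffbffff7fffffffffffffffffffffffffff)
theorem cl275 : Clo.{u} io C97 [0,1,2,3] 288 m96 M270 (mkB [(4,b273),(5,b274)]) := cl272.ops (os := [Op.inv 4,Op.rel 4 [] 5 [] [([],7)],Op.inv 4,Op.rel 5 [3] 5 [3,5,3,4,2] [([5,3,5,3,4,2,4],9)],Op.inv 5,Op.rel 4 [] 5 [] [([],7)],Op.inv 4,Op.rel 5 [0,2] 5 [1,2,5,0,4,2] [([5,1,2,5,0,4,2,4],11)],Op.inv 5,Op.rel 4 [] 5 [] [([],7)],Op.inv 4,Op.rel 5 [3] 5 [3,5,3,4,2] [([5,3,5,3,4,2,4],9)],Op.inv 5,Op.rel 4 [] 5 [] [([],7)],Op.inv 4,Op.rel 5 [0,2] 5 [1,2,5,0,4,2] [([5,1,2,5,0,4,2,4],11)],Op.inv 5,Op.rel 4 [] 5 [] [([],7)],Op.inv 4,Op.rel 5 [3] 5 [3,5,3,4,2] [([5,3,5,3,4,2,4],9)],Op.inv 5,Op.rel 4 [] 5 [] [([],7)],Op.inv 4,Op.rel 4 [3,0] 5 [0,4,2,4,3,1] [([5,0,4,2,4],11)],Op.inv 4,Op.rel 4 [] 5 [] [([],7)],Op.inv 4])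 (by decide +kernel) (by decide +kernel)
theorem ix276 : Idx.{u} io C97 [0,1,2,3] [] 21 := (Idx.triv bd94 (by norm_num)).of_imp imp99
noncomputable def lk277 : List (List ℕ × List ℕ × Pf) := []
noncomputable def O278 : ℕ := (nat_lit 0xfbff23080000400080000000000000000000000000000000000000000000000000000000)
noncomputable def M279 : ℕ := (nat_lit 0xffffffffffffffffffffffffffffffffffffffffffffffffffffffffffffffffffffffff)
noncomputable def b280 : ℕ := (nat_lit 0x8477efefb6f77ffeff7fffbf7ffff7fffffbffffffffffffffffffffffffffffffff)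
theorem cl281 : Clo.{u} io C97 [0,1,2,3] 288 m96 M279 (mkB [(4,b280),(5,b274)]) := cl275.new (k := 6) (b := 4) (q := 111) (p := 223) (r := 200) (n := 21) (O := O278) (by decide +kernel) (lks := lk277) (by decide +kernel) (gens_of_lall2 (m := []) (by decide +kernel)) ix276 (by decide +kernel)
noncomputable def b282 : ℕ := (nat_lit 0xffffffffffffffffffffffffffffffffffffffffffffffffffffffffffffffffffffffff)
noncomputable def b283 : ℕ := (nat_lit 0xffffffffffffffffffffffffffffffffffffffffffffffffffffffffffffffffffffffff)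
theorem cl284 : Clo.{u} io C97 [0,1,2,3] 288 m96 M279 (mkB [(4,b282),(5,b283)]) := cl281.ops (os := [Op.inv 4,Op.rel 4 [] 5 [] [([],7)],Op.inv 4,Op.rel 5 [3] 5 [3,5,3,4,2] [([5,3,5,3,4,2,4],9)],Op.inv 5,Op.rel 4 [] 5 [] [([],7)],Op.inv 4,Op.rel 5 [0,2] 5 [1,2,5,0,4,2] [([5,1,2,5,0,4,2,4],11)],Op.inv 5,Op.rel 4 [] 5 [] [([],7)],Op.inv 4,Op.rel 5 [3] 5 [3,5,3,4,2] [([5,3,5,3,4,2,4],9)],Op.inv 5,Op.rel 4 [] 5 [] [([],7)],Op.inv 4,Op.rel 5 [0,2] 5 [1,2,5,0,4,2] [([5,1,2,5,0,4,2,4],11)],Op.inv 5,Op.rel 4 [] 5 [] [([],7)],Op.inv 4,Op.rel 5 [3] 5 [3,5,3,4,2] [([5,3,5,3,4,2,4],9)],Op.inv 5,Op.rel 4 [] 5 [] [([],7)],Op.inv 4,Op.rel 5 [0,2] 5 [1,2,5,0,4,2] [([5,1,2,5,0,4,2,4],11)],Op.inv 5,Op.rel 4 [] 5 [] [([],7)],Op.inv 4]) (by decide +kernel) (by decide +kernel)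
theorem sat286 : Sat io C97 (finG m96ok) := m96s0.fin (k := 9) (by decide +kernel)
theorem bd285 : Bound.{u} io C97 [0,1,2,3,4,5] 6048 := cl284.bound (by decide +kernel) sat286 (bd94.of_imp imp99)
noncomputable def r9 : List ℕ := [6,6]
noncomputable def r10 : List ℕ := [6,2,6,2,6,2]
noncomputable def r11 : List ℕ := [7,0,2,5,2,6,5,3,1,5]
noncomputable def r12 : List ℕ := [7,5,0,2,4,6,3,5,3,1]
noncomputable def r13 : List ℕ := [7,0,0,5,1,1,6,1,1,1,5,1,3,5,0,5,0,5,2]
noncomputable def r14 : List ℕ := [7,1,7,2,1,1,6,0,6,1,1,1,2,5,0,5,1,5,2]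
noncomputable def m287n0 : Net := (Net.cons (nat_lit 128) (nat_lit 0x7ada2bcd252fa82012240d1424086f98)
  (Net.cons (nat_lit 64) (nat_lit 0x707f314535263525000000000000000026de2d552b856500)
  (Net.cons (nat_lit 32) (nat_lit 0x7a559eb8000000006529efc20000000037d1982400000000d54b408a)
  (Net.cons (nat_lit 16) (nat_lit 0x33da0000df1f0000305a000038960000ae370000828a0000177c00006440)
  (Net.cons (nat_lit 8) (nat_lit 0x2200be00f2007200c300a90004003800a0006800ce00cf008700c0007000fa)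
  (Net.cons (nat_lit 4) (nat_lit 0x40e080009020701090e0e0a0a0e0a010a0d070a0c0f040c0209010801080904)
  (Net.cons (nat_lit 2) (nat_lit 0x121302110233221112121331030303321323312023232321332002323100030)
  (Net.cons (nat_lit 1) (nat_lit 0x1500141044410141411145540104151111011411401404101140100041141154)
  (Net.cons (nat_lit 2) (nat_lit 0x2020200222222000020000000202020000202002000220200002000200)
  (Net.cons (nat_lit 4) (nat_lit 0x40c0c040204080404040808000e02000808020c0006060202020804040c0802)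
  (Net.cons (nat_lit 8) (nat_lit 0x20001000ea008c0090002c000a00a6002200a800080034009000e000a00050)
  (Net.cons (nat_lit 16) (nat_lit 0x32c0000b46c000028400000cc0000003f1a00002c140000ce300000a374)
  (Net.cons (nat_lit 32) (nat_lit 0x4add9ad600000000d6b360ae0000000091c54d88000000008c6a33d8)
  (Net.cons (nat_lit 64) (nat_lit 0x503510275c4b20c0000000000000000023da090a14427480)
  (Net.cons (nat_lit 128) (nat_lit 0x7ada58618803d980526086199c26d024)
  Net.nil)))))))))))))))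
noncomputable def m287n1 : Net := (Net.cons (nat_lit 128) (nat_lit 0xad547a652da636ec03efdae5bbaf814)
  (Net.cons (nat_lit 64) (nat_lit 0x1837c3909530a09b0000000000000000b525c4c318e93100)
  (Net.cons (nat_lit 32) (nat_lit 0xa8cc0d8800000000f955507c000000001bff841200000000bc732e14)
  (Net.cons (nat_lit 16) (nat_lit 0x3f500004ec50000891d0000637f00004fe0000065af0000e6a00000a8a0)
  (Net.cons (nat_lit 8) (nat_lit 0xb100c000b1006f008c000200e300eb000a0032009500a0007200de006e00b4)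
  (Net.cons (nat_lit 4) (nat_lit 0x30400090600000e0b0c070f0e050106000a020e00010a0700020e04050e0c06)
  (Net.cons (nat_lit 2) (nat_lit 0x2030321221133022301103332120203330021303200130031130303311021332)
  (Net.cons (nat_lit 1) (nat_lit 0x1101544114044114444045104414410441404140400440001451451041445440)
  (Net.cons (nat_lit 2) (nat_lit 0x2002000000022200000020200200220200000000200200002000000020200200)
  (Net.cons (nat_lit 4) (nat_lit 0x200080c000408020c08040a0c08080400040e0200020808000a02000c040e04)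
  (Net.cons (nat_lit 8) (nat_lit 0x8800b400e4004000d0009800400034000200f4001400a000c000a0001e00a0)
  (Net.cons (nat_lit 16) (nat_lit 0x21c2000010360000a0800000447000005b3a0000c582000016c800003050)
  (Net.cons (nat_lit 32) (nat_lit 0xb2d92c06000000007ed11a88000000000bf03c900000000061a33340)
  (Net.cons (nat_lit 64) (nat_lit 0x12e698327d2750240000000000000000402faa451c3687a8)
  (Net.cons (nat_lit 128) (nat_lit 0xad5152b6b1750fb93d2fbaaa49793e8)
  Net.nil)))))))))))))))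
noncomputable def m287n2 : Net := (Net.cons (nat_lit 128) (nat_lit 0xb28e209579b9dc84211227250183efe8)
  (Net.cons (nat_lit 64) (nat_lit 0xa74752bd753e6900000000000000005d81fb792cb5b66e)
  (Net.cons (nat_lit 32) (nat_lit 0xab01f1a000000008434668f00000000c2d612a000000000c1a72c0a)
  (Net.cons (nat_lit 16) (nat_lit 0x780f000026b50000c1480000318e000094c7000069000000982a00006ce0)
  (Net.cons (nat_lit 8) (nat_lit 0x60000c0076004500e800d1009b0006001e002000a80051001000b300a800e2)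
  (Net.cons (nat_lit 4) (nat_lit 0x804090808090506070600090e000c020c08090c08060f0a06070b080c020804)
  (Net.cons (nat_lit 2) (nat_lit 0x230212113321100010200321213200000231112100102200033032002010210)
  (Net.cons (nat_lit 1) (nat_lit 0x1005015414011404541414145100144504045451140144144104404145441444)
  (Net.cons (nat_lit 2) (nat_lit 0x200022002022202020000222000000000000002222002002220202220)
  (Net.cons (nat_lit 4) (nat_lit 0x204080c0c080c000802080c0e080c080804000e0c06080c0a040c020c080802)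
  (Net.cons (nat_lit 8) (nat_lit 0x40003e00b0008200a000cc00000098000c008200c000da00a400d8008200e0)
  (Net.cons (nat_lit 16) (nat_lit 0x722a0000b3580000e5ec0000901c0000ca46000040880000741a000032ec)
  (Net.cons (nat_lit 32) (nat_lit 0x8814550400000000b2ae7b9200000000d77609000000000000a40008)
  (Net.cons (nat_lit 64) (nat_lit 0x10af1e21bfa7433800000000000000005d80e9c99238caac)
  (Net.cons (nat_lit 128) (nat_lit 0xb28e21c22911fa016434d487818ae95c)
  Net.nil)))))))))))))))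
noncomputable def m287n3 : Net := (Net.cons (nat_lit 128) (nat_lit 0xb28e21c22911fa016434d487818ae95c)
  (Net.cons (nat_lit 64) (nat_lit 0xef10e1dc4058bcc700000000000000009d7f5a80ce2566ca)
  (Net.cons (nat_lit 32) (nat_lit 0x4d51846d000000008814550400000000f728a54a0000000024e40b60)
  (Net.cons (nat_lit 16) (nat_lit 0x889c0000e5ec00008dd500000587000053bd0000cc8a0000373a00007314)
  (Net.cons (nat_lit 8) (nat_lit 0xff009800a00031003e0040007f00b00091008e00e00009007c002e00960090)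
  (Net.cons (nat_lit 4) (nat_lit 0x8060c0903020108070c02040c010e070c0a0e0d080406030e0b02020d0a0004)
  (Net.cons (nat_lit 2) (nat_lit 0x1320222010222302321102302033132322210232200330123013002201020322)
  (Net.cons (nat_lit 1) (nat_lit 0x41145515144414405110054014411051415414140044041014414101454504)
  (Net.cons (nat_lit 2) (nat_lit 0x2200020022000200200000002222000220200000002002022000202000002)
  (Net.cons (nat_lit 4) (nat_lit 0xc0c000006020006080804080604060808080a08080e060c06020c0a060a04)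
  (Net.cons (nat_lit 8) (nat_lit 0x66000400e8002a000c006000f80076008c00b80060008e005e000e003c0082)
  (Net.cons (nat_lit 16) (nat_lit 0x339c0000c148000087f00000d10c0000ebe40000118000007dba0000a616)
  (Net.cons (nat_lit 32) (nat_lit 0x7bcb9970000000000ab01f1a00000000220e48100000000049e50b22)
  (Net.cons (nat_lit 64) (nat_lit 0xff18b8ac428ac19600000000000000009d7fb582462d821c)
  (Net.cons (nat_lit 128) (nat_lit 0xb28e209579b9dc84211227250183efe8)
  Net.nil)))))))))))))))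
noncomputable def m287n4 : Net := (Net.cons (nat_lit 128) (nat_lit 0x641087f9af552016d802a00004004018)
  (Net.cons (nat_lit 64) (nat_lit 0xb529c1d40b952884000000000000000080ae2b158d0d2080)
  (Net.cons (nat_lit 32) (nat_lit 0x9485820c00000000840c940c0000000000e1830c00000000c1ca3800)
  (Net.cons (nat_lit 16) (nat_lit 0x15d8000072a00000991c00004c300000dd240000792400000ec8000078a0)
  (Net.cons (nat_lit 8) (nat_lit 0xa000540086001800d200a800e400400054002a0000008100400064003c000c)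
  (Net.cons (nat_lit 4) (nat_lit 0x40109060a0c0e00090c080a0c0208090407000406080a040f04040205000a04)
  (Net.cons (nat_lit 2) (nat_lit 0x2113020300300003201002330210332202230010202200221212030000230002)
  (Net.cons (nat_lit 1) (nat_lit 0x4041041040510000110404001401501141111041114410405504454100404104)
  (Net.cons (nat_lit 2) (nat_lit 0x2002020000000000020002000200002202222020202200200002000000200002)
  (Net.cons (nat_lit 4) (nat_lit 0x40c0006080c0000020400000402080000080004020002040004040200000204)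
  (Net.cons (nat_lit 8) (nat_lit 0xa000540006000800d200a800e00040009000920000008000400064003c0008)
  (Net.cons (nat_lit 16) (nat_lit 0x1558000072a00000991c00004c300000cda00000792400000ec000006800)
  (Net.cons (nat_lit 32) (nat_lit 0x9485820c00000000840c940c0000000000e1830c00000000c1ca3800)
  (Net.cons (nat_lit 64) (nat_lit 0xb529c1d40a952884000000000000000080ae2b158d0d2080)
  (Net.cons (nat_lit 128) (nat_lit 0x641087f9af5520169802a0000400c010)
  Net.nil)))))))))))))))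
noncomputable def m287n5 : Net := (Net.cons (nat_lit 128) (nat_lit 0x641087f9af552016d802a00004004018)
  (Net.cons (nat_lit 64) (nat_lit 0xb529c1d40b952884000000000000000080ae2b158d0d2080)
  (Net.cons (nat_lit 32) (nat_lit 0x9485820c00000000840c940c0000000000e1830c00000000c1ca3800)
  (Net.cons (nat_lit 16) (nat_lit 0x15d8000072a00000991c00004c300000dd240000792400000ec8000078a0)
  (Net.cons (nat_lit 8) (nat_lit 0xa000540086001800d200a800e400400054002a0000008100400064003c000c)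
  (Net.cons (nat_lit 4) (nat_lit 0x40109060a0c0e00090c080a0c0208090407000406080a040f04040205000a04)
  (Net.cons (nat_lit 2) (nat_lit 0x2113020300300003201002330210332202230010202200221212030000230002)
  (Net.cons (nat_lit 1) (nat_lit 0x4041041040510000110404001401501141111041114410405504454100404104)
  (Net.cons (nat_lit 2) (nat_lit 0x2002020000000000020002000200002202222020202200200002000000200002)
  (Net.cons (nat_lit 4) (nat_lit 0x40c0006080c0000020400000402080000080004020002040004040200000204)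
  (Net.cons (nat_lit 8) (nat_lit 0xa000540006000800d200a800e00040009000920000008000400064003c0008)
  (Net.cons (nat_lit 16) (nat_lit 0x1558000072a00000991c00004c300000cda00000792400000ec000006800)
  (Net.cons (nat_lit 32) (nat_lit 0x9485820c00000000840c940c0000000000e1830c00000000c1ca3800)
  (Net.cons (nat_lit 64) (nat_lit 0xb529c1d40a952884000000000000000080ae2b158d0d2080)
  (Net.cons (nat_lit 128) (nat_lit 0x641087f9af5520169802a0000400c010)
  Net.nil)))))))))))))))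
noncomputable def m287n6 : Net := (Net.cons (nat_lit 128) (nat_lit 0x524e1e102e005ad405000000e462000)
  (Net.cons (nat_lit 64) (nat_lit 0x56659e5878c4f80000000000000000015d2248827466000)
  (Net.cons (nat_lit 32) (nat_lit 0x7042900000000000e319493000000000d8100400000000003686a804)
  (Net.cons (nat_lit 16) (nat_lit 0x99e00000406c00008508000083a000009b0c0000a23200005b7c0000c848)
  (Net.cons (nat_lit 8) (nat_lit 0xe6005000da00ba0026004c00e00000000a00b000b200b2009800fc00200034)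
  (Net.cons (nat_lit 4) (nat_lit 0xd00020b0d08040c0008080f0e060c0e0d080c0e08000f08000d08020a000808)
  (Net.cons (nat_lit 2) (nat_lit 0x2120000002233200012220131002032033112023301320221102020200020220)
  (Net.cons (nat_lit 1) (nat_lit 0x1540014040450001100414410151054151404110451500010044100150015041)
  (Net.cons (nat_lit 2) (nat_lit 0x200000000220020002002002002020200000020002000200020020)
  (Net.cons (nat_lit 4) (nat_lit 0x60002080c0804000008080006060c060408040e0800080a000c08000a000800)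
  (Net.cons (nat_lit 8) (nat_lit 0x2005000da00ba0026004c00a00000005000b000c20098001800b800000030)
  (Net.cons (nat_lit 16) (nat_lit 0x99e00000406c00008508000083a000009b0c0000a23200005b7400008048)
  (Net.cons (nat_lit 32) (nat_lit 0x7042900000000000e319493000000000d81004000000000036862804)
  (Net.cons (nat_lit 64) (nat_lit 0x56659e5878c4f8000000000000000001552248827466000)
  (Net.cons (nat_lit 128) (nat_lit 0x524e1e102e005ad405000000e462000)
  Net.nil)))))))))))))))
noncomputable def m287n7 : Net := (Net.cons (nat_lit 128) (nat_lit 0x524e1e102e005ad405000000e462000)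
  (Net.cons (nat_lit 64) (nat_lit 0x56659e5878c4f80000000000000000015d2248827466000)
  (Net.cons (nat_lit 32) (nat_lit 0x7042900000000000e319493000000000d8100400000000003686a804)
  (Net.cons (nat_lit 16) (nat_lit 0x99e00000406c00008508000083a000009b0c0000a23200005b7c0000c848)
  (Net.cons (nat_lit 8) (nat_lit 0xe6005000da00ba0026004c00e00000000a00b000b200b2009800fc00200034)
  (Net.cons (nat_lit 4) (nat_lit 0xd00020b0d08040c0008080f0e060c0e0d080c0e08000f08000d08020a000808)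
  (Net.cons (nat_lit 2) (nat_lit 0x2120000002233200012220131002032033112023301320221102020200020220)
  (Net.cons (nat_lit 1) (nat_lit 0x1540014040450001100414410151054151404110451500010044100150015041)
  (Net.cons (nat_lit 2) (nat_lit 0x200000000220020002002002002020200000020002000200020020)
  (Net.cons (nat_lit 4) (nat_lit 0x60002080c0804000008080006060c060408040e0800080a000c08000a000800)
  (Net.cons (nat_lit 8) (nat_lit 0x2005000da00ba0026004c00a00000005000b000c20098001800b800000030)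
  (Net.cons (nat_lit 16) (nat_lit 0x99e00000406c00008508000083a000009b0c0000a23200005b7400008048)
  (Net.cons (nat_lit 32) (nat_lit 0x7042900000000000e319493000000000d81004000000000036862804)
  (Net.cons (nat_lit 64) (nat_lit 0x56659e5878c4f8000000000000000001552248827466000)
  (Net.cons (nat_lit 128) (nat_lit 0x524e1e102e005ad405000000e462000)
  Net.nil)))))))))))))))
noncomputable def m287l : List Net := [m287n0,m287n1,m287n2,m287n3,m287n4,m287n5,m287n6,m287n7]
noncomputable abbrev m287 : ℕ → Net := lk Net.nil m287l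
theorem m287ok : NetsOk 240 m287 vT := netsOk_of (by decide +kernel)
theorem m287s0 : Sat io [] (finG m287ok) := fin_sat_nil _ (k := 8) (n := 16) (by decide +kernel)
noncomputable def C288 : List (List ℕ) := [r0,r1,r2,r3,r4,r5,r6,r7,r8,r9,r10,r11,r12,r13,r14]
theorem cl289 : Clo.{u} io C288 [0,1,2,3,4,5] 240 m287 1 (mkB []) := Clo.start (by decide +kernel)
theorem imp290 : Imp.{u} io C288 C97 := Imp.of_chk (pfs := [[([],1)],[([],3)],[([],5)],[([],7)],[([],9)],[([],11)],[([],13)],[([],15)],[([],17)]]) (by decide +kernel)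
theorem der292 : Der 56 (finX 56) (cl (finG m2ok) [[0,2,5,2],[5,0,2,4],[0,0,5,1,1]]) (fun _ => Net.nil) := Der.zero (finModel m2ok).inj
noncomputable def x293 : Net := (Net.cons (nat_lit 32) (nat_lit 0x1cd41d22)
  (Net.cons (nat_lit 16) (nat_lit 0x466f00000b3e)
  (Net.cons (nat_lit 8) (nat_lit 0x3e000400730057)
  (Net.cons (nat_lit 4) (nat_lit 0xa0a0a0102000e07)
  (Net.cons (nat_lit 2) (nat_lit 0x2001000222031021)
  (Net.cons (nat_lit 1) (nat_lit 0x5010014151441144)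
  (Net.cons (nat_lit 2) (nat_lit 0x20020000000200)
  (Net.cons (nat_lit 4) (nat_lit 0x80a0a0a08000c0c)
  (Net.cons (nat_lit 8) (nat_lit 0x2400a0007800a2)
  (Net.cons (nat_lit 16) (nat_lit 0x563a000049aa)
  (Net.cons (nat_lit 32) (nat_lit 0x1ccc31d2)
  Net.nil)))))))))))
noncomputable def ns294 : ℕ → Net := upd (fun _ => Net.nil) 0 x293
theorem der295 : Der 56 (finX 56) (cl (finG m2ok) [[0,2,5,2],[5,0,2,4],[0,0,5,1,1]]) ns294 := der292.add (wp_mem_cl (w := [0,2,5,2]) (by decide)) ((finModel m2ok).toIsPre.rep_word (k := 6) (w := [0,2,5,2]) (n := x293) (by decide +kernel)) 0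
noncomputable def x296 : Net := (Net.cons (nat_lit 32) (nat_lit 0x7fbcaed7)
  (Net.cons (nat_lit 16) (nat_lit 0x56e30000237b)
  (Net.cons (nat_lit 8) (nat_lit 0x51003f00d30064)
  (Net.cons (nat_lit 4) (nat_lit 0x70c0a080c0a0406)
  (Net.cons (nat_lit 2) (nat_lit 0x3003221002222001)
  (Net.cons (nat_lit 1) (nat_lit 0x4040144114014444)
  (Net.cons (nat_lit 2) (nat_lit 0x2020000000022020)
  (Net.cons (nat_lit 4) (nat_lit 0x40202000c080002)
  (Net.cons (nat_lit 8) (nat_lit 0x7e004200d200a8)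
  (Net.cons (nat_lit 16) (nat_lit 0x3ec0000023a8)
  (Net.cons (nat_lit 32) (nat_lit 0x7fd32790)
  Net.nil)))))))))))
noncomputable def ns297 : ℕ → Net := upd ns294 1 x296
theorem der298 : Der 56 (finX 56) (cl (finG m2ok) [[0,2,5,2],[5,0,2,4],[0,0,5,1,1]]) ns297 := der295.add (wp_mem_cl (w := [5,0,2,4]) (by decide)) ((finModel m2ok).toIsPre.rep_word (k := 6) (w := [5,0,2,4]) (n := x296) (by decide +kernel)) 1
noncomputable def x299 : Net := (Net.cons (nat_lit 32) (nat_lit 0x2bc10822)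
  (Net.cons (nat_lit 16) (nat_lit 0xc32200007664)
  (Net.cons (nat_lit 8) (nat_lit 0x92001a00e800a8)
  (Net.cons (nat_lit 4) (nat_lit 0x4000904060d0c)
  (Net.cons (nat_lit 2) (nat_lit 0x3220022002202010)
  (Net.cons (nat_lit 1) (nat_lit 0x5100014450410401)
  (Net.cons (nat_lit 2) (nat_lit 0x200022000200000)
  (Net.cons (nat_lit 4) (nat_lit 0x800060804)
  (Net.cons (nat_lit 8) (nat_lit 0x90001800a800e8)
  (Net.cons (nat_lit 16) (nat_lit 0xc120000032a4)
  (Net.cons (nat_lit 32) (nat_lit 0x2bc10822)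
  Net.nil)))))))))))
noncomputable def ns300 : ℕ → Net := upd ns297 2 x299
theorem der301 : Der 56 (finX 56) (cl (finG m2ok) [[0,2,5,2],[5,0,2,4],[0,0,5,1,1]]) ns300 := der298.add (wp_mem_cl (w := [0,0,5,1,1]) (by decide)) ((finModel m2ok).toIsPre.rep_word (k := 6) (w := [0,0,5,1,1]) (n := x299) (by decide +kernel)) 2
noncomputable def x302 : Net := (Net.cons (nat_lit 32) (nat_lit 0xddd838bc)
  (Net.cons (nat_lit 16) (nat_lit 0x686100005a1a)
  (Net.cons (nat_lit 8) (nat_lit 0x9300d7005800b2)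
  (Net.cons (nat_lit 4) (nat_lit 0x4010d080806010a)
  (Net.cons (nat_lit 2) (nat_lit 0x2230030120132102)
  (Net.cons (nat_lit 1) (nat_lit 0x440014000510000)
  (Net.cons (nat_lit 4) (nat_lit 0xc08080c0000)
  (Net.cons (nat_lit 8) (nat_lit 0x820082005200b0)
  (Net.cons (nat_lit 16) (nat_lit 0x613000007a00)
  (Net.cons (nat_lit 32) (nat_lit 0xddfa501c)
  Net.nil))))))))))
noncomputable def x302s : ℕ → Net := upd ns300 3 x302
theorem der303 : Der 56 (finX 56) (cl (finG m2ok) [[0,2,5,2],[5,0,2,4],[0,0,5,1,1]]) x302s := der301.ext (k := 6) (w := [2,0,1,2,0,2,0,2,0,0]) 3 (by decide +kernel)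
noncomputable def L304 : Lev := Lev.cons 1 4 [[3]] Lev.nil
noncomputable def L305 : Lev := Lev.cons 0 24 [[0],[1],[2]] L304
theorem lc306 : Lev.chk 56 3 x302s vT 100 L305 = true := by decide +kernel
theorem lb307 : 96 ≤ Nat.card (cl (finG m2ok) [[0,2,5,2],[5,0,2,4],[0,0,5,1,1]]) := le_of_eq_of_le (by decide +kernel) (der303.card_ge lc306)
theorem sat308 : Sat io C97 (finG m2ok) := m2s0.fin (k := 6) (by decide +kernel)
theorem ix291 : Idx.{u} io C288 [0,1,2,3,4,5] [[0,2,5,2],[5,0,2,4],[0,0,5,1,1]] 63 := (Idx.of bd285 sat308 (by decide +kernel) lb307 (by decide +kernel)).of_imp imp290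
noncomputable def lk309 : List (List ℕ × List ℕ × Pf) := [([0,2,5,2],[4,0,2,4],[([6],23)]),([5,0,2,4],[0,2,4,2],[([6],25)]),([0,0,5,1,1],[3,4,1,4,1,4,2,0,4,0,0,0],[([6],27)])]
noncomputable def O310 : ℕ := (nat_lit 0x20000000000201000d680000500007791fa07b837ffef7fe)
noncomputable def M311 : ℕ := (nat_lit 0x20000000000201000d680000500007791fa07b837ffef7ff)
noncomputable def b312 : ℕ := (nat_lit 1)
theorem cl313 : Clo.{u} io C288 [0,1,2,3,4,5] 240 m287 M311 (mkB [(6,b312)]) := cl289.new (k := 5) (b := 6) (q := 0) (p := 1) (r := 200) (n := 63) (O := O310) (by decide +kernel) (lks := lk309) (by decide +kernel) (gens_of_lall2 (m := [[0],[1],[2]]) (by decide +kernel)) ix291 (by decide +kernel)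
noncomputable def b314 : ℕ := (nat_lit 0x2000000000000100080800001000044808000a01541831f3)
noncomputable def b315 : ℕ := (nat_lit 0x2000000000000100080800001000044808000a01541831f3)
theorem cl316 : Clo.{u} io C288 [0,1,2,3,4,5] 240 m287 M311 (mkB [(6,b314),(7,b315)]) := cl313.ops (os := [Op.inv 6,Op.rel 6 [] 7 [] [([],19)],Op.inv 6,Op.rel 6 [2] 7 [3,7,3] [([7],21)],Op.ext 6 4 [([0,2,5,2],[4,0,2,4],[([6],23)]),([3,4,3,1],[5,3,1,5],[([6,5,3,1,5],22)]),([5,0,2,4],[0,2,4,2],[([6],25)]),([5,3,1,4],[3,5,3,1],[([6,3,5,3,1],24)]),([0,0,5,1,1],[3,4,1,4,1,4,2,0,4,0,0,0],[([6],27)]),([0,0,4,1,1],[1,1,1,5,1,3,5,0,5,0,5,2],[([6,1,1,1,5,1,3,5,0,5,0,5,2],26)])],Op.inv 6]) (by decide +kernel) (by decide +kernel)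
theorem der318 : Der 56 (finX 56) (cl (finG m2ok) [[0,0,4,1,1,3,4,3,1,5,3,1,4,0,0,5,1,2,5,2],[3,4,3,1,5,3,1,4,3,4,3,1],[3,4,3,0,4,1,1,2,5,1,2,5,2]]) (fun _ => Net.nil) := Der.zero (finModel m2ok).inj
noncomputable def x319 : Net := (Net.cons (nat_lit 32) (nat_lit 0xdb658f5c)
  (Net.cons (nat_lit 16) (nat_lit 0xae270000760c)
  (Net.cons (nat_lit 8) (nat_lit 0x20000a004400fc)
  (Net.cons (nat_lit 4) (nat_lit 0x30005020405080c)
  (Net.cons (nat_lit 2) (nat_lit 0x2313211002221202)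
  (Net.cons (nat_lit 1) (nat_lit 0x4454141414114141)
  (Net.cons (nat_lit 2) (nat_lit 0x200202202222222)
  (Net.cons (nat_lit 4) (nat_lit 0xa04040a0400000e)
  (Net.cons (nat_lit 8) (nat_lit 0x180050004400f4)
  (Net.cons (nat_lit 16) (nat_lit 0xe4b80000720a)
  (Net.cons (nat_lit 32) (nat_lit 0xdb4feeac)
  Net.nil)))))))))))
noncomputable def ns320 : ℕ → Net := upd (fun _ => Net.nil) 0 x319
theorem der321 : Der 56 (finX 56) (cl (finG m2ok) [[0,0,4,1,1,3,4,3,1,5,3,1,4,0,0,5,1,2,5,2],[3,4,3,1,5,3,1,4,3,4,3,1],[3,4,3,0,4,1,1,2,5,1,2,5,2]]) ns320 := der318.add (wp_mem_cl (w := [0,0,4,1,1,3,4,3,1,5,3,1,4,0,0,5,1,2,5,2]) (by decide)) ((finModel m2ok).toIsPre.rep_word (k := 6) (w := [0,0,4,1,1,3,4,3,1,5,3,1,4,0,0,5,1,2,5,2]) (n := x319) (by decide +kernel)) 0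
noncomputable def x322 : Net := (Net.cons (nat_lit 32) (nat_lit 0xbc538a20)
  (Net.cons (nat_lit 16) (nat_lit 0xa58c00007328)
  (Net.cons (nat_lit 8) (nat_lit 0xd400c8007200ca)
  (Net.cons (nat_lit 4) (nat_lit 0x8000604020c0c)
  (Net.cons (nat_lit 2) (nat_lit 0x223022102300002)
  (Net.cons (nat_lit 1) (nat_lit 0x5110141014514441)
  (Net.cons (nat_lit 2) (nat_lit 0x220022002000002)
  (Net.cons (nat_lit 4) (nat_lit 0x800040402000c)
  (Net.cons (nat_lit 8) (nat_lit 0xd400c0003000c8)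
  (Net.cons (nat_lit 16) (nat_lit 0xa58800007228)
  (Net.cons (nat_lit 32) (nat_lit 0xbc538a20)
  Net.nil)))))))))))
noncomputable def ns323 : ℕ → Net := upd ns320 1 x322
theorem der324 : Der 56 (finX 56) (cl (finG m2ok) [[0,0,4,1,1,3,4,3,1,5,3,1,4,0,0,5,1,2,5,2],[3,4,3,1,5,3,1,4,3,4,3,1],[3,4,3,0,4,1,1,2,5,1,2,5,2]]) ns323 := der321.add (wp_mem_cl (w := [3,4,3,1,5,3,1,4,3,4,3,1]) (by decide)) ((finModel m2ok).toIsPre.rep_word (k := 6) (w := [3,4,3,1,5,3,1,4,3,4,3,1]) (n := x322) (by decide +kernel)) 1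
noncomputable def x325 : Net := (Net.cons (nat_lit 32) (nat_lit 0x237e8fa6)
  (Net.cons (nat_lit 16) (nat_lit 0x424b00004412)
  (Net.cons (nat_lit 8) (nat_lit 0x2b001100900048)
  (Net.cons (nat_lit 4) (nat_lit 0x6000b0e0402040f)
  (Net.cons (nat_lit 2) (nat_lit 0x111012030030031)
  (Net.cons (nat_lit 1) (nat_lit 0x441101410445141)
  (Net.cons (nat_lit 2) (nat_lit 0x220202220000202)
  (Net.cons (nat_lit 4) (nat_lit 0x4060a0c080c0c08)
  (Net.cons (nat_lit 8) (nat_lit 0x28000800980008)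
  (Net.cons (nat_lit 16) (nat_lit 0x424000000092)
  (Net.cons (nat_lit 32) (nat_lit 0x2314e86a)
  Net.nil)))))))))))
noncomputable def ns326 : ℕ → Net := upd ns323 2 x325
theorem der327 : Der 56 (finX 56) (cl (finG m2ok) [[0,0,4,1,1,3,4,3,1,5,3,1,4,0,0,5,1,2,5,2],[3,4,3,1,5,3,1,4,3,4,3,1],[3,4,3,0,4,1,1,2,5,1,2,5,2]]) ns326 := der324.add (wp_mem_cl (w := [3,4,3,0,4,1,1,2,5,1,2,5,2]) (by decide)) ((finModel m2ok).toIsPre.rep_word (k := 6) (w := [3,4,3,0,4,1,1,2,5,1,2,5,2]) (n := x325) (by decide +kernel)) 2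
noncomputable def x328 : Net := (Net.cons (nat_lit 32) (nat_lit 0xddd838bc)
  (Net.cons (nat_lit 16) (nat_lit 0x686100005a1a)
  (Net.cons (nat_lit 8) (nat_lit 0x9300d7005800b2)
  (Net.cons (nat_lit 4) (nat_lit 0x4010d080806010a)
  (Net.cons (nat_lit 2) (nat_lit 0x2230030120132102)
  (Net.cons (nat_lit 1) (nat_lit 0x440014000510000)
  (Net.cons (nat_lit 4) (nat_lit 0xc08080c0000)
  (Net.cons (nat_lit 8) (nat_lit 0x820082005200b0)
  (Net.cons (nat_lit 16) (nat_lit 0x613000007a00)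
  (Net.cons (nat_lit 32) (nat_lit 0xddfa501c)
  Net.nil))))))))))
noncomputable def x328s : ℕ → Net := upd ns326 3 x328
theorem der329 : Der 56 (finX 56) (cl (finG m2ok) [[0,0,4,1,1,3,4,3,1,5,3,1,4,0,0,5,1,2,5,2],[3,4,3,1,5,3,1,4,3,4,3,1],[3,4,3,0,4,1,1,2,5,1,2,5,2]]) x328s := der327.ext (k := 6) (w := [0,2,0,1,2,1,0,2,0]) 3 (by decide +kernel)
noncomputable def L330 : Lev := Lev.cons 1 4 [[3]] Lev.nil
noncomputable def L331 : Lev := Lev.cons 0 24 [[0],[1],[2]] L330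
theorem lc332 : Lev.chk 56 3 x328s vT 100 L331 = true := by decide +kernel
theorem lb333 : 96 ≤ Nat.card (cl (finG m2ok) [[0,0,4,1,1,3,4,3,1,5,3,1,4,0,0,5,1,2,5,2],[3,4,3,1,5,3,1,4,3,4,3,1],[3,4,3,0,4,1,1,2,5,1,2,5,2]]) := le_of_eq_of_le (by decide +kernel) (der329.card_ge lc332)
theorem ix317 : Idx.{u} io C288 [0,1,2,3,4,5] [[0,0,4,1,1,3,4,3,1,5,3,1,4,0,0,5,1,2,5,2],[3,4,3,1,5,3,1,4,3,4,3,1],[3,4,3,0,4,1,1,2,5,1,2,5,2]] 63 := (Idx.of bd285 sat308 (by decide +kernel) lb333 (by decide +kernel)).of_imp imp290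
noncomputable def lk334 : List (List ℕ × List ℕ × Pf) := [([0,0,4,1,1],[1,1,1,5,1,3,5,0,5,0,5,2],[([6,1,1,1,5,1,3,5,0,5,0,5,2],26)]),([3,4,3,1],[5,3,1,5],[([6,5,3,1,5],22)]),([5,3,1,4],[3,5,3,1],[([6,3,5,3,1],24)]),([0,0,5,1,1],[3,4,1,4,1,4,2,0,4,0,0,0],[([6],27)]),([0,2,5,2],[4,0,2,4],[([6],23)]),([2,1,1],[0,6,3,4,0,4,1,4,3,0,0,0,7,1],[([6,0,6],29)])]
noncomputable def O335 : ℕ := (nat_lit 0x7b7ef783dfe31f07c40c0800200f0210020f001000004000800000000000)
noncomputable def M336 : ℕ := (nat_lit 0x7b7ef783dfe33f07c40c0802210f0f78020f501007795fa0fb837ffef7ff)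
noncomputable def b337 : ℕ := (nat_lit 0x2000000000000100080800001000044808000a015418b1f3)
theorem cl338 : Clo.{u} io C288 [0,1,2,3,4,5] 240 m287 M336 (mkB [(6,b337),(7,b315)]) := cl316.new (k := 5) (b := 6) (q := 15) (p := 47) (r := 200) (n := 63) (O := O335) (by decide +kernel) (lks := lk334) (by decide +kernel) (gens_of_lall2 (m := [[0,1,2,3,4],[1,2,1],[1,0,5,3,4]]) (by decide +kernel)) ix317 (by decide +kernel)
noncomputable def b339 : ℕ := (nat_lit 0x4a3c81004ec03c04c004000021060a3800021000045849208a015458b1f3)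
noncomputable def b340 : ℕ := (nat_lit 0x4a3c81004ec03c04c004000021060a3800021000045849208a015458b1f3)
theorem cl341 : Clo.{u} io C288 [0,1,2,3,4,5] 240 m287 M336 (mkB [(6,b339),(7,b340)]) := cl338.ops (os := [Op.ext 6 3 [([0,2,5,2],[4,0,2,4],[([6],23)]),([3,4,3,1],[5,3,1,5],[([6,5,3,1,5],22)]),([5,0,2,4],[0,2,4,2],[([6],25)]),([5,3,1,4],[3,5,3,1],[([6,3,5,3,1],24)]),([0,0,5,1,1],[3,4,1,4,1,4,2,0,4,0,0,0],[([6],27)]),([0,0,4,1,1],[1,1,1,5,1,3,5,0,5,0,5,2],[([6,1,1,1,5,1,3,5,0,5,0,5,2],26)])],Op.inv 6,Op.rel 6 [] 7 [] [([],19)],Op.inv 6,Op.rel 6 [2] 7 [3,7,3] [([7],21)],Op.ext 6 4 [([0,2,5,2],[4,0,2,4],[([6],23)]),([3,4,3,1],[5,3,1,5],[([6,5,3,1,5],22)]),([5,0,2,4],[0,2,4,2],[([6],25)]),([5,3,1,4],[3,5,3,1],[([6,3,5,3,1],24)]),([0,0,5,1,1],[3,4,1,4,1,4,2,0,4,0,0,0],[([6],27)]),([0,0,4,1,1],[1,1,1,5,1,3,5,0,5,0,5,2],[([6,1,1,1,5,1,3,5,0,5,0,5,2],26)])],Op.inv 6]) (by decide +kernel) (by decide +kernel)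
theorem der343 : Der 56 (finX 56) (cl (finG m2ok) [[2,1,1],[0,2,5,2,5,0,2,4,0,0,3,5,0,2,4,0,2,5,2,0,0,4,1,1,3,4,3,1,5,3,1,4,2,1,1,5,3,1,4,3,4,3,1],[0,0,4,3,3,4,3,0,3,0,0,4,1,2,5,2,0,2,5,2,0,0,3,0,2,5,2,0,0,5,1,1,2,5,1,1],[0,0,4,3,3,4,3,0,3,5,0,2,4,0,0,4,1,1,5,3,1,4,0,0,5,1,1,5,0,2,4,0,0,5,1,1,5,3,1,4,2,1,2,5,2,2,5,1,1]]) (fun _ => Net.nil) := Der.zero (finModel m2ok).inj
noncomputable def x344 : Net := (Net.cons (nat_lit 32) (nat_lit 0x39a8c6a)
  (Net.cons (nat_lit 16) (nat_lit 0x64fe00009486)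
  (Net.cons (nat_lit 8) (nat_lit 0x32007000c800fe)
  (Net.cons (nat_lit 4) (nat_lit 0x5000f0e04030d07)
  (Net.cons (nat_lit 2) (nat_lit 0x1201211010323210)
  (Net.cons (nat_lit 1) (nat_lit 0x441111050051444)
  (Net.cons (nat_lit 2) (nat_lit 0x220022000002220)
  (Net.cons (nat_lit 4) (nat_lit 0x408040e08040000)
  (Net.cons (nat_lit 8) (nat_lit 0x7200f0002800a0)
  (Net.cons (nat_lit 16) (nat_lit 0x64d60000e494)
  (Net.cons (nat_lit 32) (nat_lit 0x392bce0)
  Net.nil)))))))))))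
noncomputable def ns345 : ℕ → Net := upd (fun _ => Net.nil) 0 x344
theorem der346 : Der 56 (finX 56) (cl (finG m2ok) [[2,1,1],[0,2,5,2,5,0,2,4,0,0,3,5,0,2,4,0,2,5,2,0,0,4,1,1,3,4,3,1,5,3,1,4,2,1,1,5,3,1,4,3,4,3,1],[0,0,4,3,3,4,3,0,3,0,0,4,1,2,5,2,0,2,5,2,0,0,3,0,2,5,2,0,0,5,1,1,2,5,1,1],[0,0,4,3,3,4,3,0,3,5,0,2,4,0,0,4,1,1,5,3,1,4,0,0,5,1,1,5,0,2,4,0,0,5,1,1,5,3,1,4,2,1,2,5,2,2,5,1,1]]) ns345 := der343.add (wp_mem_cl (w := [2,1,1]) (by decide)) ((finModel m2ok).toIsPre.rep_word (k := 6) (w := [2,1,1]) (n := x344) (by decide +kernel)) 0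
noncomputable def x347 : Net := (Net.cons (nat_lit 32) (nat_lit 0x8a3c8104)
  (Net.cons (nat_lit 16) (nat_lit 0x978c0000d9f0)
  (Net.cons (nat_lit 8) (nat_lit 0xfa004800bc0030)
  (Net.cons (nat_lit 4) (nat_lit 0x40c0c040a04000b)
  (Net.cons (nat_lit 2) (nat_lit 0x2002200230301100)
  (Net.cons (nat_lit 1) (nat_lit 0x4541040015440015)
  (Net.cons (nat_lit 2) (nat_lit 0x2002000020020000)
  (Net.cons (nat_lit 4) (nat_lit 0x40c0c00060a0008)
  (Net.cons (nat_lit 8) (nat_lit 0xea004800a00030)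
  (Net.cons (nat_lit 16) (nat_lit 0x950c0000d9f0)
  (Net.cons (nat_lit 32) (nat_lit 0x8a3c8104)
  Net.nil)))))))))))
noncomputable def ns348 : ℕ → Net := upd ns345 1 x347
theorem der349 : Der 56 (finX 56) (cl (finG m2ok) [[2,1,1],[0,2,5,2,5,0,2,4,0,0,3,5,0,2,4,0,2,5,2,0,0,4,1,1,3,4,3,1,5,3,1,4,2,1,1,5,3,1,4,3,4,3,1],[0,0,4,3,3,4,3,0,3,0,0,4,1,2,5,2,0,2,5,2,0,0,3,0,2,5,2,0,0,5,1,1,2,5,1,1],[0,0,4,3,3,4,3,0,3,5,0,2,4,0,0,4,1,1,5,3,1,4,0,0,5,1,1,5,0,2,4,0,0,5,1,1,5,3,1,4,2,1,2,5,2,2,5,1,1]]) ns348 := der346.add (wp_mem_cl (w := [0,2,5,2,5,0,2,4,0,0,3,5,0,2,4,0,2,5,2,0,0,4,1,1,3,4,3,1,5,3,1,4,2,1,1,5,3,1,4,3,4,3,1]) (by decide)) ((finModel m2ok).toIsPre.rep_word (k := 6) (w := [0,2,5,2,5,0,2,4,0,0,3,5,0,2,4,0,2,5,2,0,0,4,1,1,3,4,3,1,5,3,1,4,2,1,1,5,3,1,4,3,4,3,1]) (n := x347) (by decide +kernel)) 1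
noncomputable def x350 : Net := (Net.cons (nat_lit 32) (nat_lit 0xad77adaa)
  (Net.cons (nat_lit 16) (nat_lit 0xa3f000008758)
  (Net.cons (nat_lit 8) (nat_lit 0x7b00ba00460048)
  (Net.cons (nat_lit 4) (nat_lit 0xa0a0b000907060e)
  (Net.cons (nat_lit 2) (nat_lit 0x2103101003320212)
  (Net.cons (nat_lit 1) (nat_lit 0x5101111401540451)
  (Net.cons (nat_lit 2) (nat_lit 0x20000020002)
  (Net.cons (nat_lit 4) (nat_lit 0x402080808080402)
  (Net.cons (nat_lit 8) (nat_lit 0xf800d200560012)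
  (Net.cons (nat_lit 16) (nat_lit 0x2ad40000d592)
  (Net.cons (nat_lit 32) (nat_lit 0xad7f28ba)
  Net.nil)))))))))))
noncomputable def ns351 : ℕ → Net := upd ns348 2 x350
theorem der352 : Der 56 (finX 56) (cl (finG m2ok) [[2,1,1],[0,2,5,2,5,0,2,4,0,0,3,5,0,2,4,0,2,5,2,0,0,4,1,1,3,4,3,1,5,3,1,4,2,1,1,5,3,1,4,3,4,3,1],[0,0,4,3,3,4,3,0,3,0,0,4,1,2,5,2,0,2,5,2,0,0,3,0,2,5,2,0,0,5,1,1,2,5,1,1],[0,0,4,3,3,4,3,0,3,5,0,2,4,0,0,4,1,1,5,3,1,4,0,0,5,1,1,5,0,2,4,0,0,5,1,1,5,3,1,4,2,1,2,5,2,2,5,1,1]]) ns351 := der349.add (wp_mem_cl (w := [0,0,4,3,3,4,3,0,3,0,0,4,1,2,5,2,0,2,5,2,0,0,3,0,2,5,2,0,0,5,1,1,2,5,1,1]) (by decide)) ((finModel m2ok).toIsPre.rep_word (k := 6) (w := [0,0,4,3,3,4,3,0,3,0,0,4,1,2,5,2,0,2,5,2,0,0,3,0,2,5,2,0,0,5,1,1,2,5,1,1]) (n := x350) (by decide +kernel)) 2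
noncomputable def x353 : Net := (Net.cons (nat_lit 32) (nat_lit 0xee5228a0)
  (Net.cons (nat_lit 16) (nat_lit 0x6f740000132a)
  (Net.cons (nat_lit 8) (nat_lit 0x8004000c00074)
  (Net.cons (nat_lit 4) (nat_lit 0xd00000400000a)
  (Net.cons (nat_lit 2) (nat_lit 0x2320023222000023)
  (Net.cons (nat_lit 1) (nat_lit 0x544545414051405)
  (Net.cons (nat_lit 2) (nat_lit 0x20020222000000)
  (Net.cons (nat_lit 4) (nat_lit 0xc00000400000a)
  (Net.cons (nat_lit 8) (nat_lit 0x8004000c00034)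
  (Net.cons (nat_lit 16) (nat_lit 0x61740000122a)
  (Net.cons (nat_lit 32) (nat_lit 0xee5228a0)
  Net.nil)))))))))))
noncomputable def ns354 : ℕ → Net := upd ns351 3 x353
theorem der355 : Der 56 (finX 56) (cl (finG m2ok) [[2,1,1],[0,2,5,2,5,0,2,4,0,0,3,5,0,2,4,0,2,5,2,0,0,4,1,1,3,4,3,1,5,3,1,4,2,1,1,5,3,1,4,3,4,3,1],[0,0,4,3,3,4,3,0,3,0,0,4,1,2,5,2,0,2,5,2,0,0,3,0,2,5,2,0,0,5,1,1,2,5,1,1],[0,0,4,3,3,4,3,0,3,5,0,2,4,0,0,4,1,1,5,3,1,4,0,0,5,1,1,5,0,2,4,0,0,5,1,1,5,3,1,4,2,1,2,5,2,2,5,1,1]]) ns354 := der352.add (wp_mem_cl (w := [0,0,4,3,3,4,3,0,3,5,0,2,4,0,0,4,1,1,5,3,1,4,0,0,5,1,1,5,0,2,4,0,0,5,1,1,5,3,1,4,2,1,2,5,2,2,5,1,1]) (by decide)) ((finModel m2ok).toIsPre.rep_word (k := 6) (w := [0,0,4,3,3,4,3,0,3,5,0,2,4,0,0,4,1,1,5,3,1,4,0,0,5,1,1,5,0,2,4,0,0,5,1,1,5,3,1,4,2,1,2,5,2,2,5,1,1]) (n := x353) (by decide +kernel)) 3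
noncomputable def L356 : Lev := Lev.cons 0 2 [[3]] Lev.nil
noncomputable def L357 : Lev := Lev.cons 28 27 [[0],[1],[2]] L356
theorem lc358 : Lev.chk 56 3 ns354 vT 100 L357 = true := by decide +kernel
theorem lb359 : 54 ≤ Nat.card (cl (finG m2ok) [[2,1,1],[0,2,5,2,5,0,2,4,0,0,3,5,0,2,4,0,2,5,2,0,0,4,1,1,3,4,3,1,5,3,1,4,2,1,1,5,3,1,4,3,4,3,1],[0,0,4,3,3,4,3,0,3,0,0,4,1,2,5,2,0,2,5,2,0,0,3,0,2,5,2,0,0,5,1,1,2,5,1,1],[0,0,4,3,3,4,3,0,3,5,0,2,4,0,0,4,1,1,5,3,1,4,0,0,5,1,1,5,0,2,4,0,0,5,1,1,5,3,1,4,2,1,2,5,2,2,5,1,1]]) := le_of_eq_of_le (by decide +kernel) (der355.card_ge lc358)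
theorem ix342 : Idx.{u} io C288 [0,1,2,3,4,5] [[2,1,1],[0,2,5,2,5,0,2,4,0,0,3,5,0,2,4,0,2,5,2,0,0,4,1,1,3,4,3,1,5,3,1,4,2,1,1,5,3,1,4,3,4,3,1],[0,0,4,3,3,4,3,0,3,0,0,4,1,2,5,2,0,2,5,2,0,0,3,0,2,5,2,0,0,5,1,1,2,5,1,1],[0,0,4,3,3,4,3,0,3,5,0,2,4,0,0,4,1,1,5,3,1,4,0,0,5,1,1,5,0,2,4,0,0,5,1,1,5,3,1,4,2,1,2,5,2,2,5,1,1]] 112 := (Idx.of bd285 sat308 (by decide +kernel) lb359 (by decide +kernel)).of_imp imp290
noncomputable def lk360 : List (List ℕ × List ℕ × Pf) := [([2,1,1],[0,6,3,4,0,4,1,4,3,0,0,0,7,1],[([6,0,6],29)]),([0,2,5,2],[4,0,2,4],[([6],23)]),([5,0,2,4],[0,2,4,2],[([6],25)]),([0,0,3],[0,6,1,1,1,2,5,0,5,1,5,2,7,1],[([6,0,6,1,1,1,2,5,0,5,1,5,2],28)]),([0,0,4,1,1],[1,1,1,5,1,3,5,0,5,0,5,2],[([6,1,1,1,5,1,3,5,0,5,0,5,2],26)]),([3,4,3,1],[5,3,1,5],[([6,5,3,1,5],22)]),([5,3,1,4],[3,5,3,1],[([6,3,5,3,1],24)]),([0,0,5,1,1],[3,4,1,4,1,4,2,0,4,0,0,0],[([6],27)])]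
noncomputable def O361 : ℕ := (nat_lit 0x481087c201cc0f83bf3f7fddef0f087fdf0afeff886a05f047c80010800)
noncomputable def M362 : ℕ := (nat_lit 0x7fffffffffffffffffffffffffffffffffffffffffffffffffffffffffff)
noncomputable def b363 : ℕ := (nat_lit 0x4a3c81004ec03c04c004000021060a3800021000045849208a015458b1f7)
theorem cl364 : Clo.{u} io C288 [0,1,2,3,4,5] 240 m287 M362 (mkB [(6,b363),(7,b340)]) := cl341.new (k := 5) (b := 6) (q := 2) (p := 11) (r := 200) (n := 112) (O := O361) (by decide +kernel) (lks := lk360) (by decide +kernel) (gens_of_lall2 (m := [[0],[1,2,3,2,1,4,5,6,0,6,5],[4,3,5,3,4,1,1,3,1,7,0,7],[4,3,5,3,2,4,6,7,2,7,6,0,1,0,7]]) (by decide +kernel)) ix342 (by decide +kernel)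
noncomputable def b365 : ℕ := (nat_lit 0x7effffffffffffffffffffffffffffffffffffffffffffffffffffffffff)

end Cfsg.Agent.H6.Le.S2c
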