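import Cfsg.Agent.H6.LeR
import Cfsg.Agent.H6.LeJ1
import Cfsg.Agent.H6.LeK1
set_option maxRecDepth 100000
set_option Elab.async false
namespace Cfsg.Agent.H6.Le.S2m
open Cfsg.Agent.H6
universe u

noncomputable def il : List ℕ := [1,0,3,2,5,4,7,6,9,8,11,10]
noncomputable abbrev io : ℕ → ℕ := iota il
noncomputable def C1 : List (List ℕ) := []
noncomputable def m2n0 : Net := (Net.cons (nat_lit 128) (nat_lit 0x1983ed8f03b031d52c17b10dac49295d)
  (Net.cons (nat_lit 64) (nat_lit 0xff7deaee9d3358fd00000000000000002687d28622a376b4)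
  (Net.cons (nat_lit 32) (nat_lit 0xf5749d200000000fcb639e9000000008565531a000000009128ade0)
  (Net.cons (nat_lit 16) (nat_lit 0x5b210000a8d50000343d00001989000053cc00002c720000e72600002e45)
  (Net.cons (nat_lit 8) (nat_lit 0x4700d700680035002e00da001a00920072009400f600b400b4008900170089)
  (Net.cons (nat_lit 4) (nat_lit 0xd0e020f0006000e0408000b00030906000500060202060b06080f010e0a0d0d)
  (Net.cons (nat_lit 2) (nat_lit 0x131010003213333302130300012111033121001201330300012232111133301)
  (Net.cons (nat_lit 1) (nat_lit 0x451011454000114451011110011140114104101504454410150140441051001)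
  (Net.cons (nat_lit 2) (nat_lit 0x2020000000222002020220002020002202002000202220200220002002000)
  (Net.cons (nat_lit 4) (nat_lit 0x80406020000000c0e08040a0002040406000808000c000400000400040e0200)
  (Net.cons (nat_lit 8) (nat_lit 0x480022004a00a0008200ae0018002400840058007400a800a600c0002e0020)
  (Net.cons (nat_lit 16) (nat_lit 0x47020000c1fc00003808000003400000f1500000b0080000132e0000912c)
  (Net.cons (nat_lit 32) (nat_lit 0xbe0333c200000000fc340ca2000000004108c92800000000eb183430)
  (Net.cons (nat_lit 64) (nat_lit 0xee7ef3b7ed9bdc94000000000000000026d358295a892768)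
  (Net.cons (nat_lit 128) (nat_lit 0x1983f94fd427feb072288df644345dee)
  Net.nil)))))))))))))))
noncomputable def m2n1 : Net := (Net.cons (nat_lit 128) (nat_lit 0xe67c06902bd8014f8cd77209bbcba211)
  (Net.cons (nat_lit 64) (nat_lit 0x26d358295a892768000000000000000017832d4812442363)
  (Net.cons (nat_lit 32) (nat_lit 0xce5e7ed900000000eb18343000000000a4a8a3e4000000005bf4fc69)
  (Net.cons (nat_lit 16) (nat_lit 0x7cd800002c460000172e00006af200008322000087ed000074d900003a62)
  (Net.cons (nat_lit 8) (nat_lit 0xc000e0001200f400a6001500f100d300bc001c002b00b300740056005800a9)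
  (Net.cons (nat_lit 4) (nat_lit 0x60d06080a050d0f040007090d040d06000d0a05030c08020d08000106060f00)
  (Net.cons (nat_lit 2) (nat_lit 0x3021220130131021022210323013333100302113221131011003103020310301)
  (Net.cons (nat_lit 1) (nat_lit 0x1001441411140515015010114044411400111040514015104100550015144400)
  (Net.cons (nat_lit 2) (nat_lit 0x2000022200000000000020020002202200002020020020000000000020020200)
  (Net.cons (nat_lit 4) (nat_lit 0x8040006000e0e0802080c00020c0e0e00040c0008080400080c08000a020204)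
  (Net.cons (nat_lit 8) (nat_lit 0x300026000400d200b400e40084006a009e009000ee00a40080004e004a0028)
  (Net.cons (nat_lit 16) (nat_lit 0xb0a80000bdd00000e3260000c138000095a80000c2a8000074140000f664)
  (Net.cons (nat_lit 32) (nat_lit 0x6ab01a74000000009128ade000000000a7a96a6200000000f3887a3c)
  (Net.cons (nat_lit 64) (nat_lit 0x2687d28622a376b4000000000000000007821513e2c48702)
  (Net.cons (nat_lit 128) (nat_lit 0xe67c1270fc4d8e2ad3e84ef253b6d6a2)
  Net.nil)))))))))))))))
noncomputable def m2n2 : Net := (Net.cons (nat_lit 128) (nat_lit 0x635509abc375a52d0485f45820cb2804)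
  (Net.cons (nat_lit 64) (nat_lit 0x56fe94c7fe0b780800000000000000003c3014dd094d4301)
  (Net.cons (nat_lit 32) (nat_lit 0x6942d8700000000015cadfb6000000002f4a6d9600000000d9497190)
  (Net.cons (nat_lit 16) (nat_lit 0x1228000000e40000dcd60000e7fb0000f4560000e0a10000214a00000191)
  (Net.cons (nat_lit 8) (nat_lit 0x4100800097004d00d1000100ca003100880052000800aa0042001000e30011)
  (Net.cons (nat_lit 4) (nat_lit 0x103010408060a0101080405000c0607010a060a000f08070a04010404040107)
  (Net.cons (nat_lit 2) (nat_lit 0x1013320000113322032330220332211110302222100020102300111321100232)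
  (Net.cons (nat_lit 1) (nat_lit 0x50540401544014401444104550100144101010504114014041451111145441)
  (Net.cons (nat_lit 2) (nat_lit 0x20002002000002020000000200022002020002222002002002020200202)
  (Net.cons (nat_lit 4) (nat_lit 0x40808000a020808080404020206040202040802080c0206060a000002060c06)
  (Net.cons (nat_lit 8) (nat_lit 0x1c001c000600be009c00b4004e002000a400f000a00088008800c800d00084)
  (Net.cons (nat_lit 16) (nat_lit 0xa8800008096000097000000ccfa0000fb440000d0940000b4c200006060)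
  (Net.cons (nat_lit 32) (nat_lit 0x2da3640800000000be9b180800000000275af58c0000000089811908)
  (Net.cons (nat_lit 64) (nat_lit 0x75faa9b7a2e4b7600000000000000000bcb086872d841012)
  (Net.cons (nat_lit 128) (nat_lit 0x6355e14efcad2a9c56e298407415c080)
  Net.nil)))))))))))))))
noncomputable def m2n3 : Net := (Net.cons (nat_lit 128) (nat_lit 0x6355e14efcad2a9c56e298407415c080)
  (Net.cons (nat_lit 64) (nat_lit 0x75faa9b7a2e4b76000000000000000004b5f0b7d52bbefa9)
  (Net.cons (nat_lit 32) (nat_lit 0x2db3640800000000a6758aa600000000304fa304000000008c1d3a41)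
  (Net.cons (nat_lit 16) (nat_lit 0xb8800008096000097840000b159000000340000e5240000206000006880)
  (Net.cons (nat_lit 8) (nat_lit 0xe3001c00f900410064003900d500060021002400e5001d00d800a800b000c2)
  (Net.cons (nat_lit 4) (nat_lit 0x701010c010a0b0806010502040404040e020c0a020b0d00040b020200020f09)
  (Net.cons (nat_lit 2) (nat_lit 0x3201230032022113113023003223301021201232302321033021122322220202)
  (Net.cons (nat_lit 1) (nat_lit 0x500454015010510401001044510511454154514144511004014041440100114)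
  (Net.cons (nat_lit 2) (nat_lit 0x200020000000002002020020020202002022200020000000002200200020)
  (Net.cons (nat_lit 4) (nat_lit 0xc0408080008080a000400040a0c040408040804000808080800080200080a08)
  (Net.cons (nat_lit 8) (nat_lit 0xbe0080006800b20060007000d4009800d400180024001c005000aa009000c4)
  (Net.cons (nat_lit 16) (nat_lit 0x228000000e400005cd400009090000009e00000f5820000a0fc00004948)
  (Net.cons (nat_lit 32) (nat_lit 0x6902d87000000000866066e4000000002c0e8580000000001cb77430)
  (Net.cons (nat_lit 64) (nat_lit 0x56fe94c7fe0b78080000000000000000cbdfcf2773ba2cbe)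
  (Net.cons (nat_lit 128) (nat_lit 0x635509abc375a52d0485f45820cb2804)
  Net.nil)))))))))))))))
noncomputable def m2n4 : Net := (Net.cons (nat_lit 128) (nat_lit 0xaba7e8f4c51d407fe48221d34932fa00)
  (Net.cons (nat_lit 64) (nat_lit 0x56dd0844ffc1b43700000000000000006330120568c93511)
  (Net.cons (nat_lit 32) (nat_lit 0x9d4986030000000089611bc60000000089b4c584000000009d96d113)
  (Net.cons (nat_lit 16) (nat_lit 0x16c30000d3f400009d49000069d60000c51c00008a2500006b3c000066d9)
  (Net.cons (nat_lit 8) (nat_lit 0x84006e009500c400c3008900fb0031007000a500040064009900800060005b)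
  (Net.cons (nat_lit 4) (nat_lit 0x40c0805010a020101040409090d02080f000d0d0b0502020f06080a02000a06)
  (Net.cons (nat_lit 2) (nat_lit 0x1031300222221011330023132302120223103303221100320331011022012301)
  (Net.cons (nat_lit 1) (nat_lit 0x1451115514414051044004544015041410501455140411140114041414150011)
  (Net.cons (nat_lit 2) (nat_lit 0x2020020220002002002020020022220000000000000000002002020000020)
  (Net.cons (nat_lit 4) (nat_lit 0xe0c0604000c080c080c06080406000808080a040800000406040c060004040c)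
  (Net.cons (nat_lit 8) (nat_lit 0x160010002800d400420028005a002800a40038000c00040046001000220020)
  (Net.cons (nat_lit 16) (nat_lit 0x28840000ca060000b7ea0000835a00006d040000bf440000aa700000b88c)
  (Net.cons (nat_lit 32) (nat_lit 0xc73497c40000000028e02d5a00000000c9d4c082000000000503798e)
  (Net.cons (nat_lit 64) (nat_lit 0xf7fb898aa05ec3f000000000000000007328f971948a68e8)
  (Net.cons (nat_lit 128) (nat_lit 0xaba735efd92a4b722a11723b202304ae)
  Net.nil)))))))))))))))
noncomputable def m2n5 : Net := (Net.cons (nat_lit 128) (nat_lit 0xaba735efd93a4b722a11723b282304ae)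
  (Net.cons (nat_lit 64) (nat_lit 0xa0476754bb13c0f00000000000000008cdf4686235d1512)
  (Net.cons (nat_lit 32) (nat_lit 0x3e41284600000000b9fbe91d0000000051f6d6e900000000b434f0b6)
  (Net.cons (nat_lit 16) (nat_lit 0x83340000874b0000ecb70000df770000f3ed000023be00001d9400007d18)
  (Net.cons (nat_lit 8) (nat_lit 0xc60090000f0029005400d400f200b700c000400098006800e4008200f50009)
  (Net.cons (nat_lit 4) (nat_lit 0xb0506040e0a0208060208020608040f0d04080c040f0a0804080704090f0b0d)
  (Net.cons (nat_lit 2) (nat_lit 0x1330231320111022300022131223020111200223313230221300302330032133)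
  (Net.cons (nat_lit 1) (nat_lit 0x1550411004410014001551454415454414144114411440004110415511441500)
  (Net.cons (nat_lit 2) (nat_lit 0x2000202002200002000000200200002002000222220000000020200022020000)
  (Net.cons (nat_lit 4) (nat_lit 0xc040c0004080008000800080c0400000c080c04020806000e000008020e0000)
  (Net.cons (nat_lit 8) (nat_lit 0xd200b800ec001000e800c600a800c6007200d800a0003c005000f000f40064)
  (Net.cons (nat_lit 16) (nat_lit 0x119000004cd4000078b60000a8ac0000f3d20000cda60000bbac00006d00)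
  (Net.cons (nat_lit 32) (nat_lit 0x3d421ee40000000003b56dcc00000000c9ed2c2e00000000e214bf14)
  (Net.cons (nat_lit 64) (nat_lit 0x8902f7bb003e6b4800000000000000008ccf7ddbb727c88e)
  (Net.cons (nat_lit 128) (nat_lit 0xaba7e8f4e51d407fc48221d34932fa00)
  Net.nil)))))))))))))))
noncomputable def m2n6 : Net := (Net.cons (nat_lit 128) (nat_lit 0x99f32ec696771aaf72c4a7e31a714f2a)
  (Net.cons (nat_lit 64) (nat_lit 0x53f7a841a31e394100000000000000007b38b7c2249bb534)
  (Net.cons (nat_lit 32) (nat_lit 0x4b0e7a040000000014a9848400000000268efa9d0000000005069b7a)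
  (Net.cons (nat_lit 16) (nat_lit 0xf27800003c4000008d0c0000290600006f660000b6700000ba2e00004c34)
  (Net.cons (nat_lit 8) (nat_lit 0x5b00c800bc002300cc00a40027006400ee002c002c003d002300b70080003b)
  (Net.cons (nat_lit 4) (nat_lit 0x80d060f020c000701030805070c0b090c0e040e09090c040708090e0a050d0b)
  (Net.cons (nat_lit 2) (nat_lit 0x1231013101131010312222031123320320100200021123301220112222323023)
  (Net.cons (nat_lit 1) (nat_lit 0x101444410541141141410541051115450401141004014111144044110041541)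
  (Net.cons (nat_lit 2) (nat_lit 0x200200020022222200220002002020000000202002000220222022200002020)
  (Net.cons (nat_lit 4) (nat_lit 0x8020a00060808040002080600000402020c000c000c0c0208080c0800000408)
  (Net.cons (nat_lit 8) (nat_lit 0x78004c003c0030004400a6004a005400cc0018001c001600a8003200d600fc)
  (Net.cons (nat_lit 16) (nat_lit 0xf32a0000d5c4000094b6000095e000005dde0000f3380000fe2a00006cf2)
  (Net.cons (nat_lit 32) (nat_lit 0xc00a3306000000001c328446000000007b8ebcee00000000a547a380)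
  (Net.cons (nat_lit 64) (nat_lit 0x5227b610451609060000000000000000193895407228a98a)
  (Net.cons (nat_lit 128) (nat_lit 0x99f319e6707acc57f9e637e1efec5650)
  Net.nil)))))))))))))))
noncomputable def m2n7 : Net := (Net.cons (nat_lit 128) (nat_lit 0x99f319e6707acc57f9e637e1efec5650)
  (Net.cons (nat_lit 64) (nat_lit 0x8cd849ffbae976d10000000000000000c6c9f019106412ca)
  (Net.cons (nat_lit 32) (nat_lit 0xe8a265f300000000eab5f353000000009e19de8e00000000670eb448)
  (Net.cons (nat_lit 16) (nat_lit 0xb5e6000009dd00000c740000bdcc0000eaac000066bc000076560000d389)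
  (Net.cons (nat_lit 8) (nat_lit 0x8d00760000002c002c0032008500b900d600ed00f3005d007c001c00fb00b1)
  (Net.cons (nat_lit 4) (nat_lit 0x90d0c0d080f030c0c0c0d09020a040c0c0a0509030e020e02080e0b0b070e09)
  (Net.cons (nat_lit 2) (nat_lit 0x2131233020332310032121333033031200012003000302331202000332232013)
  (Net.cons (nat_lit 1) (nat_lit 0x4415101514101441015114414511100114011451400405011114501441041400)
  (Net.cons (nat_lit 2) (nat_lit 0x2000200020202222000222222020200020022202200000000222000002022200)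
  (Net.cons (nat_lit 4) (nat_lit 0x8000c0608080008080404080400040408000406040608000408080806040808)
  (Net.cons (nat_lit 8) (nat_lit 0xd000e400000032008e006000080030004e006c0092009a0070002600bc0050)
  (Net.cons (nat_lit 16) (nat_lit 0xa846000010dc00002f6600006fd00000867c0000a0bc00007e640000b7da)
  (Net.cons (nat_lit 32) (nat_lit 0xf9a3e2c80000000028a764e4000000007cd93e3400000000661cda58)
  (Net.cons (nat_lit 64) (nat_lit 0x8c4857be5cf146aa000000000000000080c9407014d76714)
  (Net.cons (nat_lit 128) (nat_lit 0x99f32ec696771aaf72c4a7e31a714f2a)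
  Net.nil)))))))))))))))
noncomputable def m2l : List Net := [m2n0,m2n1,m2n2,m2n3,m2n4,m2n5,m2n6,m2n7]
noncomputable abbrev m2 : ℕ → Net := lk Net.nil m2l
theorem m2ok : NetsOk 240 m2 vT := netsOk_of (by decide +kernel)
theorem m2s0 : Sat io [] (finG m2ok) := fin_sat_nil _ (k := 8) (n := 12) (by decide +kernel)
noncomputable def r0 : List ℕ := [0,0,0,0,0,0,0]
noncomputable def m3n0 : Net := (Net.cons (nat_lit 4) (nat_lit 12)
  (Net.cons (nat_lit 2) (nat_lit 49)
  (Net.cons (nat_lit 1) (nat_lit 1)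
  (Net.cons (nat_lit 4) (nat_lit 10)
  Net.nil))))
noncomputable def m3n1 : Net := (Net.cons (nat_lit 4) (nat_lit 10)
  (Net.cons (nat_lit 2) (nat_lit 51)
  (Net.cons (nat_lit 1) (nat_lit 4)
  (Net.cons (nat_lit 2) (nat_lit 2)
  (Net.cons (nat_lit 4) (nat_lit 12)
  Net.nil)))))
noncomputable def m3l : List Net := [m3n0,m3n1]
noncomputable abbrev m3 : ℕ → Net := lk Net.nil m3l
theorem m3ok : NetsOk 7 m3 vT := netsOk_of (by decide +kernel)
theorem m3s0 : Sat io [] (finG m3ok) := fin_sat_nil _ (k := 3) (n := 12) (by decide +kernel)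
noncomputable def C4 : List (List ℕ) := [r0]
theorem cl5 : Clo.{u} io C4 [] 7 m3 1 (mkB []) := Clo.start (by decide +kernel)
theorem imp6 : Imp.{u} io C4 C1 := Imp.of_chk (pfs := []) (by decide +kernel)
theorem ix7 : Idx.{u} io C4 [] [] 1 := (Idx.triv (Bound.nil) (by norm_num)).of_imp imp6
noncomputable def lk8 : List (List ℕ × List ℕ × Pf) := []
noncomputable def O9 : ℕ := (nat_lit 2)
noncomputable def M10 : ℕ := (nat_lit 3)
noncomputable def b11 : ℕ := (nat_lit 1)
theorem cl12 : Clo.{u} io C4 [] 7 m3 M10 (mkB [(0,b11)]) := cl5.new (k := 0) (b := 0) (q := 0) (p := 1) (r := 200) (n := 1) (O := O9) (by decide +kernel) (lks := lk8) (by decide +kernel) (gens_of_lall2 (m := []) (by decide +kernel)) ix7 (by decide +kernel)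
noncomputable def b13 : ℕ := (nat_lit 2)
theorem cl14 : Clo.{u} io C4 [] 7 m3 M10 (mkB [(0,b11),(1,b13)]) := cl12.ops (os := [Op.inv 0]) (by decide +kernel) (by decide +kernel)
theorem ix15 : Idx.{u} io C4 [] [] 1 := (Idx.triv (Bound.nil) (by norm_num)).of_imp imp6
noncomputable def lk16 : List (List ℕ × List ℕ × Pf) := []
noncomputable def O17 : ℕ := (nat_lit 8)
noncomputable def M18 : ℕ := (nat_lit 11)
noncomputable def b19 : ℕ := (nat_lit 3)
theorem cl20 : Clo.{u} io C4 [] 7 m3 M18 (mkB [(0,b19),(1,b13)]) := cl14.new (k := 0) (b := 0) (q := 1) (p := 3) (r := 200) (n := 1) (O := O17) (by decide +kernel) (lks := lk16) (by decide +kernel) (gens_of_lall2 (m := []) (by decide +kernel)) ix15 (by decide +kernel)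
noncomputable def b21 : ℕ := (nat_lit 10)
theorem cl22 : Clo.{u} io C4 [] 7 m3 M18 (mkB [(0,b19),(1,b21)]) := cl20.ops (os := [Op.inv 0]) (by decide +kernel) (by decide +kernel)
theorem ix23 : Idx.{u} io C4 [] [] 1 := (Idx.triv (Bound.nil) (by norm_num)).of_imp imp6
noncomputable def lk24 : List (List ℕ × List ℕ × Pf) := []
noncomputable def O25 : ℕ := (nat_lit 32)
noncomputable def M26 : ℕ := (nat_lit 43)
noncomputable def b27 : ℕ := (nat_lit 11)
theorem cl28 : Clo.{u} io C4 [] 7 m3 M26 (mkB [(0,b27),(1,b21)]) := cl22.new (k := 0) (b := 0) (q := 3) (p := 5) (r := 200) (n := 1) (O := O25) (by decide +kernel) (lks := lk24) (by decide +kernel) (gens_of_lall2 (m := []) (by decide +kernel)) ix23 (by decide +kernel)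
noncomputable def b29 : ℕ := (nat_lit 42)
theorem cl30 : Clo.{u} io C4 [] 7 m3 M26 (mkB [(0,b27),(1,b29)]) := cl28.ops (os := [Op.inv 0]) (by decide +kernel) (by decide +kernel)
theorem ix31 : Idx.{u} io C4 [] [] 1 := (Idx.triv (Bound.nil) (by norm_num)).of_imp imp6
noncomputable def lk32 : List (List ℕ × List ℕ × Pf) := []
noncomputable def O33 : ℕ := (nat_lit 64)
noncomputable def M34 : ℕ := (nat_lit 107)
noncomputable def b35 : ℕ := (nat_lit 43)
theorem cl36 : Clo.{u} io C4 [] 7 m3 M34 (mkB [(0,b35),(1,b29)]) := cl30.new (k := 0) (b := 0) (q := 5) (p := 6) (r := 200) (n := 1) (O := O33) (by decide +kernel) (lks := lk32) (by decide +kernel) (gens_of_lall2 (m := []) (by decide +kernel)) ix31 (by decide +kernel)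
noncomputable def b37 : ℕ := (nat_lit 106)
theorem cl38 : Clo.{u} io C4 [] 7 m3 M34 (mkB [(0,b35),(1,b37)]) := cl36.ops (os := [Op.inv 0]) (by decide +kernel) (by decide +kernel)
theorem ix39 : Idx.{u} io C4 [] [] 1 := (Idx.triv (Bound.nil) (by norm_num)).of_imp imp6
noncomputable def lk40 : List (List ℕ × List ℕ × Pf) := []
noncomputable def O41 : ℕ := (nat_lit 16)
noncomputable def M42 : ℕ := (nat_lit 123)
noncomputable def b43 : ℕ := (nat_lit 107)
theorem cl44 : Clo.{u} io C4 [] 7 m3 M42 (mkB [(0,b43),(1,b37)]) := cl38.new (k := 0) (b := 0) (q := 6) (p := 4) (r := 200) (n := 1) (O := O41) (by decide +kernel) (lks := lk40) (by decide +kernel) (gens_of_lall2 (m := []) (by decide +kernel)) ix39 (by decide +kernel)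
noncomputable def b45 : ℕ := (nat_lit 122)
theorem cl46 : Clo.{u} io C4 [] 7 m3 M42 (mkB [(0,b43),(1,b45)]) := cl44.ops (os := [Op.inv 0]) (by decide +kernel) (by decide +kernel)
theorem ix47 : Idx.{u} io C4 [] [] 1 := (Idx.triv (Bound.nil) (by norm_num)).of_imp imp6
noncomputable def lk48 : List (List ℕ × List ℕ × Pf) := []
noncomputable def O49 : ℕ := (nat_lit 4)
noncomputable def M50 : ℕ := (nat_lit 127)
noncomputable def b51 : ℕ := (nat_lit 123)
theorem cl52 : Clo.{u} io C4 [] 7 m3 M50 (mkB [(0,b51),(1,b45)]) := cl46.new (k := 0) (b := 0) (q := 4) (p := 2) (r := 200) (n := 1) (O := O49) (by decide +kernel) (lks := lk48) (by decide +kernel) (gens_of_lall2 (m := []) (by decide +kernel)) ix47 (by decide +kernel)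
noncomputable def b53 : ℕ := (nat_lit 127)
noncomputable def b54 : ℕ := (nat_lit 127)
theorem cl55 : Clo.{u} io C4 [] 7 m3 M50 (mkB [(0,b53),(1,b54)]) := cl52.ops (os := [Op.inv 0,Op.rel 0 [] 1 [1,1,1,1,1] [([],1)],Op.inv 0]) (by decide +kernel) (by decide +kernel)
theorem sat57 : Sat io C4 (finG m3ok) := m3s0.fin (k := 3) (by decide +kernel)
theorem bd56 : Bound.{u} io C4 [0,1] 7 := cl55.bound (by decide +kernel) sat57 ((Bound.nil).of_imp imp6)
noncomputable def r1 : List ℕ := [2,2,2]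
noncomputable def r2 : List ℕ := [2,0,3,1,1]
noncomputable def m58n2 : Net := (Net.cons (nat_lit 1) (nat_lit 1)
  (Net.cons (nat_lit 1) (nat_lit 2)
  Net.nil))
noncomputable def m58n3 : Net := (Net.cons (nat_lit 1) (nat_lit 2)
  (Net.cons (nat_lit 1) (nat_lit 1)
  Net.nil))
noncomputable def m58l : List Net := [Net.nil,Net.nil,m58n2,m58n3]
noncomputable abbrev m58 : ℕ → Net := lk Net.nil m58l
theorem m58ok : NetsOk 3 m58 vT := netsOk_of (by decide +kernel)
theorem m58s0 : Sat io [] (finG m58ok) := fin_sat_nil _ (k := 2) (n := 12) (by decide +kernel)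
noncomputable def C59 : List (List ℕ) := [r0,r1,r2]
theorem cl60 : Clo.{u} io C59 [0,1] 3 m58 1 (mkB []) := Clo.start (by decide +kernel)
theorem imp61 : Imp.{u} io C59 C4 := Imp.of_chk (pfs := [[([],1)]]) (by decide +kernel)
theorem der63 : Der 240 (finX 240) (cl (finG m2ok) [[1,1]]) (fun _ => Net.nil) := Der.zero (finModel m2ok).inj
noncomputable def x64 : Net := (Net.cons (nat_lit 128) (nat_lit 0xfe04febb87174246155cd202c4a71b20)
  (Net.cons (nat_lit 64) (nat_lit 0xb9c25bba9a36b9290000000000000000455c80fdaa44b077)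
  (Net.cons (nat_lit 32) (nat_lit 0x57ae2612000000001ef2821800000000147461a2000000005df81538)
  (Net.cons (nat_lit 16) (nat_lit 0xed8a00006588000064280000997600004887000035f400004093000028cd)
  (Net.cons (nat_lit 8) (nat_lit 0xea005b001a002000b6009e003c00b3006b00410039003b00e1000a00010068)
  (Net.cons (nat_lit 4) (nat_lit 0x206090d05040704040d08080e0c00060c0c050407080e080504050f0003070f)
  (Net.cons (nat_lit 2) (nat_lit 0x3220132112030201302312010002013200303022133220210120120022223013)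
  (Net.cons (nat_lit 1) (nat_lit 0x1144551401011450540450044114504151141001405410054414444101141014)
  (Net.cons (nat_lit 2) (nat_lit 0x220000000022200000200002022000200202000000220002002200200020000)
  (Net.cons (nat_lit 4) (nat_lit 0x80c000c040804040a0a0c04060c0804080004000408000402060c000204080e)
  (Net.cons (nat_lit 8) (nat_lit 0xe00038008800d4007800e600120006006200b40094007a00780020001200aa)
  (Net.cons (nat_lit 16) (nat_lit 0xc5cc0000b1dc000030940000805e000049c000001cb60000e9c800000072)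
  (Net.cons (nat_lit 32) (nat_lit 0xa6e8a44e0000000046db18c00000000055bea4e0000000006ecb92b2)
  (Net.cons (nat_lit 64) (nat_lit 0xd5c279e4e7be9a880000000000000000459d0502340405aa)
  (Net.cons (nat_lit 128) (nat_lit 0xfe048a0ec0592675856fae5783708084)
  Net.nil)))))))))))))))
noncomputable def ns65 : ℕ → Net := upd (fun _ => Net.nil) 0 x64
theorem der66 : Der 240 (finX 240) (cl (finG m2ok) [[1,1]]) ns65 := der63.add (wp_mem_cl (w := [1,1]) (by decide)) ((finModel m2ok).toIsPre.rep_word (k := 8) (w := [1,1]) (n := x64) (by decide +kernel)) 0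
noncomputable def L67 : Lev := Lev.cons 0 7 [[0]] Lev.nil
theorem lc68 : Lev.chk 240 5 ns65 vT 100 L67 = true := by decide +kernel
theorem lb69 : 7 ≤ Nat.card (cl (finG m2ok) [[1,1]]) := le_of_eq_of_le (by decide +kernel) (der66.card_ge lc68)
theorem sat70 : Sat io C4 (finG m2ok) := m2s0.fin (k := 8) (by decide +kernel)
theorem ix62 : Idx.{u} io C59 [0,1] [[1,1]] 1 := (Idx.of bd56 sat70 (by decide +kernel) lb69 (by decide +kernel)).of_imp imp61
noncomputable def lk71 : List (List ℕ × List ℕ × Pf) := [([1,1],[1],[([2,1,3],5)])]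
noncomputable def O72 : ℕ := (nat_lit 2)
noncomputable def M73 : ℕ := (nat_lit 3)
noncomputable def b74 : ℕ := (nat_lit 1)
theorem cl75 : Clo.{u} io C59 [0,1] 3 m58 M73 (mkB [(2,b74)]) := cl60.new (k := 0) (b := 2) (q := 0) (p := 1) (r := 200) (n := 1) (O := O72) (by decide +kernel) (lks := lk71) (by decide +kernel) (gens_of_lall2 (m := [[0]]) (by decide +kernel)) ix62 (by decide +kernel)
noncomputable def b76 : ℕ := (nat_lit 2)
theorem cl77 : Clo.{u} io C59 [0,1] 3 m58 M73 (mkB [(2,b74),(3,b76)]) := cl75.ops (os := [Op.inv 2]) (by decide +kernel) (by decide +kernel)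
theorem der79 : Der 240 (finX 240) (cl (finG m2ok) [[1,1]]) (fun _ => Net.nil) := Der.zero (finModel m2ok).inj
noncomputable def x80 : Net := (Net.cons (nat_lit 128) (nat_lit 0xfe04febb87174246155cd202c4a71b20)
  (Net.cons (nat_lit 64) (nat_lit 0xb9c25bba9a36b9290000000000000000455c80fdaa44b077)
  (Net.cons (nat_lit 32) (nat_lit 0x57ae2612000000001ef2821800000000147461a2000000005df81538)
  (Net.cons (nat_lit 16) (nat_lit 0xed8a00006588000064280000997600004887000035f400004093000028cd)
  (Net.cons (nat_lit 8) (nat_lit 0xea005b001a002000b6009e003c00b3006b00410039003b00e1000a00010068)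
  (Net.cons (nat_lit 4) (nat_lit 0x206090d05040704040d08080e0c00060c0c050407080e080504050f0003070f)
  (Net.cons (nat_lit 2) (nat_lit 0x3220132112030201302312010002013200303022133220210120120022223013)
  (Net.cons (nat_lit 1) (nat_lit 0x1144551401011450540450044114504151141001405410054414444101141014)
  (Net.cons (nat_lit 2) (nat_lit 0x220000000022200000200002022000200202000000220002002200200020000)
  (Net.cons (nat_lit 4) (nat_lit 0x80c000c040804040a0a0c04060c0804080004000408000402060c000204080e)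
  (Net.cons (nat_lit 8) (nat_lit 0xe00038008800d4007800e600120006006200b40094007a00780020001200aa)
  (Net.cons (nat_lit 16) (nat_lit 0xc5cc0000b1dc000030940000805e000049c000001cb60000e9c800000072)
  (Net.cons (nat_lit 32) (nat_lit 0xa6e8a44e0000000046db18c00000000055bea4e0000000006ecb92b2)
  (Net.cons (nat_lit 64) (nat_lit 0xd5c279e4e7be9a880000000000000000459d0502340405aa)
  (Net.cons (nat_lit 128) (nat_lit 0xfe048a0ec0592675856fae5783708084)
  Net.nil)))))))))))))))
noncomputable def ns81 : ℕ → Net := upd (fun _ => Net.nil) 0 x80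
theorem der82 : Der 240 (finX 240) (cl (finG m2ok) [[1,1]]) ns81 := der79.add (wp_mem_cl (w := [1,1]) (by decide)) ((finModel m2ok).toIsPre.rep_word (k := 8) (w := [1,1]) (n := x80) (by decide +kernel)) 0
noncomputable def L83 : Lev := Lev.cons 0 7 [[0]] Lev.nil
theorem lc84 : Lev.chk 240 5 ns81 vT 100 L83 = true := by decide +kernel
theorem lb85 : 7 ≤ Nat.card (cl (finG m2ok) [[1,1]]) := le_of_eq_of_le (by decide +kernel) (der82.card_ge lc84)
theorem ix78 : Idx.{u} io C59 [0,1] [[1,1]] 1 := (Idx.of bd56 sat70 (by decide +kernel) lb85 (by decide +kernel)).of_imp imp61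
noncomputable def lk86 : List (List ℕ × List ℕ × Pf) := [([1,1],[1],[([2,1,3],5)])]
noncomputable def O87 : ℕ := (nat_lit 4)
noncomputable def M88 : ℕ := (nat_lit 7)
noncomputable def b89 : ℕ := (nat_lit 3)
theorem cl90 : Clo.{u} io C59 [0,1] 3 m58 M88 (mkB [(2,b89),(3,b76)]) := cl77.new (k := 0) (b := 2) (q := 1) (p := 2) (r := 200) (n := 1) (O := O87) (by decide +kernel) (lks := lk86) (by decide +kernel) (gens_of_lall2 (m := [[0]]) (by decide +kernel)) ix78 (by decide +kernel)
noncomputable def b91 : ℕ := (nat_lit 7)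
noncomputable def b92 : ℕ := (nat_lit 7)
theorem cl93 : Clo.{u} io C59 [0,1] 3 m58 M88 (mkB [(2,b91),(3,b92)]) := cl90.ops (os := [Op.inv 2,Op.rel 2 [] 3 [3] [([],3)],Op.inv 2]) (by decide +kernel) (by decide +kernel)
theorem sat95 : Sat io C59 (finG m58ok) := m58s0.fin (k := 2) (by decide +kernel)
theorem bd94 : Bound.{u} io C59 [0,1,2,3] 21 := cl93.bound (by decide +kernel) sat95 (bd56.of_imp imp61)
noncomputable def r3 : List ℕ := [4,4,4,4]
noncomputable def r4 : List ℕ := [4,0,4,0,4,0]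
noncomputable def r5 : List ℕ := [5,2,4,2]
noncomputable def r6 : List ℕ := [5,1,4,1,4,1]
noncomputable def m96n0 : Net := (Net.cons (nat_lit 8) (nat_lit 146)
  (Net.cons (nat_lit 4) (nat_lit 772)
  (Net.cons (nat_lit 2) (nat_lit 4914)
  (Net.cons (nat_lit 1) (nat_lit 20752)
  (Net.cons (nat_lit 2) (nat_lit 32)
  (Net.cons (nat_lit 4) (nat_lit 2048)
  (Net.cons (nat_lit 8) (nat_lit 24)
  Net.nil)))))))
noncomputable def m96n1 : Net := (Net.cons (nat_lit 8) (nat_lit 24)
  (Net.cons (nat_lit 4) (nat_lit 1280)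
  (Net.cons (nat_lit 2) (nat_lit 12818)
  (Net.cons (nat_lit 1) (nat_lit 17728)
  (Net.cons (nat_lit 4) (nat_lit 2052)
  (Net.cons (nat_lit 8) (nat_lit 146)
  Net.nil))))))
noncomputable def m96n2 : Net := (Net.cons (nat_lit 8) (nat_lit 204)
  (Net.cons (nat_lit 4) (nat_lit 4)
  (Net.cons (nat_lit 2) (nat_lit 4112)
  (Net.cons (nat_lit 1) (nat_lit 4420)
  (Net.cons (nat_lit 2) (nat_lit 512)
  (Net.cons (nat_lit 4) (nat_lit 8)
  (Net.cons (nat_lit 8) (nat_lit 76)
  Net.nil)))))))
noncomputable def m96n3 : Net := (Net.cons (nat_lit 8) (nat_lit 76)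
  (Net.cons (nat_lit 4) (nat_lit 8)
  (Net.cons (nat_lit 2) (nat_lit 12848)
  (Net.cons (nat_lit 1) (nat_lit 16660)
  (Net.cons (nat_lit 2) (nat_lit 8224)
  (Net.cons (nat_lit 4) (nat_lit 4)
  (Net.cons (nat_lit 8) (nat_lit 204)
  Net.nil)))))))
noncomputable def m96n4 : Net := (Net.cons (nat_lit 4) (nat_lit 3080)
  (Net.cons (nat_lit 2) (nat_lit 13105)
  (Net.cons (nat_lit 1) (nat_lit 21777)
  (Net.cons (nat_lit 2) (nat_lit 32)
  (Net.cons (nat_lit 4) (nat_lit 2)
  Net.nil)))))
noncomputable def m96n5 : Net := (Net.cons (nat_lit 4) (nat_lit 770)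
  (Net.cons (nat_lit 2) (nat_lit 13075)
  (Net.cons (nat_lit 1) (nat_lit 21828)
  (Net.cons (nat_lit 2) (nat_lit 2)
  (Net.cons (nat_lit 4) (nat_lit 8)
  Net.nil)))))
noncomputable def m96l : List Net := [m96n0,m96n1,m96n2,m96n3,m96n4,m96n5]
noncomputable abbrev m96 : ℕ → Net := lk Net.nil m96l
theorem m96ok : NetsOk 16 m96 vT := netsOk_of (by decide +kernel)
theorem m96s0 : Sat io [] (finG m96ok) := fin_sat_nil _ (k := 4) (n := 12) (by decide +kernel)
noncomputable def C97 : List (List ℕ) := [r0,r1,r2,r3,r4,r5,r6]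
theorem cl98 : Clo.{u} io C97 [0,1,2,3] 16 m96 1 (mkB []) := Clo.start (by decide +kernel)
theorem imp99 : Imp.{u} io C97 C59 := Imp.of_chk (pfs := [[([],1)],[([],3)],[([],5)]]) (by decide +kernel)
theorem der101 : Der 240 (finX 240) (cl (finG m2ok) [[2]]) (fun _ => Net.nil) := Der.zero (finModel m2ok).inj
noncomputable def ns102 : ℕ → Net := upd (fun _ => Net.nil) 0 (m2 2)
theorem der103 : Der 240 (finX 240) (cl (finG m2ok) [[2]]) ns102 := der101.add (wp_mem_cl (w := [2]) (by decide)) (rep_letter (finModel m2ok) 2) 0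
noncomputable def L104 : Lev := Lev.cons 0 3 [[0]] Lev.nil
theorem lc105 : Lev.chk 240 5 ns102 vT 100 L104 = true := by decide +kernel
theorem lb106 : 3 ≤ Nat.card (cl (finG m2ok) [[2]]) := le_of_eq_of_le (by decide +kernel) (der103.card_ge lc105)
theorem sat107 : Sat io C59 (finG m2ok) := m2s0.fin (k := 8) (by decide +kernel)
theorem ix100 : Idx.{u} io C97 [0,1,2,3] [[2]] 7 := (Idx.of bd94 sat107 (by decide +kernel) lb106 (by decide +kernel)).of_imp imp99
noncomputable def lk108 : List (List ℕ × List ℕ × Pf) := [([2],[3],[([4],11)])]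
noncomputable def O109 : ℕ := (nat_lit 3866)
noncomputable def M110 : ℕ := (nat_lit 3867)
noncomputable def b111 : ℕ := (nat_lit 1)
theorem cl112 : Clo.{u} io C97 [0,1,2,3] 16 m96 M110 (mkB [(4,b111)]) := cl98.new (k := 1) (b := 4) (q := 0) (p := 1) (r := 200) (n := 7) (O := O109) (by decide +kernel) (lks := lk108) (by decide +kernel) (gens_of_lall2 (m := [[0]]) (by decide +kernel)) ix100 (by decide +kernel)
noncomputable def b113 : ℕ := (nat_lit 3089)
noncomputable def b114 : ℕ := (nat_lit 778)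
theorem cl115 : Clo.{u} io C97 [0,1,2,3] 16 m96 M110 (mkB [(4,b113),(5,b114)]) := cl112.ops (os := [Op.inv 4,Op.rel 4 [1] 4 [0,5,0] [([4],13)],Op.ext 4 2 [([2],[3],[([4],11)]),([3],[2],[([4,2],10)])],Op.inv 4]) (by decide +kernel) (by decide +kernel)
theorem der117 : Der 240 (finX 240) (cl (finG m2ok) [[2],[1]]) (fun _ => Net.nil) := Der.zero (finModel m2ok).inj
noncomputable def ns118 : ℕ → Net := upd (fun _ => Net.nil) 0 (m2 2)
theorem der119 : Der 240 (finX 240) (cl (finG m2ok) [[2],[1]]) ns118 := der117.add (wp_mem_cl (w := [2]) (by decide)) (rep_letter (finModel m2ok) 2) 0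
noncomputable def ns120 : ℕ → Net := upd ns118 1 (m2 1)
theorem der121 : Der 240 (finX 240) (cl (finG m2ok) [[2],[1]]) ns120 := der119.add (wp_mem_cl (w := [1]) (by decide)) (rep_letter (finModel m2ok) 1) 1
noncomputable def L122 : Lev := Lev.cons 0 21 [[0],[1]] Lev.nil
theorem lc123 : Lev.chk 240 5 ns120 vT 100 L122 = true := by decide +kernel
theorem lb124 : 21 ≤ Nat.card (cl (finG m2ok) [[2],[1]]) := le_of_eq_of_le (by decide +kernel) (der121.card_ge lc123)
theorem ix116 : Idx.{u} io C97 [0,1,2,3] [[2],[1]] 1 := (Idx.of bd94 sat107 (by decide +kernel) lb124 (by decide +kernel)).of_imp imp99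
noncomputable def lk125 : List (List ℕ × List ℕ × Pf) := [([2],[3],[([4],11)]),([1],[0,5,0],[([4],13)])]
noncomputable def O126 : ℕ := (nat_lit 32)
noncomputable def M127 : ℕ := (nat_lit 3899)
noncomputable def b128 : ℕ := (nat_lit 3091)
theorem cl129 : Clo.{u} io C97 [0,1,2,3] 16 m96 M127 (mkB [(4,b128),(5,b114)]) := cl115.new (k := 1) (b := 4) (q := 1) (p := 5) (r := 200) (n := 1) (O := O126) (by decide +kernel) (lks := lk125) (by decide +kernel) (gens_of_lall2 (m := [[0],[1]]) (by decide +kernel)) ix116 (by decide +kernel)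
noncomputable def b130 : ℕ := (nat_lit 810)
theorem cl131 : Clo.{u} io C97 [0,1,2,3] 16 m96 M127 (mkB [(4,b128),(5,b130)]) := cl129.ops (os := [Op.inv 4]) (by decide +kernel) (by decide +kernel)
theorem der133 : Der 240 (finX 240) (cl (finG m2ok) [[3,1]]) (fun _ => Net.nil) := Der.zero (finModel m2ok).inj
noncomputable def x134 : Net := (Net.cons (nat_lit 128) (nat_lit 0x331c35f26a691ff8a560b97e92e25a3d)
  (Net.cons (nat_lit 64) (nat_lit 0x6a940261ddedc8f8000000000000000041dfc6e0c88e2e1c)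
  (Net.cons (nat_lit 32) (nat_lit 0x214da6020000000093c74712000000001dd0986f00000000ba625667)
  (Net.cons (nat_lit 16) (nat_lit 0xede30000e33a0000535b0000702d0000293a000014330000b4640000c6b1)
  (Net.cons (nat_lit 8) (nat_lit 0xc20089002e00f9009300e6007100ca0010001800d20037000000e2009000fa)
  (Net.cons (nat_lit 4) (nat_lit 0xa07090c05080302040101090a06040d080701030a0503080e00020f08090e0e)
  (Net.cons (nat_lit 2) (nat_lit 0x3202022113020130010122001010200100131322330333230022330212210302)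
  (Net.cons (nat_lit 1) (nat_lit 0x4141101005101051400544145105411414050401144145051404451454144410)
  (Net.cons (nat_lit 2) (nat_lit 0x220002000002000200020200200220020000002002220002002202000002000)
  (Net.cons (nat_lit 4) (nat_lit 0x600080c000a0a02060a000a04040200000c040000040a000600000408080802)
  (Net.cons (nat_lit 8) (nat_lit 0xd000d800b80044007000f8006800de000c001000a800700084008800940020)
  (Net.cons (nat_lit 16) (nat_lit 0xc76e0000e2360000575c0000cd060000716000005d90000022c400000d28)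
  (Net.cons (nat_lit 32) (nat_lit 0x4841e3100000000014c23f300000000010c2fef400000000cca20966)
  (Net.cons (nat_lit 64) (nat_lit 0x5880d62f610301f20000000000000000459f94f4f39563b2)
  (Net.cons (nat_lit 128) (nat_lit 0x331c35061c3b70dd0a0d264bf97c22ae)
  Net.nil)))))))))))))))
noncomputable def ns135 : ℕ → Net := upd (fun _ => Net.nil) 0 x134
theorem der136 : Der 240 (finX 240) (cl (finG m2ok) [[3,1]]) ns135 := der133.add (wp_mem_cl (w := [3,1]) (by decide)) ((finModel m2ok).toIsPre.rep_word (k := 8) (w := [3,1]) (n := x134) (by decide +kernel)) 0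
noncomputable def L137 : Lev := Lev.cons 0 3 [[0]] Lev.nil
theorem lc138 : Lev.chk 240 5 ns135 vT 100 L137 = true := by decide +kernel
theorem lb139 : 3 ≤ Nat.card (cl (finG m2ok) [[3,1]]) := le_of_eq_of_le (by decide +kernel) (der136.card_ge lc138)
theorem ix132 : Idx.{u} io C97 [0,1,2,3] [[3,1]] 7 := (Idx.of bd94 sat107 (by decide +kernel) lb139 (by decide +kernel)).of_imp imp99
noncomputable def lk140 : List (List ℕ × List ℕ × Pf) := [([3],[2],[([4,2],10)]),([1],[0,5,0],[([4],13)])]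
noncomputable def O141 : ℕ := (nat_lit 61636)
noncomputable def M142 : ℕ := (nat_lit 65535)
noncomputable def b143 : ℕ := (nat_lit 3099)
theorem cl144 : Clo.{u} io C97 [0,1,2,3] 16 m96 M142 (mkB [(4,b143),(5,b130)]) := cl131.new (k := 1) (b := 4) (q := 3) (p := 7) (r := 200) (n := 7) (O := O141) (by decide +kernel) (lks := lk140) (by decide +kernel) (gens_of_lall2 (m := [[0,1]]) (by decide +kernel)) ix132 (by decide +kernel)
noncomputable def b145 : ℕ := (nat_lit 65535)
noncomputable def b146 : ℕ := (nat_lit 65535)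
theorem cl147 : Clo.{u} io C97 [0,1,2,3] 16 m96 M142 (mkB [(4,b145),(5,b146)]) := cl144.ops (os := [Op.ext 4 2 [([2],[3],[([4],11)]),([3],[2],[([4,2],10)])],Op.inv 4,Op.rel 4 [0] 5 [1,5,1] [([5],9)],Op.ext 4 2 [([2],[3],[([4],11)]),([3],[2],[([4,2],10)])],Op.inv 4,Op.rel 4 [] 5 [5,5] [([],7)],Op.inv 4]) (by decide +kernel) (by decide +kernel)
theorem sat149 : Sat io C97 (finG m96ok) := m96s0.fin (k := 4) (by decide +kernel)
theorem bd148 : Bound.{u} io C97 [0,1,2,3,4,5] 336 := cl147.bound (by decide +kernel) sat149 (bd94.of_imp imp99)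
noncomputable def r7 : List ℕ := [6,6,6]
noncomputable def r8 : List ℕ := [6,2,7,0,3]
noncomputable def r9 : List ℕ := [7,5,5,6,5,5]
noncomputable def r10 : List ℕ := [6,1,1,6,1,3]
noncomputable def r11 : List ℕ := [7,5,1,7,4,7,1,2,5,0,0]
noncomputable def r12 : List ℕ := [7,0,5,0,6,4,6,0,3,4,0,2]
noncomputable def m150n0 : Net := (Net.cons (nat_lit 64) (nat_lit 0xbccb068a03306ac2)
  (Net.cons (nat_lit 32) (nat_lit 0xb2001c6300000000d213d5ec)
  (Net.cons (nat_lit 16) (nat_lit 0x44f30000ff81000013150000965c)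
  (Net.cons (nat_lit 8) (nat_lit 0xb2002b00f60036003100ba00b0002e)
  (Net.cons (nat_lit 4) (nat_lit 0xa01090b0d0a0a0f0d040807030c000a)
  (Net.cons (nat_lit 2) (nat_lit 0x10210310331320030331323233032100)
  (Net.cons (nat_lit 1) (nat_lit 0x14041501104414041415054110144414)
  (Net.cons (nat_lit 2) (nat_lit 0x22020000200220020020000000002020)
  (Net.cons (nat_lit 4) (nat_lit 0x2000806080c04020c000e0802040606)
  (Net.cons (nat_lit 8) (nat_lit 0x5a00a0000800d20060008a0094006c)
  (Net.cons (nat_lit 16) (nat_lit 0x4a580000d2f4000003840000f0d4)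
  (Net.cons (nat_lit 32) (nat_lit 0xae06dc9400000000d1e8808a)
  (Net.cons (nat_lit 64) (nat_lit 0xbc1e00961865e270)
  Net.nil)))))))))))))
noncomputable def m150n1 : Net := (Net.cons (nat_lit 64) (nat_lit 0xbc1e00961865e270)
  (Net.cons (nat_lit 32) (nat_lit 0x517d632e00000000d1e8808a)
  (Net.cons (nat_lit 16) (nat_lit 0x26e700007de40000fc7d0000f0d4)
  (Net.cons (nat_lit 8) (nat_lit 0xb600f40004001800cc005a0094009a)
  (Net.cons (nat_lit 4) (nat_lit 0xa0b000d040202050e0704020e040106)
  (Net.cons (nat_lit 2) (nat_lit 0x21101010033102301133231033033220)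
  (Net.cons (nat_lit 1) (nat_lit 0x10401401541114101541114140111144)
  (Net.cons (nat_lit 2) (nat_lit 0x20202002000000002000202000002020)
  (Net.cons (nat_lit 4) (nat_lit 0xc04000408080a0008080404000c0400)
  (Net.cons (nat_lit 8) (nat_lit 0x60000c003800a200a8009800b000d4)
  (Net.cons (nat_lit 16) (nat_lit 0xb3ba0000f1000000eca20000965c)
  (Net.cons (nat_lit 32) (nat_lit 0x6df7c2cc00000000d213d5ec)
  (Net.cons (nat_lit 64) (nat_lit 0xbccb068a03306ac2)
  Net.nil)))))))))))))
noncomputable def m150n2 : Net := (Net.cons (nat_lit 64) (nat_lit 0xd4209e21fd9cb4ec)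
  (Net.cons (nat_lit 32) (nat_lit 0x70eb214900000000d11e07a8)
  (Net.cons (nat_lit 16) (nat_lit 0x97fb0000ce99000099da000018c2)
  (Net.cons (nat_lit 8) (nat_lit 0x3800040024008400f200d40009002e)
  (Net.cons (nat_lit 4) (nat_lit 0x1030807050907090009090b030f000e)
  (Net.cons (nat_lit 2) (nat_lit 0x20320033312203113031103301030102)
  (Net.cons (nat_lit 1) (nat_lit 0x51044004051404411001141514544414)
  (Net.cons (nat_lit 2) (nat_lit 0x2022002002200020000222002000002)
  (Net.cons (nat_lit 4) (nat_lit 0x80008080e04060a02080e0000020800)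
  (Net.cons (nat_lit 8) (nat_lit 0x18001c00b000a4009000ca00060044)
  (Net.cons (nat_lit 16) (nat_lit 0x73900000c6080000816e00003e50)
  (Net.cons (nat_lit 32) (nat_lit 0x745d52a000000000f02b238c)
  (Net.cons (nat_lit 64) (nat_lit 0xd491836991535a0e)
  Net.nil)))))))))))))
noncomputable def m150n3 : Net := (Net.cons (nat_lit 64) (nat_lit 0xd491836991535a0e)
  (Net.cons (nat_lit 32) (nat_lit 0xe41ce8b000000000f02b238c)
  (Net.cons (nat_lit 16) (nat_lit 0x2cf00000a9e20000816e00003e50)
  (Net.cons (nat_lit 8) (nat_lit 0x1400eb0047008a009000ca00e90044)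
  (Net.cons (nat_lit 4) (nat_lit 0xc0d030807070007020c010f0d0f0808)
  (Net.cons (nat_lit 2) (nat_lit 0x30031222011333233033213130100302)
  (Net.cons (nat_lit 1) (nat_lit 0x14441041010114144004445415114114)
  (Net.cons (nat_lit 2) (nat_lit 0x200020020022000002020000200202)
  (Net.cons (nat_lit 4) (nat_lit 0xa080002080e00080604000c0006)
  (Net.cons (nat_lit 8) (nat_lit 0x4000da006a00c000f200d400f4002e)
  (Net.cons (nat_lit 16) (nat_lit 0x185a00003120000099da000018c2)
  (Net.cons (nat_lit 32) (nat_lit 0xf4e9b01000000000d11e07a8)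
  (Net.cons (nat_lit 64) (nat_lit 0xd4209e21fd9cb4ec)
  Net.nil)))))))))))))
noncomputable def m150n4 : Net := (Net.cons (nat_lit 64) (nat_lit 0xcd9b573f1c1d0104)
  (Net.cons (nat_lit 32) (nat_lit 0xf0b380a200000000941d0100)
  (Net.cons (nat_lit 16) (nat_lit 0x56e60000d890000050c90000f0a0)
  (Net.cons (nat_lit 8) (nat_lit 0xc700fc001100ad008000ba005000d6)
  (Net.cons (nat_lit 4) (nat_lit 0xb07040e02030802040e000b00010a02)
  (Net.cons (nat_lit 2) (nat_lit 0x33312202230103032001013020023310)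
  (Net.cons (nat_lit 1) (nat_lit 0x15541151011404010004101100115004)
  (Net.cons (nat_lit 2) (nat_lit 0x20002202022200000002002200200000)
  (Net.cons (nat_lit 4) (nat_lit 0x804000e02080208000e0002000a0a00)
  (Net.cons (nat_lit 8) (nat_lit 0x3800dc001c0002002000b8001000d6)
  (Net.cons (nat_lit 16) (nat_lit 0x56e6000098800000f0800000f0a0)
  (Net.cons (nat_lit 32) (nat_lit 0xf0b380800000000094090100)
  (Net.cons (nat_lit 64) (nat_lit 0xcd9b573f1c1d0104)
  Net.nil)))))))))))))
noncomputable def m150n5 : Net := (Net.cons (nat_lit 64) (nat_lit 0xcd9b573f1c1d0104)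
  (Net.cons (nat_lit 32) (nat_lit 0xf0b380a200000000941d0100)
  (Net.cons (nat_lit 16) (nat_lit 0x56e60000d890000050c90000f0a0)
  (Net.cons (nat_lit 8) (nat_lit 0xc700fc001100ad008000ba005000d6)
  (Net.cons (nat_lit 4) (nat_lit 0xb07040e02030802040e000b00010a02)
  (Net.cons (nat_lit 2) (nat_lit 0x33312202230103032001013020023310)
  (Net.cons (nat_lit 1) (nat_lit 0x15541151011404010004101100115004)
  (Net.cons (nat_lit 2) (nat_lit 0x20002202022200000002002200200000)
  (Net.cons (nat_lit 4) (nat_lit 0x804000e02080208000e0002000a0a00)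
  (Net.cons (nat_lit 8) (nat_lit 0x3800dc001c0002002000b8001000d6)
  (Net.cons (nat_lit 16) (nat_lit 0x56e6000098800000f0800000f0a0)
  (Net.cons (nat_lit 32) (nat_lit 0xf0b380800000000094090100)
  (Net.cons (nat_lit 64) (nat_lit 0xcd9b573f1c1d0104)
  Net.nil)))))))))))))
noncomputable def m150n6 : Net := (Net.cons (nat_lit 64) (nat_lit 0x5c921c5924dc250)
  (Net.cons (nat_lit 32) (nat_lit 0x250ce3e500000000d8223561)
  (Net.cons (nat_lit 16) (nat_lit 0x3d5e00005f070000edb700008ec1)
  (Net.cons (nat_lit 8) (nat_lit 0x3100cd00fd00940026009800d40061)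
  (Net.cons (nat_lit 4) (nat_lit 0xc0402010805040d050c000109090c08)
  (Net.cons (nat_lit 2) (nat_lit 0x20210300123100102013221232210301)
  (Net.cons (nat_lit 1) (nat_lit 0x40100141111545411411504410445415)
  (Net.cons (nat_lit 2) (nat_lit 0x200200222000020002000220200000)
  (Net.cons (nat_lit 4) (nat_lit 0xc0004000a0c0004000202000c0c060c)
  (Net.cons (nat_lit 8) (nat_lit 0x28002c003c00d8008200b800480004)
  (Net.cons (nat_lit 16) (nat_lit 0x1d0200001988000075ae00006700)
  (Net.cons (nat_lit 32) (nat_lit 0x24590e600000000082583884)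
  (Net.cons (nat_lit 64) (nat_lit 0x51882dce941d070)
  Net.nil)))))))))))))
noncomputable def m150n7 : Net := (Net.cons (nat_lit 64) (nat_lit 0x51882dce941d070)
  (Net.cons (nat_lit 32) (nat_lit 0x9b2cf912000000007da7c77b)
  (Net.cons (nat_lit 16) (nat_lit 0x8e7f00008d5d000088fb00008a51)
  (Net.cons (nat_lit 8) (nat_lit 0xc400fa003300f500fb006000b80082)
  (Net.cons (nat_lit 4) (nat_lit 0xc0208030802040c060301020f0f02)
  (Net.cons (nat_lit 2) (nat_lit 0x30020122300021010213233012230031)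
  (Net.cons (nat_lit 1) (nat_lit 0x11415411444410041551041450414144)
  (Net.cons (nat_lit 2) (nat_lit 0x20000020220020000000022000220220)
  (Net.cons (nat_lit 4) (nat_lit 0x40c080002000404080c0604000e0a0c)
  (Net.cons (nat_lit 8) (nat_lit 0xc800b000b200c4009e00bc00980026)
  (Net.cons (nat_lit 16) (nat_lit 0x90b80000ec880000791e00001248)
  (Net.cons (nat_lit 32) (nat_lit 0x9aa548120000000027ddca9e)
  (Net.cons (nat_lit 64) (nat_lit 0x5c921c5924dc250)
  Net.nil)))))))))))))
noncomputable def m150l : List Net := [m150n0,m150n1,m150n2,m150n3,m150n4,m150n5,m150n6,m150n7]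
noncomputable abbrev m150 : ℕ → Net := lk Net.nil m150l
theorem m150ok : NetsOk 120 m150 vT := netsOk_of (by decide +kernel)
theorem m150s0 : Sat io [] (finG m150ok) := fin_sat_nil _ (k := 7) (n := 12) (by decide +kernel)
noncomputable def C151 : List (List ℕ) := [r0,r1,r2,r3,r4,r5,r6,r7,r8,r9,r10,r11,r12]
theorem cl152 : Clo.{u} io C151 [0,1,2,3,4,5] 120 m150 1 (mkB []) := Clo.start (by decide +kernel)
theorem imp153 : Imp.{u} io C151 C97 := Imp.of_chk (pfs := [[([],1)],[([],3)],[([],5)],[([],7)],[([],9)],[([],11)],[([],13)]]) (by decide +kernel)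
theorem der155 : Der 240 (finX 240) (cl (finG m2ok) [[0,3],[5,5]]) (fun _ => Net.nil) := Der.zero (finModel m2ok).inj
noncomputable def x156 : Net := (Net.cons (nat_lit 128) (nat_lit 0x6ec02b664c86dcbdbb0e99628ed3ea3c)
  (Net.cons (nat_lit 64) (nat_lit 0x2e9ea2ba768cf7b0000000000000000018171812b83684d9)
  (Net.cons (nat_lit 32) (nat_lit 0xadc791d200000000cffc059200000000e241e452000000001214cad6)
  (Net.cons (nat_lit 16) (nat_lit 0x4a780000a75a00005b020000824c0000fb400000f2950000479c0000cfe9)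
  (Net.cons (nat_lit 8) (nat_lit 0xb10006005a0024008e001f00c50035002200b200f800ab008500b300400083)
  (Net.cons (nat_lit 4) (nat_lit 0x6040d080f00080401090d0606040c00020d0a0f090e04080e090e0a070d0508)
  (Net.cons (nat_lit 2) (nat_lit 0x1001122230123222313203202122021310300200221210022332111001103032)
  (Net.cons (nat_lit 1) (nat_lit 0x1400111440141410155011410145144400401104140111414050404514400414)
  (Net.cons (nat_lit 2) (nat_lit 0x200002220022200000002000220222200002200220220022000200000200002)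
  (Net.cons (nat_lit 4) (nat_lit 0x800080006040c000408000808000c00000c0200080804040800080a0a000408)
  (Net.cons (nat_lit 8) (nat_lit 0x34004e0060006800d2006a00020046000200ce00c800be0024009800e400e6)
  (Net.cons (nat_lit 16) (nat_lit 0x45b80000b3680000f40a0000d82e00006b100000fe10000056d200009e48)
  (Net.cons (nat_lit 32) (nat_lit 0xc9c3cb5000000000b75d42f0000000007b550484000000007553494a)
  (Net.cons (nat_lit 64) (nat_lit 0x6a5e919c8b6cd9360000000000000000881d5c6b82eca806)
  (Net.cons (nat_lit 128) (nat_lit 0x6ec02f6a772646bfec77ca87992d48a0)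
  Net.nil)))))))))))))))
noncomputable def ns157 : ℕ → Net := upd (fun _ => Net.nil) 0 x156
theorem der158 : Der 240 (finX 240) (cl (finG m2ok) [[0,3],[5,5]]) ns157 := der155.add (wp_mem_cl (w := [0,3]) (by decide)) ((finModel m2ok).toIsPre.rep_word (k := 8) (w := [0,3]) (n := x156) (by decide +kernel)) 0
noncomputable def x159 : Net := (Net.cons (nat_lit 128) (nat_lit 0xb900580001847ea27880bf5c09106660)
  (Net.cons (nat_lit 64) (nat_lit 0xf4180800000580000000000000000000874a04240188fbd0)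
  (Net.cons (nat_lit 32) (nat_lit 0xc0003fe000000000fec75b0000000000ff5da07100000000a13580a1)
  (Net.cons (nat_lit 16) (nat_lit 0xbe40000080000000580c0000574b0000a0390000e434000064c50000c17f)
  (Net.cons (nat_lit 8) (nat_lit 0xf800e0008100c000c400b1009a0065001b007100c400b500c5003b008100c8)
  (Net.cons (nat_lit 4) (nat_lit 0xe0e03000f0804010304090d060107090b00050d00030c0e090102020102060d)
  (Net.cons (nat_lit 2) (nat_lit 0x3122200033331012130322201321132231121223001323133321022122020213)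
  (Net.cons (nat_lit 1) (nat_lit 0x5014155541054555154554451444141051545441414554511545444154155444)
  (Net.cons (nat_lit 2) (nat_lit 0x20200000002000002000202222022000020020202000020000220002200202)
  (Net.cons (nat_lit 4) (nat_lit 0xe0e02000008080c0000020c0a08040800000a080402080e0002000408060208)
  (Net.cons (nat_lit 8) (nat_lit 0xe000d0000000e000600046000600ce0014005c006000ea00a00044000000e0)
  (Net.cons (nat_lit 16) (nat_lit 0x7e400000800000008208000065bc000051100000e4680000a3a2000089ac)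
  (Net.cons (nat_lit 32) (nat_lit 0xc0005fd000000000ff259300000000007fabc0aa00000000c15a0140)
  (Net.cons (nat_lit 64) (nat_lit 0xf41804000003800000000000000000008785030018115fac)
  (Net.cons (nat_lit 128) (nat_lit 0xb900a40001827f1078225ebc09080660)
  Net.nil)))))))))))))))
noncomputable def ns160 : ℕ → Net := upd ns157 1 x159
theorem der161 : Der 240 (finX 240) (cl (finG m2ok) [[0,3],[5,5]]) ns160 := der158.add (wp_mem_cl (w := [5,5]) (by decide)) ((finModel m2ok).toIsPre.rep_word (k := 8) (w := [5,5]) (n := x159) (by decide +kernel)) 1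
noncomputable def L162 : Lev := Lev.cons 0 6 [[0],[1]] Lev.nil
theorem lc163 : Lev.chk 240 5 ns160 vT 100 L162 = true := by decide +kernel
theorem lb164 : 6 ≤ Nat.card (cl (finG m2ok) [[0,3],[5,5]]) := le_of_eq_of_le (by decide +kernel) (der161.card_ge lc163)
theorem sat165 : Sat io C97 (finG m2ok) := m2s0.fin (k := 8) (by decide +kernel)
theorem ix154 : Idx.{u} io C151 [0,1,2,3,4,5] [[0,3],[5,5]] 56 := (Idx.of bd148 sat165 (by decide +kernel) lb164 (by decide +kernel)).of_imp imp153
noncomputable def lk166 : List (List ℕ × List ℕ × Pf) := [([0,3],[3],[([6,3,7],17)]),([5,5],[4,4],[([6],19)])]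
noncomputable def O167 : ℕ := (nat_lit 0x78008c203bb0dd833eeceefffe)
noncomputable def M168 : ℕ := (nat_lit 0x78008c203bb0dd833eeceeffff)
noncomputable def b169 : ℕ := (nat_lit 1)
theorem cl170 : Clo.{u} io C151 [0,1,2,3,4,5] 120 m150 M168 (mkB [(6,b169)]) := cl152.new (k := 4) (b := 6) (q := 0) (p := 1) (r := 200) (n := 56) (O := O167) (by decide +kernel) (lks := lk166) (by decide +kernel) (gens_of_lall2 (m := [[0],[1]]) (by decide +kernel)) ix154 (by decide +kernel)
noncomputable def b171 : ℕ := (nat_lit 0x200004002820c4000e20883aff)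
noncomputable def b172 : ℕ := (nat_lit 0x200004201010400206c86683bf)
theorem cl173 : Clo.{u} io C151 [0,1,2,3,4,5] 120 m150 M168 (mkB [(6,b171),(7,b172)]) := cl170.ops (os := [Op.inv 6,Op.rel 6 [1,3] 7 [0,0] [([7,0,0,7],21)],Op.inv 6,Op.rel 6 [] 7 [7] [([],15)],Op.ext 6 2 [([0,3],[3],[([6,3,7],17)]),([2,1],[2],[([],16)]),([5,5],[4,4],[([6],19)]),([4,4],[5,5],[([6,5,5],18)])],Op.inv 6,Op.rel 6 [1,3] 7 [0,0] [([7,0,0,7],21)],Op.inv 6,Op.rel 7 [1,2,5,0,0] 6 [5,6,0,4] [([6,5,6,0,4,6],23)],Op.ext 7 2 [([2],[2,1],[([7],17)]),([3],[0,3],[([7,0,3],16)]),([5,5],[4,4],[([7,4,4,6],19)]),([4,4],[5,5],[([],18)])],Op.inv 7,Op.rel 6 [1,3] 7 [0,0] [([7,0,0,7],21)],Op.inv 6,Op.rel 7 [1,2,5,0,0] 6 [5,6,0,4] [([6,5,6,0,4,6],23)],Op.ext 7 2 [([2],[2,1],[([7],17)]),([3],[0,3],[([7,0,3],16)]),([5,5],[4,4],[([7,4,4,6],19)]),([4,4],[5,5],[([],18)])],Op.inv 7,Op.rel 6 [1,3] 7 [0,0] [([7,0,0,7],21)],Op.inv 6,Op.rel 6 [] 7 [7] [([],15)],Op.ext 6 2 [([0,3],[3],[([6,3,7],17)]),([2,1],[2],[([],16)]),([5,5],[4,4],[([6],19)]),([4,4],[5,5],[([6,5,5],18)])],Op.inv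 6,Op.rel 6 [1,3] 7 [0,0] [([7,0,0,7],21)],Op.inv 6]) (by decide +kernel) (by decide +kernel)
theorem der175 : Der 240 (finX 240) (cl (finG m2ok) [[0,3],[5,5],[1,4,3,1,4,1,1,4,3,0,5,0]]) (fun _ => Net.nil) := Der.zero (finModel m2ok).inj
noncomputable def x176 : Net := (Net.cons (nat_lit 128) (nat_lit 0x6ec02b664c86dcbdbb0e99628ed3ea3c)
  (Net.cons (nat_lit 64) (nat_lit 0x2e9ea2ba768cf7b0000000000000000018171812b83684d9)
  (Net.cons (nat_lit 32) (nat_lit 0xadc791d200000000cffc059200000000e241e452000000001214cad6)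
  (Net.cons (nat_lit 16) (nat_lit 0x4a780000a75a00005b020000824c0000fb400000f2950000479c0000cfe9)
  (Net.cons (nat_lit 8) (nat_lit 0xb10006005a0024008e001f00c50035002200b200f800ab008500b300400083)
  (Net.cons (nat_lit 4) (nat_lit 0x6040d080f00080401090d0606040c00020d0a0f090e04080e090e0a070d0508)
  (Net.cons (nat_lit 2) (nat_lit 0x1001122230123222313203202122021310300200221210022332111001103032)
  (Net.cons (nat_lit 1) (nat_lit 0x1400111440141410155011410145144400401104140111414050404514400414)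
  (Net.cons (nat_lit 2) (nat_lit 0x200002220022200000002000220222200002200220220022000200000200002)
  (Net.cons (nat_lit 4) (nat_lit 0x800080006040c000408000808000c00000c0200080804040800080a0a000408)
  (Net.cons (nat_lit 8) (nat_lit 0x34004e0060006800d2006a00020046000200ce00c800be0024009800e400e6)
  (Net.cons (nat_lit 16) (nat_lit 0x45b80000b3680000f40a0000d82e00006b100000fe10000056d200009e48)
  (Net.cons (nat_lit 32) (nat_lit 0xc9c3cb5000000000b75d42f0000000007b550484000000007553494a)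
  (Net.cons (nat_lit 64) (nat_lit 0x6a5e919c8b6cd9360000000000000000881d5c6b82eca806)
  (Net.cons (nat_lit 128) (nat_lit 0x6ec02f6a772646bfec77ca87992d48a0)
  Net.nil)))))))))))))))
noncomputable def ns177 : ℕ → Net := upd (fun _ => Net.nil) 0 x176
theorem der178 : Der 240 (finX 240) (cl (finG m2ok) [[0,3],[5,5],[1,4,3,1,4,1,1,4,3,0,5,0]]) ns177 := der175.add (wp_mem_cl (w := [0,3]) (by decide)) ((finModel m2ok).toIsPre.rep_word (k := 8) (w := [0,3]) (n := x176) (by decide +kernel)) 0
noncomputable def x179 : Net := (Net.cons (nat_lit 128) (nat_lit 0xb900580001847ea27880bf5c09106660)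
  (Net.cons (nat_lit 64) (nat_lit 0xf4180800000580000000000000000000874a04240188fbd0)
  (Net.cons (nat_lit 32) (nat_lit 0xc0003fe000000000fec75b0000000000ff5da07100000000a13580a1)
  (Net.cons (nat_lit 16) (nat_lit 0xbe40000080000000580c0000574b0000a0390000e434000064c50000c17f)
  (Net.cons (nat_lit 8) (nat_lit 0xf800e0008100c000c400b1009a0065001b007100c400b500c5003b008100c8)
  (Net.cons (nat_lit 4) (nat_lit 0xe0e03000f0804010304090d060107090b00050d00030c0e090102020102060d)
  (Net.cons (nat_lit 2) (nat_lit 0x3122200033331012130322201321132231121223001323133321022122020213)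
  (Net.cons (nat_lit 1) (nat_lit 0x5014155541054555154554451444141051545441414554511545444154155444)
  (Net.cons (nat_lit 2) (nat_lit 0x20200000002000002000202222022000020020202000020000220002200202)
  (Net.cons (nat_lit 4) (nat_lit 0xe0e02000008080c0000020c0a08040800000a080402080e0002000408060208)
  (Net.cons (nat_lit 8) (nat_lit 0xe000d0000000e000600046000600ce0014005c006000ea00a00044000000e0)
  (Net.cons (nat_lit 16) (nat_lit 0x7e400000800000008208000065bc000051100000e4680000a3a2000089ac)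
  (Net.cons (nat_lit 32) (nat_lit 0xc0005fd000000000ff259300000000007fabc0aa00000000c15a0140)
  (Net.cons (nat_lit 64) (nat_lit 0xf41804000003800000000000000000008785030018115fac)
  (Net.cons (nat_lit 128) (nat_lit 0xb900a40001827f1078225ebc09080660)
  Net.nil)))))))))))))))
noncomputable def ns180 : ℕ → Net := upd ns177 1 x179
theorem der181 : Der 240 (finX 240) (cl (finG m2ok) [[0,3],[5,5],[1,4,3,1,4,1,1,4,3,0,5,0]]) ns180 := der178.add (wp_mem_cl (w := [5,5]) (by decide)) ((finModel m2ok).toIsPre.rep_word (k := 8) (w := [5,5]) (n := x179) (by decide +kernel)) 1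
noncomputable def x182 : Net := (Net.cons (nat_lit 128) (nat_lit 0x2ddd342bbfa02333e0cd1567930d8bce)
  (Net.cons (nat_lit 64) (nat_lit 0x408639ef364a688100000000000000002135b63ec82f759b)
  (Net.cons (nat_lit 32) (nat_lit 0xcab19a0500000000ccc7e75600000000f9d9d7b100000000b732b5e8)
  (Net.cons (nat_lit 16) (nat_lit 0xf33b0000c9d70000390b000066df00005db60000e5d7000008dc00006ba9)
  (Net.cons (nat_lit 8) (nat_lit 0x37008e00ea009900b2008500ff007100fa006f001100d100ae007d007a00a6)
  (Net.cons (nat_lit 4) (nat_lit 0x20f08090b0c0f0c0407050403020b000d040109080e03050d0c010600080c05)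
  (Net.cons (nat_lit 2) (nat_lit 0x221213321110233311201300312310330020120121002231212121200012221)
  (Net.cons (nat_lit 1) (nat_lit 0x4144054440400014414104441144551155411410000401451544101145145410)
  (Net.cons (nat_lit 2) (nat_lit 0x2020200002222200020020000200220200000200200020002220000020)
  (Net.cons (nat_lit 4) (nat_lit 0x20008080200080e040c080c0c0804080c06000208080008000a0a020a0c020c)
  (Net.cons (nat_lit 8) (nat_lit 0x6e0044007600fc002800b4002000d00042002c000400e0001800c600b0002c)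
  (Net.cons (nat_lit 16) (nat_lit 0x5b580000a4400000e2780000468a00001e04000056f60000735c00003708)
  (Net.cons (nat_lit 32) (nat_lit 0xce7e115200000000d29ec7be00000000aadf9c0400000000e1b84610)
  (Net.cons (nat_lit 64) (nat_lit 0x6cd7d1aa3c0db6680000000000000000b3371860707b14e4)
  (Net.cons (nat_lit 128) (nat_lit 0x2ddd725789c1d8bb81697cfa81954c90)
  Net.nil)))))))))))))))
noncomputable def ns183 : ℕ → Net := upd ns180 2 x182
theorem der184 : Der 240 (finX 240) (cl (finG m2ok) [[0,3],[5,5],[1,4,3,1,4,1,1,4,3,0,5,0]]) ns183 := der181.add (wp_mem_cl (w := [1,4,3,1,4,1,1,4,3,0,5,0]) (by decide)) ((finModel m2ok).toIsPre.rep_word (k := 8) (w := [1,4,3,1,4,1,1,4,3,0,5,0]) (n := x182) (by decide +kernel)) 2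
noncomputable def L185 : Lev := Lev.cons 0 24 [[0],[1],[2]] Lev.nil
theorem lc186 : Lev.chk 240 5 ns183 vT 100 L185 = true := by decide +kernel
theorem lb187 : 24 ≤ Nat.card (cl (finG m2ok) [[0,3],[5,5],[1,4,3,1,4,1,1,4,3,0,5,0]]) := le_of_eq_of_le (by decide +kernel) (der184.card_ge lc186)
theorem ix174 : Idx.{u} io C151 [0,1,2,3,4,5] [[0,3],[5,5],[1,4,3,1,4,1,1,4,3,0,5,0]] 14 := (Idx.of bd148 sat165 (by decide +kernel) lb187 (by decide +kernel)).of_imp imp153
noncomputable def lk188 : List (List ℕ × List ℕ × Pf) := [([0,3],[3],[([6,3,7],17)]),([5,5],[4,4],[([6],19)]),([1,4,1],[4,6,0,3,4,0,2],[([6,4,6,0,3,4,0,2],24)]),([0,5,0],[3,1,5,2,1,7,5],[([6],25)])]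
noncomputable def O189 : ℕ := (nat_lit 0x9900020300040e00004010100000)
noncomputable def M190 : ℕ := (nat_lit 0x9978028f203fbedd837efcfeffff)
noncomputable def b191 : ℕ := (nat_lit 0x200004002820c4000e20883bff)
theorem cl192 : Clo.{u} io C151 [0,1,2,3,4,5] 120 m150 M190 (mkB [(6,b191),(7,b172)]) := cl173.new (k := 4) (b := 6) (q := 8) (p := 20) (r := 200) (n := 14) (O := O189) (by decide +kernel) (lks := lk188) (by decide +kernel) (gens_of_lall2 (m := [[0],[1],[2,0,2,2,0,3]]) (by decide +kernel)) ix174 (by decide +kernel)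
noncomputable def b193 : ℕ := (nat_lit 0x11200204002f24c4002e38d87bff)
noncomputable def b194 : ℕ := (nat_lit 0x80300006201c12490346d876abbf)
theorem cl195 : Clo.{u} io C151 [0,1,2,3,4,5] 120 m150 M190 (mkB [(6,b193),(7,b194)]) := cl192.ops (os := [Op.inv 6,Op.rel 6 [] 7 [7] [([],15)],Op.ext 6 2 [([0,3],[3],[([6,3,7],17)]),([2,1],[2],[([],16)]),([5,5],[4,4],[([6],19)]),([4,4],[5,5],[([6,5,5],18)])],Op.inv 6,Op.rel 6 [] 7 [7] [([],15)],Op.ext 6 2 [([0,3],[3],[([6,3,7],17)]),([2,1],[2],[([],16)]),([5,5],[4,4],[([6],19)]),([4,4],[5,5],[([6,5,5],18)])],Op.inv 6,Op.rel 6 [1,3] 7 [0,0] [([7,0,0,7],21)],Op.inv 6,Op.rel 7 [1,2,5,0,0] 6 [5,6,0,4] [([6,5,6,0,4,6],23)],Op.ext 7 2 [([2],[2,1],[([7],17)]),([3],[0,3],[([7,0,3],16)]),([5,5],[4,4],[([7,4,4,6],19)]),([4,4],[5,5],[([],18)])],Op.inv 7]) (by decide +kernel) (by decide +kernel)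
theorem der197 : Der 240 (finX 240) (cl (finG m2ok) [[5,5],[2,0,3,4,0,2,0,3,4,0],[3,3,1,5,2,1]]) (fun _ => Net.nil) := Der.zero (finModel m2ok).inj
noncomputable def x198 : Net := (Net.cons (nat_lit 128) (nat_lit 0xb900580001847ea27880bf5c09106660)
  (Net.cons (nat_lit 64) (nat_lit 0xf4180800000580000000000000000000874a04240188fbd0)
  (Net.cons (nat_lit 32) (nat_lit 0xc0003fe000000000fec75b0000000000ff5da07100000000a13580a1)
  (Net.cons (nat_lit 16) (nat_lit 0xbe40000080000000580c0000574b0000a0390000e434000064c50000c17f)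
  (Net.cons (nat_lit 8) (nat_lit 0xf800e0008100c000c400b1009a0065001b007100c400b500c5003b008100c8)
  (Net.cons (nat_lit 4) (nat_lit 0xe0e03000f0804010304090d060107090b00050d00030c0e090102020102060d)
  (Net.cons (nat_lit 2) (nat_lit 0x3122200033331012130322201321132231121223001323133321022122020213)
  (Net.cons (nat_lit 1) (nat_lit 0x5014155541054555154554451444141051545441414554511545444154155444)
  (Net.cons (nat_lit 2) (nat_lit 0x20200000002000002000202222022000020020202000020000220002200202)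
  (Net.cons (nat_lit 4) (nat_lit 0xe0e02000008080c0000020c0a08040800000a080402080e0002000408060208)
  (Net.cons (nat_lit 8) (nat_lit 0xe000d0000000e000600046000600ce0014005c006000ea00a00044000000e0)
  (Net.cons (nat_lit 16) (nat_lit 0x7e400000800000008208000065bc000051100000e4680000a3a2000089ac)
  (Net.cons (nat_lit 32) (nat_lit 0xc0005fd000000000ff259300000000007fabc0aa00000000c15a0140)
  (Net.cons (nat_lit 64) (nat_lit 0xf41804000003800000000000000000008785030018115fac)
  (Net.cons (nat_lit 128) (nat_lit 0xb900a40001827f1078225ebc09080660)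
  Net.nil)))))))))))))))
noncomputable def ns199 : ℕ → Net := upd (fun _ => Net.nil) 0 x198
theorem der200 : Der 240 (finX 240) (cl (finG m2ok) [[5,5],[2,0,3,4,0,2,0,3,4,0],[3,3,1,5,2,1]]) ns199 := der197.add (wp_mem_cl (w := [5,5]) (by decide)) ((finModel m2ok).toIsPre.rep_word (k := 8) (w := [5,5]) (n := x198) (by decide +kernel)) 0
noncomputable def x201 : Net := (Net.cons (nat_lit 128) (nat_lit 0x157c26ee30fa76c41336b0b30505535d)
  (Net.cons (nat_lit 64) (nat_lit 0xacbcd91e716606a10000000000000000e9a9c939cf071d1d)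
  (Net.cons (nat_lit 32) (nat_lit 0x561a92e00000000037e9381500000000399961b100000000186927da)
  (Net.cons (nat_lit 16) (nat_lit 0xeb180000e4e000006e100000b17b00006ae50000942c00003c2b00000491)
  (Net.cons (nat_lit 8) (nat_lit 0x9a00e700a5001d001500f300c700ac00ca008300a600d700d400bf00f7001a)
  (Net.cons (nat_lit 4) (nat_lit 0xb00030b0404090b06080d0f010b0f010a0305010d04050008020c0004080b00)
  (Net.cons (nat_lit 2) (nat_lit 0x2130012112200303222121030332101210301322200212210030310130312201)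
  (Net.cons (nat_lit 1) (nat_lit 0x4414144511041105411141111101450110445111410410015400411414451010)
  (Net.cons (nat_lit 2) (nat_lit 0x2022000002002000220222000202000000200002020200000200220022202020)
  (Net.cons (nat_lit 4) (nat_lit 0x40c000e080c020c000c0c08060a020c00040800080002080808060a040e000c)
  (Net.cons (nat_lit 8) (nat_lit 0x7200d400c800300062000000e8006c0070003800a400900004003800b60014)
  (Net.cons (nat_lit 16) (nat_lit 0xd0ca0000eda8000008c0000076600000704e00007f840000a00600006246)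
  (Net.cons (nat_lit 32) (nat_lit 0xda4a0ca80000000071a33d34000000007b92536000000000e63dd6b4)
  (Net.cons (nat_lit 64) (nat_lit 0xa8cc1c2966f93100000000000000000041a853541b67a838)
  (Net.cons (nat_lit 128) (nat_lit 0x157cf8a4247d85cf61f7bcccc00b805a)
  Net.nil)))))))))))))))
noncomputable def ns202 : ℕ → Net := upd ns199 1 x201
theorem der203 : Der 240 (finX 240) (cl (finG m2ok) [[5,5],[2,0,3,4,0,2,0,3,4,0],[3,3,1,5,2,1]]) ns202 := der200.add (wp_mem_cl (w := [2,0,3,4,0,2,0,3,4,0]) (by decide)) ((finModel m2ok).toIsPre.rep_word (k := 8) (w := [2,0,3,4,0,2,0,3,4,0]) (n := x201) (by decide +kernel)) 1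
noncomputable def x204 : Net := (Net.cons (nat_lit 128) (nat_lit 0xcc2a4c92e596b4188c1581e771db902a)
  (Net.cons (nat_lit 64) (nat_lit 0xc4c309b3b693e2be0000000000000000bc35bbadfe7301ab)
  (Net.cons (nat_lit 32) (nat_lit 0x4abb81c000000001c31fd9700000000fcebfd0d000000007b3dd86f)
  (Net.cons (nat_lit 16) (nat_lit 0x5fd10000200a0000b04c0000794400002c25000006ad0000bc0700005920)
  (Net.cons (nat_lit 8) (nat_lit 0x2300c800e9007300ea00660046004400b3003000c6006f00f6000800110041)
  (Net.cons (nat_lit 4) (nat_lit 0x30a000e0b0801040b0b0f0e020c070b0b0b0c070509060701090100080a090f)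
  (Net.cons (nat_lit 2) (nat_lit 0x200000333302010302130100002313121223123232130310001220012031123)
  (Net.cons (nat_lit 1) (nat_lit 0x4410404041444501400540104144145141451411111550555105414111401441)
  (Net.cons (nat_lit 2) (nat_lit 0x2000200022222000000000200022000200000002220000000200222002200002)
  (Net.cons (nat_lit 4) (nat_lit 0x2080e0802080208000c0008000e0204020e08080000040800000c06000802)
  (Net.cons (nat_lit 8) (nat_lit 0x3800a800600070008e00c8004000a8000800a200de00ca00a4004200000094)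
  (Net.cons (nat_lit 16) (nat_lit 0x577a000060b40000e8500000f54c00000326000011cc0000fd000000d8f6)
  (Net.cons (nat_lit 32) (nat_lit 0xc0e06dd800000000ea0bc02000000000614aba480000000079b0c484)
  (Net.cons (nat_lit 64) (nat_lit 0xc8c910ee88cefca000000000000000008ca0bd1c1dc74e2e)
  (Net.cons (nat_lit 128) (nat_lit 0xcc2a678c13932d61c169f4a84ba1283c)
  Net.nil)))))))))))))))
noncomputable def ns205 : ℕ → Net := upd ns202 2 x204
theorem der206 : Der 240 (finX 240) (cl (finG m2ok) [[5,5],[2,0,3,4,0,2,0,3,4,0],[3,3,1,5,2,1]]) ns205 := der203.add (wp_mem_cl (w := [3,3,1,5,2,1]) (by decide)) ((finModel m2ok).toIsPre.rep_word (k := 8) (w := [3,3,1,5,2,1]) (n := x204) (by decide +kernel)) 2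
noncomputable def L207 : Lev := Lev.cons 0 48 [[0],[1],[2]] Lev.nil
theorem lc208 : Lev.chk 240 5 ns205 vT 100 L207 = true := by decide +kernel
theorem lb209 : 48 ≤ Nat.card (cl (finG m2ok) [[5,5],[2,0,3,4,0,2,0,3,4,0],[3,3,1,5,2,1]]) := le_of_eq_of_le (by decide +kernel) (der206.card_ge lc208)
theorem ix196 : Idx.{u} io C151 [0,1,2,3,4,5] [[5,5],[2,0,3,4,0,2,0,3,4,0],[3,3,1,5,2,1]] 7 := (Idx.of bd148 sat165 (by decide +kernel) lb209 (by decide +kernel)).of_imp imp153
noncomputable def lk210 : List (List ℕ × List ℕ × Pf) := [([5,5],[4,4],[([7,4,4,6],19)]),([2],[2,1],[([7],17)]),([0,3,4,0,2],[5,7,1,4,1],[([7,5,7,1,4,1,6],25)]),([3],[0,3],[([7,0,3],16)]),([3,1,5,2,1],[0,5,0,6,4],[([],24)])]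
noncomputable def O211 : ℕ := (nat_lit 0x4f0004000000400000000000000000)
noncomputable def M212 : ℕ := (nat_lit 0x4f997c028f207fbedd837efcfeffff)
noncomputable def b213 : ℕ := (nat_lit 0x80300006201c12490346d8f6abbf)
theorem cl214 : Clo.{u} io C151 [0,1,2,3,4,5] 120 m150 M212 (mkB [(6,b193),(7,b213)]) := cl195.new (k := 4) (b := 7) (q := 23) (p := 70) (r := 200) (n := 7) (O := O211) (by decide +kernel) (lks := lk210) (by decide +kernel) (gens_of_lall2 (m := [[0],[1,2,2,3],[3,4]]) (by decide +kernel)) ix196 (by decide +kernel)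
noncomputable def b215 : ℕ := (nat_lit 0x9912c0284006f34c4002e38d87bff)
noncomputable def b216 : ℕ := (nat_lit 0x4580700006205e1a490346d8f6abbf)
theorem cl217 : Clo.{u} io C151 [0,1,2,3,4,5] 120 m150 M212 (mkB [(6,b215),(7,b216)]) := cl214.ops (os := [Op.ext 7 2 [([2],[2,1],[([7],17)]),([3],[0,3],[([7,0,3],16)]),([5,5],[4,4],[([7,4,4,6],19)]),([4,4],[5,5],[([],18)])],Op.inv 7,Op.rel 6 [] 7 [7] [([],15)],Op.ext 6 2 [([0,3],[3],[([6,3,7],17)]),([2,1],[2],[([],16)]),([5,5],[4,4],[([6],19)]),([4,4],[5,5],[([6,5,5],18)])],Op.inv 6,Op.rel 6 [1,3] 7 [0,0] [([7,0,0,7],21)],Op.inv 6]) (by decide +kernel) (by decide +kernel)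
theorem der219 : Der 240 (finX 240) (cl (finG m2ok) [[5,5],[0,3,1,4,3,1,4,3],[1,4,3,1,4,3,0,5,0,2,5,0,0,5,0,2,5,0]]) (fun _ => Net.nil) := Der.zero (finModel m2ok).inj
noncomputable def x220 : Net := (Net.cons (nat_lit 128) (nat_lit 0xb900580001847ea27880bf5c09106660)
  (Net.cons (nat_lit 64) (nat_lit 0xf4180800000580000000000000000000874a04240188fbd0)
  (Net.cons (nat_lit 32) (nat_lit 0xc0003fe000000000fec75b0000000000ff5da07100000000a13580a1)
  (Net.cons (nat_lit 16) (nat_lit 0xbe40000080000000580c0000574b0000a0390000e434000064c50000c17f)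
  (Net.cons (nat_lit 8) (nat_lit 0xf800e0008100c000c400b1009a0065001b007100c400b500c5003b008100c8)
  (Net.cons (nat_lit 4) (nat_lit 0xe0e03000f0804010304090d060107090b00050d00030c0e090102020102060d)
  (Net.cons (nat_lit 2) (nat_lit 0x3122200033331012130322201321132231121223001323133321022122020213)
  (Net.cons (nat_lit 1) (nat_lit 0x5014155541054555154554451444141051545441414554511545444154155444)
  (Net.cons (nat_lit 2) (nat_lit 0x20200000002000002000202222022000020020202000020000220002200202)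
  (Net.cons (nat_lit 4) (nat_lit 0xe0e02000008080c0000020c0a08040800000a080402080e0002000408060208)
  (Net.cons (nat_lit 8) (nat_lit 0xe000d0000000e000600046000600ce0014005c006000ea00a00044000000e0)
  (Net.cons (nat_lit 16) (nat_lit 0x7e400000800000008208000065bc000051100000e4680000a3a2000089ac)
  (Net.cons (nat_lit 32) (nat_lit 0xc0005fd000000000ff259300000000007fabc0aa00000000c15a0140)
  (Net.cons (nat_lit 64) (nat_lit 0xf41804000003800000000000000000008785030018115fac)
  (Net.cons (nat_lit 128) (nat_lit 0xb900a40001827f1078225ebc09080660)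
  Net.nil)))))))))))))))
noncomputable def ns221 : ℕ → Net := upd (fun _ => Net.nil) 0 x220
theorem der222 : Der 240 (finX 240) (cl (finG m2ok) [[5,5],[0,3,1,4,3,1,4,3],[1,4,3,1,4,3,0,5,0,2,5,0,0,5,0,2,5,0]]) ns221 := der219.add (wp_mem_cl (w := [5,5]) (by decide)) ((finModel m2ok).toIsPre.rep_word (k := 8) (w := [5,5]) (n := x220) (by decide +kernel)) 0
noncomputable def x223 : Net := (Net.cons (nat_lit 128) (nat_lit 0xe0c9058627ece54b2e33ac4c5b8ef596)
  (Net.cons (nat_lit 64) (nat_lit 0x7f61c9471ff5ffac000000000000000000cbdd432d4cc5ae)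
  (Net.cons (nat_lit 32) (nat_lit 0x4c6ebd820000000001b4bf55000000009332a1ba000000003b5e47ea)
  (Net.cons (nat_lit 16) (nat_lit 0x764a0000a93900008418000092a70000f89d000048aa00002c5e00001178)
  (Net.cons (nat_lit 8) (nat_lit 0xf6001b005500150091001200ae000c00380023009d00bb005c00dd00e300af)
  (Net.cons (nat_lit 4) (nat_lit 0xc01020f0609000609060e0906010e0d0005040d0d0d070a080807080204010a)
  (Net.cons (nat_lit 2) (nat_lit 0x123200121202310030203200223331230013200321223311200113201222023)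
  (Net.cons (nat_lit 1) (nat_lit 0x414041415400414110404414041004014505044504414451550044144414014)
  (Net.cons (nat_lit 2) (nat_lit 0x220000202020200000020000022000002002222002000000020200022)
  (Net.cons (nat_lit 4) (nat_lit 0x408000604000008000e040808000800040e000a080600000a000a0a08000a)
  (Net.cons (nat_lit 8) (nat_lit 0xd400b4009400ce001000b00010000c0082002600d000640042002200e400a8)
  (Net.cons (nat_lit 16) (nat_lit 0xdb220000687000004408000014fc00006cd800004614000030120000255a)
  (Net.cons (nat_lit 32) (nat_lit 0x258fa10000000000a1e7cc600000000089be86b40000000027481198)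
  (Net.cons (nat_lit 64) (nat_lit 0xffa105436a4cde0a000000000000000008cb7689f8e5be32)
  (Net.cons (nat_lit 128) (nat_lit 0xe0c9903c48556b55923001b7707791e8)
  Net.nil)))))))))))))))
noncomputable def ns224 : ℕ → Net := upd ns221 1 x223
theorem der225 : Der 240 (finX 240) (cl (finG m2ok) [[5,5],[0,3,1,4,3,1,4,3],[1,4,3,1,4,3,0,5,0,2,5,0,0,5,0,2,5,0]]) ns224 := der222.add (wp_mem_cl (w := [0,3,1,4,3,1,4,3]) (by decide)) ((finModel m2ok).toIsPre.rep_word (k := 8) (w := [0,3,1,4,3,1,4,3]) (n := x223) (by decide +kernel)) 1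
noncomputable def x226 : Net := (Net.cons (nat_lit 128) (nat_lit 0xaba735efd93a4b722a11723b282304ae)
  (Net.cons (nat_lit 64) (nat_lit 0xa0476754bb13c0f00000000000000008cdf4686235d1512)
  (Net.cons (nat_lit 32) (nat_lit 0x3e41284600000000b9fbe91d0000000051f6d6e900000000b434f0b6)
  (Net.cons (nat_lit 16) (nat_lit 0x83340000874b0000ecb70000df770000f3ed000023be00001d9400007d18)
  (Net.cons (nat_lit 8) (nat_lit 0xc60090000f0029005400d400f200b700c000400098006800e4008200f50009)
  (Net.cons (nat_lit 4) (nat_lit 0xb0506040e0a0208060208020608040f0d04080c040f0a0804080704090f0b0d)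
  (Net.cons (nat_lit 2) (nat_lit 0x1330231320111022300022131223020111200223313230221300302330032133)
  (Net.cons (nat_lit 1) (nat_lit 0x1550411004410014001551454415454414144114411440004110415511441500)
  (Net.cons (nat_lit 2) (nat_lit 0x2000202002200002000000200200002002000222220000000020200022020000)
  (Net.cons (nat_lit 4) (nat_lit 0xc040c0004080008000800080c0400000c080c04020806000e000008020e0000)
  (Net.cons (nat_lit 8) (nat_lit 0xd200b800ec001000e800c600a800c6007200d800a0003c005000f000f40064)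
  (Net.cons (nat_lit 16) (nat_lit 0x119000004cd4000078b60000a8ac0000f3d20000cda60000bbac00006d00)
  (Net.cons (nat_lit 32) (nat_lit 0x3d421ee40000000003b56dcc00000000c9ed2c2e00000000e214bf14)
  (Net.cons (nat_lit 64) (nat_lit 0x8902f7bb003e6b4800000000000000008ccf7ddbb727c88e)
  (Net.cons (nat_lit 128) (nat_lit 0xaba7e8f4e51d407fc48221d34932fa00)
  Net.nil)))))))))))))))
noncomputable def ns227 : ℕ → Net := upd ns224 2 x226
theorem der228 : Der 240 (finX 240) (cl (finG m2ok) [[5,5],[0,3,1,4,3,1,4,3],[1,4,3,1,4,3,0,5,0,2,5,0,0,5,0,2,5,0]]) ns227 := der225.add (wp_mem_cl (w := [1,4,3,1,4,3,0,5,0,2,5,0,0,5,0,2,5,0]) (by decide)) ((finModel m2ok).toIsPre.rep_word (k := 8) (w := [1,4,3,1,4,3,0,5,0,2,5,0,0,5,0,2,5,0]) (n := x226) (by decide +kernel)) 2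
noncomputable def L229 : Lev := Lev.cons 0 8 [[0],[1],[2]] Lev.nil
theorem lc230 : Lev.chk 240 5 ns227 vT 100 L229 = true := by decide +kernel
theorem lb231 : 8 ≤ Nat.card (cl (finG m2ok) [[5,5],[0,3,1,4,3,1,4,3],[1,4,3,1,4,3,0,5,0,2,5,0,0,5,0,2,5,0]]) := le_of_eq_of_le (by decide +kernel) (der228.card_ge lc230)
theorem ix218 : Idx.{u} io C151 [0,1,2,3,4,5] [[5,5],[0,3,1,4,3,1,4,3],[1,4,3,1,4,3,0,5,0,2,5,0,0,5,0,2,5,0]] 42 := (Idx.of bd148 sat165 (by decide +kernel) lb231 (by decide +kernel)).of_imp imp153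
noncomputable def lk232 : List (List ℕ × List ℕ × Pf) := [([5,5],[4,4],[([6],19)]),([0,3],[3],[([6,3,7],17)]),([1,4,1],[4,6,0,3,4,0,2],[([6,4,6,0,3,4,0,2],24)]),([0,5,0],[3,1,5,2,1,7,5],[([6],25)]),([2,1],[2],[([],16)])]
noncomputable def O233 : ℕ := (nat_lit 0xb06683fd70df8041227c8103010000)
noncomputable def M234 : ℕ := (nat_lit 0xffffffffffffffffffffffffffffff)
noncomputable def b235 : ℕ := (nat_lit 0x9912c0284006f34c4002e38d87fff)
theorem cl236 : Clo.{u} io C151 [0,1,2,3,4,5] 120 m150 M234 (mkB [(6,b235),(7,b216)]) := cl217.new (k := 4) (b := 6) (q := 10) (p := 24) (r := 200) (n := 42) (O := O233) (by decide +kernel) (lks := lk232) (by decide +kernel) (gens_of_lall2 (m := [[0],[1,2,1,2,1],[2,1,2,1,3,4,3,3,4,3]]) (by decide +kernel)) ix218 (by decide +kernel)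
noncomputable def b237 : ℕ := (nat_lit 0xffffffffffffffffffffffffffffff)
noncomputable def b238 : ℕ := (nat_lit 0xffffffffffffffffffffffffffffff)
theorem cl239 : Clo.{u} io C151 [0,1,2,3,4,5] 120 m150 M234 (mkB [(6,b237),(7,b238)]) := cl236.ops (os := [Op.ext 6 2 [([0,3],[3],[([6,3,7],17)]),([2,1],[2],[([],16)]),([5,5],[4,4],[([6],19)]),([4,4],[5,5],[([6,5,5],18)])],Op.inv 6,Op.rel 6 [] 7 [7] [([],15)],Op.ext 6 2 [([0,3],[3],[([6,3,7],17)]),([2,1],[2],[([],16)]),([5,5],[4,4],[([6],19)]),([4,4],[5,5],[([6,5,5],18)])],Op.inv 6,Op.rel 6 [] 7 [7] [([],15)],Op.ext 6 2 [([0,3],[3],[([6,3,7],17)]),([2,1],[2],[([],16)]),([5,5],[4,4],[([6],19)]),([4,4],[5,5],[([6,5,5],18)])],Op.inv 6,Op.rel 6 [] 7 [7] [([],15)],Op.ext 6 2 [([0,3],[3],[([6,3,7],17)]),([2,1],[2],[([],16)]),([5,5],[4,4],[([6],19)]),([4,4],[5,5],[([6,5,5],18)])],Op.inv 6,Op.rel 6 [] 7 [7] [([],15)],Op.ext 6 2 [([0,3],[3],[([6,3,7],17)]),([2,1],[2],[([],16)]),([5,5],[4,4],[([6],19)]),([4,4],[5,5],[([6,5,5],18)])],Op.inv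 6,Op.rel 7 [1,2,5,0,0] 6 [5,6,0,4] [([6,5,6,0,4,6],23)],Op.ext 7 2 [([2],[2,1],[([7],17)]),([3],[0,3],[([7,0,3],16)]),([5,5],[4,4],[([7,4,4,6],19)]),([4,4],[5,5],[([],18)])],Op.inv 7,Op.rel 6 [] 7 [7] [([],15)],Op.ext 6 2 [([0,3],[3],[([6,3,7],17)]),([2,1],[2],[([],16)]),([5,5],[4,4],[([6],19)]),([4,4],[5,5],[([6,5,5],18)])],Op.inv 6]) (by decide +kernel) (by decide +kernel)
theorem sat241 : Sat io C151 (finG m150ok) := m150s0.fin (k := 7) (by decide +kernel)
theorem bd240 : Bound.{u} io C151 [0,1,2,3,4,5,6,7] 40320 := cl239.bound (by decide +kernel) sat241 (bd148.of_imp imp153)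
noncomputable def r13 : List ℕ := [8,8]
noncomputable def r14 : List ℕ := [9,4,8,4]
noncomputable def r15 : List ℕ := [8,2,6,2,9,0,3,5,1,7,1,5,1,3]
noncomputable def r16 : List ℕ := [9,0,2,4,1,8,0,0,5,1,1]
noncomputable def r17 : List ℕ := [9,0,2,5,1,8,0,0,4,1,1]
noncomputable def r18 : List ℕ := [9,1,6,8,0,8,2,4,1,1,7,3,5,0,2]
noncomputable def m242n0 : Net := (Net.cons (nat_lit 40) (nat_lit 0x35535f52e8)
  (Net.cons (nat_lit 20) (nat_lit 0x5318a000007b6b4)
  (Net.cons (nat_lit 10) (nat_lit 0xf8001c9002dd002ac)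
  (Net.cons (nat_lit 5) (nat_lit 0x180e060010640502800)
  (Net.cons (nat_lit 1) (nat_lit 0x400010000000000000)
  (Net.cons (nat_lit 1) (nat_lit 0x2802129085010240008)
  (Net.cons (nat_lit 1) (nat_lit 0x2900421485280a5204a4)
  (Net.cons (nat_lit 1) (nat_lit 0x1294a4094a1094250842)
  (Net.cons (nat_lit 1) (nat_lit 0x2800529021000a520484)
  (Net.cons (nat_lit 5) (nat_lit 0x804050000500601810)
  (Net.cons (nat_lit 10) (nat_lit 0x1b4003bc00132003b4)
  (Net.cons (nat_lit 20) (nat_lit 0x4652400000f1592)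
  (Net.cons (nat_lit 40) (nat_lit 0x354deaf834)
  Net.nil)))))))))))))
noncomputable def m242n1 : Net := (Net.cons (nat_lit 40) (nat_lit 0x354deaf834)
  (Net.cons (nat_lit 20) (nat_lit 0x4652400000f3592)
  (Net.cons (nat_lit 10) (nat_lit 0x1b4002f10024d003b4)
  (Net.cons (nat_lit 5) (nat_lit 0x1804058000380b01810)
  (Net.cons (nat_lit 1) (nat_lit 0x4200800000000)
  (Net.cons (nat_lit 1) (nat_lit 0x2808508401080210002)
  (Net.cons (nat_lit 1) (nat_lit 0x29005290852140520484)
  (Net.cons (nat_lit 1) (nat_lit 0x1294a5210a5084a5084a)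
  (Net.cons (nat_lit 1) (nat_lit 0x284040108529400204a0)
  (Net.cons (nat_lit 5) (nat_lit 0x80e000080100602800)
  (Net.cons (nat_lit 10) (nat_lit 0xf8000f000120002ac)
  (Net.cons (nat_lit 20) (nat_lit 0x5318a000003b6b4)
  (Net.cons (nat_lit 40) (nat_lit 0x35535f52e8)
  Net.nil)))))))))))))
noncomputable def m242n2 : Net := (Net.cons (nat_lit 40) (nat_lit 0x8fa0a00204)
  (Net.cons (nat_lit 20) (nat_lit 0x1dc7600000005f4)
  (Net.cons (nat_lit 10) (nat_lit 0x20e002a600185002fc)
  (Net.cons (nat_lit 5) (nat_lit 0xc0103401030070701e)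
  (Net.cons (nat_lit 1) (nat_lit 0x20000200000128420)
  (Net.cons (nat_lit 1) (nat_lit 0x42000400004a50840)
  (Net.cons (nat_lit 1) (nat_lit 0x1085090850008429080)
  (Net.cons (nat_lit 1) (nat_lit 0x2102529420014a52108)
  (Net.cons (nat_lit 1) (nat_lit 0x80a5080010102420004)
  (Net.cons (nat_lit 5) (nat_lit 0x40000101a020040281c)
  (Net.cons (nat_lit 10) (nat_lit 0x244003bc0000400294)
  (Net.cons (nat_lit 20) (nat_lit 0x966b60000040556)
  (Net.cons (nat_lit 40) (nat_lit 0x8fa8000300)
  Net.nil)))))))))))))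
noncomputable def m242n3 : Net := (Net.cons (nat_lit 40) (nat_lit 0x8fa8000300)
  (Net.cons (nat_lit 20) (nat_lit 0x966b60000040556)
  (Net.cons (nat_lit 10) (nat_lit 0x2f9003bc000450035e)
  (Net.cons (nat_lit 5) (nat_lit 0x2c1104c060181400814)
  (Net.cons (nat_lit 1) (nat_lit 0x8000080010a42102)
  (Net.cons (nat_lit 1) (nat_lit 0x2840400405000a429084)
  (Net.cons (nat_lit 1) (nat_lit 0x50802528420004a5084a)
  (Net.cons (nat_lit 1) (nat_lit 0x28001204a5204a428420)
  (Net.cons (nat_lit 5) (nat_lit 0x300000814008040200a)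
  (Net.cons (nat_lit 10) (nat_lit 0xb4002a6001c400028)
  (Net.cons (nat_lit 20) (nat_lit 0x1dc7600000005f4)
  (Net.cons (nat_lit 40) (nat_lit 0x8fa0a00204)
  Net.nil))))))))))))
noncomputable def m242n4 : Net := (Net.cons (nat_lit 40) (nat_lit 0x40087a0370)
  (Net.cons (nat_lit 20) (nat_lit 0x668600000d9f2c)
  (Net.cons (nat_lit 10) (nat_lit 0x1d0000000036500260)
  (Net.cons (nat_lit 5) (nat_lit 0x281a020140081b00804)
  (Net.cons (nat_lit 1) (nat_lit 0x1000a00048000000)
  (Net.cons (nat_lit 1) (nat_lit 0xa009401294a00000)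
  (Net.cons (nat_lit 1) (nat_lit 0x4214a0214a500020)
  (Net.cons (nat_lit 1) (nat_lit 0xa409405284a00040)
  (Net.cons (nat_lit 1) (nat_lit 0x20421200a52000500024)
  (Net.cons (nat_lit 5) (nat_lit 0x2812020140480600004)
  (Net.cons (nat_lit 10) (nat_lit 0x1c000000000b200060)
  (Net.cons (nat_lit 20) (nat_lit 0x668200000d9f0c)
  (Net.cons (nat_lit 40) (nat_lit 0x40087a0370)
  Net.nil)))))))))))))
noncomputable def m242n5 : Net := (Net.cons (nat_lit 40) (nat_lit 0x40087a0370)
  (Net.cons (nat_lit 20) (nat_lit 0x668600000d9f2c)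
  (Net.cons (nat_lit 10) (nat_lit 0x1d0000000036500260)
  (Net.cons (nat_lit 5) (nat_lit 0x281a020140081b00804)
  (Net.cons (nat_lit 1) (nat_lit 0x1000a00048000000)
  (Net.cons (nat_lit 1) (nat_lit 0xa009401294a00000)
  (Net.cons (nat_lit 1) (nat_lit 0x4214a0214a500020)
  (Net.cons (nat_lit 1) (nat_lit 0xa409405284a00040)
  (Net.cons (nat_lit 1) (nat_lit 0x20421200a52000500024)
  (Net.cons (nat_lit 5) (nat_lit 0x2812020140480600004)
  (Net.cons (nat_lit 10) (nat_lit 0x1c000000000b200060)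
  (Net.cons (nat_lit 20) (nat_lit 0x668200000d9f0c)
  (Net.cons (nat_lit 40) (nat_lit 0x40087a0370)
  Net.nil)))))))))))))
noncomputable def m242n6 : Net := (Net.cons (nat_lit 40) (nat_lit 0x2410e69000)
  (Net.cons (nat_lit 20) (nat_lit 0x36250000004b79e)
  (Net.cons (nat_lit 10) (nat_lit 0x31c00304000dc0000a)
  (Net.cons (nat_lit 5) (nat_lit 0x12064120381a00414)
  (Net.cons (nat_lit 1) (nat_lit 0x4002800400020)
  (Net.cons (nat_lit 1) (nat_lit 0x40140008025000a00040)
  (Net.cons (nat_lit 1) (nat_lit 0x20484210a52848521080)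
  (Net.cons (nat_lit 1) (nat_lit 0x109424284a5284250942)
  (Net.cons (nat_lit 1) (nat_lit 0x405200a5280a5094a0)
  (Net.cons (nat_lit 5) (nat_lit 0x12060040101a0001a)
  (Net.cons (nat_lit 10) (nat_lit 0x30c00036002d200200)
  (Net.cons (nat_lit 20) (nat_lit 0x3236a000009bc68)
  (Net.cons (nat_lit 40) (nat_lit 0x2443888b00)
  Net.nil)))))))))))))
noncomputable def m242n7 : Net := (Net.cons (nat_lit 40) (nat_lit 0x2443888b00)
  (Net.cons (nat_lit 20) (nat_lit 0x3236a000009b82a)
  (Net.cons (nat_lit 10) (nat_lit 0x30c00036000f50019e)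
  (Net.cons (nat_lit 5) (nat_lit 0x1201c120380804c02)
  (Net.cons (nat_lit 1) (nat_lit 0x80004a000000)
  (Net.cons (nat_lit 1) (nat_lit 0x10140401400094040000)
  (Net.cons (nat_lit 1) (nat_lit 0x20485210a5094a520424)
  (Net.cons (nat_lit 1) (nat_lit 0x40942120425294250942)
  (Net.cons (nat_lit 1) (nat_lit 0x40429085200a509084)
  (Net.cons (nat_lit 5) (nat_lit 0x12018040700206000)
  (Net.cons (nat_lit 10) (nat_lit 0x31c00304002b0002f4)
  (Net.cons (nat_lit 20) (nat_lit 0x36250000004b756)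
  (Net.cons (nat_lit 40) (nat_lit 0x2410e69000)
  Net.nil)))))))))))))
noncomputable def m242n8 : Net := (Net.cons (nat_lit 40) (nat_lit 0x581de58504)
  (Net.cons (nat_lit 20) (nat_lit 0x6fb66000005aa80)
  (Net.cons (nat_lit 10) (nat_lit 0x22c00241002b000384)
  (Net.cons (nat_lit 5) (nat_lit 0x781400c05048160700c)
  (Net.cons (nat_lit 1) (nat_lit 0x204800000000001000a0)
  (Net.cons (nat_lit 1) (nat_lit 0x52940500000000a00140)
  (Net.cons (nat_lit 1) (nat_lit 0x294a520004080a4014a4)
  (Net.cons (nat_lit 1) (nat_lit 0x52942501085014a40948)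
  (Net.cons (nat_lit 1) (nat_lit 0x20485004a0094a5014a5)
  (Net.cons (nat_lit 5) (nat_lit 0x781000818048140600c)
  (Net.cons (nat_lit 10) (nat_lit 0x22800220002b000380)
  (Net.cons (nat_lit 20) (nat_lit 0x2fb64000005a080)
  (Net.cons (nat_lit 40) (nat_lit 0x5815e59500)
  Net.nil)))))))))))))
noncomputable def m242n9 : Net := (Net.cons (nat_lit 40) (nat_lit 0x581de58504)
  (Net.cons (nat_lit 20) (nat_lit 0x6fb66000005aa80)
  (Net.cons (nat_lit 10) (nat_lit 0x22c00241002b000384)
  (Net.cons (nat_lit 5) (nat_lit 0x781400c05048160700c)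
  (Net.cons (nat_lit 1) (nat_lit 0x204800000000001000a0)
  (Net.cons (nat_lit 1) (nat_lit 0x52940500000000a00140)
  (Net.cons (nat_lit 1) (nat_lit 0x294a520004080a4014a4)
  (Net.cons (nat_lit 1) (nat_lit 0x52942501085014a40948)
  (Net.cons (nat_lit 1) (nat_lit 0x20485004a0094a5014a5)
  (Net.cons (nat_lit 5) (nat_lit 0x781000818048140600c)
  (Net.cons (nat_lit 10) (nat_lit 0x22800220002b000380)
  (Net.cons (nat_lit 20) (nat_lit 0x2fb64000005a080)
  (Net.cons (nat_lit 40) (nat_lit 0x5815e59500)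
  Net.nil)))))))))))))
noncomputable def m242l : List Net := [m242n0,m242n1,m242n2,m242n3,m242n4,m242n5,m242n6,m242n7,m242n8,m242n9]
noncomputable abbrev m242 : ℕ → Net := lk Net.nil m242l
theorem m242ok : NetsOk 72 m242 vT := netsOk_of (by decide +kernel)
theorem m242s0 : Sat io [] (finG m242ok) := fin_sat_nil _ (k := 7) (n := 12) (by decide +kernel)
noncomputable def C243 : List (List ℕ) := [r0,r1,r2,r3,r4,r5,r6,r7,r8,r9,r10,r11,r12,r13,r14,r15,r16,r17,r18]
theorem cl244 : Clo.{u} io C243 [0,1,2,3,4,5,6,7] 72 m242 1 (mkB []) := Clo.start (by decide +kernel)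
theorem imp245 : Imp.{u} io C243 C151 := Imp.of_chk (pfs := [[([],1)],[([],3)],[([],5)],[([],7)],[([],9)],[([],11)],[([],13)],[([],15)],[([],17)],[([],19)],[([],21)],[([],23)],[([],25)]]) (by decide +kernel)
theorem der247 : Der 240 (finX 240) (cl (finG m2ok) [[4],[0,2,4,1],[0,3,5,1,7,1,5,1,3]]) (fun _ => Net.nil) := Der.zero (finModel m2ok).inj
noncomputable def ns248 : ℕ → Net := upd (fun _ => Net.nil) 0 (m2 4)
theorem der249 : Der 240 (finX 240) (cl (finG m2ok) [[4],[0,2,4,1],[0,3,5,1,7,1,5,1,3]]) ns248 := der247.add (wp_mem_cl (w := [4]) (by decide)) (rep_letter (finModel m2ok) 4) 0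
noncomputable def x250 : Net := (Net.cons (nat_lit 128) (nat_lit 0xff6a3d787aa72dbbbcebb05e577cb694)
  (Net.cons (nat_lit 64) (nat_lit 0x8911240934790c1900000000000000005a370167509c5c15)
  (Net.cons (nat_lit 32) (nat_lit 0xb0087bbf000000001d9c45a000000000e7c519ff00000000ebe6ba8f)
  (Net.cons (nat_lit 16) (nat_lit 0xcb4800005c9200008d820000d6090000d8500000f041000000fe00009d0d)
  (Net.cons (nat_lit 8) (nat_lit 0x1500f100fb00ed00d400e6008c009e00d50043006a0000005b004e001d0036)
  (Net.cons (nat_lit 4) (nat_lit 0x80707020d02080b010a0d0a040807070908050e0c09070b0f0c07020f000209)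
  (Net.cons (nat_lit 2) (nat_lit 0x2030033212233020203023020301201221110132003032232202003010031031)
  (Net.cons (nat_lit 1) (nat_lit 0x4141441100104454410454411501015544141041144041155005014441011004)
  (Net.cons (nat_lit 2) (nat_lit 0x22002200200002220202022002000000000020020022000000020000022002)
  (Net.cons (nat_lit 4) (nat_lit 0x8040c080c0e04000e00000004040a0c040a00040e0e0200020008080e080404)
  (Net.cons (nat_lit 8) (nat_lit 0x1c00540060007400ca00a000cc00820070000c007a001000dc00a200880082)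
  (Net.cons (nat_lit 16) (nat_lit 0x2b5200000ee40000b9200000ef6a00003e000000fa5c0000254400000cdc)
  (Net.cons (nat_lit 32) (nat_lit 0xcf63347c000000006292084800000000ff46db7000000000eafa87d0)
  (Net.cons (nat_lit 64) (nat_lit 0x7e11c7edf214b27400000000000000005a266623b3207028)
  (Net.cons (nat_lit 128) (nat_lit 0xff6a101cd57e60adb064a683e1d7a300)
  Net.nil)))))))))))))))
noncomputable def ns251 : ℕ → Net := upd ns248 1 x250
theorem der252 : Der 240 (finX 240) (cl (finG m2ok) [[4],[0,2,4,1],[0,3,5,1,7,1,5,1,3]]) ns251 := der249.add (wp_mem_cl (w := [0,2,4,1]) (by decide)) ((finModel m2ok).toIsPre.rep_word (k := 8) (w := [0,2,4,1]) (n := x250) (by decide +kernel)) 1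
noncomputable def x253 : Net := (Net.cons (nat_lit 128) (nat_lit 0x2481bd170c01fb25174714ac86fb4012)
  (Net.cons (nat_lit 64) (nat_lit 0x761c63451680b76200000000000000004b5305e7a3922d65)
  (Net.cons (nat_lit 32) (nat_lit 0x2f0b90c400000000cbbe3d5f0000000015edd9ef0000000087656edb)
  (Net.cons (nat_lit 16) (nat_lit 0xee400000f0cb0000eab500006597000010f40000e090000083f100008756)
  (Net.cons (nat_lit 8) (nat_lit 0xbe00b300a20031001900f100c3002900ee001d00d5009d00a30072008c00ed)
  (Net.cons (nat_lit 4) (nat_lit 0x508040200080e090d0a00080001080803030c070708010f01020f0b0904020e)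
  (Net.cons (nat_lit 2) (nat_lit 0x1321020230333300020201132001032211321030313031302312030121220331)
  (Net.cons (nat_lit 1) (nat_lit 0x4444510550141540144115415110014141011544054140141441041500504114)
  (Net.cons (nat_lit 2) (nat_lit 0x20000000202020222200220000022000020000000220220222000000000022)
  (Net.cons (nat_lit 4) (nat_lit 0x4040204080c040002040e08040002000204080e00040c04000c0c04020804)
  (Net.cons (nat_lit 8) (nat_lit 0xbe0090007400e0009c00aa00020020002000d8005c00b400c2000000c00096)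
  (Net.cons (nat_lit 16) (nat_lit 0xe3500000a43a000025540000d0740000cf440000a9ca0000905c000030e6)
  (Net.cons (nat_lit 32) (nat_lit 0x79936ba400000000635ed3400000000097babc8400000000ca4d1004)
  (Net.cons (nat_lit 64) (nat_lit 0x721d60d4d79e288a0000000000000000404d129eb50d29a4)
  (Net.cons (nat_lit 128) (nat_lit 0x2481388ad8e3192c1f327dbd0b8f0ea4)
  Net.nil)))))))))))))))
noncomputable def ns254 : ℕ → Net := upd ns251 2 x253
theorem der255 : Der 240 (finX 240) (cl (finG m2ok) [[4],[0,2,4,1],[0,3,5,1,7,1,5,1,3]]) ns254 := der252.add (wp_mem_cl (w := [0,3,5,1,7,1,5,1,3]) (by decide)) ((finModel m2ok).toIsPre.rep_word (k := 8) (w := [0,3,5,1,7,1,5,1,3]) (n := x253) (by decide +kernel)) 2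
noncomputable def x256 : Net := (Net.cons (nat_lit 128) (nat_lit 0xbd13885f7848597303710d068b9ba050)
  (Net.cons (nat_lit 64) (nat_lit 0x1e25acfaa112280c000000000000000077e0f953c0668220)
  (Net.cons (nat_lit 32) (nat_lit 0xd522d880000000008710a9e200000000c160cb0800000000c7034584)
  (Net.cons (nat_lit 16) (nat_lit 0xa5220000129c0000f86000002bf6000061800000452a0000bbc00000f040)
  (Net.cons (nat_lit 8) (nat_lit 0xa0007400b400b60034009c000b008200b400e6005200e80004003000100020)
  (Net.cons (nat_lit 4) (nat_lit 0x7090608080e0f0e040b080e080a0f010e0c0a020d0c0005070c0b0c0608000e)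
  (Net.cons (nat_lit 2) (nat_lit 0x3100230320101120033121011131212023002102221213202030020320032202)
  (Net.cons (nat_lit 1) (nat_lit 0x4104454505000044101410501441554445541014040400114405440014454111)
  (Net.cons (nat_lit 2) (nat_lit 0x2000200000000002002020000222002020002002020200020200200020002202)
  (Net.cons (nat_lit 4) (nat_lit 0x80008080400000404080e0a080000080008020c04000a080c040c0408000a)
  (Net.cons (nat_lit 8) (nat_lit 0xa0006400b400b60034001c00f4008200b40026001000e80004003000100020)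
  (Net.cons (nat_lit 16) (nat_lit 0x85220000129c0000f86000002bf6000061800000450a0000bbc00000e040)
  (Net.cons (nat_lit 32) (nat_lit 0xd522d88000000000871029e200000000c160cb0800000000c7034584)
  (Net.cons (nat_lit 64) (nat_lit 0x1e25acfaa112280c000000000000000077e0f953c0668220)
  (Net.cons (nat_lit 128) (nat_lit 0xbd13885f7848597303710d068b9ba050)
  Net.nil)))))))))))))))
noncomputable def x256s : ℕ → Net := upd ns254 3 x256
theorem der257 : Der 240 (finX 240) (cl (finG m2ok) [[4],[0,2,4,1],[0,3,5,1,7,1,5,1,3]]) x256s := der255.ext (k := 8) (w := [2,0,2,0,2,2,2,1,0]) 3 (by decide +kernel)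
noncomputable def x258 : Net := (Net.cons (nat_lit 128) (nat_lit 0x2fef3757f2365d5a55d5700d53d30d51)
  (Net.cons (nat_lit 64) (nat_lit 0xe8e37903c1fbdce70000000000000000d888c69f978da388)
  (Net.cons (nat_lit 32) (nat_lit 0x804dcc7200000000a6cf324a000000009de893f200000000b68b4aef)
  (Net.cons (nat_lit 16) (nat_lit 0x47de0000714e000092fe000075d900004c820000aacc00003c4b00002baa)
  (Net.cons (nat_lit 8) (nat_lit 0x54000c00e000fc00ff002b002800c2002a004f005e00e6004400680015005e)
  (Net.cons (nat_lit 4) (nat_lit 0x10c09060d0b08030f03000f070a060802000e070a00030a04060d000802060b)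
  (Net.cons (nat_lit 2) (nat_lit 0x1200110130322202232133031102023221101220323222330100013022312120)
  (Net.cons (nat_lit 1) (nat_lit 0x445040441454111401514111115450441400151401114155005114014154050)
  (Net.cons (nat_lit 2) (nat_lit 0x220000222200220200000220200200022000002202202200000202002000000)
  (Net.cons (nat_lit 4) (nat_lit 0xa0004000808000e080a0a0000040c08080a0e0400080c080808020e040208)
  (Net.cons (nat_lit 8) (nat_lit 0xf000c000000010004800cc006800cc00aa00be00de00c000e000680020003c)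
  (Net.cons (nat_lit 16) (nat_lit 0xe91000001218000014780000287c000055420000e2d200000a7a00000eb8)
  (Net.cons (nat_lit 32) (nat_lit 0x41e23dc2000000009e6c6ecc000000008df82e8c00000000a69cabe6)
  (Net.cons (nat_lit 64) (nat_lit 0xc94fa8d2f9a946a40000000000000000c888c50fd6482390)
  (Net.cons (nat_lit 128) (nat_lit 0x2fef464e00cb46ea204438c06ac45c40)
  Net.nil)))))))))))))))
noncomputable def x258s : ℕ → Net := upd x256s 4 x258
theorem der259 : Der 240 (finX 240) (cl (finG m2ok) [[4],[0,2,4,1],[0,3,5,1,7,1,5,1,3]]) x258s := der257.ext (k := 8) (w := [0,2,0,1,2]) 4 (by decide +kernel)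
noncomputable def L260 : Lev := Lev.cons 1 8 [[3],[4]] Lev.nil
noncomputable def L261 : Lev := Lev.cons 2 144 [[0],[1],[2]] L260
theorem lc262 : Lev.chk 240 5 x258s vT 100 L261 = true := by decide +kernel
theorem lb263 : 1152 ≤ Nat.card (cl (finG m2ok) [[4],[0,2,4,1],[0,3,5,1,7,1,5,1,3]]) := le_of_eq_of_le (by decide +kernel) (der259.card_ge lc262)
theorem sat264 : Sat io C151 (finG m2ok) := m2s0.fin (k := 8) (by decide +kernel)
theorem ix246 : Idx.{u} io C243 [0,1,2,3,4,5,6,7] [[4],[0,2,4,1],[0,3,5,1,7,1,5,1,3]] 35 := (Idx.of bd240 sat264 (by decide +kernel) lb263 (by decide +kernel)).of_imp imp245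
noncomputable def lk265 : List (List ℕ × List ℕ × Pf) := [([4],[5],[([8],29)]),([0,2,4,1],[0,0,4,1,1],[([8],33)]),([0,3,5,1,7,1,5,1,3],[3,7,3],[([8,3,7,3,9],31)])]
noncomputable def O266 : ℕ := (nat_lit 0x1d345dfffffe)
noncomputable def M267 : ℕ := (nat_lit 0x1d345dffffff)
noncomputable def b268 : ℕ := (nat_lit 1)
theorem cl269 : Clo.{u} io C243 [0,1,2,3,4,5,6,7] 72 m242 M267 (mkB [(8,b268)]) := cl244.new (k := 4) (b := 8) (q := 0) (p := 1) (r := 200) (n := 35) (O := O266) (by decide +kernel) (lks := lk265) (by decide +kernel) (gens_of_lall2 (m := [[0],[1],[2]]) (by decide +kernel)) ix246 (by decide +kernel)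
noncomputable def b270 : ℕ := (nat_lit 0x1c001c4a957f)
noncomputable def b271 : ℕ := (nat_lit 0x1c001c4a957f)
theorem cl272 : Clo.{u} io C243 [0,1,2,3,4,5,6,7] 72 m242 M267 (mkB [(8,b270),(9,b271)]) := cl269.ops (os := [Op.inv 8,Op.rel 8 [] 9 [] [([],27)],Op.inv 8,Op.rel 9 [2,4,1,1,7,3,5,0,2] 9 [1,9,7,0] [([9,1,9,7,0,8],37)],Op.ext 9 3 [([4],[5],[([9,5,8],29)]),([5],[4],[([],28)]),([0,0,5,1,1],[0,5,3,1],[([9,0,5,3,1,8],33)]),([0,0,4,1,1],[0,2,4,1],[([],32)]),([0,0,4,1,1],[0,4,3,1],[([9,0,4,3,1,8],35)]),([0,0,5,1,1],[0,2,5,1],[([],34)]),([2,6,2],[2,0,4,0,6,0,4,2,1],[([9],31)]),([3,7,3],[0,3,5,1,7,1,5,1,3],[([9,0,3,5,1,7,1,5,1,3],30)])],Op.inv 9]) (by decide +kernel) (by decide +kernel)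
theorem der274 : Der 240 (finX 240) (cl (finG m2ok) [[0,2,4,1],[0,3,5,1,7,1,5,1,3,0,3,5,1,7,1,5,1,3,0,4,3,1,2,0,4,0,6,0,4,2,1,2,0,4,0,6,0,4,2,1],[0,3,5,1,7,1,5,1,3,0,3,5,1,7,1,5,1,3,5,1,6],[2,0,4,0,6,0,4,2,5,3,3,5,1,7,1,5,1,3,0,3,5,1,7,1,5,1,3,0,2,4,1,4]]) (fun _ => Net.nil) := Der.zero (finModel m2ok).inj
noncomputable def x275 : Net := (Net.cons (nat_lit 128) (nat_lit 0xff6a3d787aa72dbbbcebb05e577cb694)
  (Net.cons (nat_lit 64) (nat_lit 0x8911240934790c1900000000000000005a370167509c5c15)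
  (Net.cons (nat_lit 32) (nat_lit 0xb0087bbf000000001d9c45a000000000e7c519ff00000000ebe6ba8f)
  (Net.cons (nat_lit 16) (nat_lit 0xcb4800005c9200008d820000d6090000d8500000f041000000fe00009d0d)
  (Net.cons (nat_lit 8) (nat_lit 0x1500f100fb00ed00d400e6008c009e00d50043006a0000005b004e001d0036)
  (Net.cons (nat_lit 4) (nat_lit 0x80707020d02080b010a0d0a040807070908050e0c09070b0f0c07020f000209)
  (Net.cons (nat_lit 2) (nat_lit 0x2030033212233020203023020301201221110132003032232202003010031031)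
  (Net.cons (nat_lit 1) (nat_lit 0x4141441100104454410454411501015544141041144041155005014441011004)
  (Net.cons (nat_lit 2) (nat_lit 0x22002200200002220202022002000000000020020022000000020000022002)
  (Net.cons (nat_lit 4) (nat_lit 0x8040c080c0e04000e00000004040a0c040a00040e0e0200020008080e080404)
  (Net.cons (nat_lit 8) (nat_lit 0x1c00540060007400ca00a000cc00820070000c007a001000dc00a200880082)
  (Net.cons (nat_lit 16) (nat_lit 0x2b5200000ee40000b9200000ef6a00003e000000fa5c0000254400000cdc)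
  (Net.cons (nat_lit 32) (nat_lit 0xcf63347c000000006292084800000000ff46db7000000000eafa87d0)
  (Net.cons (nat_lit 64) (nat_lit 0x7e11c7edf214b27400000000000000005a266623b3207028)
  (Net.cons (nat_lit 128) (nat_lit 0xff6a101cd57e60adb064a683e1d7a300)
  Net.nil)))))))))))))))
noncomputable def ns276 : ℕ → Net := upd (fun _ => Net.nil) 0 x275
theorem der277 : Der 240 (finX 240) (cl (finG m2ok) [[0,2,4,1],[0,3,5,1,7,1,5,1,3,0,3,5,1,7,1,5,1,3,0,4,3,1,2,0,4,0,6,0,4,2,1,2,0,4,0,6,0,4,2,1],[0,3,5,1,7,1,5,1,3,0,3,5,1,7,1,5,1,3,5,1,6],[2,0,4,0,6,0,4,2,5,3,3,5,1,7,1,5,1,3,0,3,5,1,7,1,5,1,3,0,2,4,1,4]]) ns276 := der274.add (wp_mem_cl (w := [0,2,4,1]) (by decide)) ((finModel m2ok).toIsPre.rep_word (k := 8) (w := [0,2,4,1]) (n := x275) (by decide +kernel)) 0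
noncomputable def x278 : Net := (Net.cons (nat_lit 128) (nat_lit 0x64ef2ade07aebdb912a3f6a4d3ed5999)
  (Net.cons (nat_lit 64) (nat_lit 0x96f81867399124760000000000000000191348e44a588182)
  (Net.cons (nat_lit 32) (nat_lit 0xc170970e00000000a679c48e00000000ebed7808000000004f9ea63e)
  (Net.cons (nat_lit 16) (nat_lit 0xfc0d000048d50000e7050000ea73000042e100007ab20000482800005b30)
  (Net.cons (nat_lit 8) (nat_lit 0x60004b000600fa00ef00e800f900ee009a0004000400000092002f00ed00e2)
  (Net.cons (nat_lit 4) (nat_lit 0x30a000200040b08040c030a0b0d0b060608070701090101060e050808040202)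
  (Net.cons (nat_lit 2) (nat_lit 0x1021012112131030003321202013220301310320100303132102321132011100)
  (Net.cons (nat_lit 1) (nat_lit 0x4104404110414145015014414441140410411141110404055004401440444114)
  (Net.cons (nat_lit 2) (nat_lit 0x2000200000220220020022202000200000020022020000000002000220002020)
  (Net.cons (nat_lit 4) (nat_lit 0x8000c000608000800080c02040000060608000c080a000404000c0a0c000e08)
  (Net.cons (nat_lit 8) (nat_lit 0xd2008c00480064000200a600b000ee00e000860034001200b00072007c00d2)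
  (Net.cons (nat_lit 16) (nat_lit 0xaa12000020660000a6ae0000ff10000031b00000e1a00000cc180000d540)
  (Net.cons (nat_lit 32) (nat_lit 0x639b2dc400000000c7dfd82000000000e2ffacd600000000dd22fb00)
  (Net.cons (nat_lit 64) (nat_lit 0xb613d7285e0492aa00000000000000000913edb929392ca8)
  (Net.cons (nat_lit 128) (nat_lit 0x64efc5bb3802d6f06e93f87bb84f19a6)
  Net.nil)))))))))))))))
noncomputable def ns279 : ℕ → Net := upd ns276 1 x278
theorem der280 : Der 240 (finX 240) (cl (finG m2ok) [[0,2,4,1],[0,3,5,1,7,1,5,1,3,0,3,5,1,7,1,5,1,3,0,4,3,1,2,0,4,0,6,0,4,2,1,2,0,4,0,6,0,4,2,1],[0,3,5,1,7,1,5,1,3,0,3,5,1,7,1,5,1,3,5,1,6],[2,0,4,0,6,0,4,2,5,3,3,5,1,7,1,5,1,3,0,3,5,1,7,1,5,1,3,0,2,4,1,4]]) ns279 := der277.add (wp_mem_cl (w := [0,3,5,1,7,1,5,1,3,0,3,5,1,7,1,5,1,3,0,4,3,1,2,0,4,0,6,0,4,2,1,2,0,4,0,6,0,4,2,1]) (by decide)) ((finModel m2ok).toIsPre.rep_word (k := 8) (w := [0,3,5,1,7,1,5,1,3,0,3,5,1,7,1,5,1,3,0,4,3,1,2,0,4,0,6,0,4,2,1,2,0,4,0,6,0,4,2,1]) (n := x278) (by decide +kernel))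 1
noncomputable def x281 : Net := (Net.cons (nat_lit 128) (nat_lit 0xf41630eba8e0d67f650717f4f3ed77c4)
  (Net.cons (nat_lit 64) (nat_lit 0xd66b964941c3d3870000000000000000b41b667cd09ecc0c)
  (Net.cons (nat_lit 32) (nat_lit 0x1a36037400000000f0ff9c9800000000817e4b9900000000e0bdc7eb)
  (Net.cons (nat_lit 16) (nat_lit 0x69050000f68a00001c3200008d34000030c20000fae40000259900001fd7)
  (Net.cons (nat_lit 8) (nat_lit 0x3d001c00d90086008000fa00da004c00bb000f00d700640091005600e900ba)
  (Net.cons (nat_lit 4) (nat_lit 0xa07000b0b0d070d0708090b050c0204000e0b050408020909040a020f00040a)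
  (Net.cons (nat_lit 2) (nat_lit 0x3103023233113112221221232032112303132123132300122220210223032133)
  (Net.cons (nat_lit 1) (nat_lit 0x1111104140044451101144505054041011451541150111110404014104004551)
  (Net.cons (nat_lit 2) (nat_lit 0x2000000220022000200202000000022020002000000220200000000002002002)
  (Net.cons (nat_lit 4) (nat_lit 0x40804040c0c040a080002040a0c00000602040000000e0004000206000000)
  (Net.cons (nat_lit 8) (nat_lit 0x3c00fa00b800d400d80054006c00440002009800fc0054003400ce00b4009c)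
  (Net.cons (nat_lit 16) (nat_lit 0x73300000878600009dfc000084b20000a978000028d60000a66400000dbc)
  (Net.cons (nat_lit 32) (nat_lit 0x6807056a0000000050ef4da00000000090b7246200000000a875b808)
  (Net.cons (nat_lit 64) (nat_lit 0x226f3f1db045c6f40000000000000000bf121c56e99e333c)
  (Net.cons (nat_lit 128) (nat_lit 0xf41605f5500c71a9bdfa033422de9670)
  Net.nil)))))))))))))))
noncomputable def ns282 : ℕ → Net := upd ns279 2 x281
theorem der283 : Der 240 (finX 240) (cl (finG m2ok) [[0,2,4,1],[0,3,5,1,7,1,5,1,3,0,3,5,1,7,1,5,1,3,0,4,3,1,2,0,4,0,6,0,4,2,1,2,0,4,0,6,0,4,2,1],[0,3,5,1,7,1,5,1,3,0,3,5,1,7,1,5,1,3,5,1,6],[2,0,4,0,6,0,4,2,5,3,3,5,1,7,1,5,1,3,0,3,5,1,7,1,5,1,3,0,2,4,1,4]]) ns282 := der280.add (wp_mem_cl (w := [0,3,5,1,7,1,5,1,3,0,3,5,1,7,1,5,1,3,5,1,6]) (by decide)) ((finModel m2ok).toIsPre.rep_word (k := 8) (w := [0,3,5,1,7,1,5,1,3,0,3,5,1,7,1,5,1,3,5,1,6]) (n := x281) (by decide +kernel)) 2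
noncomputable def x284 : Net := (Net.cons (nat_lit 128) (nat_lit 0x9f20046f52270767c082210a14964c80)
  (Net.cons (nat_lit 64) (nat_lit 0xf6a07f32808026420000000000000000e5c0040f8181c600)
  (Net.cons (nat_lit 32) (nat_lit 0x1e36f40000000000d70ff84000000006ce0e71400000000a98dc210)
  (Net.cons (nat_lit 16) (nat_lit 0x6d000000d6b0000047000000c241000095180000bd36000093560000cee4)
  (Net.cons (nat_lit 8) (nat_lit 0xfc00b0000000c800f20025005d006a00e000cc009000580048004200580049)
  (Net.cons (nat_lit 4) (nat_lit 0x4030c0a02080c0c0e020f0b000004000e0106020006020508000e04060e0304)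
  (Net.cons (nat_lit 2) (nat_lit 0x2131022310000200323100220001230320102032330333022023210302031023)
  (Net.cons (nat_lit 1) (nat_lit 0x14440004105155545041140140441111414111054005440145100544451144)
  (Net.cons (nat_lit 2) (nat_lit 0x20020000000200020022000220020020220022002000020020200020000022)
  (Net.cons (nat_lit 4) (nat_lit 0x40c0c0000000c0008020400000400000a0a06000206000408000c04080e0002)
  (Net.cons (nat_lit 8) (nat_lit 0xfc00a0000000c800b00018008400a400e000cc001200d80048004200480020)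
  (Net.cons (nat_lit 16) (nat_lit 0x6d000000d6800000470000000da80000550800001b32000013460000cee4)
  (Net.cons (nat_lit 32) (nat_lit 0xe36f00000000000d70ff84000000006ce0e59000000000a90dc210)
  (Net.cons (nat_lit 64) (nat_lit 0x66a07f32808026420000000000000000e5c0040f8181c600)
  (Net.cons (nat_lit 128) (nat_lit 0x9f20046f52270767c082210a14904c80)
  Net.nil)))))))))))))))
noncomputable def ns285 : ℕ → Net := upd ns282 3 x284
theorem der286 : Der 240 (finX 240) (cl (finG m2ok) [[0,2,4,1],[0,3,5,1,7,1,5,1,3,0,3,5,1,7,1,5,1,3,0,4,3,1,2,0,4,0,6,0,4,2,1,2,0,4,0,6,0,4,2,1],[0,3,5,1,7,1,5,1,3,0,3,5,1,7,1,5,1,3,5,1,6],[2,0,4,0,6,0,4,2,5,3,3,5,1,7,1,5,1,3,0,3,5,1,7,1,5,1,3,0,2,4,1,4]]) ns285 := der283.add (wp_mem_cl (w := [2,0,4,0,6,0,4,2,5,3,3,5,1,7,1,5,1,3,0,3,5,1,7,1,5,1,3,0,2,4,1,4]) (by decide)) ((finModel m2ok).toIsPre.rep_word (k := 8) (w := [2,0,4,0,6,0,4,2,5,3,3,5,1,7,1,5,1,3,0,3,5,1,7,1,5,1,3,0,2,4,1,4]) (n := x284) (by decide +kernel)) 3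
noncomputable def x287 : Net := (Net.cons (nat_lit 128) (nat_lit 0x300f81d2d45603a14e1a9f1c06164e00)
  (Net.cons (nat_lit 64) (nat_lit 0x22369d7defde48000000000000000000951cd6a4c2e72b84)
  (Net.cons (nat_lit 32) (nat_lit 0x73f6af08000000008a68022200000000edcbf64000000000e410f3f0)
  (Net.cons (nat_lit 16) (nat_lit 0x138c00007cab00007e0100006c200000b8cd000041000000da5200006998)
  (Net.cons (nat_lit 8) (nat_lit 0x8b0020000400f2004c003c00340046001e00da0000001e000a009100200062)
  (Net.cons (nat_lit 4) (nat_lit 0xe050d0b04030908040a080205000c0d070200040c000008080a010e0b00070f)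
  (Net.cons (nat_lit 2) (nat_lit 0x2321300212020002320103232021200211022100202020333200122211232023)
  (Net.cons (nat_lit 1) (nat_lit 0x140544444114111100055404400414014501010140415054150500141104015)
  (Net.cons (nat_lit 2) (nat_lit 0x220022000200022200000202000200022000020200020002200000022202020)
  (Net.cons (nat_lit 4) (nat_lit 0x60400080c020800040008020400040c080200000c0000080a08000004000000)
  (Net.cons (nat_lit 8) (nat_lit 0xca00c400a400c2000c003c00340006000c00600000001e0038001000200004)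
  (Net.cons (nat_lit 16) (nat_lit 0x42060000d89000006a0000006c20000018cc000041000000ba4200006998)
  (Net.cons (nat_lit 32) (nat_lit 0x61f6f408000000008a68022200000000e98bf64000000000e410f3f0)
  (Net.cons (nat_lit 64) (nat_lit 0x32328d7d6fde48000000000000000000951cd6a4c2e72b84)
  (Net.cons (nat_lit 128) (nat_lit 0x300f81d2d45602214e189f1c06060e00)
  Net.nil)))))))))))))))
noncomputable def x287s : ℕ → Net := upd ns285 4 x287
theorem der288 : Der 240 (finX 240) (cl (finG m2ok) [[0,2,4,1],[0,3,5,1,7,1,5,1,3,0,3,5,1,7,1,5,1,3,0,4,3,1,2,0,4,0,6,0,4,2,1,2,0,4,0,6,0,4,2,1],[0,3,5,1,7,1,5,1,3,0,3,5,1,7,1,5,1,3,5,1,6],[2,0,4,0,6,0,4,2,5,3,3,5,1,7,1,5,1,3,0,3,5,1,7,1,5,1,3,0,2,4,1,4]]) x287s := der286.ext (k := 8) (w := [2,2,1,3,2,1,2,1]) 4 (by decide +kernel)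
noncomputable def L289 : Lev := Lev.cons 0 8 [[3],[4]] Lev.nil
noncomputable def L290 : Lev := Lev.cons 154 144 [[0],[1],[2]] L289
theorem lc291 : Lev.chk 240 5 x287s vT 100 L290 = true := by decide +kernel
theorem lb292 : 1152 ≤ Nat.card (cl (finG m2ok) [[0,2,4,1],[0,3,5,1,7,1,5,1,3,0,3,5,1,7,1,5,1,3,0,4,3,1,2,0,4,0,6,0,4,2,1,2,0,4,0,6,0,4,2,1],[0,3,5,1,7,1,5,1,3,0,3,5,1,7,1,5,1,3,5,1,6],[2,0,4,0,6,0,4,2,5,3,3,5,1,7,1,5,1,3,0,3,5,1,7,1,5,1,3,0,2,4,1,4]]) := le_of_eq_of_le (by decide +kernel) (der288.card_ge lc291)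
theorem ix273 : Idx.{u} io C243 [0,1,2,3,4,5,6,7] [[0,2,4,1],[0,3,5,1,7,1,5,1,3,0,3,5,1,7,1,5,1,3,0,4,3,1,2,0,4,0,6,0,4,2,1,2,0,4,0,6,0,4,2,1],[0,3,5,1,7,1,5,1,3,0,3,5,1,7,1,5,1,3,5,1,6],[2,0,4,0,6,0,4,2,5,3,3,5,1,7,1,5,1,3,0,3,5,1,7,1,5,1,3,0,2,4,1,4]] 35 := (Idx.of bd240 sat264 (by decide +kernel) lb292 (by decide +kernel)).of_imp imp245
noncomputable def lk293 : List (List ℕ × List ℕ × Pf) := [([0,2,4,1],[0,0,4,1,1],[([8],33)]),([0,3,5,1,7,1,5,1,3],[3,7,3],[([8,3,7,3,9],31)]),([0,4,3,1],[0,0,4,1,1],[([8,0,0,4,1,1],34)]),([2,0,4,0,6,0,4,2,1],[2,6,2],[([],30)]),([5],[4],[([8,4],28)]),([1,6],[3,1,4,2,6,0,0,5,3,9,1],[([8],37)]),([0,5,3,1],[0,0,5,1,1],[([8,0,0,5,1,1],32)]),([4],[5],[([8],29)])]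
noncomputable def O294 : ℕ := (nat_lit 0x7fffffe2cba2000000)
noncomputable def M295 : ℕ := (nat_lit 0x7fffffffffffffffff)
noncomputable def b296 : ℕ := (nat_lit 0x1c001c4a95ff)
theorem cl297 : Clo.{u} io C243 [0,1,2,3,4,5,6,7] 72 m242 M295 (mkB [(8,b296),(9,b271)]) := cl272.new (k := 4) (b := 8) (q := 7) (p := 25) (r := 200) (n := 35) (O := O294) (by decide +kernel) (lks := lk293) (by decide +kernel) (gens_of_lall2 (m := [[0],[1,1,2,3,3],[1,1,4,5],[3,6,1,1,0,7]]) (by decide +kernel)) ix273 (by decide +kernel)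
noncomputable def b298 : ℕ := (nat_lit 0x5fffffffffffffffff)
noncomputable def b299 : ℕ := (nat_lit 0x5fffffffffffffffff)
theorem cl300 : Clo.{u} io C243 [0,1,2,3,4,5,6,7] 72 m242 M295 (mkB [(8,b298),(9,b299)]) := cl297.ops (os := [Op.ext 8 3 [([4],[5],[([8],29)]),([5],[4],[([8,4],28)]),([0,3,5,1,7,1,5,1,3],[3,7,3],[([8,3,7,3,9],31)]),([2,0,4,0,6,0,4,2,1],[2,6,2],[([],30)]),([0,2,4,1],[0,0,4,1,1],[([8],33)]),([0,5,3,1],[0,0,5,1,1],[([8,0,0,5,1,1],32)])],Op.inv 8,Op.rel 8 [] 9 [] [([],27)],Op.inv 8,Op.rel 9 [2,4,1,1,7,3,5,0,2] 9 [1,9,7,0] [([9,1,9,7,0,8],37)],Op.ext 9 2 [([4],[5],[([9,5,8],29)]),([5],[4],[([],28)]),([0,0,5,1,1],[0,5,3,1],[([9,0,5,3,1,8],33)]),([0,0,4,1,1],[0,2,4,1],[([],32)]),([0,0,4,1,1],[0,4,3,1],[([9,0,4,3,1,8],35)]),([0,0,5,1,1],[0,2,5,1],[([],34)]),([2,6,2],[2,0,4,0,6,0,4,2,1],[([9],31)]),([3,7,3],[0,3,5,1,7,1,5,1,3],[([9,0,3,5,1,7,1,5,1,3],30)])],Op.inv 9]) (by decide +kernel) (by decide +kernel)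
theorem der302 : Der 240 (finX 240) (cl (finG m2ok) [[4],[0,2,4,1],[0,3,5,1,7,1,5,1,3],[1,6]]) (fun _ => Net.nil) := Der.zero (finModel m2ok).inj
noncomputable def ns303 : ℕ → Net := upd (fun _ => Net.nil) 0 (m2 4)
theorem der304 : Der 240 (finX 240) (cl (finG m2ok) [[4],[0,2,4,1],[0,3,5,1,7,1,5,1,3],[1,6]]) ns303 := der302.add (wp_mem_cl (w := [4]) (by decide)) (rep_letter (finModel m2ok) 4) 0
noncomputable def x305 : Net := (Net.cons (nat_lit 128) (nat_lit 0xff6a3d787aa72dbbbcebb05e577cb694)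
  (Net.cons (nat_lit 64) (nat_lit 0x8911240934790c1900000000000000005a370167509c5c15)
  (Net.cons (nat_lit 32) (nat_lit 0xb0087bbf000000001d9c45a000000000e7c519ff00000000ebe6ba8f)
  (Net.cons (nat_lit 16) (nat_lit 0xcb4800005c9200008d820000d6090000d8500000f041000000fe00009d0d)
  (Net.cons (nat_lit 8) (nat_lit 0x1500f100fb00ed00d400e6008c009e00d50043006a0000005b004e001d0036)
  (Net.cons (nat_lit 4) (nat_lit 0x80707020d02080b010a0d0a040807070908050e0c09070b0f0c07020f000209)
  (Net.cons (nat_lit 2) (nat_lit 0x2030033212233020203023020301201221110132003032232202003010031031)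
  (Net.cons (nat_lit 1) (nat_lit 0x4141441100104454410454411501015544141041144041155005014441011004)
  (Net.cons (nat_lit 2) (nat_lit 0x22002200200002220202022002000000000020020022000000020000022002)
  (Net.cons (nat_lit 4) (nat_lit 0x8040c080c0e04000e00000004040a0c040a00040e0e0200020008080e080404)
  (Net.cons (nat_lit 8) (nat_lit 0x1c00540060007400ca00a000cc00820070000c007a001000dc00a200880082)
  (Net.cons (nat_lit 16) (nat_lit 0x2b5200000ee40000b9200000ef6a00003e000000fa5c0000254400000cdc)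
  (Net.cons (nat_lit 32) (nat_lit 0xcf63347c000000006292084800000000ff46db7000000000eafa87d0)
  (Net.cons (nat_lit 64) (nat_lit 0x7e11c7edf214b27400000000000000005a266623b3207028)
  (Net.cons (nat_lit 128) (nat_lit 0xff6a101cd57e60adb064a683e1d7a300)
  Net.nil)))))))))))))))
noncomputable def ns306 : ℕ → Net := upd ns303 1 x305
theorem der307 : Der 240 (finX 240) (cl (finG m2ok) [[4],[0,2,4,1],[0,3,5,1,7,1,5,1,3],[1,6]]) ns306 := der304.add (wp_mem_cl (w := [0,2,4,1]) (by decide)) ((finModel m2ok).toIsPre.rep_word (k := 8) (w := [0,2,4,1]) (n := x305) (by decide +kernel)) 1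
noncomputable def x308 : Net := (Net.cons (nat_lit 128) (nat_lit 0x2481bd170c01fb25174714ac86fb4012)
  (Net.cons (nat_lit 64) (nat_lit 0x761c63451680b76200000000000000004b5305e7a3922d65)
  (Net.cons (nat_lit 32) (nat_lit 0x2f0b90c400000000cbbe3d5f0000000015edd9ef0000000087656edb)
  (Net.cons (nat_lit 16) (nat_lit 0xee400000f0cb0000eab500006597000010f40000e090000083f100008756)
  (Net.cons (nat_lit 8) (nat_lit 0xbe00b300a20031001900f100c3002900ee001d00d5009d00a30072008c00ed)
  (Net.cons (nat_lit 4) (nat_lit 0x508040200080e090d0a00080001080803030c070708010f01020f0b0904020e)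
  (Net.cons (nat_lit 2) (nat_lit 0x1321020230333300020201132001032211321030313031302312030121220331)
  (Net.cons (nat_lit 1) (nat_lit 0x4444510550141540144115415110014141011544054140141441041500504114)
  (Net.cons (nat_lit 2) (nat_lit 0x20000000202020222200220000022000020000000220220222000000000022)
  (Net.cons (nat_lit 4) (nat_lit 0x4040204080c040002040e08040002000204080e00040c04000c0c04020804)
  (Net.cons (nat_lit 8) (nat_lit 0xbe0090007400e0009c00aa00020020002000d8005c00b400c2000000c00096)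
  (Net.cons (nat_lit 16) (nat_lit 0xe3500000a43a000025540000d0740000cf440000a9ca0000905c000030e6)
  (Net.cons (nat_lit 32) (nat_lit 0x79936ba400000000635ed3400000000097babc8400000000ca4d1004)
  (Net.cons (nat_lit 64) (nat_lit 0x721d60d4d79e288a0000000000000000404d129eb50d29a4)
  (Net.cons (nat_lit 128) (nat_lit 0x2481388ad8e3192c1f327dbd0b8f0ea4)
  Net.nil)))))))))))))))
noncomputable def ns309 : ℕ → Net := upd ns306 2 x308
theorem der310 : Der 240 (finX 240) (cl (finG m2ok) [[4],[0,2,4,1],[0,3,5,1,7,1,5,1,3],[1,6]]) ns309 := der307.add (wp_mem_cl (w := [0,3,5,1,7,1,5,1,3]) (by decide)) ((finModel m2ok).toIsPre.rep_word (k := 8) (w := [0,3,5,1,7,1,5,1,3]) (n := x308) (by decide +kernel)) 2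
noncomputable def x311 : Net := (Net.cons (nat_lit 128) (nat_lit 0xfac5e7569e868ac90bf30193804eb28a)
  (Net.cons (nat_lit 64) (nat_lit 0xac34f7501c5d11aa000000000000000069adf91b414222f6)
  (Net.cons (nat_lit 32) (nat_lit 0xcffe463200000000a95a5a01000000006ddcd12b00000000419591b1)
  (Net.cons (nat_lit 16) (nat_lit 0x7e1d00000dfa00005473000029c3000067840000f9b20000c6470000bb7e)
  (Net.cons (nat_lit 8) (nat_lit 0xc9006000f2001c00f30005008d00f50004009100a400c9004f00aa00000091)
  (Net.cons (nat_lit 4) (nat_lit 0x4060405090e04030a03010100040600010d0a0b0b0c040b0d050c02040e0b)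
  (Net.cons (nat_lit 2) (nat_lit 0x1332313033311220103101103221320103022001230212012103112022100020)
  (Net.cons (nat_lit 1) (nat_lit 0x150451014510400511051011141050105411441441045050400144101140500)
  (Net.cons (nat_lit 2) (nat_lit 0x200200022020000000002000200000000220020022000000000200002020000)
  (Net.cons (nat_lit 4) (nat_lit 0x8000c0a04000c080402000008000006040004080208080c0a0c020e08040a00)
  (Net.cons (nat_lit 8) (nat_lit 0x9c00e0009000f800e80054004e00d4002400c00090008000ce00c0000600b8)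
  (Net.cons (nat_lit 16) (nat_lit 0xd7a00000792a0000d42000001ec00000029a0000c2100000d5c400002d3c)
  (Net.cons (nat_lit 32) (nat_lit 0xe1eb86680000000048547c260000000044fc6888000000004395d10c)
  (Net.cons (nat_lit 64) (nat_lit 0x9ef1e202b79cc06c00000000000000006daf2d00bb250c2c)
  (Net.cons (nat_lit 128) (nat_lit 0xfac5f62acc0d9d8d3f1ea390df562500)
  Net.nil)))))))))))))))
noncomputable def ns312 : ℕ → Net := upd ns309 3 x311
theorem der313 : Der 240 (finX 240) (cl (finG m2ok) [[4],[0,2,4,1],[0,3,5,1,7,1,5,1,3],[1,6]]) ns312 := der310.add (wp_mem_cl (w := [1,6]) (by decide)) ((finModel m2ok).toIsPre.rep_word (k := 8) (w := [1,6]) (n := x311) (by decide +kernel)) 3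
noncomputable def x314 : Net := (Net.cons (nat_lit 128) (nat_lit 0x68009d412508cf5d66b71b04df181004)
  (Net.cons (nat_lit 64) (nat_lit 0x6ea482068109e310000000000000000086f765da1b949188)
  (Net.cons (nat_lit 32) (nat_lit 0x3c204838000000006d181be600000000c305531400000000e2944970)
  (Net.cons (nat_lit 16) (nat_lit 0x2a0000003c58000080000000b88000005ce00000b3000000257000006674)
  (Net.cons (nat_lit 8) (nat_lit 0x8400f3000800a200f1003000c0005c00a7001e00e6005e002600a7005c009f)
  (Net.cons (nat_lit 4) (nat_lit 0x200090d0609040004080c00000e03010906000100090e0e030e0b0f07040b03)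
  (Net.cons (nat_lit 2) (nat_lit 0x2200002023022030002020210031112033332200222001300001233020201213)
  (Net.cons (nat_lit 1) (nat_lit 0x1000544510440504004040401150144050414140440440544410155144451554)
  (Net.cons (nat_lit 2) (nat_lit 0x2000020020020000002020200000020000022220200200000000000202200002)
  (Net.cons (nat_lit 4) (nat_lit 0x20002060608040000000400000e0c080a0a00000000040e0006000400040404)
  (Net.cons (nat_lit 8) (nat_lit 0x80000c0008000200e00020004000b40078001800e8005e00260000005c0008)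
  (Net.cons (nat_lit 16) (nat_lit 0x2a0000003858000088000000b08000005c0000003304000025700000e670)
  (Net.cons (nat_lit 32) (nat_lit 0x3400083800000000e51813e400000000c305530400000000e2944970)
  (Net.cons (nat_lit 64) (nat_lit 0x6ea482068109e110000000000000000006f365da1b9cb180)
  (Net.cons (nat_lit 128) (nat_lit 0x68009d412508cf5c66b71b04df181004)
  Net.nil)))))))))))))))
noncomputable def x314s : ℕ → Net := upd ns312 4 x314
theorem der315 : Der 240 (finX 240) (cl (finG m2ok) [[4],[0,2,4,1],[0,3,5,1,7,1,5,1,3],[1,6]]) x314s := der313.ext (k := 8) (w := [2,2,0,2,1,2,2]) 4 (by decide +kernel)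
noncomputable def L316 : Lev := Lev.cons 0 3 [[3]] Lev.nil
noncomputable def L317 : Lev := Lev.cons 116 56 [[4]] L316
noncomputable def L318 : Lev := Lev.cons 171 240 [[0],[1],[2]] L317
theorem lc319 : Lev.chk 240 5 x314s vT 100 L318 = true := by decide +kernel
theorem lb320 : 40320 ≤ Nat.card (cl (finG m2ok) [[4],[0,2,4,1],[0,3,5,1,7,1,5,1,3],[1,6]]) := le_of_eq_of_le (by decide +kernel) (der315.card_ge lc319)
theorem ix301 : Idx.{u} io C243 [0,1,2,3,4,5,6,7] [[4],[0,2,4,1],[0,3,5,1,7,1,5,1,3],[1,6]] 1 := (Idx.of bd240 sat264 (by decide +kernel) lb320 (by decide +kernel)).of_imp imp245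
noncomputable def lk321 : List (List ℕ × List ℕ × Pf) := [([4],[5],[([8],29)]),([0,2,4,1],[0,0,4,1,1],[([8],33)]),([0,3,5,1,7,1,5,1,3],[3,7,3],[([8,3,7,3,9],31)]),([1,6],[3,1,4,2,6,0,0,5,3,9,1],[([8],37)])]
noncomputable def O322 : ℕ := (nat_lit 0x800000000000000000)
noncomputable def M323 : ℕ := (nat_lit 0xffffffffffffffffff)
noncomputable def b324 : ℕ := (nat_lit 0x7fffffffffffffffff)
theorem cl325 : Clo.{u} io C243 [0,1,2,3,4,5,6,7] 72 m242 M323 (mkB [(8,b324),(9,b299)]) := cl300.new (k := 4) (b := 8) (q := 69) (p := 71) (r := 200) (n := 1) (O := O322) (by decide +kernel) (lks := lk321) (by decide +kernel) (gens_of_lall2 (m := [[0],[1],[2],[3]]) (by decide +kernel)) ix301 (by decide +kernel)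
noncomputable def b326 : ℕ := (nat_lit 0xffffffffffffffffff)
noncomputable def b327 : ℕ := (nat_lit 0xffffffffffffffffff)
theorem cl328 : Clo.{u} io C243 [0,1,2,3,4,5,6,7] 72 m242 M323 (mkB [(8,b326),(9,b327)]) := cl325.ops (os := [Op.inv 8,Op.rel 8 [] 9 [] [([],27)],Op.inv 8]) (by decide +kernel) (by decide +kernel)
theorem sat330 : Sat io C243 (finG m242ok) := m242s0.fin (k := 7) (by decide +kernel)
theorem bd329 : Bound.{u} io C243 [0,1,2,3,4,5,6,7,8,9] 2903040 := cl328.bound (by decide +kernel) sat330 (bd240.of_imp imp245)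

end Cfsg.Agent.H6.Le.S2m
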