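import Cfsg.Agent.H6.LeS2n3
set_option maxRecDepth 100000
set_option Elab.async false
namespace Cfsg.Agent.H6.Le.S2m
open Cfsg.Agent.H6
universe u

theorem cv740 : wp (finG m709ok) [0,0,0,0,0,0,0] ∈ cl (finG m709ok) us732 := mem_cl_of_eqv (eqv_of_faith (finModel m709ok) (faith_fin 66825) 17) (R := [[0,0,0,0,0,0,0]]) (sl := [[]]) (by decide +kernel) _ (List.mem_singleton_self _)
theorem cv741 : wp (finG m709ok) [2,2,2] ∈ cl (finG m709ok) us732 := mem_cl_of_eqv (eqv_of_faith (finModel m709ok) (faith_fin 66825) 17) (R := [[2,2,2]]) (sl := [[]]) (by decide +kernel) _ (List.mem_singleton_self _)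
theorem cv742 : wp (finG m709ok) [2,0,3,1,1] ∈ cl (finG m709ok) us732 := mem_cl_of_eqv (eqv_of_faith (finModel m709ok) (faith_fin 66825) 17) (R := [[2,0,3,1,1]]) (sl := [[]]) (by decide +kernel) _ (List.mem_singleton_self _)
theorem cv743 : wp (finG m709ok) [4,4,4,4] ∈ cl (finG m709ok) us732 := mem_cl_of_eqv (eqv_of_faith (finModel m709ok) (faith_fin 66825) 17) (R := [[4,4,4,4]]) (sl := [[]]) (by decide +kernel) _ (List.mem_singleton_self _)
theorem cv744 : wp (finG m709ok) [4,0,4,0,4,0] ∈ cl (finG m709ok) us732 := mem_cl_of_eqv (eqv_of_faith (finModel m709ok) (faith_fin 66825) 17) (R := [[4,0,4,0,4,0]]) (sl := [[]]) (by decide +kernel) _ (List.mem_singleton_self _)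
theorem cv745 : wp (finG m709ok) [5,2,4,2] ∈ cl (finG m709ok) us732 := mem_cl_of_eqv (eqv_of_faith (finModel m709ok) (faith_fin 66825) 17) (R := [[5,2,4,2]]) (sl := [[]]) (by decide +kernel) _ (List.mem_singleton_self _)
theorem cv746 : wp (finG m709ok) [5,1,4,1,4,1] ∈ cl (finG m709ok) us732 := mem_cl_of_eqv (eqv_of_faith (finModel m709ok) (faith_fin 66825) 17) (R := [[5,1,4,1,4,1]]) (sl := [[]]) (by decide +kernel) _ (List.mem_singleton_self _)
theorem cv747 : wp (finG m709ok) [6,6,6] ∈ cl (finG m709ok) us732 := mem_cl_of_eqv (eqv_of_faith (finModel m709ok) (faith_fin 66825) 17) (R := [[6,6,6]]) (sl := [[]]) (by decide +kernel) _ (List.mem_singleton_self _)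
theorem cv748 : wp (finG m709ok) [6,2,7,0,3] ∈ cl (finG m709ok) us732 := mem_cl_of_eqv (eqv_of_faith (finModel m709ok) (faith_fin 66825) 17) (R := [[6,2,7,0,3]]) (sl := [[]]) (by decide +kernel) _ (List.mem_singleton_self _)
theorem cv749 : wp (finG m709ok) [7,5,5,6,5,5] ∈ cl (finG m709ok) us732 := mem_cl_of_eqv (eqv_of_faith (finModel m709ok) (faith_fin 66825) 17) (R := [[7,5,5,6,5,5]]) (sl := [[]]) (by decide +kernel) _ (List.mem_singleton_self _)
theorem cv750 : wp (finG m709ok) [6,1,1,6,1,3] ∈ cl (finG m709ok) us732 := mem_cl_of_eqv (eqv_of_faith (finModel m709ok) (faith_fin 66825) 17) (R := [[6,1,1,6,1,3]]) (sl := [[]]) (by decide +kernel) _ (List.mem_singleton_self _)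
theorem cv751 : wp (finG m709ok) [7,5,1,7,4,7,1,2,5,0,0] ∈ cl (finG m709ok) us732 := mem_cl_of_eqv (eqv_of_faith (finModel m709ok) (faith_fin 66825) 17) (R := [[7,5,1,7,4,7,1,2,5,0,0]]) (sl := [[]]) (by decide +kernel) _ (List.mem_singleton_self _)
theorem cv752 : wp (finG m709ok) [7,0,5,0,6,4,6,0,3,4,0,2] ∈ cl (finG m709ok) us732 := mem_cl_of_eqv (eqv_of_faith (finModel m709ok) (faith_fin 66825) 17) (R := [[7,0,5,0,6,4,6,0,3,4,0,2]]) (sl := [[]]) (by decide +kernel) _ (List.mem_singleton_self _)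
theorem cv753 : wp (finG m709ok) [10,10] ∈ cl (finG m709ok) us732 := mem_cl_of_eqv (eqv_of_faith (finModel m709ok) (faith_fin 66825) 17) (R := [[10,10]]) (sl := [[]]) (by decide +kernel) _ (List.mem_singleton_self _)
theorem cv754 : wp (finG m709ok) [11,6,10,6] ∈ cl (finG m709ok) us732 := mem_cl_of_eqv (eqv_of_faith (finModel m709ok) (faith_fin 66825) 17) (R := [[11,6,10,6]]) (sl := [[0]]) (by decide +kernel) _ (List.mem_singleton_self _)
theorem cv755 : wp (finG m709ok) [11,5,5,10,1,1,1,5,0,2,7,3,5,1,2] ∈ cl (finG m709ok) us732 := mem_cl_of_eqv (eqv_of_faith (finModel m709ok) (faith_fin 66825) 17) (R := [[11,5,5,10,1,1,1,5,0,2,7,3,5,1,2]]) (sl := [[]]) (by decide +kernel) _ (List.mem_singleton_self _)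
theorem cv756 : wp (finG m709ok) [10,5,5,11,1,1,1,5,0,2,7,3,5,1,2] ∈ cl (finG m709ok) us732 := mem_cl_of_eqv (eqv_of_faith (finModel m709ok) (faith_fin 66825) 17) (R := [[10,5,5,11,1,1,1,5,0,2,7,3,5,1,2]]) (sl := [[]]) (by decide +kernel) _ (List.mem_singleton_self _)
theorem cv757 : wp (finG m709ok) [11,2,0,4,0,0,10,0,0,2,4,0,0] ∈ cl (finG m709ok) us732 := mem_cl_of_eqv (eqv_of_faith (finModel m709ok) (faith_fin 66825) 17) (R := [[11,2,0,4,0,0,10,0,0,2,4,0,0]]) (sl := [[0]]) (by decide +kernel) _ (List.mem_singleton_self _)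
theorem cv758 : wp (finG m709ok) [11,2,0,5,0,0,10,1,1,1,5,0,7,3,5,1,2] ∈ cl (finG m709ok) us732 := mem_cl_of_eqv (eqv_of_faith (finModel m709ok) (faith_fin 66825) 17) (R := [[11,2,0,5,0,0,10,1,1,1,5,0,7,3,5,1,2]]) (sl := [[0]]) (by decide +kernel) _ (List.mem_singleton_self _)
theorem cv759 : wp (finG m709ok) [11,0,3,5,7,4,2,10,0,3,4,7,3,5] ∈ cl (finG m709ok) us732 := mem_cl_of_eqv (eqv_of_faith (finModel m709ok) (faith_fin 66825) 17) (R := [[11,0,3,5,7,4,2,10,0,3,4,7,3,5]]) (sl := [[0]]) (by decide +kernel) _ (List.mem_singleton_self _)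
theorem cv760 : wp (finG m709ok) [11,1,5,6,5,3,1,10,3,4,0,0,7,5,0] ∈ cl (finG m709ok) us732 := mem_cl_of_eqv (eqv_of_faith (finModel m709ok) (faith_fin 66825) 17) (R := [[11,1,5,6,5,3,1,10,3,4,0,0,7,5,0]]) (sl := [[0]]) (by decide +kernel) _ (List.mem_singleton_self _)
theorem cv761 : wp (finG m709ok) [11,1,2,10,3,0,10,0,0,3,5,1,7,1,5,0,6,1] ∈ cl (finG m709ok) us732 := mem_cl_of_eqv (eqv_of_faith (finModel m709ok) (faith_fin 66825) 17) (R := [[11,1,2,10,3,0,10,0,0,3,5,1,7,1,5,0,6,1]]) (sl := [[]]) (by decide +kernel) _ (List.mem_singleton_self _)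
theorem cv762 : wp (finG m709ok) [11,1,5,6,10,4,0,10,1,5,1,7,1,5,0,6,1] ∈ cl (finG m709ok) us732 := mem_cl_of_eqv (eqv_of_faith (finModel m709ok) (faith_fin 66825) 17) (R := [[11,1,5,6,10,4,0,10,1,5,1,7,1,5,0,6,1]]) (sl := [[0,0]]) (by decide +kernel) _ (List.mem_singleton_self _)
theorem cv763 : wp (finG m709ok) [11,1,5,6,11,4,0,10,1,5,1,7,1,5,0,6,1] ∈ cl (finG m709ok) us732 := mem_cl_of_eqv (eqv_of_faith (finModel m709ok) (faith_fin 66825) 17) (R := [[11,1,5,6,11,4,0,10,1,5,1,7,1,5,0,6,1]]) (sl := [[0,0]]) (by decide +kernel) _ (List.mem_singleton_self _)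

end Cfsg.Agent.H6.Le.S2m
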