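import Cfsg.Agent.H6.LeS2n4
set_option maxRecDepth 100000
set_option Elab.async false
namespace Cfsg.Agent.H6.Le.S2m
open Cfsg.Agent.H6
universe u

theorem cv764 : ∀ r ∈ C572, wp (finG m709ok) r ∈ cl (finG m709ok) us732 := (List.forall_mem_cons.2 ⟨cv740, (List.forall_mem_cons.2 ⟨cv741, (List.forall_mem_cons.2 ⟨cv742, (List.forall_mem_cons.2 ⟨cv743, (List.forall_mem_cons.2 ⟨cv744, (List.forall_mem_cons.2 ⟨cv745, (List.forall_mem_cons.2 ⟨cv746, (List.forall_mem_cons.2 ⟨cv747, (List.forall_mem_cons.2 ⟨cv748, (List.forall_mem_cons.2 ⟨cv749, (List.forall_mem_cons.2 ⟨cv750, (List.forall_mem_cons.2 ⟨cv751, (List.forall_mem_cons.2 ⟨cv752, (List.forall_mem_cons.2 ⟨cv753, (List.forall_mem_cons.2 ⟨cv754, (List.forall_mem_cons.2 ⟨cv755, (List.forall_mem_cons.2 ⟨cv756, (List.forall_mem_cons.2 ⟨cv757, (List.forall_mem_cons.2 ⟨cv758, (List.forall_mem_cons.2 ⟨cv759, (List.forall_mem_cons.2 ⟨cv760, (List.forall_mem_cons.2 ⟨cv761, (List.forall_mem_cons.2 ⟨cv762, (List.forall_mem_cons.2 ⟨cv763, (by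 simp)⟩)⟩)⟩)⟩)⟩)⟩)⟩)⟩)⟩)⟩)⟩)⟩)⟩)⟩)⟩)⟩)⟩)⟩)⟩)⟩)⟩)⟩)⟩)⟩)
theorem cv765 : finG m709ok 11 * wp (finG m709ok) [6,5,10,7,11,4,6,5,10,7,11,4] = wp (finG m709ok) [6,5,10,7,11,4,6,5,10,7,11,4] * finG m709ok 11 := comm_of_eqv' (eqv_of_faith (finModel m709ok) (faith_fin 66825) 17) (us := [[6,5,10,7,11,4,6,5,10,7,11,4]]) (kl := [11]) (by decide +kernel) _ (List.mem_singleton_self _) _ (List.mem_singleton_self _)
theorem cv766 : finG m709ok 10 * wp (finG m709ok) [6,5,10,7,11,4,6,5,10,7,11,4] = wp (finG m709ok) [6,5,10,7,11,4,6,5,10,7,11,4] * finG m709ok 10 := comm_of_eqv' (eqv_of_faith (finModel m709ok) (faith_fin 66825) 17) (us := [[6,5,10,7,11,4,6,5,10,7,11,4]]) (kl := [10]) (by decide +kernel) _ (List.mem_singleton_self _) _ (List.mem_singleton_self _)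
theorem cv767 : finG m709ok 7 * wp (finG m709ok) [6,5,10,7,11,4,6,5,10,7,11,4] = wp (finG m709ok) [6,5,10,7,11,4,6,5,10,7,11,4] * finG m709ok 7 := comm_of_eqv' (eqv_of_faith (finModel m709ok) (faith_fin 66825) 17) (us := [[6,5,10,7,11,4,6,5,10,7,11,4]]) (kl := [7]) (by decide +kernel) _ (List.mem_singleton_self _) _ (List.mem_singleton_self _)
theorem cv768 : finG m709ok 6 * wp (finG m709ok) [6,5,10,7,11,4,6,5,10,7,11,4] = wp (finG m709ok) [6,5,10,7,11,4,6,5,10,7,11,4] * finG m709ok 6 := comm_of_eqv' (eqv_of_faith (finModel m709ok) (faith_fin 66825) 17) (us := [[6,5,10,7,11,4,6,5,10,7,11,4]]) (kl := [6]) (by decide +kernel) _ (List.mem_singleton_self _) _ (List.mem_singleton_self _)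
theorem cv769 : finG m709ok 5 * wp (finG m709ok) [6,5,10,7,11,4,6,5,10,7,11,4] = wp (finG m709ok) [6,5,10,7,11,4,6,5,10,7,11,4] * finG m709ok 5 := comm_of_eqv' (eqv_of_faith (finModel m709ok) (faith_fin 66825) 17) (us := [[6,5,10,7,11,4,6,5,10,7,11,4]]) (kl := [5]) (by decide +kernel) _ (List.mem_singleton_self _) _ (List.mem_singleton_self _)
theorem cv770 : finG m709ok 4 * wp (finG m709ok) [6,5,10,7,11,4,6,5,10,7,11,4] = wp (finG m709ok) [6,5,10,7,11,4,6,5,10,7,11,4] * finG m709ok 4 := comm_of_eqv' (eqv_of_faith (finModel m709ok) (faith_fin 66825) 17) (us := [[6,5,10,7,11,4,6,5,10,7,11,4]]) (kl := [4]) (by decide +kernel) _ (List.mem_singleton_self _) _ (List.mem_singleton_self _)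
theorem cv771 : finG m709ok 3 * wp (finG m709ok) [6,5,10,7,11,4,6,5,10,7,11,4] = wp (finG m709ok) [6,5,10,7,11,4,6,5,10,7,11,4] * finG m709ok 3 := comm_of_eqv' (eqv_of_faith (finModel m709ok) (faith_fin 66825) 17) (us := [[6,5,10,7,11,4,6,5,10,7,11,4]]) (kl := [3]) (by decide +kernel) _ (List.mem_singleton_self _) _ (List.mem_singleton_self _)
theorem cv772 : finG m709ok 2 * wp (finG m709ok) [6,5,10,7,11,4,6,5,10,7,11,4] = wp (finG m709ok) [6,5,10,7,11,4,6,5,10,7,11,4] * finG m709ok 2 := comm_of_eqv' (eqv_of_faith (finModel m709ok) (faith_fin 66825) 17) (us := [[6,5,10,7,11,4,6,5,10,7,11,4]]) (kl := [2]) (by decide +kernel) _ (List.mem_singleton_self _) _ (List.mem_singleton_self _)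
theorem cv773 : finG m709ok 1 * wp (finG m709ok) [6,5,10,7,11,4,6,5,10,7,11,4] = wp (finG m709ok) [6,5,10,7,11,4,6,5,10,7,11,4] * finG m709ok 1 := comm_of_eqv' (eqv_of_faith (finModel m709ok) (faith_fin 66825) 17) (us := [[6,5,10,7,11,4,6,5,10,7,11,4]]) (kl := [1]) (by decide +kernel) _ (List.mem_singleton_self _) _ (List.mem_singleton_self _)
theorem cv774 : finG m709ok 0 * wp (finG m709ok) [6,5,10,7,11,4,6,5,10,7,11,4] = wp (finG m709ok) [6,5,10,7,11,4,6,5,10,7,11,4] * finG m709ok 0 := comm_of_eqv' (eqv_of_faith (finModel m709ok) (faith_fin 66825) 17) (us := [[6,5,10,7,11,4,6,5,10,7,11,4]]) (kl := [0]) (by decide +kernel) _ (List.mem_singleton_self _) _ (List.mem_singleton_self _)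
theorem rl776 : ∀ r ∈ C572, wp gM r = 1 := rels_of_eqv heqM (by decide +kernel)
theorem sa775 : Sat io C572 gM := ⟨s0M.inv, rl776⟩
theorem der777 : Der 275 (LX 4 Mc.mvS) (cl gM (lw [0,1,2,3,4,5,6,7,10,11])) (fun _ => Net.nil) := Der.zero ntMm.inj
noncomputable def ns778 : ℕ → Net := upd (fun _ => Net.nil) 0 (ntM 0)
theorem der779 : Der 275 (LX 4 Mc.mvS) (cl gM (lw [0,1,2,3,4,5,6,7,10,11])) ns778 := der777.add (wp_mem_cl (w := [0]) (by decide)) (rep_letter ntMm 0) 0
noncomputable def ns780 : ℕ → Net := upd ns778 1 (ntM 1)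
theorem der781 : Der 275 (LX 4 Mc.mvS) (cl gM (lw [0,1,2,3,4,5,6,7,10,11])) ns780 := der779.add (wp_mem_cl (w := [1]) (by decide)) (rep_letter ntMm 1) 1
noncomputable def ns782 : ℕ → Net := upd ns780 2 (ntM 2)
theorem der783 : Der 275 (LX 4 Mc.mvS) (cl gM (lw [0,1,2,3,4,5,6,7,10,11])) ns782 := der781.add (wp_mem_cl (w := [2]) (by decide)) (rep_letter ntMm 2) 2
noncomputable def ns784 : ℕ → Net := upd ns782 3 (ntM 3)
theorem der785 : Der 275 (LX 4 Mc.mvS) (cl gM (lw [0,1,2,3,4,5,6,7,10,11])) ns784 := der783.add (wp_mem_cl (w := [3]) (by decide)) (rep_letter ntMm 3) 3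
noncomputable def ns786 : ℕ → Net := upd ns784 4 (ntM 4)
theorem der787 : Der 275 (LX 4 Mc.mvS) (cl gM (lw [0,1,2,3,4,5,6,7,10,11])) ns786 := der785.add (wp_mem_cl (w := [4]) (by decide)) (rep_letter ntMm 4) 4
noncomputable def ns788 : ℕ → Net := upd ns786 5 (ntM 5)
theorem der789 : Der 275 (LX 4 Mc.mvS) (cl gM (lw [0,1,2,3,4,5,6,7,10,11])) ns788 := der787.add (wp_mem_cl (w := [5]) (by decide)) (rep_letter ntMm 5) 5
noncomputable def ns790 : ℕ → Net := upd ns788 6 (ntM 6)
theorem der791 : Der 275 (LX 4 Mc.mvS) (cl gM (lw [0,1,2,3,4,5,6,7,10,11])) ns790 := der789.add (wp_mem_cl (w := [6]) (by decide)) (rep_letter ntMm 6) 6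
noncomputable def ns792 : ℕ → Net := upd ns790 7 (ntM 7)
theorem der793 : Der 275 (LX 4 Mc.mvS) (cl gM (lw [0,1,2,3,4,5,6,7,10,11])) ns792 := der791.add (wp_mem_cl (w := [7]) (by decide)) (rep_letter ntMm 7) 7
noncomputable def ns794 : ℕ → Net := upd ns792 8 (ntM 10)
theorem der795 : Der 275 (LX 4 Mc.mvS) (cl gM (lw [0,1,2,3,4,5,6,7,10,11])) ns794 := der793.add (wp_mem_cl (w := [10]) (by decide)) (rep_letter ntMm 10) 8
noncomputable def ns796 : ℕ → Net := upd ns794 9 (ntM 11)
theorem der797 : Der 275 (LX 4 Mc.mvS) (cl gM (lw [0,1,2,3,4,5,6,7,10,11])) ns796 := der795.add (wp_mem_cl (w := [11]) (by decide)) (rep_letter ntMm 11) 9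
noncomputable def x798 : Net := (Net.cons (nat_lit 160) (nat_lit 0x15296432f218419e254d56bb043420df6844400)
  (Net.cons (nat_lit 80) (nat_lit 0x450ad65a0c24f4108480000000000000000000002c0ca9bd500eb3a700a8)
  (Net.cons (nat_lit 40) (nat_lit 0x25d4b840800000000000aacfae21740000000000681a128168000000000063cc540a54)
  (Net.cons (nat_lit 20) (nat_lit 0x65b4c000004e344000001be1600000af8d30000092b1000000d6a80000001ded2000009b410)
  (Net.cons (nat_lit 10) (nat_lit 0x4003800005c00318002e0001600037d00017002620010c00340000240027a0004c0028a0001e)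
  (Net.cons (nat_lit 5) (nat_lit 0x80301006019040000441e0381c02c0c02c1a00807010000501a020160480c0700e0780502008)
  (Net.cons (nat_lit 1) (nat_lit 0x2000000280000000000020010810000100000000000000000000004a028000014000800001000)
  (Net.cons (nat_lit 1) (nat_lit 0x1400000a500000000a001401294a400020200200000008000004802940500001280a500000280a)
  (Net.cons (nat_lit 1) (nat_lit 0x84010052948000005000a5214a52800401405000242948008084014a028080294052108521405)
  (Net.cons (nat_lit 1) (nat_lit 0x1420080a509000000a1214a5094a128081090a0014a109001294a42940500481294a520424290a)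
  (Net.cons (nat_lit 1) (nat_lit 0x4a40102029480204000002521081204002840108081280a408084004a12848129400294a4090a0)
  (Net.cons (nat_lit 5) (nat_lit 0x80201006010000000401e0681e010080381200818010000500402012048080700e0780a02008)
  (Net.cons (nat_lit 10) (nat_lit 0x3800005800310002e000132003e800002002400010c00340000240007a0004c0028a00284)
  (Net.cons (nat_lit 20) (nat_lit 0x1b4c000004e344000001be16000006bf8c0000092b1000000d6a80000001ded2000009b410)
  (Net.cons (nat_lit 40) (nat_lit 0x25d4b840800000000000a9cf8e21940000000000281a128168000000000063cc540a54)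
  (Net.cons (nat_lit 80) (nat_lit 0x450ad65a0c24f410848000000000000000000000280ca9bd500eb3a700a8)
  (Net.cons (nat_lit 160) (nat_lit 0x15296432f218419e254d56bb043420df6844400)
  Net.nil)))))))))))))))))
noncomputable def x798s : ℕ → Net := upd ns796 10 x798
theorem der799 : Der 275 (LX 4 Mc.mvS) (cl gM (lw [0,1,2,3,4,5,6,7,10,11])) x798s := der797.ext (k := 9) (w := [4,7,5,8,4,7,6,4,8,5,6,4]) 10 (by decide +kernel)
noncomputable def x800 : Net := (Net.cons (nat_lit 160) (nat_lit 0x24fd77f93d5ec07802b03751d71b4da653ac1ae4)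
  (Net.cons (nat_lit 80) (nat_lit 0x2b8d49cc6ebaa8be092900000000000000000000bfe96905aab6302f81e2)
  (Net.cons (nat_lit 40) (nat_lit 0x2603ef98f40000000000603c0653ba00000000004e1bacfbba0000000000d1ce58d2cf)
  (Net.cons (nat_lit 20) (nat_lit 0xe92800000cdb9f00000052b50000009ee1000002203e000000104a000008b4a400000c293e)
  (Net.cons (nat_lit 10) (nat_lit 0x242003120012c003b7001a4003da001a000085002480005a0039a001e0000c4001850029c00143)
  (Net.cons (nat_lit 5) (nat_lit 0x240e0581b0200d0780b07c1a0381601c0a0301c0400a0140a0181b03c1c05400030010401404c0a)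
  (Net.cons (nat_lit 1) (nat_lit 0x10000028400004000000001000000810102001000010200800101000000a00800500000)
  (Net.cons (nat_lit 1) (nat_lit 0x8401080200040529400084000000129000094a029400294a528405000a02800001481000a42900)
  (Net.cons (nat_lit 1) (nat_lit 0x210a5294a4010a0290a001084210a1294a0094a401484014a4214812148429405090a520005294a4)
  (Net.cons (nat_lit 1) (nat_lit 0x120425094810940529401214212142129485284a009421294a509025084a108025214a5080a50842)
  (Net.cons (nat_lit 1) (nat_lit 0x140501024004a129005004052802121421094a101484210a000024080002140509485080a1090a4)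
  (Net.cons (nat_lit 5) (nat_lit 0x6006060060281e0281e07812078100001e0600c0000802804010020281c0500803000040000200a)
  (Net.cons (nat_lit 10) (nat_lit 0x25e003cc0026400034001f00024800136000b00025a002340032a00164000c000190003980014a)
  (Net.cons (nat_lit 20) (nat_lit 0x90a00000265980000001122000000994400000a4c0400000a10260000002cec0000053b4c)
  (Net.cons (nat_lit 40) (nat_lit 0x3aef43180000000000020be34898200000000007f32cdfb18000000000090d85470dc)
  (Net.cons (nat_lit 80) (nat_lit 0xf4469444bbae0ba3c78000000000000000000003eebe10568b5ce89c2d6)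
  (Net.cons (nat_lit 160) (nat_lit 0x24fd77f93d5aa0f71c8e9cd4709afab8d6cb2c00)
  Net.nil)))))))))))))))))
noncomputable def x800s : ℕ → Net := upd x798s 11 x800
theorem der801 : Der 275 (LX 4 Mc.mvS) (cl gM (lw [0,1,2,3,4,5,6,7,10,11])) x800s := der799.ext (k := 9) (w := [4,6,5,9,5,8,5]) 11 (by decide +kernel)
noncomputable def x802 : Net := (Net.cons (nat_lit 160) (nat_lit 0xdeab7c77057962e08b72de5e9fcd3ceec61373d0)
  (Net.cons (nat_lit 80) (nat_lit 0xd2f1f059da3168d022e400000000000000000000e03021343608f10f96d7)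
  (Net.cons (nat_lit 40) (nat_lit 0x2aa4c316760000000000239a46413f000000000041d0fd59fe0000000000c863fb50e5)
  (Net.cons (nat_lit 20) (nat_lit 0x22e5d000001029300000ca38700000d9cdf00000e452e00000b8fd400000fb92f000000aa02)
  (Net.cons (nat_lit 10) (nat_lit 0x2170005100332000b000210001920000a002a300380001c6002d600241001dc000d800158002e1)
  (Net.cons (nat_lit 5) (nat_lit 0x10100700900017010120101b00809060070701d0080a0441c03c040740803c050680f014180000b)
  (Net.cons (nat_lit 1) (nat_lit 0x200800000005000010040000000080050040000000000000042000000000200040000000)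
  (Net.cons (nat_lit 1) (nat_lit 0x4080202148129400080a0080a42800020005000a1090002800028000284002000101480080800100)
  (Net.cons (nat_lit 1) (nat_lit 0x214a42148421485210a521005294a401420294052108501400294242908509080200a4210a4000a4)
  (Net.cons (nat_lit 1) (nat_lit 0x1284a1294a529424284a5200a12948008425090a52142029401084a12942109025214a1214a00042)
  (Net.cons (nat_lit 1) (nat_lit 0x908001480094210108029004284a00142520485014a428080080040042409480000a001420280a4)
  (Net.cons (nat_lit 5) (nat_lit 0x7808030100401a0501a0081801000060040601c0080e0781c040000700004014000180180e02012)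
  (Net.cons (nat_lit 10) (nat_lit 0x2bc003c60033e002f6002760012a0020a0029000380001820027a000400006a0028400120003b8)
  (Net.cons (nat_lit 20) (nat_lit 0xf2a38000001a18000000263b4000008987e00000e452000000b39b600000fb1a0000002af42)
  (Net.cons (nat_lit 40) (nat_lit 0x2e3c170ab000000000003b9113053a0000000000c190dee9e00000000000c861bd987e)
  (Net.cons (nat_lit 80) (nat_lit 0x4f9941fda154a5e0f1600000000000000000000e130a3bc9c0ae90fb0e4)
  (Net.cons (nat_lit 160) (nat_lit 0xdeab7c7705790b6e0b058751b34726faefca33c8)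
  Net.nil)))))))))))))))))
noncomputable def x802s : ℕ → Net := upd x800s 12 x802
theorem der803 : Der 275 (LX 4 Mc.mvS) (cl gM (lw [0,1,2,3,4,5,6,7,10,11])) x802s := der801.ext (k := 9) (w := [11,11,11,11,8,11,11,8,11]) 12 (by decide +kernel)
noncomputable def x804 : Net := (Net.cons (nat_lit 160) (nat_lit 0xf800000000000000000000000000000000000000)
  (Net.cons (nat_lit 80) (nat_lit 0x1765939a9c667aa5313000000000000000000000c0000000000000000000)
  (Net.cons (nat_lit 40) (nat_lit 0xcb4c41903c0000000000a6e415601a000000000095242c18b800000000008ba583c355)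
  (Net.cons (nat_lit 20) (nat_lit 0x1301400000a0f090000004c5c00000103b4000009d18300000275b400000b5b34000002fddf)
  (Net.cons (nat_lit 10) (nat_lit 0x11c00018000690002e003220013a002aa00204001d10031d002de002ba0027a000340024a002fe)
  (Net.cons (nat_lit 5) (nat_lit 0x18040181807c18068000680e00c140400c034010180501801018190181101807028130680c02412)
  (Net.cons (nat_lit 1) (nat_lit 0x400000000040100020000000000000000010010002000024000000000000020084000000000401)
  (Net.cons (nat_lit 1) (nat_lit 0x9000080050802021400000000040000000294a000420284a0200000000401405080a008084280a)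
  (Net.cons (nat_lit 1) (nat_lit 0x108409024294042108529000000840000001484010a4014a501400200a0280a0290850908521004)
  (Net.cons (nat_lit 1) (nat_lit 0x2048120481280a129421080a00102020021294a1094a009420290a1004a5014a52842520425280a)
  (Net.cons (nat_lit 1) (nat_lit 0x84090a429001204242900100085010040840128000214a12108529024000002840109084284a1)
  (Net.cons (nat_lit 5) (nat_lit 0x804010180000806018020060001404008028000181402816068000000c0180a0081c070000501a)
  (Net.cons (nat_lit 10) (nat_lit 0x1880003400240000600012a0003a0028800300002d8001c400362002060023400154003a2000d6)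
  (Net.cons (nat_lit 20) (nat_lit 0x220980000001242000000495c000003023400000d90080000062d9c000003bf5c0000035c6e)
  (Net.cons (nat_lit 40) (nat_lit 0xcb0c53983c0000000000bef43960180000000000d70e13cc280000000000b8fc0699b8)
  (Net.cons (nat_lit 80) (nat_lit 0x1765939a9c647aa131a800000000000000000000c0000000000000000000)
  (Net.cons (nat_lit 160) (nat_lit 0xf800000000000000000000000000000000000000)
  Net.nil)))))))))))))))))
noncomputable def x804s : ℕ → Net := upd x802s 13 x804
theorem der805 : Der 275 (LX 4 Mc.mvS) (cl gM (lw [0,1,2,3,4,5,6,7,10,11])) x804s := der803.ext (k := 9) (w := [11,10,11,11,11,11,10,11,11]) 13 (by decide +kernel)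
noncomputable def L806 : Lev := Lev.cons 0 3 [[12]] Lev.nil
noncomputable def L807 : Lev := Lev.cons 220 64 [[8],[9],[10],[13]] L806
noncomputable def L808 : Lev := Lev.cons 89 105 [[11]] L807
noncomputable def L809 : Lev := Lev.cons 254 162 [[4],[5],[6],[7]] L808
noncomputable def L810 : Lev := Lev.cons 213 275 [[0],[1],[2],[3]] L809
theorem lc811 : Lev.chk 275 6 x804s vT 100 L810 = true := by decide +kernel
theorem lb812 : 898128000 ≤ Nat.card (cl gM (lw [0,1,2,3,4,5,6,7,10,11])) := le_of_eq_of_le (by decide +kernel) (der805.card_ge lc811)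
theorem rl813 : ∀ r ∈ us732, wp gM r = 1 := rels_of_eqv heqM (by decide +kernel)
theorem covM : HasCov (FixV [rU,rV]) 3 := HasCov.of sa775 m709s0 bd682 (le_of_eq_of_le (by norm_num) C2.cardM.ge) (top_of_card C2.cardM lb812) (cs := [([6],[5,10],2)]) (us := us732) (by decide +kernel) (by decide +kernel) rl813 (List.forall_mem_cons.2 ⟨(List.forall_mem_cons.2 ⟨cv774, (List.forall_mem_cons.2 ⟨cv773, (List.forall_mem_cons.2 ⟨cv772, (List.forall_mem_cons.2 ⟨cv771, (List.forall_mem_cons.2 ⟨cv770, (List.forall_mem_cons.2 ⟨cv769, (List.forall_mem_cons.2 ⟨cv768, (List.forall_mem_cons.2 ⟨cv767, (List.forall_mem_cons.2 ⟨cv766, (List.forall_mem_cons.2 ⟨cv765, (by simp)⟩)⟩)⟩)⟩)⟩)⟩)⟩)⟩)⟩)⟩), (by simp)⟩) cv764 lb739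

end Cfsg.Agent.H6.Le.S2m
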