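import Cfsg.Agent.H6.LeR
import Cfsg.Agent.H6.LeJ1
import Cfsg.Agent.H6.LeK1
set_option maxRecDepth 100000
set_option Elab.async false
namespace Cfsg.Agent.H6.Le.S3
open Cfsg.Agent.H6
universe u

noncomputable def il : List ℕ := [1,0,3,2,5,4,7,6,9,8,11,10]
noncomputable abbrev io : ℕ → ℕ := iota il
noncomputable def C1 : List (List ℕ) := []
noncomputable def m2n0 : Net := (Net.cons (nat_lit 40) (nat_lit 0xce2180ca93)
  (Net.cons (nat_lit 20) (nat_lit 0xe8db000000538d5)
  (Net.cons (nat_lit 10) (nat_lit 0x22f002c800355000c8)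
  (Net.cons (nat_lit 5) (nat_lit 0x2816024060500f05c06)
  (Net.cons (nat_lit 1) (nat_lit 0x5000000000000001)
  (Net.cons (nat_lit 1) (nat_lit 0x14a020480090002842)
  (Net.cons (nat_lit 1) (nat_lit 0x2148509085214a0214a4)
  (Net.cons (nat_lit 1) (nat_lit 0x1294a50902129405294a)
  (Net.cons (nat_lit 1) (nat_lit 0x20480200252140529000)
  (Net.cons (nat_lit 5) (nat_lit 0x60040100c0580800010)
  (Net.cons (nat_lit 10) (nat_lit 0x20c000ba0006800194)
  (Net.cons (nat_lit 20) (nat_lit 0x5b1c400000e2c24)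
  (Net.cons (nat_lit 40) (nat_lit 0x493bdac720)
  Net.nil)))))))))))))
noncomputable def m2n1 : Net := (Net.cons (nat_lit 40) (nat_lit 0xb6c42538df)
  (Net.cons (nat_lit 20) (nat_lit 0x1d3db000007b1c4)
  (Net.cons (nat_lit 10) (nat_lit 0x194001b1001f3000ba)
  (Net.cons (nat_lit 5) (nat_lit 0x7c10030030381806c0c)
  (Net.cons (nat_lit 1) (nat_lit 0x20000000000000000001)
  (Net.cons (nat_lit 1) (nat_lit 0x50148500005280010102)
  (Net.cons (nat_lit 1) (nat_lit 0x294a4200a421481210a4)
  (Net.cons (nat_lit 1) (nat_lit 0x52842509425284a4284a)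
  (Net.cons (nat_lit 1) (nat_lit 0x1005014812148500401)
  (Net.cons (nat_lit 5) (nat_lit 0x20060380c0080a05806)
  (Net.cons (nat_lit 10) (nat_lit 0xc80018c001d0002c8)
  (Net.cons (nat_lit 20) (nat_lit 0xac72a00000c8db0)
  (Net.cons (nat_lit 40) (nat_lit 0x31de7f356c)
  Net.nil)))))))))))))
noncomputable def m2n2 : Net := (Net.cons (nat_lit 40) (nat_lit 0x8d6d02e8d9)
  (Net.cons (nat_lit 20) (nat_lit 0xb657b000006d9bf)
  (Net.cons (nat_lit 10) (nat_lit 0x3ac000f900074001e1)
  (Net.cons (nat_lit 5) (nat_lit 0x481d00c1f0640705c0b)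
  (Net.cons (nat_lit 1) (nat_lit 0x1401080810000400080)
  (Net.cons (nat_lit 1) (nat_lit 0x5284a521420280a50140)
  (Net.cons (nat_lit 1) (nat_lit 0x214a5290a421405210a4)
  (Net.cons (nat_lit 1) (nat_lit 0x5294a5284a1290a5284a)
  (Net.cons (nat_lit 1) (nat_lit 0x2908128005200a120404)
  (Net.cons (nat_lit 5) (nat_lit 0x701a040180701401006)
  (Net.cons (nat_lit 10) (nat_lit 0x80003180027400020)
  (Net.cons (nat_lit 20) (nat_lit 0xa605c00000b23b6)
  (Net.cons (nat_lit 40) (nat_lit 0x3b6ed7d2c0)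
  Net.nil)))))))))))))
noncomputable def m2n3 : Net := (Net.cons (nat_lit 40) (nat_lit 0xce81382d7b)
  (Net.cons (nat_lit 20) (nat_lit 0x4d8980000051fa3)
  (Net.cons (nat_lit 10) (nat_lit 0x18e003e3001a100020)
  (Net.cons (nat_lit 5) (nat_lit 0x680f0740b0340f06404)
  (Net.cons (nat_lit 1) (nat_lit 0x200000100000010a5)
  (Net.cons (nat_lit 1) (nat_lit 0x12840021425080a4294a)
  (Net.cons (nat_lit 1) (nat_lit 0x29480210a429484294a5)
  (Net.cons (nat_lit 1) (nat_lit 0x52942529481290a5294a)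
  (Net.cons (nat_lit 1) (nat_lit 0x200840108429085204a4)
  (Net.cons (nat_lit 5) (nat_lit 0x2002000080000c06802)
  (Net.cons (nat_lit 10) (nat_lit 0x28c00358001d4003b8)
  (Net.cons (nat_lit 20) (nat_lit 0x9865400000c9a86)
  (Net.cons (nat_lit 40) (nat_lit 0x3292d75724)
  Net.nil)))))))))))))
noncomputable def m2n4 : Net := (Net.cons (nat_lit 40) (nat_lit 0xb6e10241e7)
  (Net.cons (nat_lit 20) (nat_lit 0x251fd000001a58f)
  (Net.cons (nat_lit 10) (nat_lit 0x13c000be0019000170)
  (Net.cons (nat_lit 5) (nat_lit 0x28080140a0200b02c17)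
  (Net.cons (nat_lit 1) (nat_lit 0x802000100080)
  (Net.cons (nat_lit 1) (nat_lit 0x40008409425280200148)
  (Net.cons (nat_lit 1) (nat_lit 0x29484214a529404200a5)
  (Net.cons (nat_lit 1) (nat_lit 0x5090a529425090840142)
  (Net.cons (nat_lit 1) (nat_lit 0x14852940029004210a4)
  (Net.cons (nat_lit 5) (nat_lit 0x7800000120100802000)
  (Net.cons (nat_lit 10) (nat_lit 0x3380018e003c0000b2)
  (Net.cons (nat_lit 20) (nat_lit 0x4664e00000073e6)
  (Net.cons (nat_lit 40) (nat_lit 0xb2176c6144)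
  Net.nil)))))))))))))
noncomputable def m2n5 : Net := (Net.cons (nat_lit 40) (nat_lit 0x4de89396bb)
  (Net.cons (nat_lit 20) (nat_lit 0xf8c1900000e9881)
  (Net.cons (nat_lit 10) (nat_lit 0xb2003c0001740011d)
  (Net.cons (nat_lit 5) (nat_lit 0x2c1f0101706c0901805)
  (Net.cons (nat_lit 1) (nat_lit 0x5280000000100400)
  (Net.cons (nat_lit 1) (nat_lit 0x4a509001000a12800)
  (Net.cons (nat_lit 1) (nat_lit 0x2008529480290a521025)
  (Net.cons (nat_lit 1) (nat_lit 0x4014a529485284a5284a)
  (Net.cons (nat_lit 1) (nat_lit 0x210242042021420200a4)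
  (Net.cons (nat_lit 5) (nat_lit 0x2008020140201400010)
  (Net.cons (nat_lit 10) (nat_lit 0x170001900035c0008c)
  (Net.cons (nat_lit 20) (nat_lit 0xe5a7000000e8202)
  (Net.cons (nat_lit 40) (nat_lit 0x491efdbc18)
  Net.nil)))))))))))))
noncomputable def m2n8 : Net := (Net.cons (nat_lit 40) (nat_lit 0x396cbe59c6)
  (Net.cons (nat_lit 20) (nat_lit 0x5897e00000f7115)
  (Net.cons (nat_lit 10) (nat_lit 0x33e000ee001f600082)
  (Net.cons (nat_lit 5) (nat_lit 0x28040701f03c1a03c19)
  (Net.cons (nat_lit 1) (nat_lit 0x1000280010002000000)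
  (Net.cons (nat_lit 1) (nat_lit 0x42800500424084000900)
  (Net.cons (nat_lit 1) (nat_lit 0x29424290a42948129081)
  (Net.cons (nat_lit 1) (nat_lit 0x108425294a1090212842)
  (Net.cons (nat_lit 1) (nat_lit 0x280a40008128000294a1)
  (Net.cons (nat_lit 5) (nat_lit 0x380e008100001800018)
  (Net.cons (nat_lit 10) (nat_lit 0x28000010001200007c)
  (Net.cons (nat_lit 20) (nat_lit 0xb1200000e8988)
  (Net.cons (nat_lit 40) (nat_lit 0xe229460b0)
  Net.nil)))))))))))))
noncomputable def m2n9 : Net := (Net.cons (nat_lit 40) (nat_lit 0x396cbe59c6)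
  (Net.cons (nat_lit 20) (nat_lit 0x5897e00000f7115)
  (Net.cons (nat_lit 10) (nat_lit 0x33e000ee001f600082)
  (Net.cons (nat_lit 5) (nat_lit 0x28040701f03c1a03c19)
  (Net.cons (nat_lit 1) (nat_lit 0x1000280010002000000)
  (Net.cons (nat_lit 1) (nat_lit 0x42800500424084000900)
  (Net.cons (nat_lit 1) (nat_lit 0x29424290a42948129081)
  (Net.cons (nat_lit 1) (nat_lit 0x108425294a1090212842)
  (Net.cons (nat_lit 1) (nat_lit 0x280a40008128000294a1)
  (Net.cons (nat_lit 5) (nat_lit 0x380e008100001800018)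
  (Net.cons (nat_lit 10) (nat_lit 0x28000010001200007c)
  (Net.cons (nat_lit 20) (nat_lit 0xb1200000e8988)
  (Net.cons (nat_lit 40) (nat_lit 0xe229460b0)
  Net.nil)))))))))))))
noncomputable def m2n10 : Net := (Net.cons (nat_lit 40) (nat_lit 0xaf7bd40450)
  (Net.cons (nat_lit 20) (nat_lit 0x4ff210000022f10)
  (Net.cons (nat_lit 10) (nat_lit 0x64002210023600210)
  (Net.cons (nat_lit 5) (nat_lit 0x581b030190240e03c0c)
  (Net.cons (nat_lit 1) (nat_lit 0x40000480)
  (Net.cons (nat_lit 1) (nat_lit 0x10000509404080040940)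
  (Net.cons (nat_lit 1) (nat_lit 0x29001294a021080210a0)
  (Net.cons (nat_lit 1) (nat_lit 0x12042509485294052948)
  (Net.cons (nat_lit 1) (nat_lit 0x29401000002908529080)
  (Net.cons (nat_lit 5) (nat_lit 0x5802020180580e04008)
  (Net.cons (nat_lit 10) (nat_lit 0x64002800023600210)
  (Net.cons (nat_lit 20) (nat_lit 0x40f200000022f10)
  (Net.cons (nat_lit 40) (nat_lit 0xaf7bd40450)
  Net.nil)))))))))))))
noncomputable def m2n11 : Net := (Net.cons (nat_lit 40) (nat_lit 0xaf7bd40450)
  (Net.cons (nat_lit 20) (nat_lit 0x4ff210000022f10)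
  (Net.cons (nat_lit 10) (nat_lit 0x64002210023600210)
  (Net.cons (nat_lit 5) (nat_lit 0x581b030190240e03c0c)
  (Net.cons (nat_lit 1) (nat_lit 0x40000480)
  (Net.cons (nat_lit 1) (nat_lit 0x10000509404080040940)
  (Net.cons (nat_lit 1) (nat_lit 0x29001294a021080210a0)
  (Net.cons (nat_lit 1) (nat_lit 0x12042509485294052948)
  (Net.cons (nat_lit 1) (nat_lit 0x29401000002908529080)
  (Net.cons (nat_lit 5) (nat_lit 0x5802020180580e04008)
  (Net.cons (nat_lit 10) (nat_lit 0x64002800023600210)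
  (Net.cons (nat_lit 20) (nat_lit 0x40f200000022f10)
  (Net.cons (nat_lit 40) (nat_lit 0xaf7bd40450)
  Net.nil)))))))))))))
noncomputable def m2l : List Net := [m2n0,m2n1,m2n2,m2n3,m2n4,m2n5,Net.nil,Net.nil,m2n8,m2n9,m2n10,m2n11]
noncomputable abbrev m2 : ℕ → Net := lk Net.nil m2l
theorem m2ok : NetsOk 80 m2 vT := netsOk_of (by decide +kernel)
theorem m2s0 : Sat io [] (finG m2ok) := fin_sat_nil _ (k := 7) (n := 12) (by decide +kernel)
noncomputable def r0 : List ℕ := [0,0,0,0,0]
noncomputable def m3n0 : Net := (Net.cons (nat_lit 1) (nat_lit 5)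
  (Net.cons (nat_lit 1) (nat_lit 10)
  Net.nil))
noncomputable def m3n1 : Net := (Net.cons (nat_lit 1) (nat_lit 10)
  (Net.cons (nat_lit 1) (nat_lit 5)
  Net.nil))
noncomputable def m3l : List Net := [m3n0,m3n1]
noncomputable abbrev m3 : ℕ → Net := lk Net.nil m3l
theorem m3ok : NetsOk 5 m3 vT := netsOk_of (by decide +kernel)
theorem m3s0 : Sat io [] (finG m3ok) := fin_sat_nil _ (k := 3) (n := 12) (by decide +kernel)
noncomputable def C4 : List (List ℕ) := [r0]
theorem cl5 : Clo.{u} io C4 [] 5 m3 1 (mkB []) := Clo.start (by decide +kernel)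
theorem imp6 : Imp.{u} io C4 C1 := Imp.of_chk (pfs := []) (by decide +kernel)
theorem ix7 : Idx.{u} io C4 [] [] 1 := (Idx.triv (Bound.nil) (by norm_num)).of_imp imp6
noncomputable def lk8 : List (List ℕ × List ℕ × Pf) := []
noncomputable def O9 : ℕ := (nat_lit 2)
noncomputable def M10 : ℕ := (nat_lit 3)
noncomputable def b11 : ℕ := (nat_lit 1)
theorem cl12 : Clo.{u} io C4 [] 5 m3 M10 (mkB [(0,b11)]) := cl5.new (k := 0) (b := 0) (q := 0) (p := 1) (r := 200) (n := 1) (O := O9) (by decide +kernel) (lks := lk8) (by decide +kernel) (gens_of_lall2 (m := []) (by decide +kernel)) ix7 (by decide +kernel)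
noncomputable def b13 : ℕ := (nat_lit 2)
theorem cl14 : Clo.{u} io C4 [] 5 m3 M10 (mkB [(0,b11),(1,b13)]) := cl12.ops (os := [Op.inv 0]) (by decide +kernel) (by decide +kernel)
theorem ix15 : Idx.{u} io C4 [] [] 1 := (Idx.triv (Bound.nil) (by norm_num)).of_imp imp6
noncomputable def lk16 : List (List ℕ × List ℕ × Pf) := []
noncomputable def O17 : ℕ := (nat_lit 8)
noncomputable def M18 : ℕ := (nat_lit 11)
noncomputable def b19 : ℕ := (nat_lit 3)
theorem cl20 : Clo.{u} io C4 [] 5 m3 M18 (mkB [(0,b19),(1,b13)]) := cl14.new (k := 0) (b := 0) (q := 1) (p := 3) (r := 200) (n := 1) (O := O17) (by decide +kernel) (lks := lk16) (by decide +kernel) (gens_of_lall2 (m := []) (by decide +kernel)) ix15 (by decide +kernel)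
noncomputable def b21 : ℕ := (nat_lit 10)
theorem cl22 : Clo.{u} io C4 [] 5 m3 M18 (mkB [(0,b19),(1,b21)]) := cl20.ops (os := [Op.inv 0]) (by decide +kernel) (by decide +kernel)
theorem ix23 : Idx.{u} io C4 [] [] 1 := (Idx.triv (Bound.nil) (by norm_num)).of_imp imp6
noncomputable def lk24 : List (List ℕ × List ℕ × Pf) := []
noncomputable def O25 : ℕ := (nat_lit 16)
noncomputable def M26 : ℕ := (nat_lit 27)
noncomputable def b27 : ℕ := (nat_lit 11)
theorem cl28 : Clo.{u} io C4 [] 5 m3 M26 (mkB [(0,b27),(1,b21)]) := cl22.new (k := 0) (b := 0) (q := 3) (p := 4) (r := 200) (n := 1) (O := O25) (by decide +kernel) (lks := lk24) (by decide +kernel) (gens_of_lall2 (m := []) (by decide +kernel)) ix23 (by decide +kernel)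
noncomputable def b29 : ℕ := (nat_lit 26)
theorem cl30 : Clo.{u} io C4 [] 5 m3 M26 (mkB [(0,b27),(1,b29)]) := cl28.ops (os := [Op.inv 0]) (by decide +kernel) (by decide +kernel)
theorem ix31 : Idx.{u} io C4 [] [] 1 := (Idx.triv (Bound.nil) (by norm_num)).of_imp imp6
noncomputable def lk32 : List (List ℕ × List ℕ × Pf) := []
noncomputable def O33 : ℕ := (nat_lit 4)
noncomputable def M34 : ℕ := (nat_lit 31)
noncomputable def b35 : ℕ := (nat_lit 27)
theorem cl36 : Clo.{u} io C4 [] 5 m3 M34 (mkB [(0,b35),(1,b29)]) := cl30.new (k := 0) (b := 0) (q := 4) (p := 2) (r := 200) (n := 1) (O := O33) (by decide +kernel) (lks := lk32) (by decide +kernel) (gens_of_lall2 (m := []) (by decide +kernel)) ix31 (by decide +kernel)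
noncomputable def b37 : ℕ := (nat_lit 31)
noncomputable def b38 : ℕ := (nat_lit 31)
theorem cl39 : Clo.{u} io C4 [] 5 m3 M34 (mkB [(0,b37),(1,b38)]) := cl36.ops (os := [Op.inv 0,Op.rel 0 [] 1 [1,1,1] [([],1)],Op.inv 0]) (by decide +kernel) (by decide +kernel)
theorem sat41 : Sat io C4 (finG m3ok) := m3s0.fin (k := 3) (by decide +kernel)
theorem bd40 : Bound.{u} io C4 [0,1] 5 := cl39.bound (by decide +kernel) sat41 ((Bound.nil).of_imp imp6)
noncomputable def r1 : List ℕ := [2,2,2,2]
noncomputable def r2 : List ℕ := [3,0,2,0]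
noncomputable def m42n2 : Net := (Net.cons (nat_lit 2) (nat_lit 1)
  (Net.cons (nat_lit 1) (nat_lit 1)
  (Net.cons (nat_lit 2) (nat_lit 2)
  Net.nil)))
noncomputable def m42n3 : Net := (Net.cons (nat_lit 2) (nat_lit 1)
  (Net.cons (nat_lit 1) (nat_lit 4)
  (Net.cons (nat_lit 2) (nat_lit 2)
  Net.nil)))
noncomputable def m42l : List Net := [Net.nil,Net.nil,m42n2,m42n3]
noncomputable abbrev m42 : ℕ → Net := lk Net.nil m42l
theorem m42ok : NetsOk 4 m42 vT := netsOk_of (by decide +kernel)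
theorem m42s0 : Sat io [] (finG m42ok) := fin_sat_nil _ (k := 2) (n := 12) (by decide +kernel)
noncomputable def C43 : List (List ℕ) := [r0,r1,r2]
theorem cl44 : Clo.{u} io C43 [0,1] 4 m42 1 (mkB []) := Clo.start (by decide +kernel)
theorem imp45 : Imp.{u} io C43 C4 := Imp.of_chk (pfs := [[([],1)]]) (by decide +kernel)
theorem der47 : Der 80 (finX 80) (cl (finG m2ok) [[0]]) (fun _ => Net.nil) := Der.zero (finModel m2ok).inj
noncomputable def ns48 : ℕ → Net := upd (fun _ => Net.nil) 0 (m2 0)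
theorem der49 : Der 80 (finX 80) (cl (finG m2ok) [[0]]) ns48 := der47.add (wp_mem_cl (w := [0]) (by decide)) (rep_letter (finModel m2ok) 0) 0
noncomputable def L50 : Lev := Lev.cons 0 5 [[0]] Lev.nil
theorem lc51 : Lev.chk 80 4 ns48 vT 100 L50 = true := by decide +kernel
theorem lb52 : 5 ≤ Nat.card (cl (finG m2ok) [[0]]) := le_of_eq_of_le (by decide +kernel) (der49.card_ge lc51)
theorem sat53 : Sat io C4 (finG m2ok) := m2s0.fin (k := 7) (by decide +kernel)
theorem ix46 : Idx.{u} io C43 [0,1] [[0]] 1 := (Idx.of bd40 sat53 (by decide +kernel) lb52 (by decide +kernel)).of_imp imp45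
noncomputable def lk54 : List (List ℕ × List ℕ × Pf) := [([0],[1],[([2],5)])]
noncomputable def O55 : ℕ := (nat_lit 2)
noncomputable def M56 : ℕ := (nat_lit 3)
noncomputable def b57 : ℕ := (nat_lit 1)
theorem cl58 : Clo.{u} io C43 [0,1] 4 m42 M56 (mkB [(2,b57)]) := cl44.new (k := 0) (b := 2) (q := 0) (p := 1) (r := 200) (n := 1) (O := O55) (by decide +kernel) (lks := lk54) (by decide +kernel) (gens_of_lall2 (m := [[0]]) (by decide +kernel)) ix46 (by decide +kernel)
noncomputable def b59 : ℕ := (nat_lit 2)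
theorem cl60 : Clo.{u} io C43 [0,1] 4 m42 M56 (mkB [(2,b57),(3,b59)]) := cl58.ops (os := [Op.inv 2]) (by decide +kernel) (by decide +kernel)
theorem der62 : Der 80 (finX 80) (cl (finG m2ok) [[0]]) (fun _ => Net.nil) := Der.zero (finModel m2ok).inj
noncomputable def ns63 : ℕ → Net := upd (fun _ => Net.nil) 0 (m2 0)
theorem der64 : Der 80 (finX 80) (cl (finG m2ok) [[0]]) ns63 := der62.add (wp_mem_cl (w := [0]) (by decide)) (rep_letter (finModel m2ok) 0) 0
noncomputable def L65 : Lev := Lev.cons 0 5 [[0]] Lev.nil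
theorem lc66 : Lev.chk 80 4 ns63 vT 100 L65 = true := by decide +kernel
theorem lb67 : 5 ≤ Nat.card (cl (finG m2ok) [[0]]) := le_of_eq_of_le (by decide +kernel) (der64.card_ge lc66)
theorem ix61 : Idx.{u} io C43 [0,1] [[0]] 1 := (Idx.of bd40 sat53 (by decide +kernel) lb67 (by decide +kernel)).of_imp imp45
noncomputable def lk68 : List (List ℕ × List ℕ × Pf) := [([0],[1],[([2],5)])]
noncomputable def O69 : ℕ := (nat_lit 8)
noncomputable def M70 : ℕ := (nat_lit 11)
noncomputable def b71 : ℕ := (nat_lit 3)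
theorem cl72 : Clo.{u} io C43 [0,1] 4 m42 M70 (mkB [(2,b71),(3,b59)]) := cl60.new (k := 0) (b := 2) (q := 1) (p := 3) (r := 200) (n := 1) (O := O69) (by decide +kernel) (lks := lk68) (by decide +kernel) (gens_of_lall2 (m := [[0]]) (by decide +kernel)) ix61 (by decide +kernel)
noncomputable def b73 : ℕ := (nat_lit 10)
theorem cl74 : Clo.{u} io C43 [0,1] 4 m42 M70 (mkB [(2,b71),(3,b73)]) := cl72.ops (os := [Op.inv 2]) (by decide +kernel) (by decide +kernel)
theorem der76 : Der 80 (finX 80) (cl (finG m2ok) [[0]]) (fun _ => Net.nil) := Der.zero (finModel m2ok).inj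
noncomputable def ns77 : ℕ → Net := upd (fun _ => Net.nil) 0 (m2 0)
theorem der78 : Der 80 (finX 80) (cl (finG m2ok) [[0]]) ns77 := der76.add (wp_mem_cl (w := [0]) (by decide)) (rep_letter (finModel m2ok) 0) 0
noncomputable def L79 : Lev := Lev.cons 0 5 [[0]] Lev.nil
theorem lc80 : Lev.chk 80 4 ns77 vT 100 L79 = true := by decide +kernel
theorem lb81 : 5 ≤ Nat.card (cl (finG m2ok) [[0]]) := le_of_eq_of_le (by decide +kernel) (der78.card_ge lc80)
theorem ix75 : Idx.{u} io C43 [0,1] [[0]] 1 := (Idx.of bd40 sat53 (by decide +kernel) lb81 (by decide +kernel)).of_imp imp45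
noncomputable def lk82 : List (List ℕ × List ℕ × Pf) := [([0],[1],[([2],5)])]
noncomputable def O83 : ℕ := (nat_lit 4)
noncomputable def M84 : ℕ := (nat_lit 15)
noncomputable def b85 : ℕ := (nat_lit 11)
theorem cl86 : Clo.{u} io C43 [0,1] 4 m42 M84 (mkB [(2,b85),(3,b73)]) := cl74.new (k := 0) (b := 2) (q := 3) (p := 2) (r := 200) (n := 1) (O := O83) (by decide +kernel) (lks := lk82) (by decide +kernel) (gens_of_lall2 (m := [[0]]) (by decide +kernel)) ix75 (by decide +kernel)
noncomputable def b87 : ℕ := (nat_lit 15)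
noncomputable def b88 : ℕ := (nat_lit 15)
theorem cl89 : Clo.{u} io C43 [0,1] 4 m42 M84 (mkB [(2,b87),(3,b88)]) := cl86.ops (os := [Op.inv 2,Op.rel 2 [] 3 [3,3] [([],3)],Op.inv 2]) (by decide +kernel) (by decide +kernel)
theorem sat91 : Sat io C43 (finG m42ok) := m42s0.fin (k := 2) (by decide +kernel)
theorem bd90 : Bound.{u} io C43 [0,1,2,3] 20 := cl89.bound (by decide +kernel) sat91 (bd40.of_imp imp45)
noncomputable def r3 : List ℕ := [4,4,4]
noncomputable def r4 : List ℕ := [4,2,4,2,4,2]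
noncomputable def r5 : List ℕ := [5,1,2,4,1,1,2]
noncomputable def r6 : List ℕ := [5,1,3,4,1,1,3]
noncomputable def r7 : List ℕ := [4,0,0,4,0,0,3,3]
noncomputable def m92n0 : Net := (Net.cons (nat_lit 3) (nat_lit 4)
  (Net.cons (nat_lit 1) (nat_lit 16)
  (Net.cons (nat_lit 1) (nat_lit 8)
  (Net.cons (nat_lit 3) (nat_lit 2)
  Net.nil))))
noncomputable def m92n1 : Net := (Net.cons (nat_lit 3) (nat_lit 2)
  (Net.cons (nat_lit 1) (nat_lit 8)
  (Net.cons (nat_lit 1) (nat_lit 16)
  (Net.cons (nat_lit 3) (nat_lit 4)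
  Net.nil))))
noncomputable def m92n2 : Net := (Net.cons (nat_lit 3) (nat_lit 2)
  (Net.cons (nat_lit 1) (nat_lit 2)
  (Net.cons (nat_lit 1) (nat_lit 8)
  (Net.cons (nat_lit 3) (nat_lit 2)
  Net.nil))))
noncomputable def m92n3 : Net := (Net.cons (nat_lit 3) (nat_lit 2)
  (Net.cons (nat_lit 1) (nat_lit 2)
  (Net.cons (nat_lit 1) (nat_lit 8)
  (Net.cons (nat_lit 3) (nat_lit 2)
  Net.nil))))
noncomputable def m92n4 : Net := (Net.cons (nat_lit 1) (nat_lit 9)
  (Net.cons (nat_lit 1) (nat_lit 18)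
  Net.nil))
noncomputable def m92n5 : Net := (Net.cons (nat_lit 1) (nat_lit 18)
  (Net.cons (nat_lit 1) (nat_lit 9)
  Net.nil))
noncomputable def m92l : List Net := [m92n0,m92n1,m92n2,m92n3,m92n4,m92n5]
noncomputable abbrev m92 : ℕ → Net := lk Net.nil m92l
theorem m92ok : NetsOk 6 m92 vT := netsOk_of (by decide +kernel)
theorem m92s0 : Sat io [] (finG m92ok) := fin_sat_nil _ (k := 3) (n := 12) (by decide +kernel)
noncomputable def C93 : List (List ℕ) := [r0,r1,r2,r3,r4,r5,r6,r7]
theorem cl94 : Clo.{u} io C93 [0,1,2,3] 6 m92 1 (mkB []) := Clo.start (by decide +kernel)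
theorem imp95 : Imp.{u} io C93 C43 := Imp.of_chk (pfs := [[([],1)],[([],3)],[([],5)]]) (by decide +kernel)
theorem der97 : Der 80 (finX 80) (cl (finG m2ok) [[1,2]]) (fun _ => Net.nil) := Der.zero (finModel m2ok).inj
noncomputable def x98 : Net := (Net.cons (nat_lit 40) (nat_lit 0x9e4ce24aaf)
  (Net.cons (nat_lit 20) (nat_lit 0x50ca50000085c95)
  (Net.cons (nat_lit 10) (nat_lit 0x22b003c0002fd0034c)
  (Net.cons (nat_lit 5) (nat_lit 0x40d0201a01c1c00003)
  (Net.cons (nat_lit 1) (nat_lit 0x8001200200040100000)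
  (Net.cons (nat_lit 1) (nat_lit 0x1014a521400084a52800)
  (Net.cons (nat_lit 1) (nat_lit 0x2048529481210a421400)
  (Net.cons (nat_lit 1) (nat_lit 0x5094a109425294a50902)
  (Net.cons (nat_lit 1) (nat_lit 0x4a029485290a008020)
  (Net.cons (nat_lit 5) (nat_lit 0x1002040100481405010)
  (Net.cons (nat_lit 10) (nat_lit 0x15400102000b000220)
  (Net.cons (nat_lit 20) (nat_lit 0x89994000003fc6e)
  (Net.cons (nat_lit 40) (nat_lit 0xc3874f4d1c)
  Net.nil)))))))))))))
noncomputable def ns99 : ℕ → Net := upd (fun _ => Net.nil) 0 x98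
theorem der100 : Der 80 (finX 80) (cl (finG m2ok) [[1,2]]) ns99 := der97.add (wp_mem_cl (w := [1,2]) (by decide)) ((finModel m2ok).toIsPre.rep_word (k := 7) (w := [1,2]) (n := x98) (by decide +kernel)) 0
noncomputable def L101 : Lev := Lev.cons 0 4 [[0]] Lev.nil
theorem lc102 : Lev.chk 80 4 ns99 vT 100 L101 = true := by decide +kernel
theorem lb103 : 4 ≤ Nat.card (cl (finG m2ok) [[1,2]]) := le_of_eq_of_le (by decide +kernel) (der100.card_ge lc102)
theorem sat104 : Sat io C43 (finG m2ok) := m2s0.fin (k := 7) (by decide +kernel)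
theorem ix96 : Idx.{u} io C93 [0,1,2,3] [[1,2]] 5 := (Idx.of bd90 sat104 (by decide +kernel) lb103 (by decide +kernel)).of_imp imp95
noncomputable def lk105 : List (List ℕ × List ℕ × Pf) := [([1,2],[3,0,0],[([4],11)])]
noncomputable def O106 : ℕ := (nat_lit 62)
noncomputable def M107 : ℕ := (nat_lit 63)
noncomputable def b108 : ℕ := (nat_lit 1)
theorem cl109 : Clo.{u} io C93 [0,1,2,3] 6 m92 M107 (mkB [(4,b108)]) := cl94.new (k := 0) (b := 4) (q := 0) (p := 1) (r := 200) (n := 5) (O := O106) (by decide +kernel) (lks := lk105) (by decide +kernel) (gens_of_lall2 (m := [[0]]) (by decide +kernel)) ix96 (by decide +kernel)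
noncomputable def b110 : ℕ := (nat_lit 63)
noncomputable def b111 : ℕ := (nat_lit 63)
theorem cl112 : Clo.{u} io C93 [0,1,2,3] 6 m92 M107 (mkB [(4,b110),(5,b111)]) := cl109.ops (os := [Op.inv 4,Op.rel 4 [0,0,3,3] 5 [1,1] [([5,1,1,5],15)],Op.inv 4,Op.rel 4 [] 5 [5] [([],7)],Op.ext 4 2 [([1,2],[3,0,0],[([4],11)]),([3,0],[1,1,2],[([4,1,1,2],10)]),([1,3],[2,0,0],[([4],13)]),([2,0],[1,1,3],[([4,1,1,3],12)])],Op.inv 4,Op.rel 4 [2] 5 [3,5,3] [([5],9)],Op.inv 4]) (by decide +kernel) (by decide +kernel)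
theorem sat114 : Sat io C93 (finG m92ok) := m92s0.fin (k := 3) (by decide +kernel)
theorem bd113 : Bound.{u} io C93 [0,1,2,3,4,5] 120 := cl112.bound (by decide +kernel) sat114 (bd90.of_imp imp95)
noncomputable def r8 : List ℕ := [6,6,6]
noncomputable def r9 : List ℕ := [6,2,2,6,2,2]
noncomputable def r10 : List ℕ := [7,4,6,5]
noncomputable def r11 : List ℕ := [7,2,7,2,4,6,3,6,3,5]
noncomputable def r12 : List ℕ := [7,2,6,1,1,6,0,7,0,3]
noncomputable def r13 : List ℕ := [7,1,6,0,0,6,2,6,0,3]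
noncomputable def m115n0 : Net := (Net.cons (nat_lit 128) (nat_lit 0x31e346bdf51d01b496aa832326a640d4)
  (Net.cons (nat_lit 64) (nat_lit 0x5d2868be5310eff8000000000000000013b18e0e8a89e0d2)
  (Net.cons (nat_lit 32) (nat_lit 0xb975af1900000000effc746b000000006af0065b00000000b89f32fe)
  (Net.cons (nat_lit 16) (nat_lit 0x99d0000c98d0000b8cf000070010000ddd900005acb0000397200003836)
  (Net.cons (nat_lit 8) (nat_lit 0x67004600220063005c00ff008300dc00f4009300b5009300d800f200a4009a)
  (Net.cons (nat_lit 4) (nat_lit 0x501030c09060605050a0f090700090403020200040e0a0801030c040d0b0b06)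
  (Net.cons (nat_lit 2) (nat_lit 0x2310012112012021203001332113231210200301130030233003120312312320)
  (Net.cons (nat_lit 1) (nat_lit 0x410551544414505544111141014400114151110151045014544044044440504)
  (Net.cons (nat_lit 2) (nat_lit 0x20002022222000022020222002200000202000202020020000002002200002)
  (Net.cons (nat_lit 4) (nat_lit 0x800020e0004020408000406040e00000e06060a040a080000040c080404)
  (Net.cons (nat_lit 8) (nat_lit 0x92002a00e8002000a000c200f000fc006200b80032000c006e002000820058)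
  (Net.cons (nat_lit 16) (nat_lit 0xd8e20000a6cc0000a4aa0000f0260000dd02000005d40000973400003d6a)
  (Net.cons (nat_lit 32) (nat_lit 0xb4b5333800000000ec693a4400000000aadf9936000000003a8faefa)
  (Net.cons (nat_lit 64) (nat_lit 0x5c6b4636f167289c000000000000000013ada1e6031da3f0)
  (Net.cons (nat_lit 128) (nat_lit 0x31e0cab0e8ed0af670cd302870d3b964)
  Net.nil)))))))))))))))
noncomputable def m115n1 : Net := (Net.cons (nat_lit 128) (nat_lit 0x31e0cab0e8ed0af670cd302870d3b964)
  (Net.cons (nat_lit 64) (nat_lit 0x5c6b4736f8672a9c000000000000000013ada1e6031da3f0)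
  (Net.cons (nat_lit 32) (nat_lit 0x4e4a4a85000000001a9687a700000000552066c90000000072abaffa)
  (Net.cons (nat_lit 16) (nat_lit 0xf4cc000036790000d2ba0000fd4500005faa000022fd00000d1400002d6e)
  (Net.cons (nat_lit 8) (nat_lit 0x4700d5006d00ef00a80001003d0059002300b90043006a00cc008c00c300b0)
  (Net.cons (nat_lit 4) (nat_lit 0xe040b0e040107090d0a0e0b0c0107090e000905060e0f000307020402020d08)
  (Net.cons (nat_lit 2) (nat_lit 0x2121023320332020033110131102122130013102012303200310320323302232)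
  (Net.cons (nat_lit 1) (nat_lit 0x4441501415154114044101050115404504055411101444154114044041111414)
  (Net.cons (nat_lit 2) (nat_lit 0x200000200200000020002000000202000000200000002202202002022202000)
  (Net.cons (nat_lit 4) (nat_lit 0x60c0a0a04000004060a040c000400080800020800020c02000c08060200000c)
  (Net.cons (nat_lit 8) (nat_lit 0x8c00cc00c000ba00ba0002001000b800bc002c002c00f0008a005400a200a0)
  (Net.cons (nat_lit 16) (nat_lit 0x918e0000dbe00000518800001c2800000c20000022260000b5b200002832)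
  (Net.cons (nat_lit 32) (nat_lit 0xec859e6000000001a13881400000000950ff9a4000000003abfa2fe)
  (Net.cons (nat_lit 64) (nat_lit 0x4d2828be5110efd8000000000000000013b18e0e8a89e0d2)
  (Net.cons (nat_lit 128) (nat_lit 0x31e346bdf51d01b496aa832326a640d4)
  Net.nil)))))))))))))))
noncomputable def m115n2 : Net := (Net.cons (nat_lit 128) (nat_lit 0x2d5803be735480303371e19e3e8a74a8)
  (Net.cons (nat_lit 64) (nat_lit 0x6d4c8b0468b272cf0000000000000000efb5429a1d783de0)
  (Net.cons (nat_lit 32) (nat_lit 0x5b856690000000098e5c45a0000000066a1f7d400000000e952dee2)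
  (Net.cons (nat_lit 16) (nat_lit 0xeb020000f18d0000b01e000098490000719d0000bb02000080590000441e)
  (Net.cons (nat_lit 8) (nat_lit 0xbd00b80091005f00ab004900b00052000b00dd00e0004c0098004600b60026)
  (Net.cons (nat_lit 4) (nat_lit 0xa0c0d040b0701060b04050b020a030e0402060b0406090502090c02020e0902)
  (Net.cons (nat_lit 2) (nat_lit 0x302302120000111203003121122133033230033302033312230133012022300)
  (Net.cons (nat_lit 1) (nat_lit 0x1141444015141404004545441401405041144110001451144144445104515444)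
  (Net.cons (nat_lit 2) (nat_lit 0x200202020202202000000202002200020020020000000002002200202020002)
  (Net.cons (nat_lit 4) (nat_lit 0x8080c020a0e080008060e0e0c0000000c0802020c00080e0a0e040406060808)
  (Net.cons (nat_lit 8) (nat_lit 0x3800c000000050000e00ce00e800ec0010004c00d40014002800f400e600c2)
  (Net.cons (nat_lit 16) (nat_lit 0xa2f40000e498000021a400004af00000ad380000bbaa0000283e000000ba)
  (Net.cons (nat_lit 32) (nat_lit 0x21e2e9820000000020ed7de8000000004587597c000000007b91a0d0)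
  (Net.cons (nat_lit 64) (nat_lit 0x451625c67b687d5400000000000000002f9281b86fb3ae9c)
  (Net.cons (nat_lit 128) (nat_lit 0x2d5925747d3a8b677bb4318777904c1a)
  Net.nil)))))))))))))))
noncomputable def m115n3 : Net := (Net.cons (nat_lit 128) (nat_lit 0x2d5925747d3a8b677bb4318777904c1a)
  (Net.cons (nat_lit 64) (nat_lit 0xbae9da39849782ab00000000000000002f9281b86fb3ae9c)
  (Net.cons (nat_lit 32) (nat_lit 0x7620f8b1000000008c0e56750000000055875b7c000000007b73a4d4)
  (Net.cons (nat_lit 16) (nat_lit 0x61330000c6510000cb770000fafc000052c70000bbae0000f4900000a3da)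
  (Net.cons (nat_lit 8) (nat_lit 0x28003800f200ef00ee000a005f000100b100cb00d4001600a5002a00150040)
  (Net.cons (nat_lit 4) (nat_lit 0xe0a000706070d0300060900010103010d0e050c0c0005010702060507000e0e)
  (Net.cons (nat_lit 2) (nat_lit 0x1102302231021323010301020201110331001013300033332233212330131002)
  (Net.cons (nat_lit 1) (nat_lit 0x4140111411404105015111414110054404051114001445144115015141115444)
  (Net.cons (nat_lit 2) (nat_lit 0x2000022020002200020002020020000200000200002000200200000000020020)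
  (Net.cons (nat_lit 4) (nat_lit 0xa00060408040602020e08080c020202040a0c040406020a08000c0804000a08)
  (Net.cons (nat_lit 8) (nat_lit 0xb0008c008000f000e4009200440060002000c400e00048008000d000500000)
  (Net.cons (nat_lit 16) (nat_lit 0x142a00004bca00000a700000ff0a00008e620000ab020000afc80000713a)
  (Net.cons (nat_lit 32) (nat_lit 0x42f03a5800000000c04778960000000066a1f55400000000e9784ce2)
  (Net.cons (nat_lit 64) (nat_lit 0x92b374fb974d8d300000000000000000efb5429a1d783de0)
  (Net.cons (nat_lit 128) (nat_lit 0x2d5803be735480303371e19e3e8a74a8)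
  Net.nil)))))))))))))))
noncomputable def m115n4 : Net := (Net.cons (nat_lit 128) (nat_lit 0x76e3a4844783049c1bbc0871379d72d8)
  (Net.cons (nat_lit 64) (nat_lit 0x39e026b99f91f38a0000000000000000720863dd7e4914cc)
  (Net.cons (nat_lit 32) (nat_lit 0xaf258eee00000000bd16a0fd00000000e5308a7d000000008ce1770c)
  (Net.cons (nat_lit 16) (nat_lit 0x2afa0000c0a1000096f00000fc6b00001206000063100000e3c5000076f8)
  (Net.cons (nat_lit 8) (nat_lit 0xc900bd00ad002e006500b100e0004400000068001000d0002d00e000f40004)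
  (Net.cons (nat_lit 4) (nat_lit 0xa0908040f0d080803000b090809040808000b050809010806080000020c0d00)
  (Net.cons (nat_lit 2) (nat_lit 0x2000012321133013322333013210203110000302100030322203132020012020)
  (Net.cons (nat_lit 1) (nat_lit 0x115041115054014414114015044501140100110400501144141111511104540)
  (Net.cons (nat_lit 2) (nat_lit 0x220000000000000022222020020002000000000200000220200022020200000)
  (Net.cons (nat_lit 4) (nat_lit 0x804080404060a0e020008040c0a0400040000020808080a0a04000800080204)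
  (Net.cons (nat_lit 8) (nat_lit 0x5200b800e4001a0064007800e400c0002000cc00c20098008a00e000d00080)
  (Net.cons (nat_lit 16) (nat_lit 0x3b7a0000a510000001e80000bc6c00008a34000079500000ebd0000064f0)
  (Net.cons (nat_lit 32) (nat_lit 0xe6e4a2c400000000dd1ea8ea00000000bf2686a4000000000ced7a84)
  (Net.cons (nat_lit 64) (nat_lit 0x4b03a842e988fba80000000000000000f30e05962e2824dc)
  (Net.cons (nat_lit 128) (nat_lit 0x76e1a4d4479304bc8bac88329e9d73b8)
  Net.nil)))))))))))))))
noncomputable def m115n5 : Net := (Net.cons (nat_lit 128) (nat_lit 0x76e1a4d1478304bc8baca0129e9d33f8)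
  (Net.cons (nat_lit 64) (nat_lit 0x6b03b90bee5cb88c0000000000000000f0ae35760e78659c)
  (Net.cons (nat_lit 32) (nat_lit 0xf339848600000000d665373b00000000bdb2ba8f000000001d0548c4)
  (Net.cons (nat_lit 16) (nat_lit 0x4548000087a1000062d3000030cb000001ee00005cf00000514b00009bb0)
  (Net.cons (nat_lit 8) (nat_lit 0xcb0029006400ca00dc006400f200a100cc00d80066000800c0004900600034)
  (Net.cons (nat_lit 4) (nat_lit 0x90a0b0e08080a0302080d0d08010e050d02000605050e080b080a0a00010400)
  (Net.cons (nat_lit 2) (nat_lit 0x322220320232331101221013201130101020032102203111020212212111000)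
  (Net.cons (nat_lit 1) (nat_lit 0x1401504110411041500114411444551410041010401414455015140544140100)
  (Net.cons (nat_lit 2) (nat_lit 0x2002002220220020000000002202000020000020000222200020000020000000)
  (Net.cons (nat_lit 4) (nat_lit 0x4020208000a00020e0800060a0a0404040400020c020c000e000c0208080000)
  (Net.cons (nat_lit 8) (nat_lit 0x480056006400cc009c00e400c0007c000c007800440078008800c000680010)
  (Net.cons (nat_lit 16) (nat_lit 0xf41000008720000022d4000091fa000081ec00004fd0000047120000dbac)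
  (Net.cons (nat_lit 32) (nat_lit 0xecb90c1000000000b6a878480000000055b0ef0c0000000098414c28)
  (Net.cons (nat_lit 64) (nat_lit 0x79e0058b9055f4ba000000000000000070a86ad96c19059c)
  (Net.cons (nat_lit 128) (nat_lit 0x76e3a68407c3048c1b9c08313f9d70d8)
  Net.nil)))))))))))))))
noncomputable def m115n6 : Net := (Net.cons (nat_lit 128) (nat_lit 0xb91b5d962fb763f75bdf7f66f5bfe47c)
  (Net.cons (nat_lit 64) (nat_lit 0x426ec0d6690ddfcc0000000000000000f11b76253571f910)
  (Net.cons (nat_lit 32) (nat_lit 0x9d563133000000008ffe15fc00000000fb97bf940000000094d7a5f0)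
  (Net.cons (nat_lit 16) (nat_lit 0xa3940000dc950000dea30000c0dd0000b661000017490000bf3600005ff9)
  (Net.cons (nat_lit 8) (nat_lit 0xc40049006d00b000830082006c00f900c900320062000100ec005200e90008)
  (Net.cons (nat_lit 4) (nat_lit 0xc0308080809010b0f0d08000c0900030309040f060802090c0c0a040a050208)
  (Net.cons (nat_lit 2) (nat_lit 0x330320131232000203103120112203221301003303131313111301113030321)
  (Net.cons (nat_lit 1) (nat_lit 0x5444411155404114144111114055114541444054414145544140541541044505)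
  (Net.cons (nat_lit 2) (nat_lit 0x2022000002200000000020000000022022000200000022200000002020000)
  (Net.cons (nat_lit 4) (nat_lit 0x608040800000406080a040800000c0802040400060c0e00020808000c04)
  (Net.cons (nat_lit 8) (nat_lit 0x92004e002200d8005400a4006c0066005c007a00800044004800d000d60068)
  (Net.cons (nat_lit 16) (nat_lit 0x8dc2000076ce000063460000644e0000ae3a0000456000006b1200003bd6)
  (Net.cons (nat_lit 32) (nat_lit 0x1e7b23900000000007ee4cd40000000058827aa000000000da73f242)
  (Net.cons (nat_lit 64) (nat_lit 0xd275217b7991e9ca0000000000000000f5f89fe17921e84a)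
  (Net.cons (nat_lit 128) (nat_lit 0xb91df0e99ff1f7f6fc27dcb1efd7eada)
  Net.nil)))))))))))))))
noncomputable def m115n7 : Net := (Net.cons (nat_lit 128) (nat_lit 0xb91df0e99ff1f7f6fc27dcb1efd7eada)
  (Net.cons (nat_lit 64) (nat_lit 0xd275217b7991e9ca0000000000000000f5f89fe17921e84a)
  (Net.cons (nat_lit 32) (nat_lit 0xa65366990000000002ecdcd40000000079c872aa000000007087ecd2)
  (Net.cons (nat_lit 16) (nat_lit 0xdde3000077e20000c1c90000df9200004f830000c56d000002dd000089f2)
  (Net.cons (nat_lit 8) (nat_lit 0xe3005a00190036005400a500c400c9008c0029002c003300d8008400080040)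
  (Net.cons (nat_lit 4) (nat_lit 0x7080205070a0d00030109030a0f0c0408070309010204090e000d0808030603)
  (Net.cons (nat_lit 2) (nat_lit 0x322212232311012213102300213210310130222211132331012222303310121)
  (Net.cons (nat_lit 1) (nat_lit 0x4155144510514011444111011151445514114154111155401405144105105454)
  (Net.cons (nat_lit 2) (nat_lit 0x2000002000022000000002000002200002222000000000200200002200200000)
  (Net.cons (nat_lit 4) (nat_lit 0x4000c00060c0600040a0a0a0806000c000004000800080c0004020c0c080006)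
  (Net.cons (nat_lit 8) (nat_lit 0xe6002800a0005c00a0008000480020008c00b000e800fc00f200e000c60068)
  (Net.cons (nat_lit 16) (nat_lit 0xabc400005e84000079a80000379000009b160000055c000044fc0000cce8)
  (Net.cons (nat_lit 32) (nat_lit 0xcd26e330000000008f7f359c00000000fa1287840000000038a610a0)
  (Net.cons (nat_lit 64) (nat_lit 0x426ec0d6690ddfcc0000000000000000f11b76253571f910)
  (Net.cons (nat_lit 128) (nat_lit 0xb91b5d962fb763f75bdf7f66f5bfe47c)
  Net.nil)))))))))))))))
noncomputable def m115l : List Net := [m115n0,m115n1,m115n2,m115n3,m115n4,m115n5,m115n6,m115n7]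
noncomputable abbrev m115 : ℕ → Net := lk Net.nil m115l
theorem m115ok : NetsOk 243 m115 vT := netsOk_of (by decide +kernel)
theorem m115s0 : Sat io [] (finG m115ok) := fin_sat_nil _ (k := 8) (n := 12) (by decide +kernel)
noncomputable def C116 : List (List ℕ) := [r0,r1,r2,r3,r4,r5,r6,r7,r8,r9,r10,r11,r12,r13]
theorem cl117 : Clo.{u} io C116 [0,1,2,3,4,5] 243 m115 1 (mkB []) := Clo.start (by decide +kernel)
theorem imp118 : Imp.{u} io C116 C93 := Imp.of_chk (pfs := [[([],1)],[([],3)],[([],5)],[([],7)],[([],9)],[([],11)],[([],13)],[([],15)]]) (by decide +kernel)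
theorem der120 : Der 80 (finX 80) (cl (finG m2ok) [[4]]) (fun _ => Net.nil) := Der.zero (finModel m2ok).inj
noncomputable def ns121 : ℕ → Net := upd (fun _ => Net.nil) 0 (m2 4)
theorem der122 : Der 80 (finX 80) (cl (finG m2ok) [[4]]) ns121 := der120.add (wp_mem_cl (w := [4]) (by decide)) (rep_letter (finModel m2ok) 4) 0
noncomputable def L123 : Lev := Lev.cons 0 3 [[0]] Lev.nil
theorem lc124 : Lev.chk 80 4 ns121 vT 100 L123 = true := by decide +kernel
theorem lb125 : 3 ≤ Nat.card (cl (finG m2ok) [[4]]) := le_of_eq_of_le (by decide +kernel) (der122.card_ge lc124)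
theorem sat126 : Sat io C93 (finG m2ok) := m2s0.fin (k := 7) (by decide +kernel)
theorem ix119 : Idx.{u} io C116 [0,1,2,3,4,5] [[4]] 40 := (Idx.of bd113 sat126 (by decide +kernel) lb125 (by decide +kernel)).of_imp imp118
noncomputable def lk127 : List (List ℕ × List ℕ × Pf) := [([4],[4],[([6],21)])]
noncomputable def O128 : ℕ := (nat_lit 0x4000000040c01924e73999f3ffe)
noncomputable def M129 : ℕ := (nat_lit 0x4000000040c01924e73999f3fff)
noncomputable def b130 : ℕ := (nat_lit 1)
theorem cl131 : Clo.{u} io C116 [0,1,2,3,4,5] 243 m115 M129 (mkB [(6,b130)]) := cl117.new (k := 5) (b := 6) (q := 0) (p := 1) (r := 200) (n := 40) (O := O128) (by decide +kernel) (lks := lk127) (by decide +kernel) (gens_of_lall2 (m := [[0]]) (by decide +kernel)) ix119 (by decide +kernel)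
noncomputable def b132 : ℕ := (nat_lit 7)
noncomputable def b133 : ℕ := (nat_lit 7)
theorem cl134 : Clo.{u} io C116 [0,1,2,3,4,5] 243 m115 M129 (mkB [(6,b132),(7,b133)]) := cl131.ops (os := [Op.inv 6,Op.rel 6 [2,2] 7 [3,3] [([7],19)],Op.inv 6,Op.rel 6 [] 7 [7] [([],17)],Op.inv 6]) (by decide +kernel) (by decide +kernel)
theorem der136 : Der 80 (finX 80) (cl (finG m2ok) [[2,4]]) (fun _ => Net.nil) := Der.zero (finModel m2ok).inj
noncomputable def x137 : Net := (Net.cons (nat_lit 40) (nat_lit 0x5481194d5a)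
  (Net.cons (nat_lit 20) (nat_lit 0x89e780000085632)
  (Net.cons (nat_lit 10) (nat_lit 0x112000b00012a00152)
  (Net.cons (nat_lit 5) (nat_lit 0x40801012044000700f)
  (Net.cons (nat_lit 1) (nat_lit 0x8004000000040000400)
  (Net.cons (nat_lit 1) (nat_lit 0x1084a500080084040808)
  (Net.cons (nat_lit 1) (nat_lit 0x2948520405010a021424)
  (Net.cons (nat_lit 1) (nat_lit 0x5090a50902420405294a)
  (Net.cons (nat_lit 1) (nat_lit 0x84a50842520401004a1)
  (Net.cons (nat_lit 5) (nat_lit 0x20000000a070000681a)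
  (Net.cons (nat_lit 10) (nat_lit 0xf0000b00010a00152)
  (Net.cons (nat_lit 20) (nat_lit 0xede2000000ed432)
  (Net.cons (nat_lit 40) (nat_lit 0x341b1e9d28)
  Net.nil)))))))))))))
noncomputable def ns138 : ℕ → Net := upd (fun _ => Net.nil) 0 x137
theorem der139 : Der 80 (finX 80) (cl (finG m2ok) [[2,4]]) ns138 := der136.add (wp_mem_cl (w := [2,4]) (by decide)) ((finModel m2ok).toIsPre.rep_word (k := 7) (w := [2,4]) (n := x137) (by decide +kernel)) 0
noncomputable def L140 : Lev := Lev.cons 0 3 [[0]] Lev.nil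
theorem lc141 : Lev.chk 80 4 ns138 vT 100 L140 = true := by decide +kernel
theorem lb142 : 3 ≤ Nat.card (cl (finG m2ok) [[2,4]]) := le_of_eq_of_le (by decide +kernel) (der139.card_ge lc141)
theorem ix135 : Idx.{u} io C116 [0,1,2,3,4,5] [[2,4]] 40 := (Idx.of bd113 sat126 (by decide +kernel) lb142 (by decide +kernel)).of_imp imp118
noncomputable def lk143 : List (List ℕ × List ℕ × Pf) := [([2,4],[3,6,4,2,7,2],[([6,3,6],23)])]
noncomputable def O144 : ℕ := (nat_lit 0x24140000630e03b800381200300000002800c57850000000008024400000)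
noncomputable def M145 : ℕ := (nat_lit 0x24140000630e03b800381200300000002c00c578540c01924ef3bddf3fff)
noncomputable def b146 : ℕ := (nat_lit 71)
theorem cl147 : Clo.{u} io C116 [0,1,2,3,4,5] 243 m115 M145 (mkB [(6,b146),(7,b133)]) := cl134.new (k := 5) (b := 6) (q := 6) (p := 29) (r := 200) (n := 40) (O := O144) (by decide +kernel) (lks := lk143) (by decide +kernel) (gens_of_lall2 (m := [[0]]) (by decide +kernel)) ix135 (by decide +kernel)
noncomputable def b148 : ℕ := (nat_lit 0x20000000020000010000000000005405404010000601c400147)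
noncomputable def b149 : ℕ := (nat_lit 0x800100000200000000c00c03000080080008021980037)
theorem cl150 : Clo.{u} io C116 [0,1,2,3,4,5] 243 m115 M145 (mkB [(6,b148),(7,b149)]) := cl147.ops (os := [Op.ext 6 2 [([4],[4],[([6],21)]),([5],[5],[([6,5],20)])],Op.inv 6,Op.rel 6 [2,2] 7 [3,3] [([7],19)],Op.inv 6,Op.rel 7 [4,2] 7 [2,7,2,4,6,3] [([],22)],Op.inv 7,Op.rel 6 [2,1] 7 [2,6,1,1,6,0] [([],24)],Op.ext 6 2 [([4],[4],[([6],21)]),([5],[5],[([6,5],20)])],Op.inv 6,Op.rel 6 [2,2] 7 [3,3] [([7],19)],Op.inv 6,Op.rel 6 [1,1] 7 [3,6,2,1,6,1] [([7,3,6],25)],Op.ext 6 2 [([4],[4],[([6],21)]),([5],[5],[([6,5],20)])],Op.inv 6,Op.rel 6 [2,2] 7 [3,3] [([7],19)],Op.inv 6]) (by decide +kernel) (by decide +kernel)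
theorem der152 : Der 80 (finX 80) (cl (finG m2ok) [[5,1,3,5,0,4]]) (fun _ => Net.nil) := Der.zero (finModel m2ok).inj
noncomputable def x153 : Net := (Net.cons (nat_lit 40) (nat_lit 0xb6c59649a3)
  (Net.cons (nat_lit 20) (nat_lit 0x7454a0000068ffa)
  (Net.cons (nat_lit 10) (nat_lit 0x3c0003340013100061)
  (Net.cons (nat_lit 5) (nat_lit 0x2414010160240c03c1b)
  (Net.cons (nat_lit 1) (nat_lit 0x10000020001)
  (Net.cons (nat_lit 1) (nat_lit 0x421421200a400005010a)
  (Net.cons (nat_lit 1) (nat_lit 0x294a5210a52000528084)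
  (Net.cons (nat_lit 1) (nat_lit 0x1284a4284a1280a5084a)
  (Net.cons (nat_lit 1) (nat_lit 0x4840048520484294a0)
  (Net.cons (nat_lit 5) (nat_lit 0x400001014030040500a)
  (Net.cons (nat_lit 10) (nat_lit 0x3f0001ba001240005a)
  (Net.cons (nat_lit 20) (nat_lit 0x953940000008718)
  (Net.cons (nat_lit 40) (nat_lit 0xb6e9b26832)
  Net.nil)))))))))))))
noncomputable def ns154 : ℕ → Net := upd (fun _ => Net.nil) 0 x153
theorem der155 : Der 80 (finX 80) (cl (finG m2ok) [[5,1,3,5,0,4]]) ns154 := der152.add (wp_mem_cl (w := [5,1,3,5,0,4]) (by decide)) ((finModel m2ok).toIsPre.rep_word (k := 7) (w := [5,1,3,5,0,4]) (n := x153) (by decide +kernel)) 0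
noncomputable def L156 : Lev := Lev.cons 0 3 [[0]] Lev.nil
theorem lc157 : Lev.chk 80 4 ns154 vT 100 L156 = true := by decide +kernel
theorem lb158 : 3 ≤ Nat.card (cl (finG m2ok) [[5,1,3,5,0,4]]) := le_of_eq_of_le (by decide +kernel) (der155.card_ge lc157)
theorem ix151 : Idx.{u} io C116 [0,1,2,3,4,5] [[5,1,3,5,0,4]] 40 := (Idx.of bd113 sat126 (by decide +kernel) lb158 (by decide +kernel)).of_imp imp118
noncomputable def lk159 : List (List ℕ × List ℕ × Pf) := [([5],[5],[([6,5],20)]),([1],[2,1,7,3,7,1,1],[([6],27)]),([4],[4],[([6],21)]),([5,3],[3,6,3,5,7,2],[([6,3,6,3,5],22)]),([0],[0,0,6,2,6,0,3],[([6,0,0,6,2,6,0,3],26)])]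
noncomputable def O160 : ℕ := (nat_lit 0x202c126200000000000000de1c3d818030090000000007a28800800004000)
noncomputable def M161 : ℕ := (nat_lit 0x226d52620630e03b800381fe1f3d818032c90c578540c7bbacefbbddf7fff)
noncomputable def b162 : ℕ := (nat_lit 0x20000000020000010000000000005405404010000601c40014f)
theorem cl163 : Clo.{u} io C116 [0,1,2,3,4,5] 243 m115 M161 (mkB [(6,b162),(7,b149)]) := cl150.new (k := 5) (b := 6) (q := 3) (p := 14) (r := 200) (n := 40) (O := O160) (by decide +kernel) (lks := lk159) (by decide +kernel) (gens_of_lall2 (m := [[0,1,2,3,0,4,2]]) (by decide +kernel)) ix151 (by decide +kernel)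
noncomputable def b164 : ℕ := (nat_lit 0x2264100202300030000201ee010c80801009005405404710844681c40354f)
noncomputable def b165 : ℕ := (nat_lit 0x2264100202100030800101ee020c808020c00c03000086aa28283219848b7)
theorem cl166 : Clo.{u} io C116 [0,1,2,3,4,5] 243 m115 M161 (mkB [(6,b164),(7,b165)]) := cl163.ops (os := [Op.ext 6 2 [([4],[4],[([6],21)]),([5],[5],[([6,5],20)])],Op.inv 6,Op.rel 6 [2,2] 7 [3,3] [([7],19)],Op.inv 6,Op.rel 6 [1,1] 7 [3,6,2,1,6,1] [([7,3,6],25)],Op.ext 6 2 [([4],[4],[([6],21)]),([5],[5],[([6,5],20)])],Op.inv 6,Op.rel 6 [2,2] 7 [3,3] [([7],19)],Op.inv 6,Op.rel 7 [3,5] 7 [2,7,5,3,6,3] [([7,2,7,5,3,6,3,6],23)],Op.inv 7,Op.rel 6 [2,2] 7 [3,3] [([7],19)],Op.inv 6,Op.rel 7 [3,5] 7 [2,7,5,3,6,3] [([7,2,7,5,3,6,3,6],23)],Op.ext 7 2 [([5],[5],[([7,5,6],21)]),([4],[4],[([],20)])],Op.inv 7,Op.rel 6 [] 7 [7] [([],17)],Op.inv 6,Op.rel 6 [2,2] 7 [3,3] [([7],19)],Op.inv 6,Op.rel 6 [2,1] 7 [2,6,1,1,6,0] [([],24)],Op.inv 6,Op.rel 6 [] 7 [7] [([],17)],Op.inv 6,Op.rel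 6 [2,2] 7 [3,3] [([7],19)],Op.inv 6]) (by decide +kernel) (by decide +kernel)
theorem der168 : Der 80 (finX 80) (cl (finG m2ok) [[4],[2,4],[1]]) (fun _ => Net.nil) := Der.zero (finModel m2ok).inj
noncomputable def ns169 : ℕ → Net := upd (fun _ => Net.nil) 0 (m2 4)
theorem der170 : Der 80 (finX 80) (cl (finG m2ok) [[4],[2,4],[1]]) ns169 := der168.add (wp_mem_cl (w := [4]) (by decide)) (rep_letter (finModel m2ok) 4) 0
noncomputable def x171 : Net := (Net.cons (nat_lit 40) (nat_lit 0x5481194d5a)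
  (Net.cons (nat_lit 20) (nat_lit 0x89e780000085632)
  (Net.cons (nat_lit 10) (nat_lit 0x112000b00012a00152)
  (Net.cons (nat_lit 5) (nat_lit 0x40801012044000700f)
  (Net.cons (nat_lit 1) (nat_lit 0x8004000000040000400)
  (Net.cons (nat_lit 1) (nat_lit 0x1084a500080084040808)
  (Net.cons (nat_lit 1) (nat_lit 0x2948520405010a021424)
  (Net.cons (nat_lit 1) (nat_lit 0x5090a50902420405294a)
  (Net.cons (nat_lit 1) (nat_lit 0x84a50842520401004a1)
  (Net.cons (nat_lit 5) (nat_lit 0x20000000a070000681a)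
  (Net.cons (nat_lit 10) (nat_lit 0xf0000b00010a00152)
  (Net.cons (nat_lit 20) (nat_lit 0xede2000000ed432)
  (Net.cons (nat_lit 40) (nat_lit 0x341b1e9d28)
  Net.nil)))))))))))))
noncomputable def ns172 : ℕ → Net := upd ns169 1 x171
theorem der173 : Der 80 (finX 80) (cl (finG m2ok) [[4],[2,4],[1]]) ns172 := der170.add (wp_mem_cl (w := [2,4]) (by decide)) ((finModel m2ok).toIsPre.rep_word (k := 7) (w := [2,4]) (n := x171) (by decide +kernel)) 1
noncomputable def ns174 : ℕ → Net := upd ns172 2 (m2 1)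
theorem der175 : Der 80 (finX 80) (cl (finG m2ok) [[4],[2,4],[1]]) ns174 := der173.add (wp_mem_cl (w := [1]) (by decide)) (rep_letter (finModel m2ok) 1) 2
noncomputable def L176 : Lev := Lev.cons 0 3 [[1]] Lev.nil
noncomputable def L177 : Lev := Lev.cons 76 40 [[0],[2]] L176
theorem lc178 : Lev.chk 80 4 ns174 vT 100 L177 = true := by decide +kernel
theorem lb179 : 120 ≤ Nat.card (cl (finG m2ok) [[4],[2,4],[1]]) := le_of_eq_of_le (by decide +kernel) (der175.card_ge lc178)
theorem ix167 : Idx.{u} io C116 [0,1,2,3,4,5] [[4],[2,4],[1]] 1 := (Idx.of bd113 sat126 (by decide +kernel) lb179 (by decide +kernel)).of_imp imp118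
noncomputable def lk180 : List (List ℕ × List ℕ × Pf) := [([4],[4],[([6],21)]),([2,4],[3,6,4,2,7,2],[([6,3,6],23)]),([1],[2,1,7,3,7,1,1],[([6],27)])]
noncomputable def O181 : ℕ := (nat_lit 0x4000000000000000000000000000000000000000000000000000000000000)
noncomputable def M182 : ℕ := (nat_lit 0x626d52620630e03b800381fe1f3d818032c90c578540c7bbacefbbddf7fff)
noncomputable def b183 : ℕ := (nat_lit 0x2264100202300030800201ee010c80801009005405404710844681c40354f)
theorem cl184 : Clo.{u} io C116 [0,1,2,3,4,5] 243 m115 M182 (mkB [(6,b183),(7,b165)]) := cl166.new (k := 5) (b := 6) (q := 179) (p := 242) (r := 200) (n := 1) (O := O181) (by decide +kernel) (lks := lk180) (by decide +kernel) (gens_of_lall2 (m := [[0],[1],[2]]) (by decide +kernel)) ix167 (by decide +kernel)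
noncomputable def b185 : ℕ := (nat_lit 0x6264100202300030800201ee010c80801009005405404710844681c40354f)
noncomputable def b186 : ℕ := (nat_lit 0x6264100202300030800101ee020c808020c00c03000086aa28283219848b7)
theorem cl187 : Clo.{u} io C116 [0,1,2,3,4,5] 243 m115 M182 (mkB [(6,b185),(7,b186)]) := cl184.ops (os := [Op.inv 6,Op.rel 6 [] 7 [7] [([],17)],Op.inv 6]) (by decide +kernel) (by decide +kernel)
theorem der189 : Der 80 (finX 80) (cl (finG m2ok) [[5,0,5,1,4,2,0,4,1,4]]) (fun _ => Net.nil) := Der.zero (finModel m2ok).inj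
noncomputable def x190 : Net := (Net.cons (nat_lit 40) (nat_lit 0x36add0ba55)
  (Net.cons (nat_lit 20) (nat_lit 0x4f6d900000ab8db)
  (Net.cons (nat_lit 10) (nat_lit 0xd8002a8000c80021a)
  (Net.cons (nat_lit 5) (nat_lit 0x481b0741d0640c03811)
  (Net.cons (nat_lit 1) (nat_lit 0x20000200000040000000)
  (Net.cons (nat_lit 1) (nat_lit 0x50008500400280800000)
  (Net.cons (nat_lit 1) (nat_lit 0x29004294a12142408021)
  (Net.cons (nat_lit 1) (nat_lit 0x1080a1084a1294a10042)
  (Net.cons (nat_lit 1) (nat_lit 0x521401200a4090a5)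
  (Net.cons (nat_lit 5) (nat_lit 0x2806050180580601000)
  (Net.cons (nat_lit 10) (nat_lit 0x1ac000a00020000200)
  (Net.cons (nat_lit 20) (nat_lit 0xc78b800000a087e)
  (Net.cons (nat_lit 40) (nat_lit 0x24adc413a8)
  Net.nil)))))))))))))
noncomputable def ns191 : ℕ → Net := upd (fun _ => Net.nil) 0 x190
theorem der192 : Der 80 (finX 80) (cl (finG m2ok) [[5,0,5,1,4,2,0,4,1,4]]) ns191 := der189.add (wp_mem_cl (w := [5,0,5,1,4,2,0,4,1,4]) (by decide)) ((finModel m2ok).toIsPre.rep_word (k := 7) (w := [5,0,5,1,4,2,0,4,1,4]) (n := x190) (by decide +kernel)) 0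
noncomputable def L193 : Lev := Lev.cons 0 3 [[0]] Lev.nil
theorem lc194 : Lev.chk 80 4 ns191 vT 100 L193 = true := by decide +kernel
theorem lb195 : 3 ≤ Nat.card (cl (finG m2ok) [[5,0,5,1,4,2,0,4,1,4]]) := le_of_eq_of_le (by decide +kernel) (der192.card_ge lc194)
theorem ix188 : Idx.{u} io C116 [0,1,2,3,4,5] [[5,0,5,1,4,2,0,4,1,4]] 40 := (Idx.of bd113 sat126 (by decide +kernel) lb195 (by decide +kernel)).of_imp imp118
noncomputable def lk196 : List (List ℕ × List ℕ × Pf) := [([5],[5],[([6,5],20)]),([0],[0,0,6,2,6,0,3],[([6,0,0,6,2,6,0,3],26)]),([1],[2,1,7,3,7,1,1],[([6],27)]),([4],[4],[([6],21)]),([2],[2,1,6,1,7,0,0],[([6],25)])]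
noncomputable def O197 : ℕ := (nat_lit 0x1800000314f000008003e01e0c00000000633a8000038440000442008000)
noncomputable def M198 : ℕ := (nat_lit 0x63ed5262377fe03b8803bffffffd818032cf3fff8540ffffaceffffdfffff)
noncomputable def b199 : ℕ := (nat_lit 0x6264100202300030800201ee010c80801009005405404710844681c40356f)
theorem cl200 : Clo.{u} io C116 [0,1,2,3,4,5] 243 m115 M198 (mkB [(6,b199),(7,b186)]) := cl187.new (k := 5) (b := 6) (q := 5) (p := 25) (r := 200) (n := 40) (O := O197) (by decide +kernel) (lks := lk196) (by decide +kernel) (gens_of_lall2 (m := [[0,1,0,2,3,4,1,3,2,3]]) (by decide +kernel)) ix188 (by decide +kernel)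
noncomputable def b201 : ℕ := (nat_lit 0x62e41042033d203088038dee07ec8080124f177f0540ef7e8446f7fc0f5ef)
noncomputable def b202 : ℕ := (nat_lit 0x636410220232c03088033ffe235c808020c70f7f8040fffe2828f7f98f8ff)
theorem cl203 : Clo.{u} io C116 [0,1,2,3,4,5] 243 m115 M198 (mkB [(6,b201),(7,b202)]) := cl200.ops (os := [Op.ext 6 2 [([4],[4],[([6],21)]),([5],[5],[([6,5],20)])],Op.inv 6,Op.rel 6 [] 7 [7] [([],17)],Op.inv 6,Op.rel 6 [2,2] 7 [3,3] [([7],19)],Op.inv 6,Op.rel 7 [3,5] 7 [2,7,5,3,6,3] [([7,2,7,5,3,6,3,6],23)],Op.inv 7,Op.rel 7 [0,3] 6 [1,7,0,0,7,3] [([6,1,7,0,0,7,3,6],25)],Op.ext 7 2 [([5],[5],[([7,5,6],21)]),([4],[4],[([],20)])],Op.inv 7,Op.rel 6 [2,2] 7 [3,3] [([7],19)],Op.inv 6,Op.rel 7 [3,5] 7 [2,7,5,3,6,3] [([7,2,7,5,3,6,3,6],23)],Op.ext 7 2 [([5],[5],[([7,5,6],21)]),([4],[4],[([],20)])],Op.inv 7,Op.rel 6 [2,2] 7 [3,3] [([7],19)],Op.inv 6,Op.rel 7 [3,5] 7 [2,7,5,3,6,3] [([7,2,7,5,3,6,3,6],23)],Op.ext 7 2 [([5],[5],[([7,5,6],21)]),([4],[4],[([],20)])],Op.inv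 7,Op.rel 6 [2,2] 7 [3,3] [([7],19)],Op.inv 6,Op.rel 7 [0,3] 6 [1,7,0,0,7,3] [([6,1,7,0,0,7,3,6],25)],Op.ext 7 2 [([5],[5],[([7,5,6],21)]),([4],[4],[([],20)])],Op.inv 7,Op.rel 6 [] 7 [7] [([],17)],Op.inv 6]) (by decide +kernel) (by decide +kernel)
theorem der205 : Der 80 (finX 80) (cl (finG m2ok) [[5],[3,5],[0,3]]) (fun _ => Net.nil) := Der.zero (finModel m2ok).inj
noncomputable def ns206 : ℕ → Net := upd (fun _ => Net.nil) 0 (m2 5)
theorem der207 : Der 80 (finX 80) (cl (finG m2ok) [[5],[3,5],[0,3]]) ns206 := der205.add (wp_mem_cl (w := [5]) (by decide)) (rep_letter (finModel m2ok) 5) 0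
noncomputable def x208 : Net := (Net.cons (nat_lit 40) (nat_lit 0x36add0ba55)
  (Net.cons (nat_lit 20) (nat_lit 0x4f6d900000ab8db)
  (Net.cons (nat_lit 10) (nat_lit 0xd8002a8000c80021a)
  (Net.cons (nat_lit 5) (nat_lit 0x481b0741d0640c03811)
  (Net.cons (nat_lit 1) (nat_lit 0x20000200000040000000)
  (Net.cons (nat_lit 1) (nat_lit 0x50008500400280800000)
  (Net.cons (nat_lit 1) (nat_lit 0x29004294a12142408021)
  (Net.cons (nat_lit 1) (nat_lit 0x1080a1084a1294a10042)
  (Net.cons (nat_lit 1) (nat_lit 0x521401200a4090a5)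
  (Net.cons (nat_lit 5) (nat_lit 0x2806050180580601000)
  (Net.cons (nat_lit 10) (nat_lit 0x1ac000a00020000200)
  (Net.cons (nat_lit 20) (nat_lit 0xc78b800000a087e)
  (Net.cons (nat_lit 40) (nat_lit 0x24adc413a8)
  Net.nil)))))))))))))
noncomputable def ns209 : ℕ → Net := upd ns206 1 x208
theorem der210 : Der 80 (finX 80) (cl (finG m2ok) [[5],[3,5],[0,3]]) ns209 := der207.add (wp_mem_cl (w := [3,5]) (by decide)) ((finModel m2ok).toIsPre.rep_word (k := 7) (w := [3,5]) (n := x208) (by decide +kernel)) 1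
noncomputable def x211 : Net := (Net.cons (nat_lit 40) (nat_lit 0x7feccf7abe)
  (Net.cons (nat_lit 20) (nat_lit 0xfee1b0000070d8c)
  (Net.cons (nat_lit 10) (nat_lit 0x38000630033100286)
  (Net.cons (nat_lit 5) (nat_lit 0x81903c110340901011)
  (Net.cons (nat_lit 1) (nat_lit 0x80000200040001001)
  (Net.cons (nat_lit 1) (nat_lit 0x940401405080852802)
  (Net.cons (nat_lit 1) (nat_lit 0x94a021485210a529485)
  (Net.cons (nat_lit 1) (nat_lit 0x1294a1294a5204a5094a)
  (Net.cons (nat_lit 1) (nat_lit 0x20401290050800501420)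
  (Net.cons (nat_lit 5) (nat_lit 0x2018028100780003012)
  (Net.cons (nat_lit 10) (nat_lit 0x440006a0037800288)
  (Net.cons (nat_lit 20) (nat_lit 0x2d79800000adeee)
  (Net.cons (nat_lit 40) (nat_lit 0x669c518c48)
  Net.nil)))))))))))))
noncomputable def ns212 : ℕ → Net := upd ns209 2 x211
theorem der213 : Der 80 (finX 80) (cl (finG m2ok) [[5],[3,5],[0,3]]) ns212 := der210.add (wp_mem_cl (w := [0,3]) (by decide)) ((finModel m2ok).toIsPre.rep_word (k := 7) (w := [0,3]) (n := x211) (by decide +kernel)) 2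
noncomputable def L214 : Lev := Lev.cons 0 3 [[1]] Lev.nil
noncomputable def L215 : Lev := Lev.cons 41 40 [[0],[2]] L214
theorem lc216 : Lev.chk 80 4 ns212 vT 100 L215 = true := by decide +kernel
theorem lb217 : 120 ≤ Nat.card (cl (finG m2ok) [[5],[3,5],[0,3]]) := le_of_eq_of_le (by decide +kernel) (der213.card_ge lc216)
theorem ix204 : Idx.{u} io C116 [0,1,2,3,4,5] [[5],[3,5],[0,3]] 1 := (Idx.of bd113 sat126 (by decide +kernel) lb217 (by decide +kernel)).of_imp imp118
noncomputable def lk218 : List (List ℕ × List ℕ × Pf) := [([5],[5],[([7,5,6],21)]),([3,5],[2,7,5,3,6,3],[([7,2,7,5,3,6,3,6],23)]),([0,3],[3,7,1,1,7,0],[([7,3,7,1,1,7,0,6],27)])]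
noncomputable def O219 : ℕ := (nat_lit 0x400000000000000000000000000000000000000000000000000000000000)
noncomputable def M220 : ℕ := (nat_lit 0x67ed5262377fe03b8803bffffffd818032cf3fff8540ffffaceffffdfffff)
noncomputable def b221 : ℕ := (nat_lit 0x636410220236c03088033ffe235c808020c70f7f8040fffe2828f7f98f8ff)
theorem cl222 : Clo.{u} io C116 [0,1,2,3,4,5] 243 m115 M220 (mkB [(6,b201),(7,b221)]) := cl203.new (k := 5) (b := 7) (q := 198) (p := 238) (r := 200) (n := 1) (O := O219) (by decide +kernel) (lks := lk218) (by decide +kernel) (gens_of_lall2 (m := [[0],[1],[2]]) (by decide +kernel)) ix204 (by decide +kernel)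
noncomputable def b223 : ℕ := (nat_lit 0x66e41042033d203088038dee27ec8080124f177f0540ef7e8446f7fc0f5ef)
noncomputable def b224 : ℕ := (nat_lit 0x676410220236c03088033ffe235c808020c70f7f8040fffe2828f7f98f8ff)
theorem cl225 : Clo.{u} io C116 [0,1,2,3,4,5] 243 m115 M220 (mkB [(6,b223),(7,b224)]) := cl222.ops (os := [Op.inv 7,Op.rel 6 [] 7 [7] [([],17)],Op.inv 6]) (by decide +kernel) (by decide +kernel)
theorem der227 : Der 80 (finX 80) (cl (finG m2ok) [[4,3,1,5,3]]) (fun _ => Net.nil) := Der.zero (finModel m2ok).inj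
noncomputable def x228 : Net := (Net.cons (nat_lit 40) (nat_lit 0xc69421c6e0)
  (Net.cons (nat_lit 20) (nat_lit 0xa04f0000003e5c3)
  (Net.cons (nat_lit 10) (nat_lit 0x2a6000620009b0009a)
  (Net.cons (nat_lit 5) (nat_lit 0x501a0580804c0a06411)
  (Net.cons (nat_lit 1) (nat_lit 0xa1000000000108001)
  (Net.cons (nat_lit 1) (nat_lit 0x10142500400080a10802)
  (Net.cons (nat_lit 1) (nat_lit 0x200a4294a40108421404)
  (Net.cons (nat_lit 1) (nat_lit 0x4094a529480290a4090a)
  (Net.cons (nat_lit 1) (nat_lit 0x421094a50040409425)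
  (Net.cons (nat_lit 5) (nat_lit 0x400a0000a0480800810)
  (Net.cons (nat_lit 10) (nat_lit 0x31c002140034000086)
  (Net.cons (nat_lit 20) (nat_lit 0xba4c400000a2398)
  (Net.cons (nat_lit 40) (nat_lit 0xc2c48b2688)
  Net.nil)))))))))))))
noncomputable def ns229 : ℕ → Net := upd (fun _ => Net.nil) 0 x228
theorem der230 : Der 80 (finX 80) (cl (finG m2ok) [[4,3,1,5,3]]) ns229 := der227.add (wp_mem_cl (w := [4,3,1,5,3]) (by decide)) ((finModel m2ok).toIsPre.rep_word (k := 7) (w := [4,3,1,5,3]) (n := x228) (by decide +kernel)) 0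
noncomputable def L231 : Lev := Lev.cons 0 3 [[0]] Lev.nil
theorem lc232 : Lev.chk 80 4 ns229 vT 100 L231 = true := by decide +kernel
theorem lb233 : 3 ≤ Nat.card (cl (finG m2ok) [[4,3,1,5,3]]) := le_of_eq_of_le (by decide +kernel) (der230.card_ge lc232)
theorem ix226 : Idx.{u} io C116 [0,1,2,3,4,5] [[4,3,1,5,3]] 40 := (Idx.of bd113 sat126 (by decide +kernel) lb233 (by decide +kernel)).of_imp imp118
noncomputable def lk234 : List (List ℕ × List ℕ × Pf) := [([4],[4],[([6],21)]),([3],[1,1,6,0,7,0,3],[([6,1,1,6,0,7,0,3],24)]),([1],[2,1,7,3,7,1,1],[([6],27)]),([5],[5],[([6,5],20)])]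
noncomputable def O235 : ℕ := (nat_lit 0x1802a81840800fc47000000000007e004d0000007a8000005010000200000)
noncomputable def M236 : ℕ := (nat_lit 0x7feffa7a77ffeffff803bffffffdff807fcf3fffffc0fffffcfffffffffff)
noncomputable def b237 : ℕ := (nat_lit 0x66e41042033d203088038dee27ec8080124f177f0540ef7e8446f7fc0f5ff)
theorem cl238 : Clo.{u} io C116 [0,1,2,3,4,5] 243 m115 M236 (mkB [(6,b237),(7,b224)]) := cl225.new (k := 5) (b := 6) (q := 4) (p := 21) (r := 200) (n := 40) (O := O235) (by decide +kernel) (lks := lk234) (by decide +kernel) (gens_of_lall2 (m := [[0,1,2,3,1]]) (by decide +kernel)) ix226 (by decide +kernel)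
noncomputable def b239 : ℕ := (nat_lit 0x7ee6da5a73fd26bef8038defefecfd807fcf3fff3fc0effefc7ef7ff8fdff)
noncomputable def b240 : ℕ := (nat_lit 0x7f6fb03a76f6c9f5e8033ffff35dde807dcf2fffdfc0fffefc7ef7ff8fdff)
theorem cl241 : Clo.{u} io C116 [0,1,2,3,4,5] 243 m115 M236 (mkB [(6,b239),(7,b240)]) := cl238.ops (os := [Op.ext 6 2 [([4],[4],[([6],21)]),([5],[5],[([6,5],20)])],Op.inv 6,Op.rel 6 [] 7 [7] [([],17)],Op.inv 6,Op.rel 6 [2,2] 7 [3,3] [([7],19)],Op.inv 6,Op.rel 7 [3,5] 7 [2,7,5,3,6,3] [([7,2,7,5,3,6,3,6],23)],Op.ext 7 2 [([5],[5],[([7,5,6],21)]),([4],[4],[([],20)])],Op.inv 7,Op.rel 6 [] 7 [7] [([],17)],Op.inv 6,Op.rel 6 [2,2] 7 [3,3] [([7],19)],Op.inv 6,Op.rel 7 [0,3] 6 [1,7,0,0,7,3] [([6,1,7,0,0,7,3,6],25)],Op.inv 7,Op.rel 6 [] 7 [7] [([],17)],Op.inv 6,Op.rel 7 [3,5] 7 [2,7,5,3,6,3] [([7,2,7,5,3,6,3,6],23)],Op.inv 7,Op.rel 7 [0,3] 6 [1,7,0,0,7,3] [([6,1,7,0,0,7,3,6],25)],Op.ext 7 2 [([5],[5],[([7,5,6],21)]),([4],[4],[([],20)])],Op.inv 7,Op.rel 6 [] 7 [7] [([],17)],Op.inv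 6,Op.rel 6 [2,2] 7 [3,3] [([7],19)],Op.inv 6]) (by decide +kernel) (by decide +kernel)
theorem der243 : Der 80 (finX 80) (cl (finG m2ok) [[1,5,3,4,2,4,4]]) (fun _ => Net.nil) := Der.zero (finModel m2ok).inj
noncomputable def x244 : Net := (Net.cons (nat_lit 40) (nat_lit 0x2f5aa28c7f)
  (Net.cons (nat_lit 20) (nat_lit 0x339110000009c2c)
  (Net.cons (nat_lit 10) (nat_lit 0x3ee003a30016a00086)
  (Net.cons (nat_lit 5) (nat_lit 0x141601009074000401f)
  (Net.cons (nat_lit 1) (nat_lit 0x204010000000000)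
  (Net.cons (nat_lit 1) (nat_lit 0x1004052802400025010a)
  (Net.cons (nat_lit 1) (nat_lit 0x29081290a529085280a4)
  (Net.cons (nat_lit 1) (nat_lit 0x521421284a5094a1004a)
  (Net.cons (nat_lit 1) (nat_lit 0x1000290850840501001)
  (Net.cons (nat_lit 5) (nat_lit 0x501e05812060180200e)
  (Net.cons (nat_lit 10) (nat_lit 0x226002220015a00280)
  (Net.cons (nat_lit 20) (nat_lit 0x33b00000001dc1e)
  (Net.cons (nat_lit 40) (nat_lit 0x277a3f2632)
  Net.nil)))))))))))))
noncomputable def ns245 : ℕ → Net := upd (fun _ => Net.nil) 0 x244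
theorem der246 : Der 80 (finX 80) (cl (finG m2ok) [[1,5,3,4,2,4,4]]) ns245 := der243.add (wp_mem_cl (w := [1,5,3,4,2,4,4]) (by decide)) ((finModel m2ok).toIsPre.rep_word (k := 7) (w := [1,5,3,4,2,4,4]) (n := x244) (by decide +kernel)) 0
noncomputable def L247 : Lev := Lev.cons 0 3 [[0]] Lev.nil
theorem lc248 : Lev.chk 80 4 ns245 vT 100 L247 = true := by decide +kernel
theorem lb249 : 3 ≤ Nat.card (cl (finG m2ok) [[1,5,3,4,2,4,4]]) := le_of_eq_of_le (by decide +kernel) (der246.card_ge lc248)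
theorem ix242 : Idx.{u} io C116 [0,1,2,3,4,5] [[1,5,3,4,2,4,4]] 40 := (Idx.of bd113 sat126 (by decide +kernel) lb249 (by decide +kernel)).of_imp imp118
noncomputable def lk250 : List (List ℕ × List ℕ × Pf) := [([1],[2,1,7,3,7,1,1],[([6],27)]),([5,3],[3,6,3,5,7,2],[([6,3,6,3,5],22)]),([4],[4],[([6],21)]),([2,4],[3,6,4,2,7,2],[([6,3,6],23)])]
noncomputable def O251 : ℕ := (nat_lit 0x1005858800100007fc40000002007f8030c000003f00000300000000000)
noncomputable def M252 : ℕ := (nat_lit 0x7ffffffffffffffffffffffffffffffffffffffffffffffffffffffffffff)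
noncomputable def b253 : ℕ := (nat_lit 0x7ee6da5a73fd26bef8038defefecfd807fcf3fff3fc0effefc7ef7ff8ffff)
theorem cl254 : Clo.{u} io C116 [0,1,2,3,4,5] 243 m115 M252 (mkB [(6,b253),(7,b240)]) := cl241.new (k := 5) (b := 6) (q := 9) (p := 44) (r := 200) (n := 40) (O := O251) (by decide +kernel) (lks := lk250) (by decide +kernel) (gens_of_lall2 (m := [[0,1,2,3,2]]) (by decide +kernel)) ix242 (by decide +kernel)
noncomputable def b255 : ℕ := (nat_lit 0x7ffffffffffffffffffffffffffffffffffffffffffffffffffffffffffff)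
noncomputable def b256 : ℕ := (nat_lit 0x7ffffffffffffffffffffffffffffffffffffffffffffffffffffffffffff)
theorem cl257 : Clo.{u} io C116 [0,1,2,3,4,5] 243 m115 M252 (mkB [(6,b255),(7,b256)]) := cl254.ops (os := [Op.ext 6 2 [([4],[4],[([6],21)]),([5],[5],[([6,5],20)])],Op.inv 6,Op.rel 6 [2,2] 7 [3,3] [([7],19)],Op.inv 6,Op.rel 7 [3,5] 7 [2,7,5,3,6,3] [([7,2,7,5,3,6,3,6],23)],Op.ext 7 2 [([5],[5],[([7,5,6],21)]),([4],[4],[([],20)])],Op.inv 7,Op.rel 6 [2,2] 7 [3,3] [([7],19)],Op.inv 6,Op.rel 7 [0,3] 6 [1,7,0,0,7,3] [([6,1,7,0,0,7,3,6],25)],Op.ext 7 2 [([5],[5],[([7,5,6],21)]),([4],[4],[([],20)])],Op.inv 7,Op.rel 6 [] 7 [7] [([],17)],Op.inv 6,Op.rel 6 [2,2] 7 [3,3] [([7],19)],Op.inv 6,Op.rel 7 [3,5] 7 [2,7,5,3,6,3] [([7,2,7,5,3,6,3,6],23)],Op.inv 7]) (by decide +kernel) (by decide +kernel)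
theorem sat259 : Sat io C116 (finG m115ok) := m115s0.fin (k := 8) (by decide +kernel)
theorem bd258 : Bound.{u} io C116 [0,1,2,3,4,5,6,7] 29160 := cl257.bound (by decide +kernel) sat259 (bd113.of_imp imp118)
noncomputable def r14 : List ℕ := [8,8]
noncomputable def r15 : List ℕ := [9,2,8,2]
noncomputable def r16 : List ℕ := [9,4,8,3,5]
noncomputable def r17 : List ℕ := [8,4,9,3,5]
noncomputable def r18 : List ℕ := [9,1,9,0,2,8,0,8,1,2]
noncomputable def m260n0 : Net := (Net.cons (nat_lit 6) (nat_lit 40)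
  (Net.cons (nat_lit 3) (nat_lit 450)
  (Net.cons (nat_lit 1) (nat_lit 130)
  (Net.cons (nat_lit 1) (nat_lit 520)
  (Net.cons (nat_lit 6) (nat_lit 48)
  Net.nil)))))
noncomputable def m260n1 : Net := (Net.cons (nat_lit 6) (nat_lit 48)
  (Net.cons (nat_lit 3) (nat_lit 448)
  (Net.cons (nat_lit 1) (nat_lit 1026)
  (Net.cons (nat_lit 1) (nat_lit 72)
  (Net.cons (nat_lit 3) (nat_lit 2)
  (Net.cons (nat_lit 6) (nat_lit 40)
  Net.nil))))))
noncomputable def m260n2 : Net := (Net.cons (nat_lit 6) (nat_lit 48)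
  (Net.cons (nat_lit 3) (nat_lit 452)
  (Net.cons (nat_lit 1) (nat_lit 72)
  (Net.cons (nat_lit 1) (nat_lit 1168)
  (Net.cons (nat_lit 1) (nat_lit 520)
  (Net.cons (nat_lit 3) (nat_lit 4)
  (Net.cons (nat_lit 6) (nat_lit 48)
  Net.nil)))))))
noncomputable def m260n3 : Net := (Net.cons (nat_lit 6) (nat_lit 48)
  (Net.cons (nat_lit 3) (nat_lit 452)
  (Net.cons (nat_lit 1) (nat_lit 72)
  (Net.cons (nat_lit 1) (nat_lit 1168)
  (Net.cons (nat_lit 1) (nat_lit 520)
  (Net.cons (nat_lit 3) (nat_lit 4)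
  (Net.cons (nat_lit 6) (nat_lit 48)
  Net.nil)))))))
noncomputable def m260n4 : Net := (Net.cons (nat_lit 6) (nat_lit 56)
  (Net.cons (nat_lit 3) (nat_lit 320)
  (Net.cons (nat_lit 1) (nat_lit 128)
  (Net.cons (nat_lit 1) (nat_lit 512)
  (Net.cons (nat_lit 6) (nat_lit 56)
  Net.nil)))))
noncomputable def m260n5 : Net := (Net.cons (nat_lit 6) (nat_lit 56)
  (Net.cons (nat_lit 3) (nat_lit 448)
  (Net.cons (nat_lit 1) (nat_lit 1024)
  (Net.cons (nat_lit 1) (nat_lit 64)
  (Net.cons (nat_lit 3) (nat_lit 128)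
  (Net.cons (nat_lit 6) (nat_lit 56)
  Net.nil))))))
noncomputable def m260n8 : Net := (Net.cons (nat_lit 6) (nat_lit 21)
  (Net.cons (nat_lit 3) (nat_lit 453)
  (Net.cons (nat_lit 1) (nat_lit 144)
  (Net.cons (nat_lit 1) (nat_lit 513)
  (Net.cons (nat_lit 3) (nat_lit 128)
  (Net.cons (nat_lit 6) (nat_lit 42)
  Net.nil))))))
noncomputable def m260n9 : Net := (Net.cons (nat_lit 6) (nat_lit 21)
  (Net.cons (nat_lit 3) (nat_lit 453)
  (Net.cons (nat_lit 1) (nat_lit 144)
  (Net.cons (nat_lit 1) (nat_lit 513)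
  (Net.cons (nat_lit 3) (nat_lit 128)
  (Net.cons (nat_lit 6) (nat_lit 42)
  Net.nil))))))
noncomputable def m260l : List Net := [m260n0,m260n1,m260n2,m260n3,m260n4,m260n5,Net.nil,Net.nil,m260n8,m260n9]
noncomputable abbrev m260 : ℕ → Net := lk Net.nil m260l
theorem m260ok : NetsOk 12 m260 vT := netsOk_of (by decide +kernel)
theorem m260s0 : Sat io [] (finG m260ok) := fin_sat_nil _ (k := 4) (n := 12) (by decide +kernel)
noncomputable def C261 : List (List ℕ) := [r0,r1,r2,r3,r4,r5,r6,r7,r14,r15,r16,r17,r18]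
theorem cl262 : Clo.{u} io C261 [0,1,2,3,4,5] 12 m260 1 (mkB []) := Clo.start (by decide +kernel)
theorem imp263 : Imp.{u} io C261 C93 := Imp.of_chk (pfs := [[([],1)],[([],3)],[([],5)],[([],7)],[([],9)],[([],11)],[([],13)],[([],15)]]) (by decide +kernel)
theorem der265 : Der 80 (finX 80) (cl (finG m2ok) [[2],[4]]) (fun _ => Net.nil) := Der.zero (finModel m2ok).inj
noncomputable def ns266 : ℕ → Net := upd (fun _ => Net.nil) 0 (m2 2)
theorem der267 : Der 80 (finX 80) (cl (finG m2ok) [[2],[4]]) ns266 := der265.add (wp_mem_cl (w := [2]) (by decide)) (rep_letter (finModel m2ok) 2) 0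
noncomputable def ns268 : ℕ → Net := upd ns266 1 (m2 4)
theorem der269 : Der 80 (finX 80) (cl (finG m2ok) [[2],[4]]) ns268 := der267.add (wp_mem_cl (w := [4]) (by decide)) (rep_letter (finModel m2ok) 4) 1
noncomputable def L270 : Lev := Lev.cons 2 24 [[0],[1]] Lev.nil
theorem lc271 : Lev.chk 80 4 ns268 vT 100 L270 = true := by decide +kernel
theorem lb272 : 24 ≤ Nat.card (cl (finG m2ok) [[2],[4]]) := le_of_eq_of_le (by decide +kernel) (der269.card_ge lc271)
theorem ix264 : Idx.{u} io C261 [0,1,2,3,4,5] [[2],[4]] 5 := (Idx.of bd113 sat126 (by decide +kernel) lb272 (by decide +kernel)).of_imp imp263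
noncomputable def lk273 : List (List ℕ × List ℕ × Pf) := [([2],[3],[([8],19)]),([4],[4,2],[([8],21)])]
noncomputable def O274 : ℕ := (nat_lit 94)
noncomputable def M275 : ℕ := (nat_lit 95)
noncomputable def b276 : ℕ := (nat_lit 1)
theorem cl277 : Clo.{u} io C261 [0,1,2,3,4,5] 12 m260 M275 (mkB [(8,b276)]) := cl262.new (k := 1) (b := 8) (q := 0) (p := 1) (r := 200) (n := 5) (O := O274) (by decide +kernel) (lks := lk273) (by decide +kernel) (gens_of_lall2 (m := [[0],[1]]) (by decide +kernel)) ix264 (by decide +kernel)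
noncomputable def b278 : ℕ := (nat_lit 3)
noncomputable def b279 : ℕ := (nat_lit 3)
theorem cl280 : Clo.{u} io C261 [0,1,2,3,4,5] 12 m260 M275 (mkB [(8,b278),(9,b279)]) := cl277.ops (os := [Op.inv 8,Op.rel 8 [] 9 [] [([],17)],Op.inv 8]) (by decide +kernel) (by decide +kernel)
theorem der282 : Der 80 (finX 80) (cl (finG m2ok) [[3,5],[0,2]]) (fun _ => Net.nil) := Der.zero (finModel m2ok).inj
noncomputable def x283 : Net := (Net.cons (nat_lit 40) (nat_lit 0x36add0ba55)
  (Net.cons (nat_lit 20) (nat_lit 0x4f6d900000ab8db)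
  (Net.cons (nat_lit 10) (nat_lit 0xd8002a8000c80021a)
  (Net.cons (nat_lit 5) (nat_lit 0x481b0741d0640c03811)
  (Net.cons (nat_lit 1) (nat_lit 0x20000200000040000000)
  (Net.cons (nat_lit 1) (nat_lit 0x50008500400280800000)
  (Net.cons (nat_lit 1) (nat_lit 0x29004294a12142408021)
  (Net.cons (nat_lit 1) (nat_lit 0x1080a1084a1294a10042)
  (Net.cons (nat_lit 1) (nat_lit 0x521401200a4090a5)
  (Net.cons (nat_lit 5) (nat_lit 0x2806050180580601000)
  (Net.cons (nat_lit 10) (nat_lit 0x1ac000a00020000200)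
  (Net.cons (nat_lit 20) (nat_lit 0xc78b800000a087e)
  (Net.cons (nat_lit 40) (nat_lit 0x24adc413a8)
  Net.nil)))))))))))))
noncomputable def ns284 : ℕ → Net := upd (fun _ => Net.nil) 0 x283
theorem der285 : Der 80 (finX 80) (cl (finG m2ok) [[3,5],[0,2]]) ns284 := der282.add (wp_mem_cl (w := [3,5]) (by decide)) ((finModel m2ok).toIsPre.rep_word (k := 7) (w := [3,5]) (n := x283) (by decide +kernel)) 0
noncomputable def x286 : Net := (Net.cons (nat_lit 40) (nat_lit 0x669c518c48)
  (Net.cons (nat_lit 20) (nat_lit 0xd2f7200000adeee)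
  (Net.cons (nat_lit 10) (nat_lit 0x30400070000870001c)
  (Net.cons (nat_lit 5) (nat_lit 0x20100241f07c010200d)
  (Net.cons (nat_lit 1) (nat_lit 0xa0000000800100400)
  (Net.cons (nat_lit 1) (nat_lit 0x10140029021010a50940)
  (Net.cons (nat_lit 1) (nat_lit 0x204a5214a420084294a1)
  (Net.cons (nat_lit 1) (nat_lit 0x5294a109485084a5284a)
  (Net.cons (nat_lit 1) (nat_lit 0x9480094852942009404)
  (Net.cons (nat_lit 5) (nat_lit 0x500000008058120100c)
  (Net.cons (nat_lit 10) (nat_lit 0x31800072000ce00264)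
  (Net.cons (nat_lit 20) (nat_lit 0x16a80000070d8c)
  (Net.cons (nat_lit 40) (nat_lit 0x7feccf7abe)
  Net.nil)))))))))))))
noncomputable def ns287 : ℕ → Net := upd ns284 1 x286
theorem der288 : Der 80 (finX 80) (cl (finG m2ok) [[3,5],[0,2]]) ns287 := der285.add (wp_mem_cl (w := [0,2]) (by decide)) ((finModel m2ok).toIsPre.rep_word (k := 7) (w := [0,2]) (n := x286) (by decide +kernel)) 1
noncomputable def L289 : Lev := Lev.cons 0 24 [[0],[1]] Lev.nil
theorem lc290 : Lev.chk 80 4 ns287 vT 100 L289 = true := by decide +kernel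
theorem lb291 : 24 ≤ Nat.card (cl (finG m2ok) [[3,5],[0,2]]) := le_of_eq_of_le (by decide +kernel) (der288.card_ge lc290)
theorem ix281 : Idx.{u} io C261 [0,1,2,3,4,5] [[3,5],[0,2]] 5 := (Idx.of bd113 sat126 (by decide +kernel) lb291 (by decide +kernel)).of_imp imp263
noncomputable def lk292 : List (List ℕ × List ℕ × Pf) := [([3,5],[5],[([8,5,9],23)]),([0,2],[0,8,3,0,9,1],[([8,0,8],25)])]
noncomputable def O293 : ℕ := (nat_lit 1952)
noncomputable def M294 : ℕ := (nat_lit 2047)
noncomputable def b295 : ℕ := (nat_lit 7)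
theorem cl296 : Clo.{u} io C261 [0,1,2,3,4,5] 12 m260 M294 (mkB [(8,b295),(9,b279)]) := cl280.new (k := 1) (b := 8) (q := 2) (p := 5) (r := 200) (n := 5) (O := O293) (by decide +kernel) (lks := lk292) (by decide +kernel) (gens_of_lall2 (m := [[0],[1]]) (by decide +kernel)) ix281 (by decide +kernel)
noncomputable def b297 : ℕ := (nat_lit 1023)
noncomputable def b298 : ℕ := (nat_lit 1023)
theorem cl299 : Clo.{u} io C261 [0,1,2,3,4,5] 12 m260 M294 (mkB [(8,b297),(9,b298)]) := cl296.ops (os := [Op.ext 8 2 [([2],[3],[([8],19)]),([3],[2],[([8,2],18)]),([3,5],[5],[([8,5,9],23)]),([4,2],[4],[([],22)]),([4],[4,2],[([8],21)]),([5],[3,5],[([8,3,5],20)])],Op.inv 8,Op.rel 8 [] 9 [] [([],17)],Op.inv 8]) (by decide +kernel) (by decide +kernel)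
theorem der301 : Der 80 (finX 80) (cl (finG m2ok) [[2],[4],[0,2]]) (fun _ => Net.nil) := Der.zero (finModel m2ok).inj
noncomputable def ns302 : ℕ → Net := upd (fun _ => Net.nil) 0 (m2 2)
theorem der303 : Der 80 (finX 80) (cl (finG m2ok) [[2],[4],[0,2]]) ns302 := der301.add (wp_mem_cl (w := [2]) (by decide)) (rep_letter (finModel m2ok) 2) 0
noncomputable def ns304 : ℕ → Net := upd ns302 1 (m2 4)
theorem der305 : Der 80 (finX 80) (cl (finG m2ok) [[2],[4],[0,2]]) ns304 := der303.add (wp_mem_cl (w := [4]) (by decide)) (rep_letter (finModel m2ok) 4) 1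
noncomputable def x306 : Net := (Net.cons (nat_lit 40) (nat_lit 0x669c518c48)
  (Net.cons (nat_lit 20) (nat_lit 0xd2f7200000adeee)
  (Net.cons (nat_lit 10) (nat_lit 0x30400070000870001c)
  (Net.cons (nat_lit 5) (nat_lit 0x20100241f07c010200d)
  (Net.cons (nat_lit 1) (nat_lit 0xa0000000800100400)
  (Net.cons (nat_lit 1) (nat_lit 0x10140029021010a50940)
  (Net.cons (nat_lit 1) (nat_lit 0x204a5214a420084294a1)
  (Net.cons (nat_lit 1) (nat_lit 0x5294a109485084a5284a)
  (Net.cons (nat_lit 1) (nat_lit 0x9480094852942009404)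
  (Net.cons (nat_lit 5) (nat_lit 0x500000008058120100c)
  (Net.cons (nat_lit 10) (nat_lit 0x31800072000ce00264)
  (Net.cons (nat_lit 20) (nat_lit 0x16a80000070d8c)
  (Net.cons (nat_lit 40) (nat_lit 0x7feccf7abe)
  Net.nil)))))))))))))
noncomputable def ns307 : ℕ → Net := upd ns304 2 x306
theorem der308 : Der 80 (finX 80) (cl (finG m2ok) [[2],[4],[0,2]]) ns307 := der305.add (wp_mem_cl (w := [0,2]) (by decide)) ((finModel m2ok).toIsPre.rep_word (k := 7) (w := [0,2]) (n := x306) (by decide +kernel)) 2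
noncomputable def L309 : Lev := Lev.cons 0 3 [[1]] Lev.nil
noncomputable def L310 : Lev := Lev.cons 75 40 [[0],[2]] L309
theorem lc311 : Lev.chk 80 4 ns307 vT 100 L310 = true := by decide +kernel
theorem lb312 : 120 ≤ Nat.card (cl (finG m2ok) [[2],[4],[0,2]]) := le_of_eq_of_le (by decide +kernel) (der308.card_ge lc311)
theorem ix300 : Idx.{u} io C261 [0,1,2,3,4,5] [[2],[4],[0,2]] 1 := (Idx.of bd113 sat126 (by decide +kernel) lb312 (by decide +kernel)).of_imp imp263
noncomputable def lk313 : List (List ℕ × List ℕ × Pf) := [([2],[3],[([8],19)]),([4],[4,2],[([8],21)]),([0,2],[0,8,3,0,9,1],[([8,0,8],25)])]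
noncomputable def O314 : ℕ := (nat_lit 2048)
noncomputable def M315 : ℕ := (nat_lit 4095)
noncomputable def b316 : ℕ := (nat_lit 2047)
theorem cl317 : Clo.{u} io C261 [0,1,2,3,4,5] 12 m260 M315 (mkB [(8,b316),(9,b298)]) := cl299.new (k := 1) (b := 8) (q := 10) (p := 11) (r := 200) (n := 1) (O := O314) (by decide +kernel) (lks := lk313) (by decide +kernel) (gens_of_lall2 (m := [[0],[1],[2]]) (by decide +kernel)) ix300 (by decide +kernel)
noncomputable def b318 : ℕ := (nat_lit 4095)
noncomputable def b319 : ℕ := (nat_lit 4095)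
theorem cl320 : Clo.{u} io C261 [0,1,2,3,4,5] 12 m260 M315 (mkB [(8,b318),(9,b319)]) := cl317.ops (os := [Op.inv 8,Op.rel 8 [] 9 [] [([],17)],Op.inv 8]) (by decide +kernel) (by decide +kernel)
theorem sat322 : Sat io C261 (finG m260ok) := m260s0.fin (k := 4) (by decide +kernel)
theorem bd321 : Bound.{u} io C261 [0,1,2,3,4,5,8,9] 1440 := cl320.bound (by decide +kernel) sat322 (bd113.of_imp imp263)
noncomputable def r19 : List ℕ := [7,0,0,8,3,0,6,1,2,9,1,1]
noncomputable def r20 : List ℕ := [7,0,0,9,3,0,6,1,2,9,1,1]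
noncomputable def r21 : List ℕ := [6,1,1,7,8,6,9,0,0]
noncomputable def m323n0 : Net := (Net.cons (nat_lit 128) (nat_lit 0x3aed3de49c1ad860e048106a9c412402)
  (Net.cons (nat_lit 64) (nat_lit 0x95e5bdff6f35acf70000000000000000904f2d25bfc6486e)
  (Net.cons (nat_lit 32) (nat_lit 0x4368fde100000000961d3d4500000000aa59d017000000005d888ed4)
  (Net.cons (nat_lit 16) (nat_lit 0xe3600000aec0000e022000033730000133700008b0b0000653e0000171c)
  (Net.cons (nat_lit 8) (nat_lit 0xa200760041007e00f00090005200a50065005800f600e4000c001d00b10074)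
  (Net.cons (nat_lit 4) (nat_lit 0x506040802040e01060d08000709000203010f05000009010304060705060802)
  (Net.cons (nat_lit 2) (nat_lit 0x2310203111101213001302000133002331112003211110233130211220132200)
  (Net.cons (nat_lit 1) (nat_lit 0x1441005441411454404454410410455551015400514114144151104541411400)
  (Net.cons (nat_lit 2) (nat_lit 0x2220000200222200200000200000200000000200000200202200000002220000)
  (Net.cons (nat_lit 4) (nat_lit 0xa0000040a04040208040202040200080c020a08020c0c06020e0400080a0800)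
  (Net.cons (nat_lit 8) (nat_lit 0x4400fe00780098009800bc0042008e002000d4002800c400940024005a0030)
  (Net.cons (nat_lit 16) (nat_lit 0xf61600000d800000e04a0000000c0000ba3000000a5a000050040000595c)
  (Net.cons (nat_lit 32) (nat_lit 0x6a2952440000000086086c64000000003e5003a400000000de993e02)
  (Net.cons (nat_lit 64) (nat_lit 0x85e9444e652e61d00000000000000000944c0d1b0fa3b21a)
  (Net.cons (nat_lit 128) (nat_lit 0x3aed3228a6391d2d0d7f390ca2c04090)
  Net.nil)))))))))))))))
noncomputable def m323n1 : Net := (Net.cons (nat_lit 128) (nat_lit 0x12ed3228a638193b0d7f3904a2c040b0)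
  (Net.cons (nat_lit 64) (nat_lit 0xe906869fba53c53400000000000000006a98c941bf38823e)
  (Net.cons (nat_lit 32) (nat_lit 0x663da4ec00000000fdcad379000000001793d87d00000000e691c612)
  (Net.cons (nat_lit 16) (nat_lit 0xf06e0000bfe50000489d000032ba0000e7b40000b5cf0000778800002352)
  (Net.cons (nat_lit 8) (nat_lit 0x1400c0008500a5004600a40048004a00b60029002e005b009200dc00b200a0)
  (Net.cons (nat_lit 4) (nat_lit 0xb0c0606040809030607040c06040808010b000d0b030d000e0e0d040009040c)
  (Net.cons (nat_lit 2) (nat_lit 0x3301022113023010103222222210301103032121031121023310311311323010)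
  (Net.cons (nat_lit 1) (nat_lit 0x1511145451411411044405414011101140151110441410455105455404504050)
  (Net.cons (nat_lit 2) (nat_lit 0x2000200202202020000000202020200220002000202000200200200002002000)
  (Net.cons (nat_lit 4) (nat_lit 0xc08020600080c080808000404080608000e0800020a0c0c080400080006)
  (Net.cons (nat_lit 8) (nat_lit 0xa8003c00a0001c004600e00048008600a600f0007c0092002a0048008400ec)
  (Net.cons (nat_lit 16) (nat_lit 0xa2a200008c2c00003b1e000034a6000091a400007ec80000169e00009b5c)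
  (Net.cons (nat_lit 32) (nat_lit 0xd7b055c400000000ed7b42fe00000000528aad2000000000d7868e92)
  (Net.cons (nat_lit 64) (nat_lit 0xf98bf608f29e802200000000000000004a89657db107fb9e)
  (Net.cons (nat_lit 128) (nat_lit 0x12ed7d649c1a5860e04800689c502402)
  Net.nil)))))))))))))))
noncomputable def m323n2 : Net := (Net.cons (nat_lit 128) (nat_lit 0x11cf7034c06f654cfa013139a2eda42c)
  (Net.cons (nat_lit 64) (nat_lit 0x9dc077217c552e000000000000000000663983841e8bf79a)
  (Net.cons (nat_lit 32) (nat_lit 0x81094f24000000000b146014000000009ff831a700000000cfc76584)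
  (Net.cons (nat_lit 16) (nat_lit 0xf3230000303b000023b200009d47000019d30000cb3b0000555e0000225a)
  (Net.cons (nat_lit 8) (nat_lit 0xf500470049005b00960035002d005f001b007d00eb00f8009e00a100b700c8)
  (Net.cons (nat_lit 4) (nat_lit 0x505040a04000107050d0f0408060c0003030900020e0603090a0d0406080c)
  (Net.cons (nat_lit 2) (nat_lit 0x2023031020212300220330100113121212000230030312012030020322002102)
  (Net.cons (nat_lit 1) (nat_lit 0x4504044041515041141551014401400154014110011100151154110441411144)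
  (Net.cons (nat_lit 2) (nat_lit 0x2000020000020022220000020202000000020000000200200002200002200200)
  (Net.cons (nat_lit 4) (nat_lit 0x40c040c04000e0008060c000208060a0e000a0c000c0c000808080e04000004)
  (Net.cons (nat_lit 8) (nat_lit 0x9a004200b40064009c00a20054008800f0001400c80008001200a200ea0084)
  (Net.cons (nat_lit 16) (nat_lit 0xebaa0000a70c0000421000004a7000001b6a00008f060000a50800005fce)
  (Net.cons (nat_lit 32) (nat_lit 0x8047dae4000000001881402c00000000f9c0b2e800000000ec05b8e2)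
  (Net.cons (nat_lit 64) (nat_lit 0x9c08dd9ac1e94158000000000000000042284bb1d13191ea)
  (Net.cons (nat_lit 128) (nat_lit 0x11ce8907c91bfcc9a12b8d9e00846fa2)
  Net.nil)))))))))))))))
noncomputable def m323n3 : Net := (Net.cons (nat_lit 128) (nat_lit 0x11ce8907c91bfcc9a12b8d9e00846fa2)
  (Net.cons (nat_lit 64) (nat_lit 0x9c08dd9ac1e94158000000000000000050a81bb3e313a99a)
  (Net.cons (nat_lit 32) (nat_lit 0x8047dae400000000c77cb6d3000000006e79ad07000000005377344e)
  (Net.cons (nat_lit 16) (nat_lit 0x1455000058f10000968800006b5a00000a5d0000d4d100004d9c00000afe)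
  (Net.cons (nat_lit 8) (nat_lit 0x9d0065009b004b007000a9006300aa0046000d00f80089001300800071008c)
  (Net.cons (nat_lit 4) (nat_lit 0xc030104090e08040b010802060e050f0e0f020300050f080f0001040102000e)
  (Net.cons (nat_lit 2) (nat_lit 0x3010322022131100112111020330222122322021230221202212000120221102)
  (Net.cons (nat_lit 1) (nat_lit 0x1010104550505441011104411450411110400114444154104451144111011414)
  (Net.cons (nat_lit 2) (nat_lit 0x2000002000000220022200000000220020200222200000002000000000022022)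
  (Net.cons (nat_lit 4) (nat_lit 0x40202000200000a08020804040004000a0c000c020c0008080e020408080406)
  (Net.cons (nat_lit 8) (nat_lit 0x98000a00a400b6002000d200780036002600b6009a002800280090001a0000)
  (Net.cons (nat_lit 16) (nat_lit 0xcdc0000c7c400002212000030a00000e0440000e668000092d80000a8a0)
  (Net.cons (nat_lit 32) (nat_lit 0x81094f2400000000f6ea9fe8000000006a404b3800000000d9706b7a)
  (Net.cons (nat_lit 64) (nat_lit 0x9dc077217c552e00000000000000000076b9090454917288)
  (Net.cons (nat_lit 128) (nat_lit 0x11cf7034c06f654cfa013139a2eda42c)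
  Net.nil)))))))))))))))
noncomputable def m323n4 : Net := (Net.cons (nat_lit 128) (nat_lit 0xc0a64585ccc3c0f0cab1cf6a39a42fc4)
  (Net.cons (nat_lit 64) (nat_lit 0xcb0ff73c90b5b2900000000000000002cb542a7e1f27910)
  (Net.cons (nat_lit 32) (nat_lit 0x84155e8d0000000021b061d000000000960d9caf000000006f867284)
  (Net.cons (nat_lit 16) (nat_lit 0xb6f800001b8a0000469a0000246000002f3c0000881600008fce00001a94)
  (Net.cons (nat_lit 8) (nat_lit 0x5200d0009200c900b90084004f009700c00074004e003700ac00be008d00d0)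
  (Net.cons (nat_lit 4) (nat_lit 0xa090508000702000004060f060c010a05020509000408030a0b060505090500)
  (Net.cons (nat_lit 2) (nat_lit 0x3001102011200123202110033200221022023021313101022231300110302000)
  (Net.cons (nat_lit 1) (nat_lit 0x4040404515505014150040115041104114051011404441044114540541114050)
  (Net.cons (nat_lit 2) (nat_lit 0x2000002000000000200020000000200222000022000000020200000002202000)
  (Net.cons (nat_lit 4) (nat_lit 0x400040a00060e0a0800000c0c0200060c02000200000c000e08020404080408)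
  (Net.cons (nat_lit 8) (nat_lit 0x1000500002009000fc007400e40006005000c40018007800e200d6009000d0)
  (Net.cons (nat_lit 16) (nat_lit 0xfa580000ae0e0000e6580000626800008e100000ae100000f15400001a84)
  (Net.cons (nat_lit 32) (nat_lit 0x851c1a0000000020f17b4800000000b36da4200000000067d53320)
  (Net.cons (nat_lit 64) (nat_lit 0xc179d61348bdd3000000000000000003cf44c37e1bb04fc)
  (Net.cons (nat_lit 128) (nat_lit 0xc0a68014fcda106fca56dc7bcc662f24)
  Net.nil)))))))))))))))
noncomputable def m323n5 : Net := (Net.cons (nat_lit 128) (nat_lit 0xc0a68014fcda106fca56dc7bcc662f24)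
  (Net.cons (nat_lit 64) (nat_lit 0xcfb2ae9910d539ad000000000000000034f74c37e9bb04fc)
  (Net.cons (nat_lit 32) (nat_lit 0xf744671f0000000062f84ea90000000044935bdf000000006f464fdc)
  (Net.cons (nat_lit 16) (nat_lit 0x67ba000053f4000017720000f6150000ad1800008e100000ff9b00005a90)
  (Net.cons (nat_lit 8) (nat_lit 0xb003300fb0090007b00500081004c000b000f005000fc003f0070004400b0)
  (Net.cons (nat_lit 4) (nat_lit 0xe000202020d0a080f09000c080604020000070c050e050d030f040b0405090c)
  (Net.cons (nat_lit 2) (nat_lit 0x2211120023021002220100012110100131322001030021322033101001310220)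
  (Net.cons (nat_lit 1) (nat_lit 0x5111011111400505450510005410404114154040054104415455101004140150)
  (Net.cons (nat_lit 2) (nat_lit 0x20002020000000000020000000002200002000002000220000002002200200)
  (Net.cons (nat_lit 4) (nat_lit 0x8000e0000000400000800000a02040c040004080c0c000e0600060a04040800)
  (Net.cons (nat_lit 8) (nat_lit 0x1c003000a6001400ec0050000600080008004800c000f8003c004c000c0090)
  (Net.cons (nat_lit 16) (nat_lit 0x5c38000055f00000f5680000a2f00000c81800002f3c0000fd8000004e90)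
  (Net.cons (nat_lit 32) (nat_lit 0x77c2cb1e00000000227ea2e80000000069f26358000000007b078fd0)
  (Net.cons (nat_lit 64) (nat_lit 0x8f14cc8e8bd1eb94000000000000000024b742afa1f27910)
  (Net.cons (nat_lit 128) (nat_lit 0xc0a64585ccc3c0f0cab1cf6a39a42fc4)
  Net.nil)))))))))))))))
noncomputable def m323n6 : Net := (Net.cons (nat_lit 128) (nat_lit 0x2a2b72f3158bf46294e327e23deac5e0)
  (Net.cons (nat_lit 64) (nat_lit 0xab5a16c437ef2e8400000000000000008a0110156899f910)
  (Net.cons (nat_lit 32) (nat_lit 0xcefa1a0900000000ff6c8182000000007c6345bc000000001a682b79)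
  (Net.cons (nat_lit 16) (nat_lit 0x27a50000ac090000ff020000a65e0000c7a800008b6a0000f20c0000ded1)
  (Net.cons (nat_lit 8) (nat_lit 0x74007900d90077000c00aa005f00dc00a60060005d0042002500400021)
  (Net.cons (nat_lit 4) (nat_lit 0x608000f020908080a000b0f020d090000010505030d08090204000d05010b01)
  (Net.cons (nat_lit 2) (nat_lit 0x331011313221011020113132011203211200030000330012113310300201021)
  (Net.cons (nat_lit 1) (nat_lit 0x151014544040115051440544441114114155441540011004410511554450405)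
  (Net.cons (nat_lit 2) (nat_lit 0x20020220002220022002002202200200020020002020002000000200)
  (Net.cons (nat_lit 4) (nat_lit 0x40002060c0808040c0a040204040808040e020008040e040000080200000e08)
  (Net.cons (nat_lit 8) (nat_lit 0x6000f0004a006000fa00e00014004800300052002a00d600a4005400220050)
  (Net.cons (nat_lit 16) (nat_lit 0x7a200002c580000bbe20000d86a0000e69c0000cfa000006d000000ee40)
  (Net.cons (nat_lit 32) (nat_lit 0x6ffb074c00000000b16e050c000000007e33d108000000000b673aac)
  (Net.cons (nat_lit 64) (nat_lit 0x89544fd2190fd77200000000000000005a42592bf69ce5d8)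
  (Net.cons (nat_lit 128) (nat_lit 0x2a2dffa3aa1573310302bf29486900b0)
  Net.nil)))))))))))))))
noncomputable def m323n7 : Net := (Net.cons (nat_lit 128) (nat_lit 0x3b3be3ad8a3173210702ae2a48490370)
  (Net.cons (nat_lit 64) (nat_lit 0x16a7c4246250991f0000000000000000d2d2f19408e062e2)
  (Net.cons (nat_lit 32) (nat_lit 0xa017f8bf00000000ec36519000000000425353c500000000d7051270)
  (Net.cons (nat_lit 16) (nat_lit 0xaf2700007de5000093ba0000d07a000071de0000409100000cdf0000292a)
  (Net.cons (nat_lit 8) (nat_lit 0xbb00ff000e000100d600c50008006200880022003600680027007f007000b9)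
  (Net.cons (nat_lit 4) (nat_lit 0x60c0508010b0a0b090b020c090c0d060d0408010b0008020e02060c00060a01)
  (Net.cons (nat_lit 2) (nat_lit 0x2212021320101333310320332002212023102012212120313113210312020223)
  (Net.cons (nat_lit 1) (nat_lit 0x4151541140441004414141415001005101411004515455414154015141415540)
  (Net.cons (nat_lit 2) (nat_lit 0x200022020000002002220020000000002000002020000220002020022000020)
  (Net.cons (nat_lit 4) (nat_lit 0x60c0a080000000c040004080a080c0c0204020406080004060c0c0804080000)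
  (Net.cons (nat_lit 8) (nat_lit 0x400a0000000b0001a00a400a00040008800e4002800d00046003c00740056)
  (Net.cons (nat_lit 16) (nat_lit 0xad240000595a0000a2fc00009054000061dc0000c0a00000b4d600006404)
  (Net.cons (nat_lit 32) (nat_lit 0xaf23ffcc00000000544ccfd40000000044822aa800000000938c0610)
  (Net.cons (nat_lit 64) (nat_lit 0x3db1397ac191103e00000000000000001255abfa1864d5c4)
  (Net.cons (nat_lit 128) (nat_lit 0x3b3f62bb5cc3f46296e614a439aa85e0)
  Net.nil)))))))))))))))
noncomputable def m323n8 : Net := (Net.cons (nat_lit 128) (nat_lit 0x5267b004c23c459f6060000210486000)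
  (Net.cons (nat_lit 64) (nat_lit 0x16a95ec3591cec0a0000000000000000647913a319820a14)
  (Net.cons (nat_lit 32) (nat_lit 0x6f09cafc000000009b35448800000000157badb500000000d908e050)
  (Net.cons (nat_lit 16) (nat_lit 0xf29900006c120000fc5800001da10000e130000025f00000988e0000bada)
  (Net.cons (nat_lit 8) (nat_lit 0x1d006300f4006700800024007c007a0004008e0084003400e6000e00a00094)
  (Net.cons (nat_lit 4) (nat_lit 0x101060409040900000d00050e090b080101000c09020e0b08050a04020502)
  (Net.cons (nat_lit 2) (nat_lit 0x122200102333311030311103012131312213223003101210230003330303102)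
  (Net.cons (nat_lit 1) (nat_lit 0x1440440110140401145000010111045111514140001450041100154140151410)
  (Net.cons (nat_lit 2) (nat_lit 0x2220200200020200020000000002020202000000000000000200202200000000)
  (Net.cons (nat_lit 4) (nat_lit 0xe000002000e000000000000040e040608020a040004020e0a0804000602080a)
  (Net.cons (nat_lit 8) (nat_lit 0x1c00600044003000800004002200080014008a0084001400e200ae003200b8)
  (Net.cons (nat_lit 16) (nat_lit 0x831400006c120000fc580000182000009150000025f00000890c0000bafa)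
  (Net.cons (nat_lit 32) (nat_lit 0x6f01eaec00000000983540880000000095bbadd4000000005108e620)
  (Net.cons (nat_lit 64) (nat_lit 0x16a91ec3591cec08000000000000000064f903a21da22e00)
  (Net.cons (nat_lit 128) (nat_lit 0x5267b004c23c459f6060000210486000)
  Net.nil)))))))))))))))
noncomputable def m323n9 : Net := (Net.cons (nat_lit 128) (nat_lit 0x5267b004c23c459f6060000210486000)
  (Net.cons (nat_lit 64) (nat_lit 0x16a95ec3591cec0a0000000000000000647913a319820a14)
  (Net.cons (nat_lit 32) (nat_lit 0x6f09cafc000000009b35448800000000157badb500000000d908e050)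
  (Net.cons (nat_lit 16) (nat_lit 0xf29900006c120000fc5800001da10000e130000025f00000988e0000bada)
  (Net.cons (nat_lit 8) (nat_lit 0x1d006300f4006700800024007c007a0004008e0084003400e6000e00a00094)
  (Net.cons (nat_lit 4) (nat_lit 0x101060409040900000d00050e090b080101000c09020e0b08050a04020502)
  (Net.cons (nat_lit 2) (nat_lit 0x122200102333311030311103012131312213223003101210230003330303102)
  (Net.cons (nat_lit 1) (nat_lit 0x1440440110140401145000010111045111514140001450041100154140151410)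
  (Net.cons (nat_lit 2) (nat_lit 0x2220200200020200020000000002020202000000000000000200202200000000)
  (Net.cons (nat_lit 4) (nat_lit 0xe000002000e000000000000040e040608020a040004020e0a0804000602080a)
  (Net.cons (nat_lit 8) (nat_lit 0x1c00600044003000800004002200080014008a0084001400e200ae003200b8)
  (Net.cons (nat_lit 16) (nat_lit 0x831400006c120000fc580000182000009150000025f00000890c0000bafa)
  (Net.cons (nat_lit 32) (nat_lit 0x6f01eaec00000000983540880000000095bbadd4000000005108e620)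
  (Net.cons (nat_lit 64) (nat_lit 0x16a91ec3591cec08000000000000000064f903a21da22e00)
  (Net.cons (nat_lit 128) (nat_lit 0x5267b004c23c459f6060000210486000)
  Net.nil)))))))))))))))
noncomputable def m323l : List Net := [m323n0,m323n1,m323n2,m323n3,m323n4,m323n5,m323n6,m323n7,m323n8,m323n9]
noncomputable abbrev m323 : ℕ → Net := lk Net.nil m323l
theorem m323ok : NetsOk 243 m323 vT := netsOk_of (by decide +kernel)
theorem m323s0 : Sat io [] (finG m323ok) := fin_sat_nil _ (k := 8) (n := 12) (by decide +kernel)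
noncomputable def C324 : List (List ℕ) := [r0,r1,r2,r3,r4,r5,r6,r7,r8,r9,r10,r11,r12,r13,r14,r15,r16,r17,r18,r19,r20,r21]
theorem cl325 : Clo.{u} io C324 [0,1,2,3,4,5,8,9] 243 m323 1 (mkB []) := Clo.start (by decide +kernel)
theorem imp326 : Imp.{u} io C324 C261 := Imp.of_chk (pfs := [[([],1)],[([],3)],[([],5)],[([],7)],[([],9)],[([],11)],[([],13)],[([],15)],[([],29)],[([],31)],[([],33)],[([],35)],[([],37)]]) (by decide +kernel)
theorem der328 : Der 80 (finX 80) (cl (finG m2ok) [[4],[0,0,8,3,0]]) (fun _ => Net.nil) := Der.zero (finModel m2ok).inj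
noncomputable def ns329 : ℕ → Net := upd (fun _ => Net.nil) 0 (m2 4)
theorem der330 : Der 80 (finX 80) (cl (finG m2ok) [[4],[0,0,8,3,0]]) ns329 := der328.add (wp_mem_cl (w := [4]) (by decide)) (rep_letter (finModel m2ok) 4) 0
noncomputable def x331 : Net := (Net.cons (nat_lit 40) (nat_lit 0xd66fabe71d)
  (Net.cons (nat_lit 20) (nat_lit 0xdff540000012a82)
  (Net.cons (nat_lit 10) (nat_lit 0x17f003d3001850027e)
  (Net.cons (nat_lit 5) (nat_lit 0x400e048110101a03418)
  (Net.cons (nat_lit 1) (nat_lit 0x4040000100000)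
  (Net.cons (nat_lit 1) (nat_lit 0x20080080a1204200008)
  (Net.cons (nat_lit 1) (nat_lit 0x2100501025294a501404)
  (Net.cons (nat_lit 1) (nat_lit 0x10902520425294a02802)
  (Net.cons (nat_lit 1) (nat_lit 0x1025090810908000420)
  (Net.cons (nat_lit 5) (nat_lit 0x400207000008000301a)
  (Net.cons (nat_lit 10) (nat_lit 0x3a001b4002a800344)
  (Net.cons (nat_lit 20) (nat_lit 0xbefd00000023682)
  (Net.cons (nat_lit 40) (nat_lit 0x5655adce18)
  Net.nil)))))))))))))
noncomputable def ns332 : ℕ → Net := upd ns329 1 x331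
theorem der333 : Der 80 (finX 80) (cl (finG m2ok) [[4],[0,0,8,3,0]]) ns332 := der330.add (wp_mem_cl (w := [0,0,8,3,0]) (by decide)) ((finModel m2ok).toIsPre.rep_word (k := 7) (w := [0,0,8,3,0]) (n := x331) (by decide +kernel)) 1
noncomputable def L334 : Lev := Lev.cons 0 18 [[0],[1]] Lev.nil
theorem lc335 : Lev.chk 80 4 ns332 vT 100 L334 = true := by decide +kernel
theorem lb336 : 18 ≤ Nat.card (cl (finG m2ok) [[4],[0,0,8,3,0]]) := le_of_eq_of_le (by decide +kernel) (der333.card_ge lc335)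
theorem sat337 : Sat io C261 (finG m2ok) := m2s0.fin (k := 7) (by decide +kernel)
theorem ix327 : Idx.{u} io C324 [0,1,2,3,4,5,8,9] [[4],[0,0,8,3,0]] 80 := (Idx.of bd321 sat337 (by decide +kernel) lb336 (by decide +kernel)).of_imp imp326
noncomputable def lk338 : List (List ℕ × List ℕ × Pf) := [([4],[4],[([6],21)]),([0,0,8,3,0],[0,0,8,3,0],[([6],39)])]
noncomputable def O339 : ℕ := (nat_lit 0x30000000000064800399c06006004ff200649ff3cff39cfcfffe)
noncomputable def M340 : ℕ := (nat_lit 0x30000000000064800399c06006004ff200649ff3cff39cfcffff)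
noncomputable def b341 : ℕ := (nat_lit 1)
theorem cl342 : Clo.{u} io C324 [0,1,2,3,4,5,8,9] 243 m323 M340 (mkB [(6,b341)]) := cl325.new (k := 5) (b := 6) (q := 0) (p := 1) (r := 200) (n := 80) (O := O339) (by decide +kernel) (lks := lk338) (by decide +kernel) (gens_of_lall2 (m := [[0],[1]]) (by decide +kernel)) ix327 (by decide +kernel)

end Cfsg.Agent.H6.Le.S3
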