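import Cfsg.Agent.H6.LeS3x1
set_option maxRecDepth 100000
set_option Elab.async false
namespace Cfsg.Agent.H6.Le.S3
open Cfsg.Agent.H6
universe u

noncomputable def b343 : ℕ := (nat_lit 0x80400200037000040980839080380c87)
noncomputable def b344 : ℕ := (nat_lit 0x80400200037000040980839080380c87)
theorem cl345 : Clo.{u} io C324 [0,1,2,3,4,5,8,9] 243 m323 M340 (mkB [(6,b343),(7,b344)]) := cl342.ops (os := [Op.inv 6,Op.rel 6 [2,2] 7 [3,3] [([7],19)],Op.inv 6,Op.rel 6 [] 7 [7] [([],17)],Op.inv 6,Op.rel 6 [9,0,0] 7 [9,6,0,0] [([7,9,6,0,0,7],43)],Op.ext 6 3 [([4],[4],[([6],21)]),([5],[5],[([6,5],20)]),([0,0,8,3,0],[0,0,8,3,0],[([6],39)]),([1,2,9,1,1],[1,2,9,1,1],[([6,1,2,9,1,1],38)])],Op.inv 6,Op.rel 7 [0,3] 6 [1,7,0,0,7,3] [([6,1,7,0,0,7,3,6],25)],Op.ext 7 2 [([5],[5],[([7,5,6],21)]),([4],[4],[([],20)]),([1,2,9,1,1],[1,2,9,1,1],[([7,1,2,9,1,1,6],39)]),([0,0,8,3,0],[0,0,8,3,0],[([],38)]),([1,2,9,1,1],[1,2,8,1,1],[([7,1,2,8,1,1,6],41)]),([0,0,8,3,0],[0,0,9,3,0],[([],40)])],Op.inv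 7,Op.rel 6 [2,2] 7 [3,3] [([7],19)],Op.inv 6,Op.rel 6 [] 7 [7] [([],17)],Op.inv 6]) (by decide +kernel) (by decide +kernel)
theorem der347 : Der 80 (finX 80) (cl (finG m2ok) [[0,0,8,3,0,8,5],[5,2,4,4,0,0,8,3,0,3,4],[5,2,4,1,5]]) (fun _ => Net.nil) := Der.zero (finModel m2ok).inj
noncomputable def x348 : Net := (Net.cons (nat_lit 40) (nat_lit 0x30c46e0c26)
  (Net.cons (nat_lit 20) (nat_lit 0xad3d00000064586)
  (Net.cons (nat_lit 10) (nat_lit 0x30f0015a0036400086)
  (Net.cons (nat_lit 5) (nat_lit 0x281704c020481407812)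
  (Net.cons (nat_lit 1) (nat_lit 0x1000000050040400000)
  (Net.cons (nat_lit 1) (nat_lit 0x1280a1280a5080a00140)
  (Net.cons (nat_lit 1) (nat_lit 0x214252908529005200a5)
  (Net.cons (nat_lit 1) (nat_lit 0x409421284a1294212142)
  (Net.cons (nat_lit 1) (nat_lit 0x29021284840140501404)
  (Net.cons (nat_lit 5) (nat_lit 0x300a068000480805012)
  (Net.cons (nat_lit 10) (nat_lit 0x6002c20030800004)
  (Net.cons (nat_lit 20) (nat_lit 0xac2120000066990)
  (Net.cons (nat_lit 40) (nat_lit 0x50a92621a4)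
  Net.nil)))))))))))))
noncomputable def ns349 : ℕ → Net := upd (fun _ => Net.nil) 0 x348
theorem der350 : Der 80 (finX 80) (cl (finG m2ok) [[0,0,8,3,0,8,5],[5,2,4,4,0,0,8,3,0,3,4],[5,2,4,1,5]]) ns349 := der347.add (wp_mem_cl (w := [0,0,8,3,0,8,5]) (by decide)) ((finModel m2ok).toIsPre.rep_word (k := 7) (w := [0,0,8,3,0,8,5]) (n := x348) (by decide +kernel)) 0
noncomputable def x351 : Net := (Net.cons (nat_lit 40) (nat_lit 0x836841a5c0)
  (Net.cons (nat_lit 20) (nat_lit 0x6efb4000005922c)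
  (Net.cons (nat_lit 10) (nat_lit 0x28500264003ed00226)
  (Net.cons (nat_lit 5) (nat_lit 0x281e0081e0440202c1f)
  (Net.cons (nat_lit 1) (nat_lit 0x1004000042000005)
  (Net.cons (nat_lit 1) (nat_lit 0x280202902509400014a)
  (Net.cons (nat_lit 1) (nat_lit 0x214242108429085200a5)
  (Net.cons (nat_lit 1) (nat_lit 0x1094a42848129424214a)
  (Net.cons (nat_lit 1) (nat_lit 0x2142121400284a5284a0)
  (Net.cons (nat_lit 5) (nat_lit 0x2804000000200002000)
  (Net.cons (nat_lit 10) (nat_lit 0x31400244003e000226)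
  (Net.cons (nat_lit 20) (nat_lit 0x6abb4000005922c)
  (Net.cons (nat_lit 40) (nat_lit 0x836841a5c0)
  Net.nil)))))))))))))
noncomputable def ns352 : ℕ → Net := upd ns349 1 x351
theorem der353 : Der 80 (finX 80) (cl (finG m2ok) [[0,0,8,3,0,8,5],[5,2,4,4,0,0,8,3,0,3,4],[5,2,4,1,5]]) ns352 := der350.add (wp_mem_cl (w := [5,2,4,4,0,0,8,3,0,3,4]) (by decide)) ((finModel m2ok).toIsPre.rep_word (k := 7) (w := [5,2,4,4,0,0,8,3,0,3,4]) (n := x351) (by decide +kernel)) 1
noncomputable def x354 : Net := (Net.cons (nat_lit 40) (nat_lit 0xb6c59649a3)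
  (Net.cons (nat_lit 20) (nat_lit 0x7454a0000068ffa)
  (Net.cons (nat_lit 10) (nat_lit 0x3c0003340013100061)
  (Net.cons (nat_lit 5) (nat_lit 0x2414010160240c03c1b)
  (Net.cons (nat_lit 1) (nat_lit 0x10000020001)
  (Net.cons (nat_lit 1) (nat_lit 0x421421200a400005010a)
  (Net.cons (nat_lit 1) (nat_lit 0x294a5210a52000528084)
  (Net.cons (nat_lit 1) (nat_lit 0x1284a4284a1280a5084a)
  (Net.cons (nat_lit 1) (nat_lit 0x4840048520484294a0)
  (Net.cons (nat_lit 5) (nat_lit 0x400001014030040500a)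
  (Net.cons (nat_lit 10) (nat_lit 0x3f0001ba001240005a)
  (Net.cons (nat_lit 20) (nat_lit 0x953940000008718)
  (Net.cons (nat_lit 40) (nat_lit 0xb6e9b26832)
  Net.nil)))))))))))))
noncomputable def ns355 : ℕ → Net := upd ns352 2 x354
theorem der356 : Der 80 (finX 80) (cl (finG m2ok) [[0,0,8,3,0,8,5],[5,2,4,4,0,0,8,3,0,3,4],[5,2,4,1,5]]) ns355 := der353.add (wp_mem_cl (w := [5,2,4,1,5]) (by decide)) ((finModel m2ok).toIsPre.rep_word (k := 7) (w := [5,2,4,1,5]) (n := x354) (by decide +kernel)) 2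
noncomputable def L357 : Lev := Lev.cons 0 18 [[0],[1],[2]] Lev.nil
theorem lc358 : Lev.chk 80 4 ns355 vT 100 L357 = true := by decide +kernel
theorem lb359 : 18 ≤ Nat.card (cl (finG m2ok) [[0,0,8,3,0,8,5],[5,2,4,4,0,0,8,3,0,3,4],[5,2,4,1,5]]) := le_of_eq_of_le (by decide +kernel) (der356.card_ge lc358)
theorem ix346 : Idx.{u} io C324 [0,1,2,3,4,5,8,9] [[0,0,8,3,0,8,5],[5,2,4,4,0,0,8,3,0,3,4],[5,2,4,1,5]] 80 := (Idx.of bd321 sat337 (by decide +kernel) lb359 (by decide +kernel)).of_imp imp326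
noncomputable def lk360 : List (List ℕ × List ℕ × Pf) := [([0,0,8,3,0],[0,0,8,3,0],[([6],39)]),([8],[0,0,7,1,1,8],[([6,0,0,7],43)]),([5],[5],[([6,5],20)]),([2,4],[3,6,4,2,7,2],[([6,3,6],23)]),([4],[4],[([6],21)]),([5,3],[3,6,3,5,7,2],[([6,3,6,3,5],22)]),([1],[2,1,7,3,7,1,1],[([6],27)])]
noncomputable def O361 : ℕ := (nat_lit 0x16ec4a1218e8fe1f3f03b122ac422071151e120081e8a2004200442010000)
noncomputable def M362 : ℕ := (nat_lit 0x16ec4a121be8fe1f3f03b76aac7bbc77157e16ffa1eeebff7eff7defdffff)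
noncomputable def b363 : ℕ := (nat_lit 0x80400200037000040980839080380c8f)
theorem cl364 : Clo.{u} io C324 [0,1,2,3,4,5,8,9] 243 m323 M362 (mkB [(6,b363),(7,b344)]) := cl345.new (k := 5) (b := 6) (q := 3) (p := 16) (r := 200) (n := 80) (O := O361) (by decide +kernel) (lks := lk360) (by decide +kernel) (gens_of_lall2 (m := [[0,1,2],[2,3,4,0,4,5,4],[2,3,6,2]]) (by decide +kernel)) ix346 (by decide +kernel)
noncomputable def b365 : ℕ := (nat_lit 0x146c4a100a60fe113f02972004419847153216f781c461d93e3f3c238decf)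
noncomputable def b366 : ℕ := (nat_lit 0x6c8481211c8ee0e3d03a04aa83a2c75006c003f21aacabe48f949cfd2db7)
theorem cl367 : Clo.{u} io C324 [0,1,2,3,4,5,8,9] 243 m323 M362 (mkB [(6,b365),(7,b366)]) := cl364.ops (os := [Op.ext 6 3 [([4],[4],[([6],21)]),([5],[5],[([6,5],20)]),([0,0,8,3,0],[0,0,8,3,0],[([6],39)]),([1,2,9,1,1],[1,2,9,1,1],[([6,1,2,9,1,1],38)])],Op.inv 6,Op.rel 6 [2,2] 7 [3,3] [([7],19)],Op.inv 6,Op.rel 6 [9,0,0] 7 [9,6,0,0] [([7,9,6,0,0,7],43)],Op.ext 6 3 [([4],[4],[([6],21)]),([5],[5],[([6,5],20)]),([0,0,8,3,0],[0,0,8,3,0],[([6],39)]),([1,2,9,1,1],[1,2,9,1,1],[([6,1,2,9,1,1],38)])],Op.inv 6,Op.rel 6 [9,0,0] 7 [9,6,0,0] [([7,9,6,0,0,7],43)],Op.ext 6 2 [([4],[4],[([6],21)]),([5],[5],[([6,5],20)]),([0,0,8,3,0],[0,0,8,3,0],[([6],39)]),([1,2,9,1,1],[1,2,9,1,1],[([6,1,2,9,1,1],38)])],Op.inv 6]) (by decide +kernel) (by decide +kernel)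
theorem der369 : Der 80 (finX 80) (cl (finG m2ok) [[4],[8],[1]]) (fun _ => Net.nil) := Der.zero (finModel m2ok).inj
noncomputable def ns370 : ℕ → Net := upd (fun _ => Net.nil) 0 (m2 4)
theorem der371 : Der 80 (finX 80) (cl (finG m2ok) [[4],[8],[1]]) ns370 := der369.add (wp_mem_cl (w := [4]) (by decide)) (rep_letter (finModel m2ok) 4) 0
noncomputable def ns372 : ℕ → Net := upd ns370 1 (m2 8)
theorem der373 : Der 80 (finX 80) (cl (finG m2ok) [[4],[8],[1]]) ns372 := der371.add (wp_mem_cl (w := [8]) (by decide)) (rep_letter (finModel m2ok) 8) 1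
noncomputable def ns374 : ℕ → Net := upd ns372 2 (m2 1)
theorem der375 : Der 80 (finX 80) (cl (finG m2ok) [[4],[8],[1]]) ns374 := der373.add (wp_mem_cl (w := [1]) (by decide)) (rep_letter (finModel m2ok) 1) 2
noncomputable def x376 : Net := (Net.cons (nat_lit 40) (nat_lit 0xb6c59649a3)
  (Net.cons (nat_lit 20) (nat_lit 0x7454a0000068ffa)
  (Net.cons (nat_lit 10) (nat_lit 0x3c0003340013100061)
  (Net.cons (nat_lit 5) (nat_lit 0x2414010160240c03c1b)
  (Net.cons (nat_lit 1) (nat_lit 0x10000020001)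
  (Net.cons (nat_lit 1) (nat_lit 0x421421200a400005010a)
  (Net.cons (nat_lit 1) (nat_lit 0x294a5210a52000528084)
  (Net.cons (nat_lit 1) (nat_lit 0x1284a4284a1280a5084a)
  (Net.cons (nat_lit 1) (nat_lit 0x4840048520484294a0)
  (Net.cons (nat_lit 5) (nat_lit 0x400001014030040500a)
  (Net.cons (nat_lit 10) (nat_lit 0x3f0001ba001240005a)
  (Net.cons (nat_lit 20) (nat_lit 0x953940000008718)
  (Net.cons (nat_lit 40) (nat_lit 0xb6e9b26832)
  Net.nil)))))))))))))
noncomputable def x376s : ℕ → Net := upd ns374 3 x376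
theorem der377 : Der 80 (finX 80) (cl (finG m2ok) [[4],[8],[1]]) x376s := der375.ext (k := 7) (w := [0,1,0,1,0,2,0,0]) 3 (by decide +kernel)
noncomputable def L378 : Lev := Lev.cons 0 18 [[1],[3]] Lev.nil
noncomputable def L379 : Lev := Lev.cons 28 80 [[0],[2]] L378
theorem lc380 : Lev.chk 80 4 x376s vT 100 L379 = true := by decide +kernel
theorem lb381 : 1440 ≤ Nat.card (cl (finG m2ok) [[4],[8],[1]]) := le_of_eq_of_le (by decide +kernel) (der377.card_ge lc380)
theorem ix368 : Idx.{u} io C324 [0,1,2,3,4,5,8,9] [[4],[8],[1]] 1 := (Idx.of bd321 sat337 (by decide +kernel) lb381 (by decide +kernel)).of_imp imp326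
noncomputable def lk382 : List (List ℕ × List ℕ × Pf) := [([4],[4],[([6],21)]),([8],[0,0,7,1,1,8],[([6,0,0,7],43)]),([1],[2,1,7,3,7,1,1],[([6],27)])]
noncomputable def O383 : ℕ := (nat_lit 0x4000000000000000000000000000000000000000000000000000000000000)
noncomputable def M384 : ℕ := (nat_lit 0x56ec4a121be8fe1f3f03b76aac7bbc77157e16ffa1eeebff7eff7defdffff)
noncomputable def b385 : ℕ := (nat_lit 0x146c4a120a60fe113f02972004419847153216f781c461d93e3f3c238decf)
theorem cl386 : Clo.{u} io C324 [0,1,2,3,4,5,8,9] 243 m323 M384 (mkB [(6,b385),(7,b366)]) := cl367.new (k := 5) (b := 6) (q := 213) (p := 242) (r := 200) (n := 1) (O := O383) (by decide +kernel) (lks := lk382) (by decide +kernel) (gens_of_lall2 (m := [[0],[1],[2]]) (by decide +kernel)) ix368 (by decide +kernel)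
noncomputable def b387 : ℕ := (nat_lit 0x546c4a120a60fe113f02972004419847153216f781c461d93e3f3c238decf)
noncomputable def b388 : ℕ := (nat_lit 0x46cc481211c8ee0e3d03a04aa83a2c75006c003f21aacabe48f949cfd2db7)
theorem cl389 : Clo.{u} io C324 [0,1,2,3,4,5,8,9] 243 m323 M384 (mkB [(6,b387),(7,b388)]) := cl386.ops (os := [Op.inv 6,Op.rel 6 [] 7 [7] [([],17)],Op.inv 6]) (by decide +kernel) (by decide +kernel)
theorem der391 : Der 80 (finX 80) (cl (finG m2ok) [[1,2,9,1,1,4,8],[9,1,5,5,3],[2,4,1,2,2,1,2,9,1,1,3,5]]) (fun _ => Net.nil) := Der.zero (finModel m2ok).inj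
noncomputable def x392 : Net := (Net.cons (nat_lit 40) (nat_lit 0x9cfd341454)
  (Net.cons (nat_lit 20) (nat_lit 0x508f8000002b77b)
  (Net.cons (nat_lit 10) (nat_lit 0x69003a2002dd0001e)
  (Net.cons (nat_lit 5) (nat_lit 0x780e078100100206c12)
  (Net.cons (nat_lit 1) (nat_lit 0x200010000000000)
  (Net.cons (nat_lit 1) (nat_lit 0x10100528021294000000)
  (Net.cons (nat_lit 1) (nat_lit 0x2048029025214a429084)
  (Net.cons (nat_lit 1) (nat_lit 0x508425294a4094212102)
  (Net.cons (nat_lit 1) (nat_lit 0x424084810800029405)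
  (Net.cons (nat_lit 5) (nat_lit 0x3000020000201c0201a)
  (Net.cons (nat_lit 10) (nat_lit 0x1f2001f2003b000056)
  (Net.cons (nat_lit 20) (nat_lit 0xda632000002b26a)
  (Net.cons (nat_lit 40) (nat_lit 0x1231bc64b8)
  Net.nil)))))))))))))
noncomputable def ns393 : ℕ → Net := upd (fun _ => Net.nil) 0 x392
theorem der394 : Der 80 (finX 80) (cl (finG m2ok) [[1,2,9,1,1,4,8],[9,1,5,5,3],[2,4,1,2,2,1,2,9,1,1,3,5]]) ns393 := der391.add (wp_mem_cl (w := [1,2,9,1,1,4,8]) (by decide)) ((finModel m2ok).toIsPre.rep_word (k := 7) (w := [1,2,9,1,1,4,8]) (n := x392) (by decide +kernel)) 0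
noncomputable def x395 : Net := (Net.cons (nat_lit 40) (nat_lit 0x737afe5c63)
  (Net.cons (nat_lit 20) (nat_lit 0x784fa00000e9825)
  (Net.cons (nat_lit 10) (nat_lit 0x2cb003bd003a70034c)
  (Net.cons (nat_lit 5) (nat_lit 0x14160701b0781305813)
  (Net.cons (nat_lit 1) (nat_lit 0x4000000000000)
  (Net.cons (nat_lit 1) (nat_lit 0x10042029021014200000)
  (Net.cons (nat_lit 1) (nat_lit 0x280a401484200a520424)
  (Net.cons (nat_lit 1) (nat_lit 0x5084a1284a429421284a)
  (Net.cons (nat_lit 1) (nat_lit 0x840420024014a029401)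
  (Net.cons (nat_lit 5) (nat_lit 0x680c020120680002012)
  (Net.cons (nat_lit 10) (nat_lit 0x4800168002e000004)
  (Net.cons (nat_lit 20) (nat_lit 0x8daaa00000d4eb0)
  (Net.cons (nat_lit 40) (nat_lit 0x8533f1ba86)
  Net.nil)))))))))))))
noncomputable def ns396 : ℕ → Net := upd ns393 1 x395
theorem der397 : Der 80 (finX 80) (cl (finG m2ok) [[1,2,9,1,1,4,8],[9,1,5,5,3],[2,4,1,2,2,1,2,9,1,1,3,5]]) ns396 := der394.add (wp_mem_cl (w := [9,1,5,5,3]) (by decide)) ((finModel m2ok).toIsPre.rep_word (k := 7) (w := [9,1,5,5,3]) (n := x395) (by decide +kernel)) 1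
noncomputable def x398 : Net := (Net.cons (nat_lit 40) (nat_lit 0xd1d06e411a)
  (Net.cons (nat_lit 20) (nat_lit 0x93c4700000813ea)
  (Net.cons (nat_lit 10) (nat_lit 0x2e60021a0026500383)
  (Net.cons (nat_lit 5) (nat_lit 0x440304c070581f0540e)
  (Net.cons (nat_lit 1) (nat_lit 0x8000004200040000400)
  (Net.cons (nat_lit 1) (nat_lit 0x501084084a0280a0080a)
  (Net.cons (nat_lit 1) (nat_lit 0x290a5294852108521005)
  (Net.cons (nat_lit 1) (nat_lit 0x52942529421294a5284a)
  (Net.cons (nat_lit 1) (nat_lit 0x10a1084a52942028404)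
  (Net.cons (nat_lit 5) (nat_lit 0x4008040020301e02016)
  (Net.cons (nat_lit 10) (nat_lit 0x132002d0002480028c)
  (Net.cons (nat_lit 20) (nat_lit 0x44204000007d7a6)
  (Net.cons (nat_lit 40) (nat_lit 0x447c66fb94)
  Net.nil)))))))))))))
noncomputable def ns399 : ℕ → Net := upd ns396 2 x398
theorem der400 : Der 80 (finX 80) (cl (finG m2ok) [[1,2,9,1,1,4,8],[9,1,5,5,3],[2,4,1,2,2,1,2,9,1,1,3,5]]) ns399 := der397.add (wp_mem_cl (w := [2,4,1,2,2,1,2,9,1,1,3,5]) (by decide)) ((finModel m2ok).toIsPre.rep_word (k := 7) (w := [2,4,1,2,2,1,2,9,1,1,3,5]) (n := x398) (by decide +kernel)) 2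
noncomputable def L401 : Lev := Lev.cons 0 18 [[0],[1],[2]] Lev.nil
theorem lc402 : Lev.chk 80 4 ns399 vT 100 L401 = true := by decide +kernel
theorem lb403 : 18 ≤ Nat.card (cl (finG m2ok) [[1,2,9,1,1,4,8],[9,1,5,5,3],[2,4,1,2,2,1,2,9,1,1,3,5]]) := le_of_eq_of_le (by decide +kernel) (der400.card_ge lc402)
theorem ix390 : Idx.{u} io C324 [0,1,2,3,4,5,8,9] [[1,2,9,1,1,4,8],[9,1,5,5,3],[2,4,1,2,2,1,2,9,1,1,3,5]] 80 := (Idx.of bd321 sat337 (by decide +kernel) lb403 (by decide +kernel)).of_imp imp326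
noncomputable def lk404 : List (List ℕ × List ℕ × Pf) := [([1,2,9,1,1],[1,2,9,1,1],[([6,1,2,9,1,1],38)]),([4],[4],[([6],21)]),([8],[0,0,7,1,1,8],[([6,0,0,7],43)]),([9],[9,0,0,6,1,1],[([6,9,0,0],42)]),([1],[2,1,7,3,7,1,1],[([6],27)]),([5],[5],[([6,5],20)]),([5,3],[3,6,3,5,7,2],[([6,3,6,3,5],22)]),([2,4],[3,6,4,2,7,2],[([6,3,6],23)]),([2],[2,1,6,1,7,0,0],[([6],25)]),([3],[1,1,6,0,7,0,3],[([6,1,1,6,0,7,0,3],24)])]
noncomputable def O405 : ℕ := (nat_lit 0x913b5ede41701e0c0fc489553844388ea81e9005e1114008100821020000)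
noncomputable def M406 : ℕ := (nat_lit 0x5ffffffffffffffffffffffffffffffffffffffffffffffffffffffffffff)
noncomputable def b407 : ℕ := (nat_lit 0x546c4a120a60fe113f02972004419847153216f781c461d93e3f3c238dedf)
theorem cl408 : Clo.{u} io C324 [0,1,2,3,4,5,8,9] 243 m323 M406 (mkB [(6,b407),(7,b388)]) := cl389.new (k := 5) (b := 6) (q := 4) (p := 24) (r := 200) (n := 80) (O := O405) (by decide +kernel) (lks := lk404) (by decide +kernel) (gens_of_lall2 (m := [[0,1,2],[3,4,5,6],[7,4,8,8,0,9,5]]) (by decide +kernel)) ix390 (by decide +kernel)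
noncomputable def b409 : ℕ := (nat_lit 0x5fffffffffffffdffffffffffffffffffffffffffffffffffffffffffffff)
noncomputable def b410 : ℕ := (nat_lit 0x5fff7ffffffffffffffffffffffffffffffffffffffffffffffffffffffff)
theorem cl411 : Clo.{u} io C324 [0,1,2,3,4,5,8,9] 243 m323 M406 (mkB [(6,b409),(7,b410)]) := cl408.ops (os := [Op.ext 6 3 [([4],[4],[([6],21)]),([5],[5],[([6,5],20)]),([0,0,8,3,0],[0,0,8,3,0],[([6],39)]),([1,2,9,1,1],[1,2,9,1,1],[([6,1,2,9,1,1],38)])],Op.inv 6,Op.rel 6 [] 7 [7] [([],17)],Op.inv 6,Op.rel 6 [2,2] 7 [3,3] [([7],19)],Op.inv 6,Op.rel 6 [9,0,0] 7 [9,6,0,0] [([7,9,6,0,0,7],43)],Op.ext 6 2 [([4],[4],[([6],21)]),([5],[5],[([6,5],20)]),([0,0,8,3,0],[0,0,8,3,0],[([6],39)]),([1,2,9,1,1],[1,2,9,1,1],[([6,1,2,9,1,1],38)])],Op.inv 6,Op.rel 6 [9,0,0] 7 [9,6,0,0] [([7,9,6,0,0,7],43)],Op.inv 6]) (by decide +kernel) (by decide +kernel)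
theorem der413 : Der 80 (finX 80) (cl (finG m2ok) [[4],[8],[1]]) (fun _ => Net.nil) := Der.zero (finModel m2ok).inj
noncomputable def ns414 : ℕ → Net := upd (fun _ => Net.nil) 0 (m2 4)
theorem der415 : Der 80 (finX 80) (cl (finG m2ok) [[4],[8],[1]]) ns414 := der413.add (wp_mem_cl (w := [4]) (by decide)) (rep_letter (finModel m2ok) 4) 0
noncomputable def ns416 : ℕ → Net := upd ns414 1 (m2 8)
theorem der417 : Der 80 (finX 80) (cl (finG m2ok) [[4],[8],[1]]) ns416 := der415.add (wp_mem_cl (w := [8]) (by decide)) (rep_letter (finModel m2ok) 8) 1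
noncomputable def ns418 : ℕ → Net := upd ns416 2 (m2 1)
theorem der419 : Der 80 (finX 80) (cl (finG m2ok) [[4],[8],[1]]) ns418 := der417.add (wp_mem_cl (w := [1]) (by decide)) (rep_letter (finModel m2ok) 1) 2
noncomputable def x420 : Net := (Net.cons (nat_lit 40) (nat_lit 0xb6c59649a3)
  (Net.cons (nat_lit 20) (nat_lit 0x7454a0000068ffa)
  (Net.cons (nat_lit 10) (nat_lit 0x3c0003340013100061)
  (Net.cons (nat_lit 5) (nat_lit 0x2414010160240c03c1b)
  (Net.cons (nat_lit 1) (nat_lit 0x10000020001)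
  (Net.cons (nat_lit 1) (nat_lit 0x421421200a400005010a)
  (Net.cons (nat_lit 1) (nat_lit 0x294a5210a52000528084)
  (Net.cons (nat_lit 1) (nat_lit 0x1284a4284a1280a5084a)
  (Net.cons (nat_lit 1) (nat_lit 0x4840048520484294a0)
  (Net.cons (nat_lit 5) (nat_lit 0x400001014030040500a)
  (Net.cons (nat_lit 10) (nat_lit 0x3f0001ba001240005a)
  (Net.cons (nat_lit 20) (nat_lit 0x953940000008718)
  (Net.cons (nat_lit 40) (nat_lit 0xb6e9b26832)
  Net.nil)))))))))))))
noncomputable def x420s : ℕ → Net := upd ns418 3 x420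
theorem der421 : Der 80 (finX 80) (cl (finG m2ok) [[4],[8],[1]]) x420s := der419.ext (k := 7) (w := [0,1,0,1,0,2,0,0]) 3 (by decide +kernel)
noncomputable def L422 : Lev := Lev.cons 0 18 [[1],[3]] Lev.nil
noncomputable def L423 : Lev := Lev.cons 28 80 [[0],[2]] L422
theorem lc424 : Lev.chk 80 4 x420s vT 100 L423 = true := by decide +kernel
theorem lb425 : 1440 ≤ Nat.card (cl (finG m2ok) [[4],[8],[1]]) := le_of_eq_of_le (by decide +kernel) (der421.card_ge lc424)
theorem ix412 : Idx.{u} io C324 [0,1,2,3,4,5,8,9] [[4],[8],[1]] 1 := (Idx.of bd321 sat337 (by decide +kernel) lb425 (by decide +kernel)).of_imp imp326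
noncomputable def lk426 : List (List ℕ × List ℕ × Pf) := [([4],[4],[([6],21)]),([8],[0,0,7,1,1,8],[([6,0,0,7],43)]),([1],[2,1,7,3,7,1,1],[([6],27)])]
noncomputable def O427 : ℕ := (nat_lit 0x2000000000000000000000000000000000000000000000000000000000000)
noncomputable def M428 : ℕ := (nat_lit 0x7ffffffffffffffffffffffffffffffffffffffffffffffffffffffffffff)
noncomputable def b429 : ℕ := (nat_lit 0x5ffffffffffffffffffffffffffffffffffffffffffffffffffffffffffff)
theorem cl430 : Clo.{u} io C324 [0,1,2,3,4,5,8,9] 243 m323 M428 (mkB [(6,b429),(7,b410)]) := cl411.new (k := 5) (b := 6) (q := 185) (p := 241) (r := 200) (n := 1) (O := O427) (by decide +kernel) (lks := lk426) (by decide +kernel) (gens_of_lall2 (m := [[0],[1],[2]]) (by decide +kernel)) ix412 (by decide +kernel)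
noncomputable def b431 : ℕ := (nat_lit 0x7ffffffffffffffffffffffffffffffffffffffffffffffffffffffffffff)
noncomputable def b432 : ℕ := (nat_lit 0x7ffffffffffffffffffffffffffffffffffffffffffffffffffffffffffff)
theorem cl433 : Clo.{u} io C324 [0,1,2,3,4,5,8,9] 243 m323 M428 (mkB [(6,b431),(7,b432)]) := cl430.ops (os := [Op.inv 6,Op.rel 6 [] 7 [7] [([],17)],Op.inv 6]) (by decide +kernel) (by decide +kernel)
theorem sat435 : Sat io C324 (finG m323ok) := m323s0.fin (k := 8) (by decide +kernel)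
theorem bd434 : Bound.{u} io C324 [0,1,2,3,4,5,6,7,8,9] 349920 := cl433.bound (by decide +kernel) sat435 (bd321.of_imp imp326)
noncomputable def r22 : List ℕ := [10,10]
noncomputable def r23 : List ℕ := [10,0,0,10,0,0,10,0,0,10,0,0,10,0,0]
noncomputable def r24 : List ℕ := [11,2,10,3]
noncomputable def r25 : List ℕ := [11,4,10,5]
noncomputable def r26 : List ℕ := [11,1,11,0,2,10,0,10,1,2]
noncomputable def m436n0 : Net := (Net.cons (nat_lit 8) (nat_lit 2)
  (Net.cons (nat_lit 4) (nat_lit 1282)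
  (Net.cons (nat_lit 2) (nat_lit 8208)
  (Net.cons (nat_lit 1) (nat_lit 21508)
  (Net.cons (nat_lit 2) (nat_lit 514)
  (Net.cons (nat_lit 4) (nat_lit 1036)
  (Net.cons (nat_lit 8) (nat_lit 8)
  Net.nil)))))))
noncomputable def m436n1 : Net := (Net.cons (nat_lit 8) (nat_lit 8)
  (Net.cons (nat_lit 4) (nat_lit 2828)
  (Net.cons (nat_lit 2) (nat_lit 8466)
  (Net.cons (nat_lit 1) (nat_lit 17668)
  (Net.cons (nat_lit 4) (nat_lit 2562)
  (Net.cons (nat_lit 8) (nat_lit 2)
  Net.nil))))))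
noncomputable def m436n2 : Net := (Net.cons (nat_lit 2) (nat_lit 9008)
  (Net.cons (nat_lit 1) (nat_lit 4100)
  (Net.cons (nat_lit 2) (nat_lit 8192)
  Net.nil)))
noncomputable def m436n3 : Net := (Net.cons (nat_lit 2) (nat_lit 9008)
  (Net.cons (nat_lit 1) (nat_lit 4100)
  (Net.cons (nat_lit 2) (nat_lit 8192)
  Net.nil)))
noncomputable def m436n4 : Net := (Net.cons (nat_lit 8) (nat_lit 242)
  (Net.cons (nat_lit 4) (nat_lit 2312)
  (Net.cons (nat_lit 2) (nat_lit 4352)
  (Net.cons (nat_lit 1) (nat_lit 17488)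
  (Net.cons (nat_lit 4) (nat_lit 2)
  (Net.cons (nat_lit 8) (nat_lit 186)
  Net.nil))))))
noncomputable def m436n5 : Net := (Net.cons (nat_lit 8) (nat_lit 186)
  (Net.cons (nat_lit 4) (nat_lit 3074)
  (Net.cons (nat_lit 2) (nat_lit 13056)
  (Net.cons (nat_lit 1) (nat_lit 4432)
  (Net.cons (nat_lit 2) (nat_lit 8704)
  (Net.cons (nat_lit 4) (nat_lit 8)
  (Net.cons (nat_lit 8) (nat_lit 242)
  Net.nil)))))))
noncomputable def m436n10 : Net := (Net.cons (nat_lit 8) (nat_lit 93)
  (Net.cons (nat_lit 4) (nat_lit 769)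
  (Net.cons (nat_lit 2) (nat_lit 8736)
  (Net.cons (nat_lit 1) (nat_lit 5185)
  (Net.cons (nat_lit 2) (nat_lit 546)
  (Net.cons (nat_lit 4) (nat_lit 3596)
  (Net.cons (nat_lit 8) (nat_lit 162)
  Net.nil)))))))
noncomputable def m436n11 : Net := (Net.cons (nat_lit 8) (nat_lit 93)
  (Net.cons (nat_lit 4) (nat_lit 769)
  (Net.cons (nat_lit 2) (nat_lit 8736)
  (Net.cons (nat_lit 1) (nat_lit 5185)
  (Net.cons (nat_lit 2) (nat_lit 546)
  (Net.cons (nat_lit 4) (nat_lit 3596)
  (Net.cons (nat_lit 8) (nat_lit 162)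
  Net.nil)))))))
noncomputable def m436l : List Net := [m436n0,m436n1,m436n2,m436n3,m436n4,m436n5,Net.nil,Net.nil,Net.nil,Net.nil,m436n10,m436n11]
noncomputable abbrev m436 : ℕ → Net := lk Net.nil m436l
theorem m436ok : NetsOk 16 m436 vT := netsOk_of (by decide +kernel)
theorem m436s0 : Sat io [] (finG m436ok) := fin_sat_nil _ (k := 4) (n := 12) (by decide +kernel)
noncomputable def C437 : List (List ℕ) := [r0,r1,r2,r3,r4,r5,r6,r7,r22,r23,r24,r25,r26]
theorem cl438 : Clo.{u} io C437 [0,1,2,3,4,5] 16 m436 1 (mkB []) := Clo.start (by decide +kernel)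
theorem imp439 : Imp.{u} io C437 C93 := Imp.of_chk (pfs := [[([],1)],[([],3)],[([],5)],[([],7)],[([],9)],[([],11)],[([],13)],[([],15)]]) (by decide +kernel)
theorem der441 : Der 80 (finX 80) (cl (finG m2ok) [[2],[4]]) (fun _ => Net.nil) := Der.zero (finModel m2ok).inj
noncomputable def ns442 : ℕ → Net := upd (fun _ => Net.nil) 0 (m2 2)
theorem der443 : Der 80 (finX 80) (cl (finG m2ok) [[2],[4]]) ns442 := der441.add (wp_mem_cl (w := [2]) (by decide)) (rep_letter (finModel m2ok) 2) 0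
noncomputable def ns444 : ℕ → Net := upd ns442 1 (m2 4)
theorem der445 : Der 80 (finX 80) (cl (finG m2ok) [[2],[4]]) ns444 := der443.add (wp_mem_cl (w := [4]) (by decide)) (rep_letter (finModel m2ok) 4) 1
noncomputable def L446 : Lev := Lev.cons 2 24 [[0],[1]] Lev.nil
theorem lc447 : Lev.chk 80 4 ns444 vT 100 L446 = true := by decide +kernel
theorem lb448 : 24 ≤ Nat.card (cl (finG m2ok) [[2],[4]]) := le_of_eq_of_le (by decide +kernel) (der445.card_ge lc447)
theorem ix440 : Idx.{u} io C437 [0,1,2,3,4,5] [[2],[4]] 5 := (Idx.of bd113 sat126 (by decide +kernel) lb448 (by decide +kernel)).of_imp imp439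
noncomputable def lk449 : List (List ℕ × List ℕ × Pf) := [([2],[2],[([10],21)]),([4],[4],[([10],23)])]
noncomputable def O450 : ℕ := (nat_lit 94)
noncomputable def M451 : ℕ := (nat_lit 95)
noncomputable def b452 : ℕ := (nat_lit 1)
theorem cl453 : Clo.{u} io C437 [0,1,2,3,4,5] 16 m436 M451 (mkB [(10,b452)]) := cl438.new (k := 1) (b := 10) (q := 0) (p := 1) (r := 200) (n := 5) (O := O450) (by decide +kernel) (lks := lk449) (by decide +kernel) (gens_of_lall2 (m := [[0],[1]]) (by decide +kernel)) ix440 (by decide +kernel)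
noncomputable def b454 : ℕ := (nat_lit 3)
noncomputable def b455 : ℕ := (nat_lit 3)
theorem cl456 : Clo.{u} io C437 [0,1,2,3,4,5] 16 m436 M451 (mkB [(10,b454),(11,b455)]) := cl453.ops (os := [Op.inv 10,Op.rel 10 [] 11 [] [([],17)],Op.inv 10]) (by decide +kernel) (by decide +kernel)
theorem der458 : Der 80 (finX 80) (cl (finG m2ok) [[4],[0,2]]) (fun _ => Net.nil) := Der.zero (finModel m2ok).inj
noncomputable def ns459 : ℕ → Net := upd (fun _ => Net.nil) 0 (m2 4)
theorem der460 : Der 80 (finX 80) (cl (finG m2ok) [[4],[0,2]]) ns459 := der458.add (wp_mem_cl (w := [4]) (by decide)) (rep_letter (finModel m2ok) 4) 0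
noncomputable def x461 : Net := (Net.cons (nat_lit 40) (nat_lit 0x669c518c48)
  (Net.cons (nat_lit 20) (nat_lit 0xd2f7200000adeee)
  (Net.cons (nat_lit 10) (nat_lit 0x30400070000870001c)
  (Net.cons (nat_lit 5) (nat_lit 0x20100241f07c010200d)
  (Net.cons (nat_lit 1) (nat_lit 0xa0000000800100400)
  (Net.cons (nat_lit 1) (nat_lit 0x10140029021010a50940)
  (Net.cons (nat_lit 1) (nat_lit 0x204a5214a420084294a1)
  (Net.cons (nat_lit 1) (nat_lit 0x5294a109485084a5284a)
  (Net.cons (nat_lit 1) (nat_lit 0x9480094852942009404)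
  (Net.cons (nat_lit 5) (nat_lit 0x500000008058120100c)
  (Net.cons (nat_lit 10) (nat_lit 0x31800072000ce00264)
  (Net.cons (nat_lit 20) (nat_lit 0x16a80000070d8c)
  (Net.cons (nat_lit 40) (nat_lit 0x7feccf7abe)
  Net.nil)))))))))))))
noncomputable def ns462 : ℕ → Net := upd ns459 1 x461
theorem der463 : Der 80 (finX 80) (cl (finG m2ok) [[4],[0,2]]) ns462 := der460.add (wp_mem_cl (w := [0,2]) (by decide)) ((finModel m2ok).toIsPre.rep_word (k := 7) (w := [0,2]) (n := x461) (by decide +kernel)) 1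
noncomputable def L464 : Lev := Lev.cons 0 12 [[0],[1]] Lev.nil
theorem lc465 : Lev.chk 80 4 ns462 vT 100 L464 = true := by decide +kernel
theorem lb466 : 12 ≤ Nat.card (cl (finG m2ok) [[4],[0,2]]) := le_of_eq_of_le (by decide +kernel) (der463.card_ge lc465)
theorem ix457 : Idx.{u} io C437 [0,1,2,3,4,5] [[4],[0,2]] 10 := (Idx.of bd113 sat126 (by decide +kernel) lb466 (by decide +kernel)).of_imp imp439
noncomputable def lk467 : List (List ℕ × List ℕ × Pf) := [([4],[4],[([10],23)]),([0,2],[0,10,3,0,11,1],[([10,0,10],25)])]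
noncomputable def O468 : ℕ := (nat_lit 65440)
noncomputable def M469 : ℕ := (nat_lit 65535)
noncomputable def b470 : ℕ := (nat_lit 7)
theorem cl471 : Clo.{u} io C437 [0,1,2,3,4,5] 16 m436 M469 (mkB [(10,b470),(11,b455)]) := cl456.new (k := 1) (b := 10) (q := 2) (p := 5) (r := 200) (n := 10) (O := O468) (by decide +kernel) (lks := lk467) (by decide +kernel) (gens_of_lall2 (m := [[0],[1]]) (by decide +kernel)) ix457 (by decide +kernel)
noncomputable def b472 : ℕ := (nat_lit 65535)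
noncomputable def b473 : ℕ := (nat_lit 65535)
theorem cl474 : Clo.{u} io C437 [0,1,2,3,4,5] 16 m436 M469 (mkB [(10,b472),(11,b473)]) := cl471.ops (os := [Op.ext 10 2 [([2],[2],[([10],21)]),([3],[3],[([10,3],20)]),([4],[4],[([10],23)]),([5],[5],[([10,5],22)])],Op.inv 10,Op.rel 10 [] 11 [] [([],17)],Op.inv 10,Op.rel 10 [0,0] 11 [1,1,11,1,1,11,1,1,11,1,1] [([11],19)],Op.ext 10 2 [([2],[2],[([10],21)]),([3],[3],[([10,3],20)]),([4],[4],[([10],23)]),([5],[5],[([10,5],22)])],Op.inv 10]) (by decide +kernel) (by decide +kernel)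
theorem sat476 : Sat io C437 (finG m436ok) := m436s0.fin (k := 4) (by decide +kernel)
theorem bd475 : Bound.{u} io C437 [0,1,2,3,4,5,10,11] 1920 := cl474.bound (by decide +kernel) sat476 (bd113.of_imp imp439)
noncomputable def r27 : List ℕ := [6,10,6,10]
noncomputable def r28 : List ℕ := [7,11,2,2,6,3,3,11]
noncomputable def r29 : List ℕ := [7,2,10,2,6,3,3,11]
noncomputable def r30 : List ℕ := [7,0,11,0,10,2,0,0,6,1,1,3,11,1,11,1]
noncomputable def r31 : List ℕ := [7,0,11,0,11,2,0,0,6,1,1,3,11,1,11,1]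
noncomputable def r32 : List ℕ := [7,1,1,11,6,0,0,6,1,1,11,0,0]
noncomputable def m477n0 : Net := (Net.cons (nat_lit 128) (nat_lit 0xaca2d940117dadcd3030ebba977df972)
  (Net.cons (nat_lit 64) (nat_lit 0x6c23b8e5bf49e668000000000000000010847d1a10385170)
  (Net.cons (nat_lit 32) (nat_lit 0x83258f7d000000000c6536a9000000008ae086b8000000009ece341a)
  (Net.cons (nat_lit 16) (nat_lit 0x896d0000344200002f07000096ba00003eef000040c000005f270000adc2)
  (Net.cons (nat_lit 8) (nat_lit 0x6300ee008a00c000b300e8006500d7007700fb0022002d009a000d00d6005c)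
  (Net.cons (nat_lit 4) (nat_lit 0xc0408010409030a0a010e00030b0706000f000c010b09000d0d01090904080c)
  (Net.cons (nat_lit 2) (nat_lit 0x2103032030302230221002213211311200210023000302032012012221303300)
  (Net.cons (nat_lit 1) (nat_lit 0x4104145444000501144154514454454114111115001415414110411115500010)
  (Net.cons (nat_lit 2) (nat_lit 0x2200000220000002022002002002002220020220000000002000220220000020)
  (Net.cons (nat_lit 4) (nat_lit 0x40e08000e000a00000400020a08060c0e080804000c040c040604080000000a)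
  (Net.cons (nat_lit 8) (nat_lit 0xe000ea00e2002c00a6008c00e8002e00cc003000240096001a007e00740008)
  (Net.cons (nat_lit 16) (nat_lit 0x8f48000068480000238a00003b300000b7400000141c000065780000c8f4)
  (Net.cons (nat_lit 32) (nat_lit 0x8b04ee2400000000af70f2a80000000099a8b7da00000000aeb186b2)
  (Net.cons (nat_lit 64) (nat_lit 0x6c839a061fc08d4e00000000000000004386dc1d9cd2a410)
  (Net.cons (nat_lit 128) (nat_lit 0xaca2e9f74985e33d68d6d0eb651aecf0)
  Net.nil)))))))))))))))
noncomputable def m477n1 : Net := (Net.cons (nat_lit 128) (nat_lit 0xaca2e9f74985e33d68d6d0eb651aecf0)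
  (Net.cons (nat_lit 64) (nat_lit 0x6c839a061fc08d4e00000000000000004386dc1d9cd2a410)
  (Net.cons (nat_lit 32) (nat_lit 0xa30cee6400000000508d0d570000000099aab7da00000000aeb186b2)
  (Net.cons (nat_lit 16) (nat_lit 0xaf480000d90900003b300000dc71000048970000141c00009a870000370a)
  (Net.cons (nat_lit 8) (nat_lit 0x6000ee00cd00ae006700d1008c005900b0001900240069008100b100080074)
  (Net.cons (nat_lit 4) (nat_lit 0xe0e0d01010e0c07060d090900020600020d070001030c06030b070a020e0800)
  (Net.cons (nat_lit 2) (nat_lit 0x201120310111223132003230213100220231202003003012012220333202230)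
  (Net.cons (nat_lit 1) (nat_lit 0x4501114540141000114511515454111411154150001144151144401400101550)
  (Net.cons (nat_lit 2) (nat_lit 0x2000202020000000202022000202202200202200000000002220200200002000)
  (Net.cons (nat_lit 4) (nat_lit 0x40e0808000c0400000a080e00000a0804000c00040008020e0c0000080804)
  (Net.cons (nat_lit 8) (nat_lit 0x6a00e4003c004a00d0002800e8004c00ea000a002200d200f20004005c00d6)
  (Net.cons (nat_lit 16) (nat_lit 0x89640000397a000096ba0000d0d80000c000000040c00000a0d80000523c)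
  (Net.cons (nat_lit 32) (nat_lit 0x832d8d7400000000f39ac946000000008ae08638000000009ece341a)
  (Net.cons (nat_lit 64) (nat_lit 0x6c23b8e5bf49e668000000000000000010847d1a10385170)
  (Net.cons (nat_lit 128) (nat_lit 0xaca2d940117dadcd3030ebba977df972)
  Net.nil)))))))))))))))
noncomputable def m477n2 : Net := (Net.cons (nat_lit 128) (nat_lit 0x41ab1b71643dae8048a4b2f49a92c782)
  (Net.cons (nat_lit 64) (nat_lit 0xf1d9dec1a1f1838e0000000000000000c3297d6a685bc982)
  (Net.cons (nat_lit 32) (nat_lit 0x3a8509050000000096ccb0c300000000b549841d00000000856111ce)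
  (Net.cons (nat_lit 16) (nat_lit 0x17f20000e505000042990000033f0000dcc8000097e0000085310000c61c)
  (Net.cons (nat_lit 8) (nat_lit 0xbb000b00d800b900540085004900d80065003f001d008600d200a1006c0052)
  (Net.cons (nat_lit 4) (nat_lit 0x20a060500050103080f0f00020e0e0b000f030c08040f0a0900060b080e040c)
  (Net.cons (nat_lit 2) (nat_lit 0x1311213113311222103020030032012123230223313132022001100120122112)
  (Net.cons (nat_lit 1) (nat_lit 0x5450144441504441040154000101441504054114104540541400110514441140)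
  (Net.cons (nat_lit 2) (nat_lit 0x200200022002022020002000202000002000222002020020000020020020000)
  (Net.cons (nat_lit 4) (nat_lit 0x80404080206080c040400000808000c0c00080202000006000c0e00080402)
  (Net.cons (nat_lit 8) (nat_lit 0x800000007800b2004a004a0062008800500042004000d00044000800640064)
  (Net.cons (nat_lit 16) (nat_lit 0x6c02000080840000571a00006d24000000d600005d70000026d20000c400)
  (Net.cons (nat_lit 32) (nat_lit 0x9a9d708800000000d4453c2400000000c144013800000000abb02ae4)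
  (Net.cons (nat_lit 64) (nat_lit 0xf0f0665613f4bd6400000000000000007379be6a4371f5c8)
  (Net.cons (nat_lit 128) (nat_lit 0x41a9b36c02adceef113adc8085b5b648)
  Net.nil)))))))))))))))
noncomputable def m477n3 : Net := (Net.cons (nat_lit 128) (nat_lit 0x41a9b36c02adceef113adc8085b5b648)
  (Net.cons (nat_lit 64) (nat_lit 0xd470b13011d7fed400000000000000007379be6a4371f5c8)
  (Net.cons (nat_lit 32) (nat_lit 0x4076407000000000ab4bd49d000000003230bcf100000000d44fd11a)
  (Net.cons (nat_lit 16) (nat_lit 0x1d1f0000296300003126000028560000adf400008d6e00003bfe0000a6d2)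
  (Net.cons (nat_lit 8) (nat_lit 0xc6006500f100fb004700cc00f90023001f0008004e00bd00640064008000d6)
  (Net.cons (nat_lit 4) (nat_lit 0xc060b0b02090d060a040e040907050302090d0c0f08030b0402000b010c010c)
  (Net.cons (nat_lit 2) (nat_lit 0x221113231202312332103320320320100130012303033100332202101032032)
  (Net.cons (nat_lit 1) (nat_lit 0x411140514515141100141051141140041040114545111101410145005015040)
  (Net.cons (nat_lit 2) (nat_lit 0x20000020000202200202002022020002020222020000202220200000020020)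
  (Net.cons (nat_lit 4) (nat_lit 0x80e0a0c000800040004040a00040c000804020c0c080004040c080802080406)
  (Net.cons (nat_lit 8) (nat_lit 0x9e002600f000f400440040009800a800ea0048002800f80052006c0012007a)
  (Net.cons (nat_lit 16) (nat_lit 0x180000001b3a00005322000079420000bca8000080d4000019e200008530)
  (Net.cons (nat_lit 32) (nat_lit 0xd035f95a00000000e8e70c20000000004e140e02000000005a9ece30)
  (Net.cons (nat_lit 64) (nat_lit 0xd4fbbe65d06489b60000000000000000c3297d6a685bc982)
  (Net.cons (nat_lit 128) (nat_lit 0x41ab1b71643dae8048a4b2f49a92c782)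
  Net.nil)))))))))))))))
noncomputable def m477n4 : Net := (Net.cons (nat_lit 128) (nat_lit 0xfeb41003b3c21ffcc86ba09807302104)
  (Net.cons (nat_lit 64) (nat_lit 0x55071df2dc21694d0000000000000000198dd0f03d21dab8)
  (Net.cons (nat_lit 32) (nat_lit 0x552c85bd0000000041cdf07b0000000075e126fe00000000aec819f2)
  (Net.cons (nat_lit 16) (nat_lit 0xad8000077980000121e0000f8a20000aa1000000700000024040000c1b2)
  (Net.cons (nat_lit 8) (nat_lit 0xcf00800085000400c5003f003400d30026001c009200c800e400e000f4006c)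
  (Net.cons (nat_lit 4) (nat_lit 0xa0806010d0208040a030200020e05070106020a00020f0c00000905080a0d08)
  (Net.cons (nat_lit 2) (nat_lit 0x2003120203000003100323020002303110210302010003030311010132212230)
  (Net.cons (nat_lit 1) (nat_lit 0x5115411110144144554441150414101411110454041004140110011440451410)
  (Net.cons (nat_lit 2) (nat_lit 0x200200200202002002220200020000222000002002000200200020020002000)
  (Net.cons (nat_lit 4) (nat_lit 0xa08040a00020a02080204060004060000000600080206000c000a0c08040c0c)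
  (Net.cons (nat_lit 8) (nat_lit 0x600900040000600b6001800bc00e200d000540090002800e000b000f40060)
  (Net.cons (nat_lit 16) (nat_lit 0xb9420000576c0000c7b60000faba00009e1400008f400000c094000021e0)
  (Net.cons (nat_lit 32) (nat_lit 0xb69c8ce4000000007165c5ce000000006d61656400000000cd884c86)
  (Net.cons (nat_lit 64) (nat_lit 0x89033f7abfd99346000000000000000018cdb0cc9da0be68)
  (Net.cons (nat_lit 128) (nat_lit 0xfeb400117242cd60216b1ab403d05a34)
  Net.nil)))))))))))))))
noncomputable def m477n5 : Net := (Net.cons (nat_lit 128) (nat_lit 0xfeb400117242cd60216b1ab403d05a34)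
  (Net.cons (nat_lit 64) (nat_lit 0xfe8c0c49f88764a1000000000000000018cdb0cc9da0be68)
  (Net.cons (nat_lit 32) (nat_lit 0x3c66a4d40000000024fbf3b2000000006d61654c00000000cd884c86)
  (Net.cons (nat_lit 16) (nat_lit 0x17a4000069e600008b4100001f5a00009e1400008f400000c09400006706)
  (Net.cons (nat_lit 8) (nat_lit 0x2600cc009900d200e300c700b00041006b00b000900089006900b0006000d4)
  (Net.cons (nat_lit 4) (nat_lit 0xd00040a06000d0c020c0a02040b01000d08040c08020100040805030c060704)
  (Net.cons (nat_lit 2) (nat_lit 0x2302222012203201210321013000320003210322032030030131103000122312)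
  (Net.cons (nat_lit 1) (nat_lit 0x4454140154154150051151041511140114144114011010110044401104010554)
  (Net.cons (nat_lit 2) (nat_lit 0x202020200200000000002002022020000022202020000000020202002000000)
  (Net.cons (nat_lit 4) (nat_lit 0x206080006060c0e000c0000060000000c04000a0002080c0000060a0c02060a)
  (Net.cons (nat_lit 8) (nat_lit 0xd0006c002200cc0048008800d200c200dc00f400920090006800e0002400a4)
  (Net.cons (nat_lit 16) (nat_lit 0x371c0000414800004fd400000f380000aa10000007000000240400004704)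
  (Net.cons (nat_lit 32) (nat_lit 0x6cd6a7ea00000000a0f8f0100000000075e1367e00000000aec819f2)
  (Net.cons (nat_lit 64) (nat_lit 0xaeac17440acc04820000000000000000198dd0f03d21dab8)
  (Net.cons (nat_lit 128) (nat_lit 0xfeb41003b3c21ffcc86ba09807302104)
  Net.nil)))))))))))))))
noncomputable def m477n6 : Net := (Net.cons (nat_lit 128) (nat_lit 0xfd078eb9af0c5aac1062e6f13a092f00)
  (Net.cons (nat_lit 64) (nat_lit 0x7427d164bfb999a0000000000000000015853c1348631758)
  (Net.cons (nat_lit 32) (nat_lit 0xa01bf0d80000000053564faf000000004c657744000000005d5d31a9)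
  (Net.cons (nat_lit 16) (nat_lit 0x640f00008c680000999d0000e1570000a6240000467c000022e900008828)
  (Net.cons (nat_lit 8) (nat_lit 0x9100e1005000d200ef00d70064003800a800a900f100ac00510008003800c1)
  (Net.cons (nat_lit 4) (nat_lit 0x900090e06010b040905090702010308020a0c060400020d0b04000b0c000a01)
  (Net.cons (nat_lit 2) (nat_lit 0x1000102202300120131302113120032210122011332023213210032120013201)
  (Net.cons (nat_lit 1) (nat_lit 0x5014510441111041444551411514544111450414544014551411115114411155)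
  (Net.cons (nat_lit 2) (nat_lit 0x22020200222020022002002022000202000000020022000020200020222000)
  (Net.cons (nat_lit 4) (nat_lit 0x808040c0a020c04040806020002040c080a0802000c0004040c06020c020808)
  (Net.cons (nat_lit 8) (nat_lit 0xa800d0003800620076002800c8003800c600a4009400b00014001000b80024)
  (Net.cons (nat_lit 16) (nat_lit 0x20200000924a00000d9600006aca0000b9160000d22c00004c2600006ab0)
  (Net.cons (nat_lit 32) (nat_lit 0xd53b3ace0000000068897cc80000000048240818000000001d8aa084)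
  (Net.cons (nat_lit 64) (nat_lit 0xb925a8b83f9c4e2a000000000000000017a79e43e79dabb0)
  (Net.cons (nat_lit 128) (nat_lit 0xfd0157a156e4b8e60b378bd0ec2501a0)
  Net.nil)))))))))))))))
noncomputable def m477n7 : Net := (Net.cons (nat_lit 128) (nat_lit 0xfd0163b156e430c689b59bc0e46301b0)
  (Net.cons (nat_lit 64) (nat_lit 0xfe8609b86f0dde2800000000000000007f07aae4fe427cc8)
  (Net.cons (nat_lit 32) (nat_lit 0x9828a2d3000000009f23f677000000009845ddf200000000aa608920)
  (Net.cons (nat_lit 16) (nat_lit 0xfc8d0000d2ef0000b3ad00009b790000633a0000900c00000f570000f3c0)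
  (Net.cons (nat_lit 8) (nat_lit 0x300e300a100a300a8008b000a00a800f8008700dd00a70047000a0043003a)
  (Net.cons (nat_lit 4) (nat_lit 0x50c0d04080d0d080005080e0b00030a030a060a000b0402060a0a05000c0200)
  (Net.cons (nat_lit 2) (nat_lit 0x1302222320212231023122323010210221212322310100102123201020213321)
  (Net.cons (nat_lit 1) (nat_lit 0x4541414110041541455114051145115515541454454541050111404140154114)
  (Net.cons (nat_lit 2) (nat_lit 0x2022020000002022000002002000220020022200200020000002202200202022)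
  (Net.cons (nat_lit 4) (nat_lit 0x20c0a0a080e080800000c0a0c020a0006000e020c0a00020c00000204060608)
  (Net.cons (nat_lit 8) (nat_lit 0x40010000000660074009400500010009c00e00028008a00ca00c8000200ec)
  (Net.cons (nat_lit 16) (nat_lit 0xf00000065680000d7f40000a7e20000e8b80000c74c00008fe20000e420)
  (Net.cons (nat_lit 32) (nat_lit 0xb02de7dc000000003e67745000000000d002af3000000000a82176c8)
  (Net.cons (nat_lit 64) (nat_lit 0x3f857304fe3931b400000000000000007da834dfdbd5daa0)
  (Net.cons (nat_lit 128) (nat_lit 0xfd018639af094a2c3362e4d16ac92d00)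
  Net.nil)))))))))))))))
noncomputable def m477n10 : Net := (Net.cons (nat_lit 128) (nat_lit 0x49710045d820a4b159a4f1222228000)
  (Net.cons (nat_lit 64) (nat_lit 0xa876b010012268100000000000000000d0d663ca220a20e0)
  (Net.cons (nat_lit 32) (nat_lit 0x8dccf4100000000081e80714000000005ca48bd80000000009e0981a)
  (Net.cons (nat_lit 16) (nat_lit 0xe42e0000c1540000e5f40000515a0000ca7c0000cb680000db490000f7c6)
  (Net.cons (nat_lit 8) (nat_lit 0xf400880041002000ba003a004800b800fc00f500d8001d000000bb004e00b8)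
  (Net.cons (nat_lit 4) (nat_lit 0x50c0c020f090c030c0a0304020c0f08020d0c0a03080e0404000901090d0702)
  (Net.cons (nat_lit 2) (nat_lit 0x20302010030221001212221200310031202000323233120302022202300020)
  (Net.cons (nat_lit 1) (nat_lit 0x4041001145111455110155100101141055111414114454151041144144551114)
  (Net.cons (nat_lit 2) (nat_lit 0x2000002000020200000200200200200000022202222200000002002002000220)
  (Net.cons (nat_lit 4) (nat_lit 0xc040c020208040c00080c000000000004020c0a0000000204000a060c0c0004)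
  (Net.cons (nat_lit 8) (nat_lit 0x18008800f4002000ba003a004800b800fc0074009800d40008000c004600b0)
  (Net.cons (nat_lit 16) (nat_lit 0xe42e0000c1540000e5f40000515a0000ca3c00009ad00000d1480000fd9a)
  (Net.cons (nat_lit 32) (nat_lit 0x8dccf4100000000081e8071000000000df648b200000000009a11a14)
  (Net.cons (nat_lit 64) (nat_lit 0xa876b01001206810000000000000000050d6474a220a20e0)
  (Net.cons (nat_lit 128) (nat_lit 0x49710045d820a4b159a4f1222228000)
  Net.nil)))))))))))))))
noncomputable def m477n11 : Net := (Net.cons (nat_lit 128) (nat_lit 0x49710045d820a4b159a4f1222228000)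
  (Net.cons (nat_lit 64) (nat_lit 0xa876b010012268100000000000000000d0d663ca220a20e0)
  (Net.cons (nat_lit 32) (nat_lit 0x8dccf4100000000081e80714000000005ca48bd80000000009e0981a)
  (Net.cons (nat_lit 16) (nat_lit 0xe42e0000c1540000e5f40000515a0000ca7c0000cb680000db490000f7c6)
  (Net.cons (nat_lit 8) (nat_lit 0xf400880041002000ba003a004800b800fc00f500d8001d000000bb004e00b8)
  (Net.cons (nat_lit 4) (nat_lit 0x50c0c020f090c030c0a0304020c0f08020d0c0a03080e0404000901090d0702)
  (Net.cons (nat_lit 2) (nat_lit 0x20302010030221001212221200310031202000323233120302022202300020)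
  (Net.cons (nat_lit 1) (nat_lit 0x4041001145111455110155100101141055111414114454151041144144551114)
  (Net.cons (nat_lit 2) (nat_lit 0x2000002000020200000200200200200000022202222200000002002002000220)
  (Net.cons (nat_lit 4) (nat_lit 0xc040c020208040c00080c000000000004020c0a0000000204000a060c0c0004)
  (Net.cons (nat_lit 8) (nat_lit 0x18008800f4002000ba003a004800b800fc0074009800d40008000c004600b0)
  (Net.cons (nat_lit 16) (nat_lit 0xe42e0000c1540000e5f40000515a0000ca3c00009ad00000d1480000fd9a)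
  (Net.cons (nat_lit 32) (nat_lit 0x8dccf4100000000081e8071000000000df648b200000000009a11a14)
  (Net.cons (nat_lit 64) (nat_lit 0xa876b01001206810000000000000000050d6474a220a20e0)
  (Net.cons (nat_lit 128) (nat_lit 0x49710045d820a4b159a4f1222228000)
  Net.nil)))))))))))))))
noncomputable def m477l : List Net := [m477n0,m477n1,m477n2,m477n3,m477n4,m477n5,m477n6,m477n7,Net.nil,Net.nil,m477n10,m477n11]
noncomputable abbrev m477 : ℕ → Net := lk Net.nil m477l
theorem m477ok : NetsOk 243 m477 vT := netsOk_of (by decide +kernel)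
theorem m477s0 : Sat io [] (finG m477ok) := fin_sat_nil _ (k := 8) (n := 12) (by decide +kernel)
noncomputable def C478 : List (List ℕ) := [r0,r1,r2,r3,r4,r5,r6,r7,r8,r9,r10,r11,r12,r13,r22,r23,r24,r25,r26,r27,r28,r29,r30,r31,r32]
theorem cl479 : Clo.{u} io C478 [0,1,2,3,4,5,10,11] 243 m477 1 (mkB []) := Clo.start (by decide +kernel)
theorem imp480 : Imp.{u} io C478 C437 := Imp.of_chk (pfs := [[([],1)],[([],3)],[([],5)],[([],7)],[([],9)],[([],11)],[([],13)],[([],15)],[([],29)],[([],31)],[([],33)],[([],35)],[([],37)]]) (by decide +kernel)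
theorem der482 : Der 80 (finX 80) (cl (finG m2ok) [[4],[11,2,2],[0,11,0,10,2,0,0]]) (fun _ => Net.nil) := Der.zero (finModel m2ok).inj
noncomputable def ns483 : ℕ → Net := upd (fun _ => Net.nil) 0 (m2 4)
theorem der484 : Der 80 (finX 80) (cl (finG m2ok) [[4],[11,2,2],[0,11,0,10,2,0,0]]) ns483 := der482.add (wp_mem_cl (w := [4]) (by decide)) (rep_letter (finModel m2ok) 4) 0
noncomputable def x485 : Net := (Net.cons (nat_lit 40) (nat_lit 0x9a6fbe680c)
  (Net.cons (nat_lit 20) (nat_lit 0xfdc0000000fafe0)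
  (Net.cons (nat_lit 10) (nat_lit 0x21000020021a002e8)
  (Net.cons (nat_lit 5) (nat_lit 0x481c008000000806814)
  (Net.cons (nat_lit 1) (nat_lit 0x40800120001000012040)
  (Net.cons (nat_lit 1) (nat_lit 0x290812900028025290a4)
  (Net.cons (nat_lit 1) (nat_lit 0x1204a528001004252848)
  (Net.cons (nat_lit 1) (nat_lit 0x20420280a529425280a5)
  (Net.cons (nat_lit 5) (nat_lit 0x201a05000000080101c)
  (Net.cons (nat_lit 10) (nat_lit 0xe000020000a003c0)
  (Net.cons (nat_lit 20) (nat_lit 0xfdc0000000fafe0)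
  (Net.cons (nat_lit 40) (nat_lit 0x9a23be480c)
  Net.nil))))))))))))
noncomputable def ns486 : ℕ → Net := upd ns483 1 x485
theorem der487 : Der 80 (finX 80) (cl (finG m2ok) [[4],[11,2,2],[0,11,0,10,2,0,0]]) ns486 := der484.add (wp_mem_cl (w := [11,2,2]) (by decide)) ((finModel m2ok).toIsPre.rep_word (k := 7) (w := [11,2,2]) (n := x485) (by decide +kernel)) 1
noncomputable def x488 : Net := (Net.cons (nat_lit 40) (nat_lit 0x6cf366402c)
  (Net.cons (nat_lit 20) (nat_lit 0x5becf0000087668)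
  (Net.cons (nat_lit 10) (nat_lit 0x3d10021d0006000318)
  (Net.cons (nat_lit 5) (nat_lit 0x3408060020041006000)
  (Net.cons (nat_lit 1) (nat_lit 0x1004050040500000)
  (Net.cons (nat_lit 1) (nat_lit 0xa0084a0094a0210a)
  (Net.cons (nat_lit 1) (nat_lit 0x28404010a5094a501084)
  (Net.cons (nat_lit 1) (nat_lit 0x1090a0294a1284a1094a)
  (Net.cons (nat_lit 1) (nat_lit 0x294a10800429001294a5)
  (Net.cons (nat_lit 5) (nat_lit 0x100c060160000604000)
  (Net.cons (nat_lit 10) (nat_lit 0x290000140034000294)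
  (Net.cons (nat_lit 20) (nat_lit 0x1fe2e0000085dc4)
  (Net.cons (nat_lit 40) (nat_lit 0x7641d6358e)
  Net.nil)))))))))))))
noncomputable def ns489 : ℕ → Net := upd ns486 2 x488
theorem der490 : Der 80 (finX 80) (cl (finG m2ok) [[4],[11,2,2],[0,11,0,10,2,0,0]]) ns489 := der487.add (wp_mem_cl (w := [0,11,0,10,2,0,0]) (by decide)) ((finModel m2ok).toIsPre.rep_word (k := 7) (w := [0,11,0,10,2,0,0]) (n := x488) (by decide +kernel)) 2
noncomputable def L491 : Lev := Lev.cons 8 24 [[0],[1],[2]] Lev.nil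
theorem lc492 : Lev.chk 80 4 ns489 vT 100 L491 = true := by decide +kernel
theorem lb493 : 24 ≤ Nat.card (cl (finG m2ok) [[4],[11,2,2],[0,11,0,10,2,0,0]]) := le_of_eq_of_le (by decide +kernel) (der490.card_ge lc492)
theorem sat494 : Sat io C437 (finG m2ok) := m2s0.fin (k := 7) (by decide +kernel)
theorem ix481 : Idx.{u} io C478 [0,1,2,3,4,5,10,11] [[4],[11,2,2],[0,11,0,10,2,0,0]] 80 := (Idx.of bd475 sat494 (by decide +kernel) lb493 (by decide +kernel)).of_imp imp480
noncomputable def lk495 : List (List ℕ × List ℕ × Pf) := [([4],[4],[([6],21)]),([11,2,2],[10,2,2],[([6],41)]),([0,11,0,10,2,0,0],[0,10,0,10,2,0,0],[([6],45)])]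
noncomputable def O496 : ℕ := (nat_lit 0x8000005008203842be1580080127ff004e667f3ce673f3ffe)
noncomputable def M497 : ℕ := (nat_lit 0x8000005008203842be1580080127ff004e667f3ce673f3fff)
noncomputable def b498 : ℕ := (nat_lit 1)
theorem cl499 : Clo.{u} io C478 [0,1,2,3,4,5,10,11] 243 m477 M497 (mkB [(6,b498)]) := cl479.new (k := 5) (b := 6) (q := 0) (p := 1) (r := 200) (n := 80) (O := O496) (by decide +kernel) (lks := lk495) (by decide +kernel) (gens_of_lall2 (m := [[0],[1],[2]]) (by decide +kernel)) ix481 (by decide +kernel)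
noncomputable def b500 : ℕ := (nat_lit 0x80008001c0180000003f200004038082000e0207)
noncomputable def b501 : ℕ := (nat_lit 0x80008001c0180000003f200004038082000e0207)
theorem cl502 : Clo.{u} io C478 [0,1,2,3,4,5,10,11] 243 m477 M497 (mkB [(6,b500),(7,b501)]) := cl499.ops (os := [Op.inv 6,Op.rel 6 [10] 7 [11] [([7],39)],Op.inv 6,Op.rel 6 [] 7 [7] [([],17)],Op.inv 6,Op.rel 7 [1,1,11,0,0] 7 [1,1,7,10,0,0] [([7,1,1,7,10,0,0,6],49)],Op.ext 7 2 [([5],[5],[([7,5,6],21)]),([4],[4],[([],20)]),([3,3,11],[3,3,10],[([7,3,3,10,6],41)]),([10,2,2],[11,2,2],[([],40)]),([3,3,11],[3,11,3],[([7,3,11,3,6],43)]),([10,2,2],[2,10,2],[([],42)]),([1,1,3,11,1,11,1],[1,1,3,11,1,10,1],[([7,1,1,3,11,1,10,1,6],45)]),([0,10,0,10,2,0,0],[0,11,0,10,2,0,0],[([],44)]),([1,1,3,11,1,11,1],[1,1,3,10,1,10,1],[([7,1,1,3,10,1,10,1,6],47)]),([0,10,0,10,2,0,0],[0,11,0,11,2,0,0],[([],46)])],Op.inv 7,Op.rel 6 [10] 7 [11] [([7],39)],Op.inv 6,Op.rel 6 [] 7 [7] [([],17)],Op.inv 6]) (by decide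 +kernel) (by decide +kernel)
theorem der504 : Der 80 (finX 80) (cl (finG m2ok) [[4,10,0,0,5,0,11,0,11,2,0,0,4,1,1,11,5],[5,1,1,3,11,1,10,1,3,11,3,5,3,4]]) (fun _ => Net.nil) := Der.zero (finModel m2ok).inj
noncomputable def x505 : Net := (Net.cons (nat_lit 40) (nat_lit 0x2a31dc5794)
  (Net.cons (nat_lit 20) (nat_lit 0xa10400000c73db)
  (Net.cons (nat_lit 10) (nat_lit 0x18400086001c200041)
  (Net.cons (nat_lit 5) (nat_lit 0x54150001301c090780b)
  (Net.cons (nat_lit 1) (nat_lit 0x210000400021010a0)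
  (Net.cons (nat_lit 1) (nat_lit 0x9424000a4294202948)
  (Net.cons (nat_lit 1) (nat_lit 0x2108521005294a4014a5)
  (Net.cons (nat_lit 1) (nat_lit 0x5214a1200a129480094a)
  (Net.cons (nat_lit 1) (nat_lit 0x8485290a401021000a5)
  (Net.cons (nat_lit 5) (nat_lit 0x1006068160300807808)
  (Net.cons (nat_lit 10) (nat_lit 0x2a2000d20027200318)
  (Net.cons (nat_lit 20) (nat_lit 0x5911000000954ce)
  (Net.cons (nat_lit 40) (nat_lit 0x60075e1590)
  Net.nil)))))))))))))
noncomputable def ns506 : ℕ → Net := upd (fun _ => Net.nil) 0 x505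
theorem der507 : Der 80 (finX 80) (cl (finG m2ok) [[4,10,0,0,5,0,11,0,11,2,0,0,4,1,1,11,5],[5,1,1,3,11,1,10,1,3,11,3,5,3,4]]) ns506 := der504.add (wp_mem_cl (w := [4,10,0,0,5,0,11,0,11,2,0,0,4,1,1,11,5]) (by decide)) ((finModel m2ok).toIsPre.rep_word (k := 7) (w := [4,10,0,0,5,0,11,0,11,2,0,0,4,1,1,11,5]) (n := x505) (by decide +kernel)) 0
noncomputable def x508 : Net := (Net.cons (nat_lit 40) (nat_lit 0xd5c3e22378)
  (Net.cons (nat_lit 20) (nat_lit 0xc97b80000002183)
  (Net.cons (nat_lit 10) (nat_lit 0xfb0013a00374003b1)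
  (Net.cons (nat_lit 5) (nat_lit 0x501c07c0305c0c02412)
  (Net.cons (nat_lit 1) (nat_lit 0x1001084000100108000)
  (Net.cons (nat_lit 1) (nat_lit 0x290a508020280210002)
  (Net.cons (nat_lit 1) (nat_lit 0x1484210a40942421005)
  (Net.cons (nat_lit 1) (nat_lit 0x94a5284a5084a4094a)
  (Net.cons (nat_lit 1) (nat_lit 0x900520421284a120481)
  (Net.cons (nat_lit 5) (nat_lit 0x1018038080400401808)
  (Net.cons (nat_lit 10) (nat_lit 0x2420010800050000b4)
  (Net.cons (nat_lit 20) (nat_lit 0x487b000000c330e)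
  (Net.cons (nat_lit 40) (nat_lit 0xf6d3bb347a)
  Net.nil)))))))))))))
noncomputable def ns509 : ℕ → Net := upd ns506 1 x508
theorem der510 : Der 80 (finX 80) (cl (finG m2ok) [[4,10,0,0,5,0,11,0,11,2,0,0,4,1,1,11,5],[5,1,1,3,11,1,10,1,3,11,3,5,3,4]]) ns509 := der507.add (wp_mem_cl (w := [5,1,1,3,11,1,10,1,3,11,3,5,3,4]) (by decide)) ((finModel m2ok).toIsPre.rep_word (k := 7) (w := [5,1,1,3,11,1,10,1,3,11,3,5,3,4]) (n := x508) (by decide +kernel)) 1
noncomputable def L511 : Lev := Lev.cons 0 24 [[0],[1]] Lev.nil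
theorem lc512 : Lev.chk 80 4 ns509 vT 100 L511 = true := by decide +kernel
theorem lb513 : 24 ≤ Nat.card (cl (finG m2ok) [[4,10,0,0,5,0,11,0,11,2,0,0,4,1,1,11,5],[5,1,1,3,11,1,10,1,3,11,3,5,3,4]]) := le_of_eq_of_le (by decide +kernel) (der510.card_ge lc512)
theorem ix503 : Idx.{u} io C478 [0,1,2,3,4,5,10,11] [[4,10,0,0,5,0,11,0,11,2,0,0,4,1,1,11,5],[5,1,1,3,11,1,10,1,3,11,3,5,3,4]] 80 := (Idx.of bd475 sat494 (by decide +kernel) lb513 (by decide +kernel)).of_imp imp480
noncomputable def lk514 : List (List ℕ × List ℕ × Pf) := [([4],[4],[([6],21)]),([10,0,0],[0,0,6,1,1,11,0,0],[([6,0,0,6,1,1,11,0,0],48)]),([5],[5],[([6,5],20)]),([0,11,0,11,2,0,0],[0,10,0,10,2,0,0],[([6],47)]),([1,1,11],[1,1,10,0,0,7,1,1],[([6],49)]),([1,1,3,11,1,10,1],[1,1,3,11,1,11,1],[([6,1,1,3,11,1,11,1],44)]),([3,11,3],[3,3,11],[([6,3,3,11],42)]),([5,3],[3,6,3,5,7,2],[([6,3,6,3,5],22)])]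
noncomputable def O515 : ℕ := (nat_lit 0x23c831b80e8611ff83a9f701c30c418218a7c090000f90908042090804000)
noncomputable def M516 : ℕ := (nat_lit 0x23c831b80e8691ff83f9ff21fb4eff9798afc1b7ff0fdef6ff7eef7bf7fff)
noncomputable def b517 : ℕ := (nat_lit 0x80008001c0180000003f200004038082000e020f)
theorem cl518 : Clo.{u} io C478 [0,1,2,3,4,5,10,11] 243 m477 M516 (mkB [(6,b517),(7,b501)]) := cl502.new (k := 5) (b := 6) (q := 3) (p := 14) (r := 200) (n := 80) (O := O515) (by decide +kernel) (lks := lk514) (by decide +kernel) (gens_of_lall2 (m := [[0,1,2,3,0,4,2],[2,5,6,7,0]]) (by decide +kernel)) ix503 (by decide +kernel)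
noncomputable def b519 : ℕ := (nat_lit 0x23c831a8060400f783197b2159081e9780aa41b7f60f08707c3e2718e374f)
noncomputable def b520 : ℕ := (nat_lit 0x23c810b00e8291fb80e0bd00ea46fd0198058003fb06d6c6bb48e863f4ab7)
theorem cl521 : Clo.{u} io C478 [0,1,2,3,4,5,10,11] 243 m477 M516 (mkB [(6,b519),(7,b520)]) := cl518.ops (os := [Op.ext 6 3 [([4],[4],[([6],21)]),([5],[5],[([6,5],20)]),([11,2,2],[10,2,2],[([6],41)]),([3,3,10],[3,3,11],[([6,3,3,11],40)]),([0,11,0,10,2,0,0],[0,10,0,10,2,0,0],[([6],45)]),([1,1,3,11,1,10,1],[1,1,3,11,1,11,1],[([6,1,1,3,11,1,11,1],44)])],Op.inv 6,Op.rel 6 [10] 7 [11] [([7],39)],Op.inv 6,Op.rel 7 [4,2] 7 [2,7,2,4,6,3] [([],22)],Op.inv 7,Op.rel 7 [0,3] 6 [1,7,0,0,7,3] [([6,1,7,0,0,7,3,6],25)],Op.ext 7 2 [([5],[5],[([7,5,6],21)]),([4],[4],[([],20)]),([3,3,11],[3,3,10],[([7,3,3,10,6],41)]),([10,2,2],[11,2,2],[([],40)]),([3,3,11],[3,11,3],[([7,3,11,3,6],43)]),([10,2,2],[2,10,2],[([],42)]),([1,1,3,11,1,11,1],[1,1,3,11,1,10,1],[([7,1,1,3,11,1,10,1,6],45)]),([0,10,0,10,2,0,0],[0,11,0,10,2,0,0],[([],44)]),([1,1,3,11,1,11,1],[1,1,3,10,1,10,1],[([7,1,1,3,10,1,10,1,6],47)]),([0,10,0,10,2,0,0],[0,11,0,11,2,0,0],[([],46)])],Op.inv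 7,Op.rel 6 [] 7 [7] [([],17)],Op.inv 6,Op.rel 6 [10] 7 [11] [([7],39)],Op.inv 6,Op.rel 7 [4,2] 7 [2,7,2,4,6,3] [([],22)],Op.inv 7]) (by decide +kernel) (by decide +kernel)
theorem der523 : Der 80 (finX 80) (cl (finG m2ok) [[4],[11,2,2],[2,4],[1]]) (fun _ => Net.nil) := Der.zero (finModel m2ok).inj
noncomputable def ns524 : ℕ → Net := upd (fun _ => Net.nil) 0 (m2 4)
theorem der525 : Der 80 (finX 80) (cl (finG m2ok) [[4],[11,2,2],[2,4],[1]]) ns524 := der523.add (wp_mem_cl (w := [4]) (by decide)) (rep_letter (finModel m2ok) 4) 0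
noncomputable def x526 : Net := (Net.cons (nat_lit 40) (nat_lit 0x9a6fbe680c)
  (Net.cons (nat_lit 20) (nat_lit 0xfdc0000000fafe0)
  (Net.cons (nat_lit 10) (nat_lit 0x21000020021a002e8)
  (Net.cons (nat_lit 5) (nat_lit 0x481c008000000806814)
  (Net.cons (nat_lit 1) (nat_lit 0x40800120001000012040)
  (Net.cons (nat_lit 1) (nat_lit 0x290812900028025290a4)
  (Net.cons (nat_lit 1) (nat_lit 0x1204a528001004252848)
  (Net.cons (nat_lit 1) (nat_lit 0x20420280a529425280a5)
  (Net.cons (nat_lit 5) (nat_lit 0x201a05000000080101c)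
  (Net.cons (nat_lit 10) (nat_lit 0xe000020000a003c0)
  (Net.cons (nat_lit 20) (nat_lit 0xfdc0000000fafe0)
  (Net.cons (nat_lit 40) (nat_lit 0x9a23be480c)
  Net.nil))))))))))))
noncomputable def ns527 : ℕ → Net := upd ns524 1 x526
theorem der528 : Der 80 (finX 80) (cl (finG m2ok) [[4],[11,2,2],[2,4],[1]]) ns527 := der525.add (wp_mem_cl (w := [11,2,2]) (by decide)) ((finModel m2ok).toIsPre.rep_word (k := 7) (w := [11,2,2]) (n := x526) (by decide +kernel)) 1
noncomputable def x529 : Net := (Net.cons (nat_lit 40) (nat_lit 0x5481194d5a)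
  (Net.cons (nat_lit 20) (nat_lit 0x89e780000085632)
  (Net.cons (nat_lit 10) (nat_lit 0x112000b00012a00152)
  (Net.cons (nat_lit 5) (nat_lit 0x40801012044000700f)
  (Net.cons (nat_lit 1) (nat_lit 0x8004000000040000400)
  (Net.cons (nat_lit 1) (nat_lit 0x1084a500080084040808)
  (Net.cons (nat_lit 1) (nat_lit 0x2948520405010a021424)
  (Net.cons (nat_lit 1) (nat_lit 0x5090a50902420405294a)
  (Net.cons (nat_lit 1) (nat_lit 0x84a50842520401004a1)
  (Net.cons (nat_lit 5) (nat_lit 0x20000000a070000681a)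
  (Net.cons (nat_lit 10) (nat_lit 0xf0000b00010a00152)
  (Net.cons (nat_lit 20) (nat_lit 0xede2000000ed432)
  (Net.cons (nat_lit 40) (nat_lit 0x341b1e9d28)
  Net.nil)))))))))))))
noncomputable def ns530 : ℕ → Net := upd ns527 2 x529
theorem der531 : Der 80 (finX 80) (cl (finG m2ok) [[4],[11,2,2],[2,4],[1]]) ns530 := der528.add (wp_mem_cl (w := [2,4]) (by decide)) ((finModel m2ok).toIsPre.rep_word (k := 7) (w := [2,4]) (n := x529) (by decide +kernel)) 2
noncomputable def ns532 : ℕ → Net := upd ns530 3 (m2 1)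
theorem der533 : Der 80 (finX 80) (cl (finG m2ok) [[4],[11,2,2],[2,4],[1]]) ns532 := der531.add (wp_mem_cl (w := [1]) (by decide)) (rep_letter (finModel m2ok) 1) 3
noncomputable def x534 : Net := (Net.cons (nat_lit 40) (nat_lit 0x6867e4f58a)
  (Net.cons (nat_lit 20) (nat_lit 0x3d45000000c917)
  (Net.cons (nat_lit 10) (nat_lit 0x15100247002c100160)
  (Net.cons (nat_lit 5) (nat_lit 0x2418060180040007011)
  (Net.cons (nat_lit 1) (nat_lit 0x8000080010000000000)
  (Net.cons (nat_lit 1) (nat_lit 0x50040100020010002800)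
  (Net.cons (nat_lit 1) (nat_lit 0x214a0290a500085090a4)
  (Net.cons (nat_lit 1) (nat_lit 0x509425084a428425294a)
  (Net.cons (nat_lit 1) (nat_lit 0x284a4094000000528405)
  (Net.cons (nat_lit 5) (nat_lit 0x1014040180000e0500c)
  (Net.cons (nat_lit 10) (nat_lit 0x10002ee001c20024c)
  (Net.cons (nat_lit 20) (nat_lit 0x13c86000004361c)
  (Net.cons (nat_lit 40) (nat_lit 0xb8d949d4a0)
  Net.nil)))))))))))))
noncomputable def x534s : ℕ → Net := upd ns532 4 x534
theorem der535 : Der 80 (finX 80) (cl (finG m2ok) [[4],[11,2,2],[2,4],[1]]) x534s := der533.ext (k := 7) (w := [3,0,1,3,0,1,3,2]) 4 (by decide +kernel)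
noncomputable def L536 : Lev := Lev.cons 8 24 [[0],[1],[4]] Lev.nil
noncomputable def L537 : Lev := Lev.cons 4 80 [[2],[3]] L536
theorem lc538 : Lev.chk 80 4 x534s vT 100 L537 = true := by decide +kernel
theorem lb539 : 1920 ≤ Nat.card (cl (finG m2ok) [[4],[11,2,2],[2,4],[1]]) := le_of_eq_of_le (by decide +kernel) (der535.card_ge lc538)
theorem ix522 : Idx.{u} io C478 [0,1,2,3,4,5,10,11] [[4],[11,2,2],[2,4],[1]] 1 := (Idx.of bd475 sat494 (by decide +kernel) lb539 (by decide +kernel)).of_imp imp480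
noncomputable def lk540 : List (List ℕ × List ℕ × Pf) := [([4],[4],[([6],21)]),([11,2,2],[10,2,2],[([6],41)]),([2,4],[3,6,4,2,7,2],[([6,3,6],23)]),([1],[2,1,7,3,7,1,1],[([6],27)])]
noncomputable def O541 : ℕ := (nat_lit 0x4000000000000000000000000000000000000000000000000000000000000)
noncomputable def M542 : ℕ := (nat_lit 0x63c831b80e8691ff83f9ff21fb4eff9798afc1b7ff0fdef6ff7eef7bf7fff)
noncomputable def b543 : ℕ := (nat_lit 0x23c831a8068400f783197b2159081e9780aa41b7f60f08707c3e2718e374f)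
theorem cl544 : Clo.{u} io C478 [0,1,2,3,4,5,10,11] 243 m477 M542 (mkB [(6,b543),(7,b520)]) := cl521.new (k := 5) (b := 6) (q := 203) (p := 242) (r := 200) (n := 1) (O := O541) (by decide +kernel) (lks := lk540) (by decide +kernel) (gens_of_lall2 (m := [[0],[1],[2],[3]]) (by decide +kernel)) ix522 (by decide +kernel)
noncomputable def b545 : ℕ := (nat_lit 0x63c831a8068400f783197b2159081e9780aa41b7f60f08707c3e2718e374f)
noncomputable def b546 : ℕ := (nat_lit 0x63c811b00e8291fb80e0bd00ea46fd0198058003fb06d6c6bb48e863f4ab7)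
theorem cl547 : Clo.{u} io C478 [0,1,2,3,4,5,10,11] 243 m477 M542 (mkB [(6,b545),(7,b546)]) := cl544.ops (os := [Op.inv 6,Op.rel 6 [] 7 [7] [([],17)],Op.inv 6]) (by decide +kernel) (by decide +kernel)
theorem der549 : Der 80 (finX 80) (cl (finG m2ok) [[1,1,11,3,3,10,1,1,3,10,1,10,1,1,11],[3,11,2,2,4,0,11,0,10,2,0,0,4]]) (fun _ => Net.nil) := Der.zero (finModel m2ok).inj
noncomputable def x550 : Net := (Net.cons (nat_lit 40) (nat_lit 0x62baa7bf43)
  (Net.cons (nat_lit 20) (nat_lit 0x2ec81000001eae4)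
  (Net.cons (nat_lit 10) (nat_lit 0x1af003b0001d2000b9)
  (Net.cons (nat_lit 5) (nat_lit 0x101a0141d0481907007)
  (Net.cons (nat_lit 1) (nat_lit 0x400000000000000000)
  (Net.cons (nat_lit 1) (nat_lit 0x902000005004a00100)
  (Net.cons (nat_lit 1) (nat_lit 0x210842802420085004a4)
  (Net.cons (nat_lit 1) (nat_lit 0x1214a508425090210942)
  (Net.cons (nat_lit 1) (nat_lit 0x204a4294000800008404)
  (Net.cons (nat_lit 5) (nat_lit 0x1014030000480c01004)
  (Net.cons (nat_lit 10) (nat_lit 0x2c0030e0000600042)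
  (Net.cons (nat_lit 20) (nat_lit 0x600880000057038)
  (Net.cons (nat_lit 40) (nat_lit 0x26ae953190)
  Net.nil)))))))))))))
noncomputable def ns551 : ℕ → Net := upd (fun _ => Net.nil) 0 x550
theorem der552 : Der 80 (finX 80) (cl (finG m2ok) [[1,1,11,3,3,10,1,1,3,10,1,10,1,1,11],[3,11,2,2,4,0,11,0,10,2,0,0,4]]) ns551 := der549.add (wp_mem_cl (w := [1,1,11,3,3,10,1,1,3,10,1,10,1,1,11]) (by decide)) ((finModel m2ok).toIsPre.rep_word (k := 7) (w := [1,1,11,3,3,10,1,1,3,10,1,10,1,1,11]) (n := x550) (by decide +kernel)) 0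
noncomputable def x553 : Net := (Net.cons (nat_lit 40) (nat_lit 0xb7c160ff90)
  (Net.cons (nat_lit 20) (nat_lit 0xbf90000003ff4)
  (Net.cons (nat_lit 10) (nat_lit 0x21000315001040005e)
  (Net.cons (nat_lit 5) (nat_lit 0x441c01c090541505000)
  (Net.cons (nat_lit 1) (nat_lit 0x28400280000800008000)
  (Net.cons (nat_lit 1) (nat_lit 0x52800501485010050048)
  (Net.cons (nat_lit 1) (nat_lit 0x294a1294a42108029484)
  (Net.cons (nat_lit 1) (nat_lit 0x5294a5084a5284052902)
  (Net.cons (nat_lit 1) (nat_lit 0x1405014810040128400)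
  (Net.cons (nat_lit 5) (nat_lit 0x3812020120101401000)
  (Net.cons (nat_lit 10) (nat_lit 0x10000018001000031e)
  (Net.cons (nat_lit 20) (nat_lit 0x7bef200000e7be0)
  (Net.cons (nat_lit 40) (nat_lit 0x58011077a0)
  Net.nil)))))))))))))
noncomputable def ns554 : ℕ → Net := upd ns551 1 x553
theorem der555 : Der 80 (finX 80) (cl (finG m2ok) [[1,1,11,3,3,10,1,1,3,10,1,10,1,1,11],[3,11,2,2,4,0,11,0,10,2,0,0,4]]) ns554 := der552.add (wp_mem_cl (w := [3,11,2,2,4,0,11,0,10,2,0,0,4]) (by decide)) ((finModel m2ok).toIsPre.rep_word (k := 7) (w := [3,11,2,2,4,0,11,0,10,2,0,0,4]) (n := x553) (by decide +kernel)) 1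
noncomputable def L556 : Lev := Lev.cons 2 24 [[0],[1]] Lev.nil
theorem lc557 : Lev.chk 80 4 ns554 vT 100 L556 = true := by decide +kernel
theorem lb558 : 24 ≤ Nat.card (cl (finG m2ok) [[1,1,11,3,3,10,1,1,3,10,1,10,1,1,11],[3,11,2,2,4,0,11,0,10,2,0,0,4]]) := le_of_eq_of_le (by decide +kernel) (der555.card_ge lc557)
theorem ix548 : Idx.{u} io C478 [0,1,2,3,4,5,10,11] [[1,1,11,3,3,10,1,1,3,10,1,10,1,1,11],[3,11,2,2,4,0,11,0,10,2,0,0,4]] 80 := (Idx.of bd475 sat494 (by decide +kernel) lb558 (by decide +kernel)).of_imp imp480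
noncomputable def lk559 : List (List ℕ × List ℕ × Pf) := [([1,1,11],[1,1,10,0,0,7,1,1],[([6],49)]),([3,3,10],[3,3,11],[([6,3,3,11],40)]),([1,1,3,10,1,10,1],[1,1,3,11,1,11,1],[([6,1,1,3,11,1,11,1],46)]),([0],[0,0,6,2,6,0,3],[([6,0,0,6,2,6,0,3],26)]),([4],[4],[([6],21)]),([5,3],[3,6,3,5,7,2],[([6,3,6,3,5],22)]),([11,2,2],[10,2,2],[([6],41)]),([0,11,0,10,2,0,0],[0,10,0,10,2,0,0],[([6],45)])]
noncomputable def O560 : ℕ := (nat_lit 0x1837ce47f1796e007c0600de04b1006867503e4800f021090081108408000)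
noncomputable def M561 : ℕ := (nat_lit 0x7bfffffffffffffffffffffffffffffffffffffffffffffffffffffffffff)
noncomputable def b562 : ℕ := (nat_lit 0x63c831a8068400f783197b2159081e9780aa41b7f60f08707c3e2718e375f)
theorem cl563 : Clo.{u} io C478 [0,1,2,3,4,5,10,11] 243 m477 M561 (mkB [(6,b562),(7,b546)]) := cl547.new (k := 5) (b := 6) (q := 4) (p := 22) (r := 200) (n := 80) (O := O560) (by decide +kernel) (lks := lk559) (by decide +kernel) (gens_of_lall2 (m := [[0,1,2,3,0],[4,5,6,4,7,4]]) (by decide +kernel)) ix548 (by decide +kernel)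
noncomputable def b564 : ℕ := (nat_lit 0x7bfffffffffffffffbfffffffffffffffffffffffffffffffffffffffffff)
noncomputable def b565 : ℕ := (nat_lit 0x7bffffbffffffffffffffffffffffffffffffffffffffffffffffffffffff)
theorem cl566 : Clo.{u} io C478 [0,1,2,3,4,5,10,11] 243 m477 M561 (mkB [(6,b564),(7,b565)]) := cl563.ops (os := [Op.ext 6 3 [([4],[4],[([6],21)]),([5],[5],[([6,5],20)]),([11,2,2],[10,2,2],[([6],41)]),([3,3,10],[3,3,11],[([6,3,3,11],40)]),([0,11,0,10,2,0,0],[0,10,0,10,2,0,0],[([6],45)]),([1,1,3,11,1,10,1],[1,1,3,11,1,11,1],[([6,1,1,3,11,1,11,1],44)])],Op.inv 6,Op.rel 6 [] 7 [7] [([],17)],Op.inv 6,Op.rel 6 [10] 7 [11] [([7],39)],Op.inv 6,Op.rel 7 [3,5] 7 [2,7,5,3,6,3] [([7,2,7,5,3,6,3,6],23)],Op.inv 7,Op.rel 7 [0,3] 6 [1,7,0,0,7,3] [([6,1,7,0,0,7,3,6],25)],Op.ext 7 2 [([5],[5],[([7,5,6],21)]),([4],[4],[([],20)]),([3,3,11],[3,3,10],[([7,3,3,10,6],41)]),([10,2,2],[11,2,2],[([],40)]),([3,3,11],[3,11,3],[([7,3,11,3,6],43)]),([10,2,2],[2,10,2],[([],42)]),([1,1,3,11,1,11,1],[1,1,3,11,1,10,1],[([7,1,1,3,11,1,10,1,6],45)]),([0,10,0,10,2,0,0],[0,11,0,10,2,0,0],[([],44)]),([1,1,3,11,1,11,1],[1,1,3,10,1,10,1],[([7,1,1,3,10,1,10,1,6],47)]),([0,10,0,10,2,0,0],[0,11,0,11,2,0,0],[([],46)])],Op.inv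 7,Op.rel 6 [] 7 [7] [([],17)],Op.inv 6,Op.rel 7 [3,5] 7 [2,7,5,3,6,3] [([7,2,7,5,3,6,3,6],23)],Op.inv 7]) (by decide +kernel) (by decide +kernel)
theorem der568 : Der 80 (finX 80) (cl (finG m2ok) [[4],[11,2,2],[2,4],[1]]) (fun _ => Net.nil) := Der.zero (finModel m2ok).inj
noncomputable def ns569 : ℕ → Net := upd (fun _ => Net.nil) 0 (m2 4)
theorem der570 : Der 80 (finX 80) (cl (finG m2ok) [[4],[11,2,2],[2,4],[1]]) ns569 := der568.add (wp_mem_cl (w := [4]) (by decide)) (rep_letter (finModel m2ok) 4) 0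
noncomputable def x571 : Net := (Net.cons (nat_lit 40) (nat_lit 0x9a6fbe680c)
  (Net.cons (nat_lit 20) (nat_lit 0xfdc0000000fafe0)
  (Net.cons (nat_lit 10) (nat_lit 0x21000020021a002e8)
  (Net.cons (nat_lit 5) (nat_lit 0x481c008000000806814)
  (Net.cons (nat_lit 1) (nat_lit 0x40800120001000012040)
  (Net.cons (nat_lit 1) (nat_lit 0x290812900028025290a4)
  (Net.cons (nat_lit 1) (nat_lit 0x1204a528001004252848)
  (Net.cons (nat_lit 1) (nat_lit 0x20420280a529425280a5)
  (Net.cons (nat_lit 5) (nat_lit 0x201a05000000080101c)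
  (Net.cons (nat_lit 10) (nat_lit 0xe000020000a003c0)
  (Net.cons (nat_lit 20) (nat_lit 0xfdc0000000fafe0)
  (Net.cons (nat_lit 40) (nat_lit 0x9a23be480c)
  Net.nil))))))))))))
noncomputable def ns572 : ℕ → Net := upd ns569 1 x571
theorem der573 : Der 80 (finX 80) (cl (finG m2ok) [[4],[11,2,2],[2,4],[1]]) ns572 := der570.add (wp_mem_cl (w := [11,2,2]) (by decide)) ((finModel m2ok).toIsPre.rep_word (k := 7) (w := [11,2,2]) (n := x571) (by decide +kernel)) 1
noncomputable def x574 : Net := (Net.cons (nat_lit 40) (nat_lit 0x5481194d5a)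
  (Net.cons (nat_lit 20) (nat_lit 0x89e780000085632)
  (Net.cons (nat_lit 10) (nat_lit 0x112000b00012a00152)
  (Net.cons (nat_lit 5) (nat_lit 0x40801012044000700f)
  (Net.cons (nat_lit 1) (nat_lit 0x8004000000040000400)
  (Net.cons (nat_lit 1) (nat_lit 0x1084a500080084040808)
  (Net.cons (nat_lit 1) (nat_lit 0x2948520405010a021424)
  (Net.cons (nat_lit 1) (nat_lit 0x5090a50902420405294a)
  (Net.cons (nat_lit 1) (nat_lit 0x84a50842520401004a1)
  (Net.cons (nat_lit 5) (nat_lit 0x20000000a070000681a)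
  (Net.cons (nat_lit 10) (nat_lit 0xf0000b00010a00152)
  (Net.cons (nat_lit 20) (nat_lit 0xede2000000ed432)
  (Net.cons (nat_lit 40) (nat_lit 0x341b1e9d28)
  Net.nil)))))))))))))
noncomputable def ns575 : ℕ → Net := upd ns572 2 x574
theorem der576 : Der 80 (finX 80) (cl (finG m2ok) [[4],[11,2,2],[2,4],[1]]) ns575 := der573.add (wp_mem_cl (w := [2,4]) (by decide)) ((finModel m2ok).toIsPre.rep_word (k := 7) (w := [2,4]) (n := x574) (by decide +kernel)) 2
noncomputable def ns577 : ℕ → Net := upd ns575 3 (m2 1)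
theorem der578 : Der 80 (finX 80) (cl (finG m2ok) [[4],[11,2,2],[2,4],[1]]) ns577 := der576.add (wp_mem_cl (w := [1]) (by decide)) (rep_letter (finModel m2ok) 1) 3
noncomputable def x579 : Net := (Net.cons (nat_lit 40) (nat_lit 0x6867e4f58a)
  (Net.cons (nat_lit 20) (nat_lit 0x3d45000000c917)
  (Net.cons (nat_lit 10) (nat_lit 0x15100247002c100160)
  (Net.cons (nat_lit 5) (nat_lit 0x2418060180040007011)
  (Net.cons (nat_lit 1) (nat_lit 0x8000080010000000000)
  (Net.cons (nat_lit 1) (nat_lit 0x50040100020010002800)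
  (Net.cons (nat_lit 1) (nat_lit 0x214a0290a500085090a4)
  (Net.cons (nat_lit 1) (nat_lit 0x509425084a428425294a)
  (Net.cons (nat_lit 1) (nat_lit 0x284a4094000000528405)
  (Net.cons (nat_lit 5) (nat_lit 0x1014040180000e0500c)
  (Net.cons (nat_lit 10) (nat_lit 0x10002ee001c20024c)
  (Net.cons (nat_lit 20) (nat_lit 0x13c86000004361c)
  (Net.cons (nat_lit 40) (nat_lit 0xb8d949d4a0)
  Net.nil)))))))))))))
noncomputable def x579s : ℕ → Net := upd ns577 4 x579
theorem der580 : Der 80 (finX 80) (cl (finG m2ok) [[4],[11,2,2],[2,4],[1]]) x579s := der578.ext (k := 7) (w := [3,0,1,3,0,1,3,2]) 4 (by decide +kernel)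
noncomputable def L581 : Lev := Lev.cons 8 24 [[0],[1],[4]] Lev.nil
noncomputable def L582 : Lev := Lev.cons 4 80 [[2],[3]] L581
theorem lc583 : Lev.chk 80 4 x579s vT 100 L582 = true := by decide +kernel
theorem lb584 : 1920 ≤ Nat.card (cl (finG m2ok) [[4],[11,2,2],[2,4],[1]]) := le_of_eq_of_le (by decide +kernel) (der580.card_ge lc583)
theorem ix567 : Idx.{u} io C478 [0,1,2,3,4,5,10,11] [[4],[11,2,2],[2,4],[1]] 1 := (Idx.of bd475 sat494 (by decide +kernel) lb584 (by decide +kernel)).of_imp imp480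
noncomputable def lk585 : List (List ℕ × List ℕ × Pf) := [([4],[4],[([6],21)]),([11,2,2],[10,2,2],[([6],41)]),([2,4],[3,6,4,2,7,2],[([6,3,6],23)]),([1],[2,1,7,3,7,1,1],[([6],27)])]
noncomputable def O586 : ℕ := (nat_lit 0x400000000000000000000000000000000000000000000000000000000000)
noncomputable def M587 : ℕ := (nat_lit 0x7ffffffffffffffffffffffffffffffffffffffffffffffffffffffffffff)
noncomputable def b588 : ℕ := (nat_lit 0x7bfffffffffffffffffffffffffffffffffffffffffffffffffffffffffff)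
theorem cl589 : Clo.{u} io C478 [0,1,2,3,4,5,10,11] 243 m477 M587 (mkB [(6,b588),(7,b565)]) := cl566.new (k := 5) (b := 6) (q := 174) (p := 238) (r := 200) (n := 1) (O := O586) (by decide +kernel) (lks := lk585) (by decide +kernel) (gens_of_lall2 (m := [[0],[1],[2],[3]]) (by decide +kernel)) ix567 (by decide +kernel)
noncomputable def b590 : ℕ := (nat_lit 0x7ffffffffffffffffffffffffffffffffffffffffffffffffffffffffffff)
noncomputable def b591 : ℕ := (nat_lit 0x7ffffffffffffffffffffffffffffffffffffffffffffffffffffffffffff)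
theorem cl592 : Clo.{u} io C478 [0,1,2,3,4,5,10,11] 243 m477 M587 (mkB [(6,b590),(7,b591)]) := cl589.ops (os := [Op.inv 6,Op.rel 6 [] 7 [7] [([],17)],Op.inv 6]) (by decide +kernel) (by decide +kernel)
theorem sat594 : Sat io C478 (finG m477ok) := m477s0.fin (k := 8) (by decide +kernel)
theorem bd593 : Bound.{u} io C478 [0,1,2,3,4,5,6,7,10,11] 466560 := cl592.bound (by decide +kernel) sat594 (bd475.of_imp imp480)
noncomputable def r33 : List ℕ := [8,1,10,8,1,10,8,1,10,8,1,10,8,1,10]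
noncomputable def r34 : List ℕ := [9,10,8,3,3,11]
noncomputable def r35 : List ℕ := [9,11,8,3,3,11]
noncomputable def r36 : List ℕ := [9,1,1,11,0,10,0,8,1,3,5,11,0,11,0]
noncomputable def r37 : List ℕ := [9,1,11,0,0,10,1,8,1,2,11,1,1,11,0]
noncomputable def m595n0 : Net := (Net.cons (nat_lit 16) (nat_lit 20736)
  (Net.cons (nat_lit 8) (nat_lit 0x60064)
  (Net.cons (nat_lit 4) (nat_lit 0x20d0a06)
  (Net.cons (nat_lit 2) (nat_lit 0x21310130)
  (Net.cons (nat_lit 1) (nat_lit 0x40504110)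
  (Net.cons (nat_lit 2) (nat_lit 0x20002000)
  (Net.cons (nat_lit 4) (nat_lit 0x60e000c)
  (Net.cons (nat_lit 8) (nat_lit 0x120042)
  (Net.cons (nat_lit 16) (nat_lit 21504)
  Net.nil)))))))))
noncomputable def m595n1 : Net := (Net.cons (nat_lit 16) (nat_lit 21504)
  (Net.cons (nat_lit 8) (nat_lit 0x350042)
  (Net.cons (nat_lit 4) (nat_lit 0x601000c)
  (Net.cons (nat_lit 2) (nat_lit 0x21132330)
  (Net.cons (nat_lit 1) (nat_lit 0x40054440)
  (Net.cons (nat_lit 2) (nat_lit 0x20000200)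
  (Net.cons (nat_lit 4) (nat_lit 0x4040a06)
  (Net.cons (nat_lit 8) (nat_lit 0x600064)
  (Net.cons (nat_lit 16) (nat_lit 20736)
  Net.nil)))))))))
noncomputable def m595n2 : Net := (Net.cons (nat_lit 16) (nat_lit 4096)
  (Net.cons (nat_lit 8) (nat_lit 0x5000fc)
  (Net.cons (nat_lit 4) (nat_lit 0x5070c)
  (Net.cons (nat_lit 2) (nat_lit 0x10202100)
  (Net.cons (nat_lit 1) (nat_lit 0x1405500)
  (Net.cons (nat_lit 2) (nat_lit 0x200000)
  (Net.cons (nat_lit 4) (nat_lit 0x40800)
  (Net.cons (nat_lit 8) (nat_lit 0x5000fc)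
  (Net.cons (nat_lit 16) (nat_lit 4096)
  Net.nil)))))))))
noncomputable def m595n3 : Net := (Net.cons (nat_lit 16) (nat_lit 4096)
  (Net.cons (nat_lit 8) (nat_lit 0x5000fc)
  (Net.cons (nat_lit 4) (nat_lit 0x5070c)
  (Net.cons (nat_lit 2) (nat_lit 0x10202100)
  (Net.cons (nat_lit 1) (nat_lit 0x1405500)
  (Net.cons (nat_lit 2) (nat_lit 0x200000)
  (Net.cons (nat_lit 4) (nat_lit 0x40800)
  (Net.cons (nat_lit 8) (nat_lit 0x5000fc)
  (Net.cons (nat_lit 16) (nat_lit 4096)
  Net.nil)))))))))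
noncomputable def m595n4 : Net := (Net.cons (nat_lit 16) (nat_lit 4096)
  (Net.cons (nat_lit 8) (nat_lit 0x5c0020)
  (Net.cons (nat_lit 4) (nat_lit 0x5050a00)
  (Net.cons (nat_lit 2) (nat_lit 0x10102120)
  (Net.cons (nat_lit 1) (nat_lit 0x4000110)
  (Net.cons (nat_lit 2) (nat_lit 0x2000020)
  (Net.cons (nat_lit 4) (nat_lit 0x4040208)
  (Net.cons (nat_lit 8) (nat_lit 0x480020)
  (Net.cons (nat_lit 16) (nat_lit 4096)
  Net.nil)))))))))
noncomputable def m595n5 : Net := (Net.cons (nat_lit 16) (nat_lit 4096)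
  (Net.cons (nat_lit 8) (nat_lit 0x590020)
  (Net.cons (nat_lit 4) (nat_lit 0xb010208)
  (Net.cons (nat_lit 2) (nat_lit 0x21012320)
  (Net.cons (nat_lit 1) (nat_lit 0x40000410)
  (Net.cons (nat_lit 2) (nat_lit 544)
  (Net.cons (nat_lit 4) (nat_lit 0xa000a00)
  (Net.cons (nat_lit 8) (nat_lit 0x480020)
  (Net.cons (nat_lit 16) (nat_lit 4096)
  Net.nil)))))))))
noncomputable def m595n8 : Net := (Net.cons (nat_lit 16) (nat_lit 36632)
  (Net.cons (nat_lit 8) (nat_lit 0x9a0048)
  (Net.cons (nat_lit 4) (nat_lit 0x600000c)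
  (Net.cons (nat_lit 2) (nat_lit 0x32201020)
  (Net.cons (nat_lit 1) (nat_lit 0x1050545)
  (Net.cons (nat_lit 2) (nat_lit 0x2000020)
  (Net.cons (nat_lit 4) (nat_lit 0x600000c)
  (Net.cons (nat_lit 8) (nat_lit 0x9a0048)
  (Net.cons (nat_lit 16) (nat_lit 36632)
  Net.nil)))))))))
noncomputable def m595n9 : Net := (Net.cons (nat_lit 16) (nat_lit 36632)
  (Net.cons (nat_lit 8) (nat_lit 0x9a0048)
  (Net.cons (nat_lit 4) (nat_lit 0x600000c)
  (Net.cons (nat_lit 2) (nat_lit 0x32201020)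
  (Net.cons (nat_lit 1) (nat_lit 0x1050545)
  (Net.cons (nat_lit 2) (nat_lit 0x2000020)
  (Net.cons (nat_lit 4) (nat_lit 0x600000c)
  (Net.cons (nat_lit 8) (nat_lit 0x9a0048)
  (Net.cons (nat_lit 16) (nat_lit 36632)
  Net.nil)))))))))
noncomputable def m595n10 : Net := (Net.cons (nat_lit 16) (nat_lit 18184)
  (Net.cons (nat_lit 8) (nat_lit 0x2d00a8)
  (Net.cons (nat_lit 4) (nat_lit 0x8000c)
  (Net.cons (nat_lit 2) (nat_lit 0x22120020)
  (Net.cons (nat_lit 1) (nat_lit 0x40001510)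
  (Net.cons (nat_lit 2) (nat_lit 0x20000020)
  (Net.cons (nat_lit 4) (nat_lit 0x80008)
  (Net.cons (nat_lit 8) (nat_lit 0x280028)
  (Net.cons (nat_lit 16) (nat_lit 18184)
  Net.nil)))))))))
noncomputable def m595n11 : Net := (Net.cons (nat_lit 16) (nat_lit 18184)
  (Net.cons (nat_lit 8) (nat_lit 0x2d00a8)
  (Net.cons (nat_lit 4) (nat_lit 0x8000c)
  (Net.cons (nat_lit 2) (nat_lit 0x22120020)
  (Net.cons (nat_lit 1) (nat_lit 0x40001510)
  (Net.cons (nat_lit 2) (nat_lit 0x20000020)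
  (Net.cons (nat_lit 4) (nat_lit 0x80008)
  (Net.cons (nat_lit 8) (nat_lit 0x280028)
  (Net.cons (nat_lit 16) (nat_lit 18184)
  Net.nil)))))))))
noncomputable def m595l : List Net := [m595n0,m595n1,m595n2,m595n3,m595n4,m595n5,Net.nil,Net.nil,m595n8,m595n9,m595n10,m595n11]
noncomputable abbrev m595 : ℕ → Net := lk Net.nil m595l
theorem m595ok : NetsOk 27 m595 vT := netsOk_of (by decide +kernel)
theorem m595s0 : Sat io [] (finG m595ok) := fin_sat_nil _ (k := 5) (n := 12) (by decide +kernel)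
noncomputable def C596 : List (List ℕ) := [r0,r1,r2,r3,r4,r5,r6,r7,r14,r15,r16,r17,r18,r22,r23,r24,r25,r26,r33,r34,r35,r36,r37]
theorem cl597 : Clo.{u} io C596 [0,1,2,3,4,5,10,11] 27 m595 1 (mkB []) := Clo.start (by decide +kernel)
theorem imp598 : Imp.{u} io C596 C437 := Imp.of_chk (pfs := [[([],1)],[([],3)],[([],5)],[([],7)],[([],9)],[([],11)],[([],13)],[([],15)],[([],27)],[([],29)],[([],31)],[([],33)],[([],35)]]) (by decide +kernel)
theorem der600 : Der 80 (finX 80) (cl (finG m2ok) [[2],[4],[10],[1,1,11,0,10,0]]) (fun _ => Net.nil) := Der.zero (finModel m2ok).inj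
noncomputable def ns601 : ℕ → Net := upd (fun _ => Net.nil) 0 (m2 2)
theorem der602 : Der 80 (finX 80) (cl (finG m2ok) [[2],[4],[10],[1,1,11,0,10,0]]) ns601 := der600.add (wp_mem_cl (w := [2]) (by decide)) (rep_letter (finModel m2ok) 2) 0
noncomputable def ns603 : ℕ → Net := upd ns601 1 (m2 4)
theorem der604 : Der 80 (finX 80) (cl (finG m2ok) [[2],[4],[10],[1,1,11,0,10,0]]) ns603 := der602.add (wp_mem_cl (w := [4]) (by decide)) (rep_letter (finModel m2ok) 4) 1
noncomputable def ns605 : ℕ → Net := upd ns603 2 (m2 10)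
theorem der606 : Der 80 (finX 80) (cl (finG m2ok) [[2],[4],[10],[1,1,11,0,10,0]]) ns605 := der604.add (wp_mem_cl (w := [10]) (by decide)) (rep_letter (finModel m2ok) 10) 2
noncomputable def x607 : Net := (Net.cons (nat_lit 40) (nat_lit 0xb620f979a6)
  (Net.cons (nat_lit 20) (nat_lit 0x7b9aa00000b7f00)
  (Net.cons (nat_lit 10) (nat_lit 0x940026e0035c001b0)
  (Net.cons (nat_lit 5) (nat_lit 0x5c18014170781007810)
  (Net.cons (nat_lit 1) (nat_lit 0x4000000000480)
  (Net.cons (nat_lit 1) (nat_lit 0x428000280a5004002940)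
  (Net.cons (nat_lit 1) (nat_lit 0x2900409404284a0090a0)
  (Net.cons (nat_lit 1) (nat_lit 0x5290a5280a508425294a)
  (Net.cons (nat_lit 1) (nat_lit 0x9001200012108121425)
  (Net.cons (nat_lit 5) (nat_lit 0x7812018100080804016)
  (Net.cons (nat_lit 10) (nat_lit 0xba00184002ec00062)
  (Net.cons (nat_lit 20) (nat_lit 0x58e8c00000daf40)
  (Net.cons (nat_lit 40) (nat_lit 0x78b5d9af18)
  Net.nil)))))))))))))
noncomputable def ns608 : ℕ → Net := upd ns605 3 x607
theorem der609 : Der 80 (finX 80) (cl (finG m2ok) [[2],[4],[10],[1,1,11,0,10,0]]) ns608 := der606.add (wp_mem_cl (w := [1,1,11,0,10,0]) (by decide)) ((finModel m2ok).toIsPre.rep_word (k := 7) (w := [1,1,11,0,10,0]) (n := x607) (by decide +kernel)) 3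
noncomputable def L610 : Lev := Lev.cons 0 3 [[1]] Lev.nil
noncomputable def L611 : Lev := Lev.cons 38 64 [[0],[2],[3]] L610
theorem lc612 : Lev.chk 80 4 ns608 vT 100 L611 = true := by decide +kernel
theorem lb613 : 192 ≤ Nat.card (cl (finG m2ok) [[2],[4],[10],[1,1,11,0,10,0]]) := le_of_eq_of_le (by decide +kernel) (der609.card_ge lc612)
theorem ix599 : Idx.{u} io C596 [0,1,2,3,4,5,10,11] [[2],[4],[10],[1,1,11,0,10,0]] 10 := (Idx.of bd475 sat494 (by decide +kernel) lb613 (by decide +kernel)).of_imp imp598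
noncomputable def lk614 : List (List ℕ × List ℕ × Pf) := [([2],[3],[([8],19)]),([4],[4,2],[([8],21)]),([10],[10,2,2],[([8],39)]),([1,1,11,0,10,0],[1,10,1,10,4,2,0],[([8],43)])]
noncomputable def O615 : ℕ := (nat_lit 43742)
noncomputable def M616 : ℕ := (nat_lit 43743)
noncomputable def b617 : ℕ := (nat_lit 1)
theorem cl618 : Clo.{u} io C596 [0,1,2,3,4,5,10,11] 27 m595 M616 (mkB [(8,b617)]) := cl597.new (k := 2) (b := 8) (q := 0) (p := 1) (r := 200) (n := 10) (O := O615) (by decide +kernel) (lks := lk614) (by decide +kernel) (gens_of_lall2 (m := [[0],[1],[2],[3]]) (by decide +kernel)) ix599 (by decide +kernel)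
noncomputable def b619 : ℕ := (nat_lit 3)
noncomputable def b620 : ℕ := (nat_lit 3)
theorem cl621 : Clo.{u} io C596 [0,1,2,3,4,5,10,11] 27 m595 M616 (mkB [(8,b619),(9,b620)]) := cl618.ops (os := [Op.inv 8,Op.rel 8 [] 9 [] [([],17)],Op.inv 8]) (by decide +kernel) (by decide +kernel)
theorem der623 : Der 80 (finX 80) (cl (finG m2ok) [[3,5],[0,2],[3,1,11,1,10,0,0,2,10,4]]) (fun _ => Net.nil) := Der.zero (finModel m2ok).inj
noncomputable def x624 : Net := (Net.cons (nat_lit 40) (nat_lit 0x36add0ba55)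
  (Net.cons (nat_lit 20) (nat_lit 0x4f6d900000ab8db)
  (Net.cons (nat_lit 10) (nat_lit 0xd8002a8000c80021a)
  (Net.cons (nat_lit 5) (nat_lit 0x481b0741d0640c03811)
  (Net.cons (nat_lit 1) (nat_lit 0x20000200000040000000)
  (Net.cons (nat_lit 1) (nat_lit 0x50008500400280800000)
  (Net.cons (nat_lit 1) (nat_lit 0x29004294a12142408021)
  (Net.cons (nat_lit 1) (nat_lit 0x1080a1084a1294a10042)
  (Net.cons (nat_lit 1) (nat_lit 0x521401200a4090a5)
  (Net.cons (nat_lit 5) (nat_lit 0x2806050180580601000)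
  (Net.cons (nat_lit 10) (nat_lit 0x1ac000a00020000200)
  (Net.cons (nat_lit 20) (nat_lit 0xc78b800000a087e)
  (Net.cons (nat_lit 40) (nat_lit 0x24adc413a8)
  Net.nil)))))))))))))
noncomputable def ns625 : ℕ → Net := upd (fun _ => Net.nil) 0 x624
theorem der626 : Der 80 (finX 80) (cl (finG m2ok) [[3,5],[0,2],[3,1,11,1,10,0,0,2,10,4]]) ns625 := der623.add (wp_mem_cl (w := [3,5]) (by decide)) ((finModel m2ok).toIsPre.rep_word (k := 7) (w := [3,5]) (n := x624) (by decide +kernel)) 0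
noncomputable def x627 : Net := (Net.cons (nat_lit 40) (nat_lit 0x669c518c48)
  (Net.cons (nat_lit 20) (nat_lit 0xd2f7200000adeee)
  (Net.cons (nat_lit 10) (nat_lit 0x30400070000870001c)
  (Net.cons (nat_lit 5) (nat_lit 0x20100241f07c010200d)
  (Net.cons (nat_lit 1) (nat_lit 0xa0000000800100400)
  (Net.cons (nat_lit 1) (nat_lit 0x10140029021010a50940)
  (Net.cons (nat_lit 1) (nat_lit 0x204a5214a420084294a1)
  (Net.cons (nat_lit 1) (nat_lit 0x5294a109485084a5284a)
  (Net.cons (nat_lit 1) (nat_lit 0x9480094852942009404)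
  (Net.cons (nat_lit 5) (nat_lit 0x500000008058120100c)
  (Net.cons (nat_lit 10) (nat_lit 0x31800072000ce00264)
  (Net.cons (nat_lit 20) (nat_lit 0x16a80000070d8c)
  (Net.cons (nat_lit 40) (nat_lit 0x7feccf7abe)
  Net.nil)))))))))))))
noncomputable def ns628 : ℕ → Net := upd ns625 1 x627
theorem der629 : Der 80 (finX 80) (cl (finG m2ok) [[3,5],[0,2],[3,1,11,1,10,0,0,2,10,4]]) ns628 := der626.add (wp_mem_cl (w := [0,2]) (by decide)) ((finModel m2ok).toIsPre.rep_word (k := 7) (w := [0,2]) (n := x627) (by decide +kernel)) 1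
noncomputable def x630 : Net := (Net.cons (nat_lit 40) (nat_lit 0xd2bff0079e)
  (Net.cons (nat_lit 20) (nat_lit 0x886180000000380)
  (Net.cons (nat_lit 10) (nat_lit 0x1c000201003fe00380)
  (Net.cons (nat_lit 5) (nat_lit 0x60000400c0000004000)
  (Net.cons (nat_lit 1) (nat_lit 0x100000)
  (Net.cons (nat_lit 1) (nat_lit 0x42000400400004240140)
  (Net.cons (nat_lit 1) (nat_lit 0x29000200a001084280a0)
  (Net.cons (nat_lit 1) (nat_lit 0x12840120404210a50942)
  (Net.cons (nat_lit 1) (nat_lit 0x280000800020425010a4)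
  (Net.cons (nat_lit 5) (nat_lit 0x60000000c0001004000)
  (Net.cons (nat_lit 10) (nat_lit 0x1c00000)
  (Net.cons (nat_lit 20) (nat_lit 0xf212000000f8000)
  (Net.cons (nat_lit 40) (nat_lit 0x487f0070e)
  Net.nil)))))))))))))
noncomputable def ns631 : ℕ → Net := upd ns628 2 x630
theorem der632 : Der 80 (finX 80) (cl (finG m2ok) [[3,5],[0,2],[3,1,11,1,10,0,0,2,10,4]]) ns631 := der629.add (wp_mem_cl (w := [3,1,11,1,10,0,0,2,10,4]) (by decide)) ((finModel m2ok).toIsPre.rep_word (k := 7) (w := [3,1,11,1,10,0,0,2,10,4]) (n := x630) (by decide +kernel)) 2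
noncomputable def L633 : Lev := Lev.cons 2 3 [[2]] Lev.nil
noncomputable def L634 : Lev := Lev.cons 0 40 [[0],[1]] L633
theorem lc635 : Lev.chk 80 4 ns631 vT 100 L634 = true := by decide +kernel
theorem lb636 : 120 ≤ Nat.card (cl (finG m2ok) [[3,5],[0,2],[3,1,11,1,10,0,0,2,10,4]]) := le_of_eq_of_le (by decide +kernel) (der632.card_ge lc635)
theorem ix622 : Idx.{u} io C596 [0,1,2,3,4,5,10,11] [[3,5],[0,2],[3,1,11,1,10,0,0,2,10,4]] 16 := (Idx.of bd475 sat494 (by decide +kernel) lb636 (by decide +kernel)).of_imp imp598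
noncomputable def lk637 : List (List ℕ × List ℕ × Pf) := [([3,5],[5],[([8,5,9],23)]),([0,2],[0,8,3,0,9,1],[([8,0,8],25)]),([3],[2],[([8,2],18)]),([1,11,1,10,0,0],[1,3,5,11,0,11,0],[([8,1,3,5,11,0,11,0],42)]),([2],[3],[([8],19)]),([10],[10,2,2],[([8],39)]),([4],[4,2],[([8],21)])]
noncomputable def O638 : ℕ := (nat_lit 0x7ff5520)
noncomputable def M639 : ℕ := (nat_lit 0x7ffffff)
noncomputable def b640 : ℕ := (nat_lit 7)
theorem cl641 : Clo.{u} io C596 [0,1,2,3,4,5,10,11] 27 m595 M639 (mkB [(8,b640),(9,b620)]) := cl621.new (k := 2) (b := 8) (q := 2) (p := 5) (r := 200) (n := 16) (O := O638) (by decide +kernel) (lks := lk637) (by decide +kernel) (gens_of_lall2 (m := [[0],[1],[2,3,4,5,6]]) (by decide +kernel)) ix622 (by decide +kernel)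
noncomputable def b642 : ℕ := (nat_lit 0x7ffffff)
noncomputable def b643 : ℕ := (nat_lit 0x7ffffff)
theorem cl644 : Clo.{u} io C596 [0,1,2,3,4,5,10,11] 27 m595 M639 (mkB [(8,b642),(9,b643)]) := cl641.ops (os := [Op.ext 8 2 [([2],[3],[([8],19)]),([3],[2],[([8,2],18)]),([3,5],[5],[([8,5,9],23)]),([4,2],[4],[([],22)]),([4],[4,2],[([8],21)]),([5],[3,5],[([8,3,5],20)]),([10],[10,2,2],[([8],39)]),([11],[3,3,11],[([8,3,3,11],38)]),([1,1,11,0,10,0],[1,10,1,10,4,2,0],[([8],43)]),([1,11,1,10,0,0],[1,3,5,11,0,11,0],[([8,1,3,5,11,0,11,0],42)]),([1,11,0,0,10,1],[1,10,0,0,10,3,0],[([8],45)]),([0,11,1,1,10,0],[1,2,11,1,1,11,0],[([8,1,2,11,1,1,11,0],44)])],Op.inv 8,Op.rel 8 [] 9 [] [([],17)],Op.inv 8,Op.rel 8 [1,10] 9 [11,0,9,11,0,9,11,0,9,11,0] [([9],37)],Op.ext 8 2 [([2],[3],[([8],19)]),([3],[2],[([8,2],18)]),([3,5],[5],[([8,5,9],23)]),([4,2],[4],[([],22)]),([4],[4,2],[([8],21)]),([5],[3,5],[([8,3,5],20)]),([10],[10,2,2],[([8],39)]),([11],[3,3,11],[([8,3,3,11],38)]),([1,1,11,0,10,0],[1,10,1,10,4,2,0],[([8],43)]),([1,11,1,10,0,0],[1,3,5,11,0,11,0],[([8,1,3,5,11,0,11,0],42)]),([1,11,0,0,10,1],[1,10,0,0,10,3,0],[([8],45)]),([0,11,1,1,10,0],[1,2,11,1,1,11,0],[([8,1,2,11,1,1,11,0],44)])],Op.inv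 8]) (by decide +kernel) (by decide +kernel)
theorem sat646 : Sat io C596 (finG m595ok) := m595s0.fin (k := 5) (by decide +kernel)
theorem bd645 : Bound.{u} io C596 [0,1,2,3,4,5,8,9,10,11] 51840 := cl644.bound (by decide +kernel) sat646 (bd475.of_imp imp598)
noncomputable def m647n0 : Net := (Net.cons (nat_lit 128) (nat_lit 0x33dc4d42d93f2ce32f775b5410ac4aa4)
  (Net.cons (nat_lit 64) (nat_lit 0x11bfd23e821085dc0000000000000000b52935f8679e978e)
  (Net.cons (nat_lit 32) (nat_lit 0x69a1faa7000000005152afc000000000346c2aed0000000074f68850)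
  (Net.cons (nat_lit 16) (nat_lit 0xd67f00006e800000c2e0000092080000d7020000571400000bfb0000060e)
  (Net.cons (nat_lit 8) (nat_lit 0x82009900ed000000fc008400db005100220054007c00f9000000c80049000c)
  (Net.cons (nat_lit 4) (nat_lit 0x70109000e0808020906000d010c070107020c0f000607020608060700020f02)
  (Net.cons (nat_lit 2) (nat_lit 0x3102321030120100133002100023230122211222210121023322202301032330)
  (Net.cons (nat_lit 1) (nat_lit 0x5144410445441110051114441010411444444141101444504141500405141444)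
  (Net.cons (nat_lit 2) (nat_lit 0x202220000200200002002002020220202202200200020002020000200002202)
  (Net.cons (nat_lit 4) (nat_lit 0x80c00000a0e0800080a020808000c0400040402080c0602080806080c040404)
  (Net.cons (nat_lit 8) (nat_lit 0x1e00a800ae0016001600ca009200b2004a0090006c00e000ac00f800020022)
  (Net.cons (nat_lit 16) (nat_lit 0xd64400006a50000070b200002e30000047200000d004000063080000c0f8)
  (Net.cons (nat_lit 32) (nat_lit 0x5b80022c000000008c82244c00000000ad6c360a000000007e1131d4)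
  (Net.cons (nat_lit 64) (nat_lit 0x10ea5d3331bf62120000000000000000bd0a78584e6188be)
  (Net.cons (nat_lit 128) (nat_lit 0x33dd63d46241458a081fbf67bc6a1728)
  Net.nil)))))))))))))))
noncomputable def m647n1 : Net := (Net.cons (nat_lit 128) (nat_lit 0xcf8fde490f095a5af12f42915ef9b0e6)
  (Net.cons (nat_lit 64) (nat_lit 0x7063219c34d0e0cc00000000000000007b71f6bd1937cc88)
  (Net.cons (nat_lit 32) (nat_lit 0xf45e41d70000000048815fc400000000482f76fe0000000017fa1c8e)
  (Net.cons (nat_lit 16) (nat_lit 0xd9a00000ad350000b8e60000bf9b0000a74d0000817c0000d8e20000ad94)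
  (Net.cons (nat_lit 8) (nat_lit 0x1c005c0049003000cb00c50002004e0038001f000c0095005600dd00f70084)
  (Net.cons (nat_lit 4) (nat_lit 0x70a0c0b030e0d02040001070e0d01080506010a080c0b090f030309080c00)
  (Net.cons (nat_lit 2) (nat_lit 0x100011012310312031302100231230010130212101322002112232013221220)
  (Net.cons (nat_lit 1) (nat_lit 0x4011141044110414510104414111154014111451111114144414411044115410)
  (Net.cons (nat_lit 2) (nat_lit 0x2002220002000022000202002222000002000000200202000222222002020020)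
  (Net.cons (nat_lit 4) (nat_lit 0x6000202060808080c0800080e0200080c0000000c00040a0c0c0e0004000200)
  (Net.cons (nat_lit 8) (nat_lit 0x7000f200e8005a00b800c8006800020040000c00880096001a007a00ae0044)
  (Net.cons (nat_lit 16) (nat_lit 0xd2f00000e1d40000f4ec000078ee0000ed100000799c0000ef2000006992)
  (Net.cons (nat_lit 32) (nat_lit 0xd6de851a000000004313dab200000000386e3d8800000000036e58e0)
  (Net.cons (nat_lit 64) (nat_lit 0xf4eaa7e6b75475d600000000000000005b1165d32bf0c850)
  (Net.cons (nat_lit 128) (nat_lit 0xcf8ee31e5981c900a4b9c29be664b378)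
  Net.nil)))))))))))))))
noncomputable def m647n2 : Net := (Net.cons (nat_lit 128) (nat_lit 0x9fbf84d4aa8f83012dd160d34048300)
  (Net.cons (nat_lit 64) (nat_lit 0xcfff5fda27df82f300000000000000004c161dcf4e5860c0)
  (Net.cons (nat_lit 32) (nat_lit 0x40730c48000000002e74b2f300000000ac42a5d6000000008ac499d2)
  (Net.cons (nat_lit 16) (nat_lit 0x7bc10000434a000082dd0000980f00004a79000061c40000e655000096d6)
  (Net.cons (nat_lit 8) (nat_lit 0x1b009300af00de0015006b0051000c00d4004a00aa00ad00cc006b009e009a)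
  (Net.cons (nat_lit 4) (nat_lit 0xf020b0a0b0b040e0e03080b000c0d0e0c04060700020c070a060408000c0d02)
  (Net.cons (nat_lit 2) (nat_lit 0x2331100320133200200231001030032330213123021022301231220231021000)
  (Net.cons (nat_lit 1) (nat_lit 0x1144104101054414510411104014044100545101151450504115144145151144)
  (Net.cons (nat_lit 2) (nat_lit 0x2000002202002020020200202002020000020002002200002220202200002000)
  (Net.cons (nat_lit 4) (nat_lit 0x40604080c020a0e00080a08000404080c040600060a0c080a0e0a06080400)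
  (Net.cons (nat_lit 8) (nat_lit 0xf8005800540084008e00020020006e00940098005a001600040048002c0054)
  (Net.cons (nat_lit 16) (nat_lit 0x380400000240000097180000c8bc0000807c000011c00000721000008274)
  (Net.cons (nat_lit 32) (nat_lit 0x14e28a0000000001f550426000000009e52131400000000a9e88a4c)
  (Net.cons (nat_lit 64) (nat_lit 0xcf9547a371b6489000000000000000003e17ed2e90bf8784)
  (Net.cons (nat_lit 128) (nat_lit 0x9fa6f0e16dcbc8698f506996eb21000)
  Net.nil)))))))))))))))
noncomputable def m647n3 : Net := (Net.cons (nat_lit 128) (nat_lit 0x9fa6f0e16dcbc8698f506996eb21000)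
  (Net.cons (nat_lit 64) (nat_lit 0x705ffd48de49342300000000000000003e17ed2e90bf8784)
  (Net.cons (nat_lit 32) (nat_lit 0xeefcf50d000000006162c83800000000fed2373500000000a9e98a5c)
  (Net.cons (nat_lit 16) (nat_lit 0x2be600008dc200003f810000088e00005f4b00008b240000e39500007d88)
  (Net.cons (nat_lit 8) (nat_lit 0x2c00ed008d002f0043006f00c100de009800a400fa008d00fb00290054002c)
  (Net.cons (nat_lit 4) (nat_lit 0x8020902050107080304020c030301000c090601000a060a0b0c0a0c0a000604)
  (Net.cons (nat_lit 2) (nat_lit 0x1203200223032132230302130120321213022231011213021200322301003210)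
  (Net.cons (nat_lit 1) (nat_lit 0x1410145401044441110404451410140454401401154045144514110514451550)
  (Net.cons (nat_lit 2) (nat_lit 0x200220202002000200200202000000002002000000020220020220002000000)
  (Net.cons (nat_lit 4) (nat_lit 0x200020402020804060c0e0608020c06080202000402080606080c00020002)
  (Net.cons (nat_lit 8) (nat_lit 0x5a00c000640014006a00e2005800980042004000ea007000b20060009a009e)
  (Net.cons (nat_lit 16) (nat_lit 0x40200000cdd0000093d000000d100000a99e00008b100000679000006908)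
  (Net.cons (nat_lit 32) (nat_lit 0xb7281774000000006bfb2ec000000000b4c2a9c4000000008ae419d2)
  (Net.cons (nat_lit 64) (nat_lit 0x710ea277f9a7250c00000000000000004c161dcf4e5860c0)
  (Net.cons (nat_lit 128) (nat_lit 0x9fbf84d4aa8f83012dd160d34048300)
  Net.nil)))))))))))))))
noncomputable def m647n4 : Net := (Net.cons (nat_lit 128) (nat_lit 0x97ea30e953dada67d7128b678bac2e56)
  (Net.cons (nat_lit 64) (nat_lit 0xf91cfd6b55bea7100000000000000000839d6f6c28fa5db2)
  (Net.cons (nat_lit 32) (nat_lit 0x7402c33c00000000bcd979e0000000005c1fb9900000000038f167d2)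
  (Net.cons (nat_lit 16) (nat_lit 0xb781000062fc0000c7620000518e000044c000003c18000031c40000ad3c)
  (Net.cons (nat_lit 8) (nat_lit 0x9800f300c3004f00030057009500f5004d00510080005a004a008c007f00d2)
  (Net.cons (nat_lit 4) (nat_lit 0x7000f0c00080b07050e08020c01040f010a01060c0d01060308080702050102)
  (Net.cons (nat_lit 2) (nat_lit 0x233021013002231032010220301003203000230121022020022321100102122)
  (Net.cons (nat_lit 1) (nat_lit 0x1110440444510410011511040104411001140515551010041041400450040454)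
  (Net.cons (nat_lit 2) (nat_lit 0x2220220202020200020002020000002002200020002020000022000200020002)
  (Net.cons (nat_lit 4) (nat_lit 0x80808000c0c0a0c0404080c08020c080e0202080c080402000c040a020a02)
  (Net.cons (nat_lit 8) (nat_lit 0xfc0070005000040032007000940078001a007000ac0070004a00ca0022000a)
  (Net.cons (nat_lit 16) (nat_lit 0x89a4000000680000fe9a0000578600005ac800007d00000069c40000d272)
  (Net.cons (nat_lit 32) (nat_lit 0xf141484e000000003878fbe000000000158f90900000000050c33940)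
  (Net.cons (nat_lit 64) (nat_lit 0x6a3ddec6e1f01c300000000000000000cb9d397c52742ab8)
  (Net.cons (nat_lit 128) (nat_lit 0x97ea00a1755ca3e7bdbc82ab8fbc10d6)
  Net.nil)))))))))))))))
noncomputable def m647n5 : Net := (Net.cons (nat_lit 128) (nat_lit 0x97ea00a1755ca3e7bdbc82ab8fbc10d6)
  (Net.cons (nat_lit 64) (nat_lit 0x6a3ddec7e1f05c3000000000000000004b3fbbc446542abc)
  (Net.cons (nat_lit 32) (nat_lit 0xf141484e000000003878fbe00000000009a971de00000000e7dbc6d8)
  (Net.cons (nat_lit 16) (nat_lit 0x7753000000610000fe9a0000ea4900003d8600002f3800005c5c0000aa36)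
  (Net.cons (nat_lit 8) (nat_lit 0xcf00fc00af00fb00c9000f007c000b002f00c6001e00040067008200da0048)
  (Net.cons (nat_lit 4) (nat_lit 0xc0b0f080d000c03090106040007050a0a0b060b0f010108010a0f0802030500)
  (Net.cons (nat_lit 2) (nat_lit 0x3232021312311322001022320321300012200200210100202012300110220120)
  (Net.cons (nat_lit 1) (nat_lit 0x1444014011114440514040414404100144144150110405501114041050014044)
  (Net.cons (nat_lit 2) (nat_lit 0x2002000020200220020020200200200222222200200200002020002000022020)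
  (Net.cons (nat_lit 4) (nat_lit 0x40a08000a00000400080c0804000c080a0006080a00020000040406020a0c04)
  (Net.cons (nat_lit 8) (nat_lit 0x140098003c00b000f800a000b4000a002600cc0020005800fe00a20018000c)
  (Net.cons (nat_lit 16) (nat_lit 0x4866000020fc0000c7620000ee400000360800004d30000097c40000a276)
  (Net.cons (nat_lit 32) (nat_lit 0x7402c33c00000000bcd979e000000000429f705a00000000d7ca93d8)
  (Net.cons (nat_lit 64) (nat_lit 0xf81cfd6b45bea7100000000000000000433fefec30fe59a4)
  (Net.cons (nat_lit 128) (nat_lit 0x97ea30e953dada67d7128b678bac2e56)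
  Net.nil)))))))))))))))
noncomputable def m647n6 : Net := (Net.cons (nat_lit 128) (nat_lit 0x9038bf0260ee88112d8414ce1d4192e1)
  (Net.cons (nat_lit 64) (nat_lit 0x9098001b212468910000000000000000437fc1331c40a2d9)
  (Net.cons (nat_lit 32) (nat_lit 0x3f52501e00000000b870626e000000000aa70e9900000000ad6496d4)
  (Net.cons (nat_lit 16) (nat_lit 0x6afb0000b232000058570000aae800003c040000aaea000032b80000fe60)
  (Net.cons (nat_lit 8) (nat_lit 0x4e004f008a00cc00140056002d00690016000000df0047008900c100110058)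
  (Net.cons (nat_lit 4) (nat_lit 0x6080101000408080f04090f03020903030106010b08050d0102060e07050b01)
  (Net.cons (nat_lit 2) (nat_lit 0x203020012103031130002202222312311120111031012230012302311111221)
  (Net.cons (nat_lit 1) (nat_lit 0x5444401410511011411414451514114405544451111551104410454014455011)
  (Net.cons (nat_lit 2) (nat_lit 0x220202000002000220220002022000200002202022002202220002002000020)
  (Net.cons (nat_lit 4) (nat_lit 0xa080402080404000002040208080802000002000600020600080a0a0a020004)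
  (Net.cons (nat_lit 8) (nat_lit 0x4400440028000000100026008a00240002008c00a00032001400a000180056)
  (Net.cons (nat_lit 16) (nat_lit 0xd3100000729200009a680000d15a000016020000f0340000f13c00004f68)
  (Net.cons (nat_lit 32) (nat_lit 0xbf40e84800000000b40b0d80000000000c5f250c00000000c6a2dae2)
  (Net.cons (nat_lit 64) (nat_lit 0xa9e81684ac5164000000000000000025b870d9af2eb344)
  (Net.cons (nat_lit 128) (nat_lit 0x903d298501f3764cedd63a2d0a68a08c)
  Net.nil)))))))))))))))
noncomputable def m647n7 : Net := (Net.cons (nat_lit 128) (nat_lit 0x49cec6dbde34c88b130dd5d2b5924b53)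
  (Net.cons (nat_lit 64) (nat_lit 0xd354abce48872d8c00000000000000009ee28b564f63db41)
  (Net.cons (nat_lit 32) (nat_lit 0x31c5556000000000f2a0e8780000000035468b990000000006620019)
  (Net.cons (nat_lit 16) (nat_lit 0x7d10000ea940000e40400001a0c0000e9cf0000793f0000aab900005299)
  (Net.cons (nat_lit 8) (nat_lit 0xa6001a004d00c500c700b6000f009800520073005800040095009c004400d9)
  (Net.cons (nat_lit 4) (nat_lit 0x8050b08020e090d02000d08050f0b0800030e090c0d0e0c03040a0203030902)
  (Net.cons (nat_lit 2) (nat_lit 0x1122222230213203120032120112022200320203231020320332303121120203)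
  (Net.cons (nat_lit 1) (nat_lit 0x4144015405141504044555410445454514145415450514415445000105401410)
  (Net.cons (nat_lit 2) (nat_lit 0x202000000002000000000200200000002000200200022200000000000200000)
  (Net.cons (nat_lit 4) (nat_lit 0xc000202040c00020c020804060406000c0e0c0a00000c080a0a0c020804020c)
  (Net.cons (nat_lit 8) (nat_lit 0x2c00100090009a006c00040042003000a000660078005800a600ec004c00f0)
  (Net.cons (nat_lit 16) (nat_lit 0xe6c20000277800008aa8000072980000cb1c00007bba00006dd8000094a2)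
  (Net.cons (nat_lit 32) (nat_lit 0x7198a30000000000f72092e0000000001b104d2800000000154504c4)
  (Net.cons (nat_lit 64) (nat_lit 0xdad4758cc8671f8800000000000000001cc631b5169a3698)
  (Net.cons (nat_lit 128) (nat_lit 0x49cf25bc9d21f7cd9a3bebb122ac051e)
  Net.nil)))))))))))))))
noncomputable def m647n8 : Net := (Net.cons (nat_lit 128) (nat_lit 0xe66495001a80bf1212c240b180088200)
  (Net.cons (nat_lit 64) (nat_lit 0x62abf64632d1571000000000000000009ed3f105c6494100)
  (Net.cons (nat_lit 32) (nat_lit 0xd3d9ac8000000008a6357d00000000020030241000000009da85b70)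
  (Net.cons (nat_lit 16) (nat_lit 0x6580000058e8000046710000af62000090bd000007e400003ca100003908)
  (Net.cons (nat_lit 8) (nat_lit 0x3c00c10060009400fe00d80021006000b100da00e100530018001000a0001c)
  (Net.cons (nat_lit 4) (nat_lit 0x8040a00000c020205020805050b090c000f06050a08010808040802080c020a)
  (Net.cons (nat_lit 2) (nat_lit 0x1303320030222032312331010230133120030223120212222210232002022222)
  (Net.cons (nat_lit 1) (nat_lit 0x40005454414101414100140154415014455110440410100101101501541100)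
  (Net.cons (nat_lit 2) (nat_lit 0x222002200000220200020022000220000220000200202002022200)
  (Net.cons (nat_lit 4) (nat_lit 0x8040000000c0202020c080e000a040c0a0a06040400080008060800080c0000)
  (Net.cons (nat_lit 8) (nat_lit 0x1c00c00060009000fe00d800180060008c009a00e000a80018001000a00018)
  (Net.cons (nat_lit 16) (nat_lit 0x6580000058e800000e700000ad62000002bc000005a400003c8200002908)
  (Net.cons (nat_lit 32) (nat_lit 0xd3d9ac8000000008a63575000000000334348b8000000009da81330)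
  (Net.cons (nat_lit 64) (nat_lit 0x628bf64630d1571000000000000000009ed3f10586494100)
  (Net.cons (nat_lit 128) (nat_lit 0xe66495001a80bf1212c240b180088200)
  Net.nil)))))))))))))))
noncomputable def m647n9 : Net := (Net.cons (nat_lit 128) (nat_lit 0xe66495001a80bf1212c240b180088200)
  (Net.cons (nat_lit 64) (nat_lit 0x62abf64632d1571000000000000000009ed3f105c6494100)
  (Net.cons (nat_lit 32) (nat_lit 0xd3d9ac8000000008a6357d00000000020030241000000009da85b70)
  (Net.cons (nat_lit 16) (nat_lit 0x6580000058e8000046710000af62000090bd000007e400003ca100003908)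
  (Net.cons (nat_lit 8) (nat_lit 0x3c00c10060009400fe00d80021006000b100da00e100530018001000a0001c)
  (Net.cons (nat_lit 4) (nat_lit 0x8040a00000c020205020805050b090c000f06050a08010808040802080c020a)
  (Net.cons (nat_lit 2) (nat_lit 0x1303320030222032312331010230133120030223120212222210232002022222)
  (Net.cons (nat_lit 1) (nat_lit 0x40005454414101414100140154415014455110440410100101101501541100)
  (Net.cons (nat_lit 2) (nat_lit 0x222002200000220200020022000220000220000200202002022200)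
  (Net.cons (nat_lit 4) (nat_lit 0x8040000000c0202020c080e000a040c0a0a06040400080008060800080c0000)
  (Net.cons (nat_lit 8) (nat_lit 0x1c00c00060009000fe00d800180060008c009a00e000a80018001000a00018)
  (Net.cons (nat_lit 16) (nat_lit 0x6580000058e800000e700000ad62000002bc000005a400003c8200002908)
  (Net.cons (nat_lit 32) (nat_lit 0xd3d9ac8000000008a63575000000000334348b8000000009da81330)
  (Net.cons (nat_lit 64) (nat_lit 0x628bf64630d1571000000000000000009ed3f10586494100)
  (Net.cons (nat_lit 128) (nat_lit 0xe66495001a80bf1212c240b180088200)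
  Net.nil)))))))))))))))
noncomputable def m647n10 : Net := (Net.cons (nat_lit 128) (nat_lit 0xca249f447040efd0820e06020011c00)
  (Net.cons (nat_lit 64) (nat_lit 0x7de0d0f4a1bc78800000000000000000d775836ca3477e80)
  (Net.cons (nat_lit 32) (nat_lit 0x8343ef1e00000000b68a930800000000536095f600000000008e0c68)
  (Net.cons (nat_lit 16) (nat_lit 0x8fca000064c8000012880000c5a80000e47400008e3400009a8c00005380)
  (Net.cons (nat_lit 8) (nat_lit 0x1007300de00ec002a008b00500046007a002d005000010058006800ff001e)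
  (Net.cons (nat_lit 4) (nat_lit 0xe080f050701010504000707080a0e0a0a030f050c0f07080e00060500000202)
  (Net.cons (nat_lit 2) (nat_lit 0x2300011011201120300011212201201303000312103331120323022010102300)
  (Net.cons (nat_lit 1) (nat_lit 0x1401041041441040501401141000400545004404051445151510144441114104)
  (Net.cons (nat_lit 2) (nat_lit 0x202020022200020000002002000200000000202000000000020022020200000)
  (Net.cons (nat_lit 4) (nat_lit 0x80e00080000040400000c0800040806000a040c0000060e00060400000c00)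
  (Net.cons (nat_lit 8) (nat_lit 0xaa004400de0060002800e000100060007e0038007800bc005800680000000e)
  (Net.cons (nat_lit 16) (nat_lit 0xcaca000064c8000012080000c4a80000e11800001a4c00009a8400005380)
  (Net.cons (nat_lit 32) (nat_lit 0xa703ee1e00000000b68a930800000000532015b000000000000e0c68)
  (Net.cons (nat_lit 64) (nat_lit 0x7de0d0f4a1bc7880000000000000000057758364e2477e80)
  (Net.cons (nat_lit 128) (nat_lit 0xca249f447048fd11c40e04480010400)
  Net.nil)))))))))))))))
noncomputable def m647n11 : Net := (Net.cons (nat_lit 128) (nat_lit 0xca249f447040efd0820e06020011c00)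
  (Net.cons (nat_lit 64) (nat_lit 0x7de0d0f4a1bc78800000000000000000d775836ca3477e80)
  (Net.cons (nat_lit 32) (nat_lit 0x8343ef1e00000000b68a930800000000536095f600000000008e0c68)
  (Net.cons (nat_lit 16) (nat_lit 0x8fca000064c8000012880000c5a80000e47400008e3400009a8c00005380)
  (Net.cons (nat_lit 8) (nat_lit 0x1007300de00ec002a008b00500046007a002d005000010058006800ff001e)
  (Net.cons (nat_lit 4) (nat_lit 0xe080f050701010504000707080a0e0a0a030f050c0f07080e00060500000202)
  (Net.cons (nat_lit 2) (nat_lit 0x2300011011201120300011212201201303000312103331120323022010102300)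
  (Net.cons (nat_lit 1) (nat_lit 0x1401041041441040501401141000400545004404051445151510144441114104)
  (Net.cons (nat_lit 2) (nat_lit 0x202020022200020000002002000200000000202000000000020022020200000)
  (Net.cons (nat_lit 4) (nat_lit 0x80e00080000040400000c0800040806000a040c0000060e00060400000c00)
  (Net.cons (nat_lit 8) (nat_lit 0xaa004400de0060002800e000100060007e0038007800bc005800680000000e)
  (Net.cons (nat_lit 16) (nat_lit 0xcaca000064c8000012080000c4a80000e11800001a4c00009a8400005380)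
  (Net.cons (nat_lit 32) (nat_lit 0xa703ee1e00000000b68a930800000000532015b000000000000e0c68)
  (Net.cons (nat_lit 64) (nat_lit 0x7de0d0f4a1bc7880000000000000000057758364e2477e80)
  (Net.cons (nat_lit 128) (nat_lit 0xca249f447048fd11c40e04480010400)
  Net.nil)))))))))))))))
noncomputable def m647l : List Net := [m647n0,m647n1,m647n2,m647n3,m647n4,m647n5,m647n6,m647n7,m647n8,m647n9,m647n10,m647n11]
noncomputable abbrev m647 : ℕ → Net := lk Net.nil m647l
theorem m647ok : NetsOk 243 m647 vT := netsOk_of (by decide +kernel)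
theorem m647s0 : Sat io [] (finG m647ok) := fin_sat_nil _ (k := 8) (n := 12) (by decide +kernel)
noncomputable def C648 : List (List ℕ) := [r0,r1,r2,r3,r4,r5,r6,r7,r8,r9,r10,r11,r12,r13,r14,r15,r16,r17,r18,r19,r20,r21,r22,r23,r24,r25,r26,r27,r28,r29,r30,r31,r32,r33,r34,r35,r36,r37]
theorem cl649 : Clo.{u} io C648 [0,1,2,3,4,5,8,9,10,11] 243 m647 1 (mkB []) := Clo.start (by decide +kernel)
theorem imp650 : Imp.{u} io C648 C596 := Imp.of_chk (pfs := [[([],1)],[([],3)],[([],5)],[([],7)],[([],9)],[([],11)],[([],13)],[([],15)],[([],29)],[([],31)],[([],33)],[([],35)],[([],37)],[([],45)],[([],47)],[([],49)],[([],51)],[([],53)],[([],67)],[([],69)],[([],71)],[([],73)],[([],75)]]) (by decide +kernel)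
theorem der652 : Der 80 (finX 80) (cl (finG m2ok) [[4],[11,2,2],[0,0,8,3,0],[0,11,0,10,2,0,0]]) (fun _ => Net.nil) := Der.zero (finModel m2ok).inj
noncomputable def ns653 : ℕ → Net := upd (fun _ => Net.nil) 0 (m2 4)
theorem der654 : Der 80 (finX 80) (cl (finG m2ok) [[4],[11,2,2],[0,0,8,3,0],[0,11,0,10,2,0,0]]) ns653 := der652.add (wp_mem_cl (w := [4]) (by decide)) (rep_letter (finModel m2ok) 4) 0
noncomputable def x655 : Net := (Net.cons (nat_lit 40) (nat_lit 0x9a6fbe680c)
  (Net.cons (nat_lit 20) (nat_lit 0xfdc0000000fafe0)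
  (Net.cons (nat_lit 10) (nat_lit 0x21000020021a002e8)
  (Net.cons (nat_lit 5) (nat_lit 0x481c008000000806814)
  (Net.cons (nat_lit 1) (nat_lit 0x40800120001000012040)
  (Net.cons (nat_lit 1) (nat_lit 0x290812900028025290a4)
  (Net.cons (nat_lit 1) (nat_lit 0x1204a528001004252848)
  (Net.cons (nat_lit 1) (nat_lit 0x20420280a529425280a5)
  (Net.cons (nat_lit 5) (nat_lit 0x201a05000000080101c)
  (Net.cons (nat_lit 10) (nat_lit 0xe000020000a003c0)
  (Net.cons (nat_lit 20) (nat_lit 0xfdc0000000fafe0)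
  (Net.cons (nat_lit 40) (nat_lit 0x9a23be480c)
  Net.nil))))))))))))
noncomputable def ns656 : ℕ → Net := upd ns653 1 x655
theorem der657 : Der 80 (finX 80) (cl (finG m2ok) [[4],[11,2,2],[0,0,8,3,0],[0,11,0,10,2,0,0]]) ns656 := der654.add (wp_mem_cl (w := [11,2,2]) (by decide)) ((finModel m2ok).toIsPre.rep_word (k := 7) (w := [11,2,2]) (n := x655) (by decide +kernel)) 1
noncomputable def x658 : Net := (Net.cons (nat_lit 40) (nat_lit 0xd66fabe71d)
  (Net.cons (nat_lit 20) (nat_lit 0xdff540000012a82)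
  (Net.cons (nat_lit 10) (nat_lit 0x17f003d3001850027e)
  (Net.cons (nat_lit 5) (nat_lit 0x400e048110101a03418)
  (Net.cons (nat_lit 1) (nat_lit 0x4040000100000)
  (Net.cons (nat_lit 1) (nat_lit 0x20080080a1204200008)
  (Net.cons (nat_lit 1) (nat_lit 0x2100501025294a501404)
  (Net.cons (nat_lit 1) (nat_lit 0x10902520425294a02802)
  (Net.cons (nat_lit 1) (nat_lit 0x1025090810908000420)
  (Net.cons (nat_lit 5) (nat_lit 0x400207000008000301a)
  (Net.cons (nat_lit 10) (nat_lit 0x3a001b4002a800344)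
  (Net.cons (nat_lit 20) (nat_lit 0xbefd00000023682)
  (Net.cons (nat_lit 40) (nat_lit 0x5655adce18)
  Net.nil)))))))))))))
noncomputable def ns659 : ℕ → Net := upd ns656 2 x658
theorem der660 : Der 80 (finX 80) (cl (finG m2ok) [[4],[11,2,2],[0,0,8,3,0],[0,11,0,10,2,0,0]]) ns659 := der657.add (wp_mem_cl (w := [0,0,8,3,0]) (by decide)) ((finModel m2ok).toIsPre.rep_word (k := 7) (w := [0,0,8,3,0]) (n := x658) (by decide +kernel)) 2
noncomputable def x661 : Net := (Net.cons (nat_lit 40) (nat_lit 0x6cf366402c)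
  (Net.cons (nat_lit 20) (nat_lit 0x5becf0000087668)
  (Net.cons (nat_lit 10) (nat_lit 0x3d10021d0006000318)
  (Net.cons (nat_lit 5) (nat_lit 0x3408060020041006000)
  (Net.cons (nat_lit 1) (nat_lit 0x1004050040500000)
  (Net.cons (nat_lit 1) (nat_lit 0xa0084a0094a0210a)
  (Net.cons (nat_lit 1) (nat_lit 0x28404010a5094a501084)
  (Net.cons (nat_lit 1) (nat_lit 0x1090a0294a1284a1094a)
  (Net.cons (nat_lit 1) (nat_lit 0x294a10800429001294a5)
  (Net.cons (nat_lit 5) (nat_lit 0x100c060160000604000)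
  (Net.cons (nat_lit 10) (nat_lit 0x290000140034000294)
  (Net.cons (nat_lit 20) (nat_lit 0x1fe2e0000085dc4)
  (Net.cons (nat_lit 40) (nat_lit 0x7641d6358e)
  Net.nil)))))))))))))
noncomputable def ns662 : ℕ → Net := upd ns659 3 x661
theorem der663 : Der 80 (finX 80) (cl (finG m2ok) [[4],[11,2,2],[0,0,8,3,0],[0,11,0,10,2,0,0]]) ns662 := der660.add (wp_mem_cl (w := [0,11,0,10,2,0,0]) (by decide)) ((finModel m2ok).toIsPre.rep_word (k := 7) (w := [0,11,0,10,2,0,0]) (n := x661) (by decide +kernel)) 3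
noncomputable def x664 : Net := (Net.cons (nat_lit 40) (nat_lit 0x9d79460b47)
  (Net.cons (nat_lit 20) (nat_lit 0xbb7e80000098080)
  (Net.cons (nat_lit 10) (nat_lit 0x255002380037a00161)
  (Net.cons (nat_lit 5) (nat_lit 0x809068110281207803)
  (Net.cons (nat_lit 1) (nat_lit 0x200000108000)
  (Net.cons (nat_lit 1) (nat_lit 0x40020481014250840)
  (Net.cons (nat_lit 1) (nat_lit 0x14a4090a528085214a1)
  (Net.cons (nat_lit 1) (nat_lit 0x8481094a5294a52842)
  (Net.cons (nat_lit 1) (nat_lit 0x9421200210100028485)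
  (Net.cons (nat_lit 5) (nat_lit 0x2806050180400c03804)
  (Net.cons (nat_lit 10) (nat_lit 0x17c00318002dc00080)
  (Net.cons (nat_lit 20) (nat_lit 0xf5fe800000e0020)
  (Net.cons (nat_lit 40) (nat_lit 0x53b5421a6c)
  Net.nil)))))))))))))
noncomputable def x664s : ℕ → Net := upd ns662 4 x664
theorem der665 : Der 80 (finX 80) (cl (finG m2ok) [[4],[11,2,2],[0,0,8,3,0],[0,11,0,10,2,0,0]]) x664s := der663.ext (k := 7) (w := [0,2,3,3,2,1,2]) 4 (by decide +kernel)
noncomputable def x666 : Net := (Net.cons (nat_lit 40) (nat_lit 0x8000000000)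
  (Net.cons (nat_lit 20) (nat_lit 0x800010000000000)
  (Net.cons (nat_lit 10) (nat_lit 0x201002000034000300)
  (Net.cons (nat_lit 5) (nat_lit 0x4401078100040005800)
  (Net.cons (nat_lit 1) (nat_lit 0x400080050800001000)
  (Net.cons (nat_lit 1) (nat_lit 0x429401000a5000042800)
  (Net.cons (nat_lit 1) (nat_lit 0x294a0200052900021400)
  (Net.cons (nat_lit 1) (nat_lit 0x528485080a5214012800)
  (Net.cons (nat_lit 1) (nat_lit 0x21485090012040009400)
  (Net.cons (nat_lit 5) (nat_lit 0x2078100080003000)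
  (Net.cons (nat_lit 10) (nat_lit 0x2000038000300)
  (Net.cons (nat_lit 40) (nat_lit 0x4000000000)
  Net.nil))))))))))))
noncomputable def x666s : ℕ → Net := upd x664s 5 x666
theorem der667 : Der 80 (finX 80) (cl (finG m2ok) [[4],[11,2,2],[0,0,8,3,0],[0,11,0,10,2,0,0]]) x666s := der665.ext (k := 7) (w := [3,4,3,3,4,1]) 5 (by decide +kernel)
noncomputable def L668 : Lev := Lev.cons 8 3 [[5]] Lev.nil
noncomputable def L669 : Lev := Lev.cons 0 8 [[1],[3],[4]] L668
noncomputable def L670 : Lev := Lev.cons 44 27 [[0],[2]] L669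
theorem lc671 : Lev.chk 80 4 x666s vT 100 L670 = true := by decide +kernel
theorem lb672 : 648 ≤ Nat.card (cl (finG m2ok) [[4],[11,2,2],[0,0,8,3,0],[0,11,0,10,2,0,0]]) := le_of_eq_of_le (by decide +kernel) (der667.card_ge lc671)
theorem sat673 : Sat io C596 (finG m2ok) := m2s0.fin (k := 7) (by decide +kernel)
theorem ix651 : Idx.{u} io C648 [0,1,2,3,4,5,8,9,10,11] [[4],[11,2,2],[0,0,8,3,0],[0,11,0,10,2,0,0]] 80 := (Idx.of bd645 sat673 (by decide +kernel) lb672 (by decide +kernel)).of_imp imp650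
noncomputable def lk674 : List (List ℕ × List ℕ × Pf) := [([4],[4],[([6],21)]),([11,2,2],[10,2,2],[([6],57)]),([0,0,8,3,0],[0,0,8,3,0],[([6],39)]),([0,11,0,10,2,0,0],[0,10,0,10,2,0,0],[([6],61)])]
noncomputable def O675 : ℕ := (nat_lit 0x1900001c9808048001ff9002649ff9f3fce79fcfffe)
noncomputable def M676 : ℕ := (nat_lit 0x1900001c9808048001ff9002649ff9f3fce79fcffff)
noncomputable def b677 : ℕ := (nat_lit 1)
theorem cl678 : Clo.{u} io C648 [0,1,2,3,4,5,8,9,10,11] 243 m647 M676 (mkB [(6,b677)]) := cl649.new (k := 5) (b := 6) (q := 0) (p := 1) (r := 200) (n := 80) (O := O675) (by decide +kernel) (lks := lk674) (by decide +kernel) (gens_of_lall2 (m := [[0],[1],[2],[3]]) (by decide +kernel)) ix651 (by decide +kernel)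
noncomputable def b679 : ℕ := (nat_lit 0x8080080006e000004098040e4200700c87)
noncomputable def b680 : ℕ := (nat_lit 0x8080080006e000004098040e4200700c87)
theorem cl681 : Clo.{u} io C648 [0,1,2,3,4,5,8,9,10,11] 243 m647 M676 (mkB [(6,b679),(7,b680)]) := cl678.ops (os := [Op.inv 6,Op.rel 6 [10] 7 [11] [([7],55)],Op.inv 6,Op.rel 6 [] 7 [7] [([],17)],Op.inv 6,Op.rel 6 [9,0,0] 7 [9,6,0,0] [([7,9,6,0,0,7],43)],Op.ext 6 3 [([4],[4],[([6],21)]),([5],[5],[([6,5],20)]),([11,2,2],[10,2,2],[([6],57)]),([3,3,10],[3,3,11],[([6,3,3,11],56)]),([0,0,8,3,0],[0,0,8,3,0],[([6],39)]),([1,2,9,1,1],[1,2,9,1,1],[([6,1,2,9,1,1],38)]),([0,11,0,10,2,0,0],[0,10,0,10,2,0,0],[([6],61)]),([1,1,3,11,1,10,1],[1,1,3,11,1,11,1],[([6,1,1,3,11,1,11,1],60)])],Op.inv 6]) (by decide +kernel) (by decide +kernel)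
theorem der683 : Der 80 (finX 80) (cl (finG m2ok) [[0,0,8,3,0,0,11,0,10,2,0,0,10,0,0,4,0,0,8,3,0],[5,2,4,1,2,9,1,1,3,11,3,10,0,0,5],[4,0,0,8,3,0,11,2,2,0,0,8,3,0,5]]) (fun _ => Net.nil) := Der.zero (finModel m2ok).inj
noncomputable def x684 : Net := (Net.cons (nat_lit 40) (nat_lit 0x10b1b7746)
  (Net.cons (nat_lit 20) (nat_lit 0x3d3600000078a61)
  (Net.cons (nat_lit 10) (nat_lit 0xb8001520027b003ea)
  (Net.cons (nat_lit 5) (nat_lit 0x4c0d058060581206c1c)
  (Net.cons (nat_lit 1) (nat_lit 32)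
  (Net.cons (nat_lit 1) (nat_lit 0x2000008004000a00148)
  (Net.cons (nat_lit 1) (nat_lit 0x90040140029004080a5)
  (Net.cons (nat_lit 1) (nat_lit 0x1290a529425084a1294a)
  (Net.cons (nat_lit 1) (nat_lit 0x8405010a02908500425)
  (Net.cons (nat_lit 5) (nat_lit 0x401e0401a060000101c)
  (Net.cons (nat_lit 10) (nat_lit 0x52002a80022a000ee)
  (Net.cons (nat_lit 20) (nat_lit 0x4e0000001cea0)
  (Net.cons (nat_lit 40) (nat_lit 0x351ba222e0)
  Net.nil)))))))))))))
noncomputable def ns685 : ℕ → Net := upd (fun _ => Net.nil) 0 x684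
theorem der686 : Der 80 (finX 80) (cl (finG m2ok) [[0,0,8,3,0,0,11,0,10,2,0,0,10,0,0,4,0,0,8,3,0],[5,2,4,1,2,9,1,1,3,11,3,10,0,0,5],[4,0,0,8,3,0,11,2,2,0,0,8,3,0,5]]) ns685 := der683.add (wp_mem_cl (w := [0,0,8,3,0,0,11,0,10,2,0,0,10,0,0,4,0,0,8,3,0]) (by decide)) ((finModel m2ok).toIsPre.rep_word (k := 7) (w := [0,0,8,3,0,0,11,0,10,2,0,0,10,0,0,4,0,0,8,3,0]) (n := x684) (by decide +kernel)) 0
noncomputable def x687 : Net := (Net.cons (nat_lit 40) (nat_lit 0x73d75f1ae2)
  (Net.cons (nat_lit 20) (nat_lit 0x53efd00000c67ff)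
  (Net.cons (nat_lit 10) (nat_lit 0xe90014800277003ed)
  (Net.cons (nat_lit 5) (nat_lit 0x280705006040060541c)
  (Net.cons (nat_lit 1) (nat_lit 0x8000080240800100000)
  (Net.cons (nat_lit 1) (nat_lit 0x120081014a1014a40000)
  (Net.cons (nat_lit 1) (nat_lit 0x2940520485200a421400)
  (Net.cons (nat_lit 1) (nat_lit 0x509425094a4204a52942)
  (Net.cons (nat_lit 1) (nat_lit 0x21001004052040129004)
  (Net.cons (nat_lit 5) (nat_lit 0x4800020100200803808)
  (Net.cons (nat_lit 10) (nat_lit 0x260026400260003a8)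
  (Net.cons (nat_lit 20) (nat_lit 0xbba8c00000b118c)
  (Net.cons (nat_lit 40) (nat_lit 0x5f9b734354)
  Net.nil)))))))))))))
noncomputable def ns688 : ℕ → Net := upd ns685 1 x687
theorem der689 : Der 80 (finX 80) (cl (finG m2ok) [[0,0,8,3,0,0,11,0,10,2,0,0,10,0,0,4,0,0,8,3,0],[5,2,4,1,2,9,1,1,3,11,3,10,0,0,5],[4,0,0,8,3,0,11,2,2,0,0,8,3,0,5]]) ns688 := der686.add (wp_mem_cl (w := [5,2,4,1,2,9,1,1,3,11,3,10,0,0,5]) (by decide)) ((finModel m2ok).toIsPre.rep_word (k := 7) (w := [5,2,4,1,2,9,1,1,3,11,3,10,0,0,5]) (n := x687) (by decide +kernel)) 1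
noncomputable def x690 : Net := (Net.cons (nat_lit 40) (nat_lit 0x5df3331703)
  (Net.cons (nat_lit 20) (nat_lit 0xaa1a20000025d95)
  (Net.cons (nat_lit 10) (nat_lit 0x18d001b000043000d7)
  (Net.cons (nat_lit 5) (nat_lit 0x7406078060240004002)
  (Net.cons (nat_lit 1) (nat_lit 5)
  (Net.cons (nat_lit 1) (nat_lit 0x20080000a400400204a)
  (Net.cons (nat_lit 1) (nat_lit 0x148528084284a001485)
  (Net.cons (nat_lit 1) (nat_lit 0x528425294a509404294a)
  (Net.cons (nat_lit 1) (nat_lit 0x284a02142409001004a5)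
  (Net.cons (nat_lit 5) (nat_lit 0x601004006060080501c)
  (Net.cons (nat_lit 10) (nat_lit 0x360003b40026000056)
  (Net.cons (nat_lit 20) (nat_lit 0xb17000000014e34)
  (Net.cons (nat_lit 40) (nat_lit 0x9581b31704)
  Net.nil)))))))))))))
noncomputable def ns691 : ℕ → Net := upd ns688 2 x690
theorem der692 : Der 80 (finX 80) (cl (finG m2ok) [[0,0,8,3,0,0,11,0,10,2,0,0,10,0,0,4,0,0,8,3,0],[5,2,4,1,2,9,1,1,3,11,3,10,0,0,5],[4,0,0,8,3,0,11,2,2,0,0,8,3,0,5]]) ns691 := der689.add (wp_mem_cl (w := [4,0,0,8,3,0,11,2,2,0,0,8,3,0,5]) (by decide)) ((finModel m2ok).toIsPre.rep_word (k := 7) (w := [4,0,0,8,3,0,11,2,2,0,0,8,3,0,5]) (n := x690) (by decide +kernel)) 2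
noncomputable def x693 : Net := (Net.cons (nat_lit 40) (nat_lit 0x4d1c1110c)
  (Net.cons (nat_lit 20) (nat_lit 0xce98e000006e57d)
  (Net.cons (nat_lit 10) (nat_lit 0x35c000a0003f50001c)
  (Net.cons (nat_lit 5) (nat_lit 0x180105c1a0481607407)
  (Net.cons (nat_lit 1) (nat_lit 0x800000408000)
  (Net.cons (nat_lit 1) (nat_lit 0x21400000a5294a)
  (Net.cons (nat_lit 1) (nat_lit 0x20000010a009085214a4)
  (Net.cons (nat_lit 1) (nat_lit 0x50940008425210a5284a)
  (Net.cons (nat_lit 1) (nat_lit 0x29480004a42808509485)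
  (Net.cons (nat_lit 5) (nat_lit 0x1010048120501a03018)
  (Net.cons (nat_lit 10) (nat_lit 0x238000180022a00364)
  (Net.cons (nat_lit 20) (nat_lit 0xc3802000005b78c)
  (Net.cons (nat_lit 40) (nat_lit 0x9791cf5922)
  Net.nil)))))))))))))
noncomputable def x693s : ℕ → Net := upd ns691 3 x693
theorem der694 : Der 80 (finX 80) (cl (finG m2ok) [[0,0,8,3,0,0,11,0,10,2,0,0,10,0,0,4,0,0,8,3,0],[5,2,4,1,2,9,1,1,3,11,3,10,0,0,5],[4,0,0,8,3,0,11,2,2,0,0,8,3,0,5]]) x693s := der692.ext (k := 7) (w := [2,1,0,0,2,2]) 3 (by decide +kernel)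
noncomputable def x695 : Net := (Net.cons (nat_lit 40) (nat_lit 0x1ad04905ac)
  (Net.cons (nat_lit 20) (nat_lit 0x870f00000007870)
  (Net.cons (nat_lit 10) (nat_lit 0x1d20004c0011900148)
  (Net.cons (nat_lit 5) (nat_lit 0x500504006038060080c)
  (Net.cons (nat_lit 1) (nat_lit 0x20000000000040000000)
  (Net.cons (nat_lit 1) (nat_lit 0x50040408000080000900)
  (Net.cons (nat_lit 1) (nat_lit 0x28080214800940101480)
  (Net.cons (nat_lit 1) (nat_lit 0x10100108401280202940)
  (Net.cons (nat_lit 1) (nat_lit 0x28080000a40102500400)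
  (Net.cons (nat_lit 5) (nat_lit 0x804070020200405004)
  (Net.cons (nat_lit 10) (nat_lit 0x1b6000c40019800104)
  (Net.cons (nat_lit 20) (nat_lit 0x870f00000007870)
  (Net.cons (nat_lit 40) (nat_lit 0x6c45d11b0)
  Net.nil)))))))))))))
noncomputable def x695s : ℕ → Net := upd x693s 4 x695
theorem der696 : Der 80 (finX 80) (cl (finG m2ok) [[0,0,8,3,0,0,11,0,10,2,0,0,10,0,0,4,0,0,8,3,0],[5,2,4,1,2,9,1,1,3,11,3,10,0,0,5],[4,0,0,8,3,0,11,2,2,0,0,8,3,0,5]]) x695s := der694.ext (k := 7) (w := [0,0,3,3,3,0,3,0]) 4 (by decide +kernel)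
noncomputable def L697 : Lev := Lev.cons 2 3 [[4]] Lev.nil
noncomputable def L698 : Lev := Lev.cons 0 8 [[0],[3]] L697
noncomputable def L699 : Lev := Lev.cons 53 27 [[1],[2]] L698
theorem lc700 : Lev.chk 80 4 x695s vT 100 L699 = true := by decide +kernel
theorem lb701 : 648 ≤ Nat.card (cl (finG m2ok) [[0,0,8,3,0,0,11,0,10,2,0,0,10,0,0,4,0,0,8,3,0],[5,2,4,1,2,9,1,1,3,11,3,10,0,0,5],[4,0,0,8,3,0,11,2,2,0,0,8,3,0,5]]) := le_of_eq_of_le (by decide +kernel) (der696.card_ge lc700)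
theorem ix682 : Idx.{u} io C648 [0,1,2,3,4,5,8,9,10,11] [[0,0,8,3,0,0,11,0,10,2,0,0,10,0,0,4,0,0,8,3,0],[5,2,4,1,2,9,1,1,3,11,3,10,0,0,5],[4,0,0,8,3,0,11,2,2,0,0,8,3,0,5]] 80 := (Idx.of bd645 sat673 (by decide +kernel) lb701 (by decide +kernel)).of_imp imp650
noncomputable def lk702 : List (List ℕ × List ℕ × Pf) := [([0,0,8,3,0],[0,0,8,3,0],[([6],39)]),([0,11,0,10,2,0,0],[0,10,0,10,2,0,0],[([6],61)]),([10,0,0],[0,0,6,1,1,11,0,0],[([6,0,0,6,1,1,11,0,0],64)]),([4],[4],[([6],21)]),([5],[5],[([6,5],20)]),([2,4],[3,6,4,2,7,2],[([6,3,6],23)]),([1,2,9,1,1],[1,2,9,1,1],[([6,1,2,9,1,1],38)]),([3,11,3],[3,3,11],[([6,3,3,11],58)]),([11,2,2],[10,2,2],[([6],57)])]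
noncomputable def O703 : ℕ := (nat_lit 0xac4e28644ff0fbf0ec4935c2120e4527c1400407c8a20020801104010000)
noncomputable def M704 : ℕ := (nat_lit 0xac4e28644ff0fbf0edd935c3db8ec56fc15ffd07eeebffbfbfdf7dfdffff)
noncomputable def b705 : ℕ := (nat_lit 0x8080080006e000004098040e4200700c8f)
theorem cl706 : Clo.{u} io C648 [0,1,2,3,4,5,8,9,10,11] 243 m647 M704 (mkB [(6,b705),(7,b680)]) := cl681.new (k := 5) (b := 6) (q := 3) (p := 16) (r := 200) (n := 80) (O := O703) (by decide +kernel) (lks := lk702) (by decide +kernel) (gens_of_lall2 (m := [[0,1,2,3,0],[4,5,6,7,2,4],[3,0,8,0,4]]) (by decide +kernel)) ix682 (by decide +kernel)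
noncomputable def b707 : ℕ := (nat_lit 0xac4620240ef0cbf0a5c820420988c56a415eec078461d89f8fcf1470decf)
noncomputable def b708 : ℕ := (nat_lit 0xa84a28444f7033d0e8111581d28ec00d8007f1036acabf243e5269fd2db7)
theorem cl709 : Clo.{u} io C648 [0,1,2,3,4,5,8,9,10,11] 243 m647 M704 (mkB [(6,b707),(7,b708)]) := cl706.ops (os := [Op.ext 6 3 [([4],[4],[([6],21)]),([5],[5],[([6,5],20)]),([11,2,2],[10,2,2],[([6],57)]),([3,3,10],[3,3,11],[([6,3,3,11],56)]),([0,0,8,3,0],[0,0,8,3,0],[([6],39)]),([1,2,9,1,1],[1,2,9,1,1],[([6,1,2,9,1,1],38)]),([0,11,0,10,2,0,0],[0,10,0,10,2,0,0],[([6],61)]),([1,1,3,11,1,10,1],[1,1,3,11,1,11,1],[([6,1,1,3,11,1,11,1],60)])],Op.inv 6,Op.rel 6 [10] 7 [11] [([7],55)],Op.inv 6,Op.rel 6 [9,0,0] 7 [9,6,0,0] [([7,9,6,0,0,7],43)],Op.ext 6 2 [([4],[4],[([6],21)]),([5],[5],[([6,5],20)]),([11,2,2],[10,2,2],[([6],57)]),([3,3,10],[3,3,11],[([6,3,3,11],56)]),([0,0,8,3,0],[0,0,8,3,0],[([6],39)]),([1,2,9,1,1],[1,2,9,1,1],[([6,1,2,9,1,1],38)]),([0,11,0,10,2,0,0],[0,10,0,10,2,0,0],[([6],61)]),([1,1,3,11,1,10,1],[1,1,3,11,1,11,1],[([6,1,1,3,11,1,11,1],60)])],Op.inv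 6,Op.rel 6 [9,0,0] 7 [9,6,0,0] [([7,9,6,0,0,7],43)],Op.inv 6]) (by decide +kernel) (by decide +kernel)
theorem der711 : Der 80 (finX 80) (cl (finG m2ok) [[4],[11,2,2],[8],[1]]) (fun _ => Net.nil) := Der.zero (finModel m2ok).inj
noncomputable def ns712 : ℕ → Net := upd (fun _ => Net.nil) 0 (m2 4)
theorem der713 : Der 80 (finX 80) (cl (finG m2ok) [[4],[11,2,2],[8],[1]]) ns712 := der711.add (wp_mem_cl (w := [4]) (by decide)) (rep_letter (finModel m2ok) 4) 0
noncomputable def x714 : Net := (Net.cons (nat_lit 40) (nat_lit 0x9a6fbe680c)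
  (Net.cons (nat_lit 20) (nat_lit 0xfdc0000000fafe0)
  (Net.cons (nat_lit 10) (nat_lit 0x21000020021a002e8)
  (Net.cons (nat_lit 5) (nat_lit 0x481c008000000806814)
  (Net.cons (nat_lit 1) (nat_lit 0x40800120001000012040)
  (Net.cons (nat_lit 1) (nat_lit 0x290812900028025290a4)
  (Net.cons (nat_lit 1) (nat_lit 0x1204a528001004252848)
  (Net.cons (nat_lit 1) (nat_lit 0x20420280a529425280a5)
  (Net.cons (nat_lit 5) (nat_lit 0x201a05000000080101c)
  (Net.cons (nat_lit 10) (nat_lit 0xe000020000a003c0)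
  (Net.cons (nat_lit 20) (nat_lit 0xfdc0000000fafe0)
  (Net.cons (nat_lit 40) (nat_lit 0x9a23be480c)
  Net.nil))))))))))))
noncomputable def ns715 : ℕ → Net := upd ns712 1 x714
theorem der716 : Der 80 (finX 80) (cl (finG m2ok) [[4],[11,2,2],[8],[1]]) ns715 := der713.add (wp_mem_cl (w := [11,2,2]) (by decide)) ((finModel m2ok).toIsPre.rep_word (k := 7) (w := [11,2,2]) (n := x714) (by decide +kernel)) 1
noncomputable def ns717 : ℕ → Net := upd ns715 2 (m2 8)
theorem der718 : Der 80 (finX 80) (cl (finG m2ok) [[4],[11,2,2],[8],[1]]) ns717 := der716.add (wp_mem_cl (w := [8]) (by decide)) (rep_letter (finModel m2ok) 8) 2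
noncomputable def ns719 : ℕ → Net := upd ns717 3 (m2 1)
theorem der720 : Der 80 (finX 80) (cl (finG m2ok) [[4],[11,2,2],[8],[1]]) ns719 := der718.add (wp_mem_cl (w := [1]) (by decide)) (rep_letter (finModel m2ok) 1) 3
noncomputable def x721 : Net := (Net.cons (nat_lit 40) (nat_lit 0x7377027f31)
  (Net.cons (nat_lit 20) (nat_lit 0xeda7000000d3c10)
  (Net.cons (nat_lit 10) (nat_lit 0x37500196002750023e)
  (Net.cons (nat_lit 5) (nat_lit 0x140b03c0a0641b05810)
  (Net.cons (nat_lit 1) (nat_lit 0x28001000002840028024)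
  (Net.cons (nat_lit 1) (nat_lit 0x5000a10002528025084a)
  (Net.cons (nat_lit 1) (nat_lit 0x28024284842900529485)
  (Net.cons (nat_lit 1) (nat_lit 0x5094a129485280250902)
  (Net.cons (nat_lit 1) (nat_lit 0x94a5200a42040128024)
  (Net.cons (nat_lit 5) (nat_lit 0x280c068020000405014)
  (Net.cons (nat_lit 10) (nat_lit 0x19c0030400088002ac)
  (Net.cons (nat_lit 20) (nat_lit 0xed1d200000da8a0)
  (Net.cons (nat_lit 40) (nat_lit 0xe2f560d13e)
  Net.nil)))))))))))))
noncomputable def x721s : ℕ → Net := upd ns719 4 x721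
theorem der722 : Der 80 (finX 80) (cl (finG m2ok) [[4],[11,2,2],[8],[1]]) x721s := der720.ext (k := 7) (w := [3,1,2,1,3,3,1,3,2]) 4 (by decide +kernel)
noncomputable def x723 : Net := (Net.cons (nat_lit 40) (nat_lit 0x6cf366402c)
  (Net.cons (nat_lit 20) (nat_lit 0x5becf0000087668)
  (Net.cons (nat_lit 10) (nat_lit 0x3d10021d0006000318)
  (Net.cons (nat_lit 5) (nat_lit 0x3408060020041006000)
  (Net.cons (nat_lit 1) (nat_lit 0x1004050040500000)
  (Net.cons (nat_lit 1) (nat_lit 0xa0084a0094a0210a)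
  (Net.cons (nat_lit 1) (nat_lit 0x28404010a5094a501084)
  (Net.cons (nat_lit 1) (nat_lit 0x1090a0294a1284a1094a)
  (Net.cons (nat_lit 1) (nat_lit 0x294a10800429001294a5)
  (Net.cons (nat_lit 5) (nat_lit 0x100c060160000604000)
  (Net.cons (nat_lit 10) (nat_lit 0x290000140034000294)
  (Net.cons (nat_lit 20) (nat_lit 0x1fe2e0000085dc4)
  (Net.cons (nat_lit 40) (nat_lit 0x7641d6358e)
  Net.nil)))))))))))))
noncomputable def x723s : ℕ → Net := upd x721s 5 x723
theorem der724 : Der 80 (finX 80) (cl (finG m2ok) [[4],[11,2,2],[8],[1]]) x723s := der722.ext (k := 7) (w := [4,4,0,4,4,0,4,0,0]) 5 (by decide +kernel)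
noncomputable def x725 : Net := (Net.cons (nat_lit 40) (nat_lit 0x5a2854d02a)
  (Net.cons (nat_lit 20) (nat_lit 0xdd9730000036688)
  (Net.cons (nat_lit 10) (nat_lit 0x1c002b400183003d8)
  (Net.cons (nat_lit 5) (nat_lit 0x13018080180802012)
  (Net.cons (nat_lit 1) (nat_lit 0x4010000000020)
  (Net.cons (nat_lit 1) (nat_lit 0x40009025000000040)
  (Net.cons (nat_lit 1) (nat_lit 0x85010a52140000080)
  (Net.cons (nat_lit 1) (nat_lit 0x1421204a5280200140)
  (Net.cons (nat_lit 1) (nat_lit 0x8001004a400424200a1)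
  (Net.cons (nat_lit 5) (nat_lit 0x12008080580802014)
  (Net.cons (nat_lit 10) (nat_lit 0x15c002a200180001d8)
  (Net.cons (nat_lit 20) (nat_lit 0xda870000007268c)
  (Net.cons (nat_lit 40) (nat_lit 0x5a845085aa)
  Net.nil)))))))))))))
noncomputable def x725s : ℕ → Net := upd x723s 6 x725
theorem der726 : Der 80 (finX 80) (cl (finG m2ok) [[4],[11,2,2],[8],[1]]) x725s := der724.ext (k := 7) (w := [4,4,4,0]) 6 (by decide +kernel)
noncomputable def L727 : Lev := Lev.cons 0 3 [[6]] Lev.nil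
noncomputable def L728 : Lev := Lev.cons 43 8 [[1],[5]] L727

end Cfsg.Agent.H6.Le.S3
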