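import Cfsg.Agent.H6.LeS3x2
set_option maxRecDepth 100000
set_option Elab.async false
namespace Cfsg.Agent.H6.Le.S3
open Cfsg.Agent.H6
universe u

noncomputable def L729 : Lev := Lev.cons 51 27 [[0],[4]] L728
noncomputable def L730 : Lev := Lev.cons 6 80 [[2],[3]] L729
theorem lc731 : Lev.chk 80 4 x725s vT 100 L730 = true := by decide +kernel
theorem lb732 : 51840 ≤ Nat.card (cl (finG m2ok) [[4],[11,2,2],[8],[1]]) := le_of_eq_of_le (by decide +kernel) (der726.card_ge lc731)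
theorem ix710 : Idx.{u} io C648 [0,1,2,3,4,5,8,9,10,11] [[4],[11,2,2],[8],[1]] 1 := (Idx.of bd645 sat673 (by decide +kernel) lb732 (by decide +kernel)).of_imp imp650
noncomputable def lk733 : List (List ℕ × List ℕ × Pf) := [([4],[4],[([6],21)]),([11,2,2],[10,2,2],[([6],57)]),([8],[0,0,7,1,1,8],[([6,0,0,7],43)]),([1],[2,1,7,3,7,1,1],[([6],27)])]
noncomputable def O734 : ℕ := (nat_lit 0x4000000000000000000000000000000000000000000000000000000000000)
noncomputable def M735 : ℕ := (nat_lit 0x4ac4e28644ff0fbf0edd935c3db8ec56fc15ffd07eeebffbfbfdf7dfdffff)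
noncomputable def b736 : ℕ := (nat_lit 0xac4628240ef0cbf0a5c820420988c56a415eec078461d89f8fcf1470decf)
theorem cl737 : Clo.{u} io C648 [0,1,2,3,4,5,8,9,10,11] 243 m647 M735 (mkB [(6,b736),(7,b708)]) := cl709.new (k := 5) (b := 6) (q := 219) (p := 242) (r := 200) (n := 1) (O := O734) (by decide +kernel) (lks := lk733) (by decide +kernel) (gens_of_lall2 (m := [[0],[1],[2],[3]]) (by decide +kernel)) ix710 (by decide +kernel)
noncomputable def b738 : ℕ := (nat_lit 0x4ac4628240ef0cbf0a5c820420988c56a415eec078461d89f8fcf1470decf)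
noncomputable def b739 : ℕ := (nat_lit 0x4ac4a28444f7033d0e8111581d28ec00d8007f1036acabf243e5269fd2db7)
theorem cl740 : Clo.{u} io C648 [0,1,2,3,4,5,8,9,10,11] 243 m647 M735 (mkB [(6,b738),(7,b739)]) := cl737.ops (os := [Op.inv 6,Op.rel 6 [] 7 [7] [([],17)],Op.inv 6]) (by decide +kernel) (by decide +kernel)
theorem der742 : Der 80 (finX 80) (cl (finG m2ok) [[1,2,9,1,1,8,0,0,8,3,0],[9,1,1,3,11,1,10,1,4,10,0,0],[1,2,9,1,1,3,11,3,1,2,9,1,1]]) (fun _ => Net.nil) := Der.zero (finModel m2ok).inj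
noncomputable def x743 : Net := (Net.cons (nat_lit 40) (nat_lit 0x12d8f70240)
  (Net.cons (nat_lit 20) (nat_lit 0x1f2c400000a75f8)
  (Net.cons (nat_lit 10) (nat_lit 0x44000fe002c400180)
  (Net.cons (nat_lit 5) (nat_lit 0x281f0441602c1600002)
  (Net.cons (nat_lit 1) (nat_lit 0x400080000008428401)
  (Net.cons (nat_lit 1) (nat_lit 0x5294a528000014a5294a)
  (Net.cons (nat_lit 1) (nat_lit 0x2148421084000a529485)
  (Net.cons (nat_lit 1) (nat_lit 0x5294a5290a0014a5294a)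
  (Net.cons (nat_lit 1) (nat_lit 0x20484214a40948428481)
  (Net.cons (nat_lit 5) (nat_lit 0x2800008020200000002)
  (Net.cons (nat_lit 10) (nat_lit 0x44000fe002c400180)
  (Net.cons (nat_lit 20) (nat_lit 0x1f2c400000a5578)
  (Net.cons (nat_lit 40) (nat_lit 0x12d8f70240)
  Net.nil)))))))))))))
noncomputable def ns744 : ℕ → Net := upd (fun _ => Net.nil) 0 x743
theorem der745 : Der 80 (finX 80) (cl (finG m2ok) [[1,2,9,1,1,8,0,0,8,3,0],[9,1,1,3,11,1,10,1,4,10,0,0],[1,2,9,1,1,3,11,3,1,2,9,1,1]]) ns744 := der742.add (wp_mem_cl (w := [1,2,9,1,1,8,0,0,8,3,0]) (by decide)) ((finModel m2ok).toIsPre.rep_word (k := 7) (w := [1,2,9,1,1,8,0,0,8,3,0]) (n := x743) (by decide +kernel)) 0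
noncomputable def x746 : Net := (Net.cons (nat_lit 40) (nat_lit 0x11d0e07ba3)
  (Net.cons (nat_lit 20) (nat_lit 0x3787100000ee06b)
  (Net.cons (nat_lit 10) (nat_lit 0x33f0022900148000a2)
  (Net.cons (nat_lit 5) (nat_lit 0x81a00c170240e01804)
  (Net.cons (nat_lit 1) (nat_lit 0x40000400)
  (Net.cons (nat_lit 1) (nat_lit 0x284a501485280800800)
  (Net.cons (nat_lit 1) (nat_lit 0x1484214a4294a401080)
  (Net.cons (nat_lit 1) (nat_lit 0x5294a5294a1284a0290a)
  (Net.cons (nat_lit 1) (nat_lit 0x10242900521404200a1)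
  (Net.cons (nat_lit 5) (nat_lit 0x20060280c0600405004)
  (Net.cons (nat_lit 10) (nat_lit 0x28000f40019200274)
  (Net.cons (nat_lit 20) (nat_lit 0xc0650000006dae6)
  (Net.cons (nat_lit 40) (nat_lit 0x1e91d90544)
  Net.nil)))))))))))))
noncomputable def ns747 : ℕ → Net := upd ns744 1 x746
theorem der748 : Der 80 (finX 80) (cl (finG m2ok) [[1,2,9,1,1,8,0,0,8,3,0],[9,1,1,3,11,1,10,1,4,10,0,0],[1,2,9,1,1,3,11,3,1,2,9,1,1]]) ns747 := der745.add (wp_mem_cl (w := [9,1,1,3,11,1,10,1,4,10,0,0]) (by decide)) ((finModel m2ok).toIsPre.rep_word (k := 7) (w := [9,1,1,3,11,1,10,1,4,10,0,0]) (n := x746) (by decide +kernel)) 1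
noncomputable def x749 : Net := (Net.cons (nat_lit 40) (nat_lit 0xa58b5ffea1)
  (Net.cons (nat_lit 20) (nat_lit 0xeccc8000006f980)
  (Net.cons (nat_lit 10) (nat_lit 0x2a4002c2000df00072)
  (Net.cons (nat_lit 5) (nat_lit 0x480e0401b0500d00019)
  (Net.cons (nat_lit 1) (nat_lit 0x1400010000042008000)
  (Net.cons (nat_lit 1) (nat_lit 0x428000280a5084010140)
  (Net.cons (nat_lit 1) (nat_lit 0x2148029424210a0200a4)
  (Net.cons (nat_lit 1) (nat_lit 0x529001094a5214850848)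
  (Net.cons (nat_lit 1) (nat_lit 0x142029421200a128000)
  (Net.cons (nat_lit 5) (nat_lit 0x18120480c0600c0300c)
  (Net.cons (nat_lit 10) (nat_lit 0xb80023c0007800358)
  (Net.cons (nat_lit 20) (nat_lit 0x4985800000bc9a0)
  (Net.cons (nat_lit 40) (nat_lit 0x5e939ed4a8)
  Net.nil)))))))))))))
noncomputable def ns750 : ℕ → Net := upd ns747 2 x749
theorem der751 : Der 80 (finX 80) (cl (finG m2ok) [[1,2,9,1,1,8,0,0,8,3,0],[9,1,1,3,11,1,10,1,4,10,0,0],[1,2,9,1,1,3,11,3,1,2,9,1,1]]) ns750 := der748.add (wp_mem_cl (w := [1,2,9,1,1,3,11,3,1,2,9,1,1]) (by decide)) ((finModel m2ok).toIsPre.rep_word (k := 7) (w := [1,2,9,1,1,3,11,3,1,2,9,1,1]) (n := x749) (by decide +kernel)) 2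
noncomputable def x752 : Net := (Net.cons (nat_lit 40) (nat_lit 0x70d83e0b8)
  (Net.cons (nat_lit 20) (nat_lit 0x88866000003318c)
  (Net.cons (nat_lit 10) (nat_lit 0x1280030c003d0002e6)
  (Net.cons (nat_lit 5) (nat_lit 0x2803020020680a00012)
  (Net.cons (nat_lit 1) (nat_lit 0x80000000008000)
  (Net.cons (nat_lit 1) (nat_lit 0x100000000050000)
  (Net.cons (nat_lit 1) (nat_lit 0x8000280000000020000)
  (Net.cons (nat_lit 1) (nat_lit 0x10008501025010850942)
  (Net.cons (nat_lit 1) (nat_lit 0x1020080800040409001)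
  (Net.cons (nat_lit 5) (nat_lit 0x812030080400805002)
  (Net.cons (nat_lit 10) (nat_lit 0x10a001400039200264)
  (Net.cons (nat_lit 20) (nat_lit 0x88866000003381c)
  (Net.cons (nat_lit 40) (nat_lit 0x870d83e0b0)
  Net.nil)))))))))))))
noncomputable def x752s : ℕ → Net := upd ns750 3 x752
theorem der753 : Der 80 (finX 80) (cl (finG m2ok) [[1,2,9,1,1,8,0,0,8,3,0],[9,1,1,3,11,1,10,1,4,10,0,0],[1,2,9,1,1,3,11,3,1,2,9,1,1]]) x752s := der751.ext (k := 7) (w := [1,2,1]) 3 (by decide +kernel)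
noncomputable def x754 : Net := (Net.cons (nat_lit 40) (nat_lit 0x1f71ee2dc0)
  (Net.cons (nat_lit 20) (nat_lit 0x73a060000083873)
  (Net.cons (nat_lit 10) (nat_lit 0x148002f00004600046)
  (Net.cons (nat_lit 5) (nat_lit 0x5c09078180240e01000)
  (Net.cons (nat_lit 1) (nat_lit 0x80000140100001)
  (Net.cons (nat_lit 1) (nat_lit 0x50100128024014a)
  (Net.cons (nat_lit 1) (nat_lit 0x1424204802942521485)
  (Net.cons (nat_lit 1) (nat_lit 0x52948508421284a1094a)
  (Net.cons (nat_lit 1) (nat_lit 0x1085284002940400404)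
  (Net.cons (nat_lit 5) (nat_lit 0x6010070000681801804)
  (Net.cons (nat_lit 10) (nat_lit 0x1b4002aa000e600204)
  (Net.cons (nat_lit 20) (nat_lit 0xc0afa000004b4a6)
  (Net.cons (nat_lit 40) (nat_lit 0x2ce0f41f18)
  Net.nil)))))))))))))
noncomputable def x754s : ℕ → Net := upd x752s 4 x754
theorem der755 : Der 80 (finX 80) (cl (finG m2ok) [[1,2,9,1,1,8,0,0,8,3,0],[9,1,1,3,11,1,10,1,4,10,0,0],[1,2,9,1,1,3,11,3,1,2,9,1,1]]) x754s := der753.ext (k := 7) (w := [2,2,2,1,1,1,1,1]) 4 (by decide +kernel)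
noncomputable def L756 : Lev := Lev.cons 0 3 [[3]] Lev.nil
noncomputable def L757 : Lev := Lev.cons 12 8 [[0],[4]] L756
noncomputable def L758 : Lev := Lev.cons 40 27 [[1],[2]] L757
theorem lc759 : Lev.chk 80 4 x754s vT 100 L758 = true := by decide +kernel
theorem lb760 : 648 ≤ Nat.card (cl (finG m2ok) [[1,2,9,1,1,8,0,0,8,3,0],[9,1,1,3,11,1,10,1,4,10,0,0],[1,2,9,1,1,3,11,3,1,2,9,1,1]]) := le_of_eq_of_le (by decide +kernel) (der755.card_ge lc759)
theorem ix741 : Idx.{u} io C648 [0,1,2,3,4,5,8,9,10,11] [[1,2,9,1,1,8,0,0,8,3,0],[9,1,1,3,11,1,10,1,4,10,0,0],[1,2,9,1,1,3,11,3,1,2,9,1,1]] 80 := (Idx.of bd645 sat673 (by decide +kernel) lb760 (by decide +kernel)).of_imp imp650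
noncomputable def lk761 : List (List ℕ × List ℕ × Pf) := [([1,2,9,1,1],[1,2,9,1,1],[([6,1,2,9,1,1],38)]),([8],[0,0,7,1,1,8],[([6,0,0,7],43)]),([0,0,8,3,0],[0,0,8,3,0],[([6],39)]),([9],[9,0,0,6,1,1],[([6,9,0,0],42)]),([1,1,3,11,1,10,1],[1,1,3,11,1,11,1],[([6,1,1,3,11,1,11,1],60)]),([4],[4],[([6],21)]),([10,0,0],[0,0,6,1,1,11,0,0],[([6,0,0,6,1,1,11,0,0],64)]),([3,11,3],[3,3,11],[([6,3,3,11],58)])]
noncomputable def O762 : ℕ := (nat_lit 0x153b1d79bb00f040f1226ca3c24713a903ea002f811140040402082020000)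
noncomputable def M763 : ℕ := (nat_lit 0x5ffffffffffffffffffffffffffffffffffffffffffffffffffffffffffff)
noncomputable def b764 : ℕ := (nat_lit 0x4ac4628240ef0cbf0a5c820420988c56a415eec078461d89f8fcf1470dedf)
theorem cl765 : Clo.{u} io C648 [0,1,2,3,4,5,8,9,10,11] 243 m647 M763 (mkB [(6,b764),(7,b739)]) := cl740.new (k := 5) (b := 6) (q := 4) (p := 25) (r := 200) (n := 80) (O := O762) (by decide +kernel) (lks := lk761) (by decide +kernel) (gens_of_lall2 (m := [[0,1,2],[3,4,5,6],[0,7,0]]) (by decide +kernel)) ix741 (by decide +kernel)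
noncomputable def b766 : ℕ := (nat_lit 0x5fffffffffffeffffffffffffffffffffffffffffffffffffffffffffffff)
noncomputable def b767 : ℕ := (nat_lit 0x5ff7fffffffffffffffffffffffffffffffffffffffffffffffffffffffff)
theorem cl768 : Clo.{u} io C648 [0,1,2,3,4,5,8,9,10,11] 243 m647 M763 (mkB [(6,b766),(7,b767)]) := cl765.ops (os := [Op.ext 6 3 [([4],[4],[([6],21)]),([5],[5],[([6,5],20)]),([11,2,2],[10,2,2],[([6],57)]),([3,3,10],[3,3,11],[([6,3,3,11],56)]),([0,0,8,3,0],[0,0,8,3,0],[([6],39)]),([1,2,9,1,1],[1,2,9,1,1],[([6,1,2,9,1,1],38)]),([0,11,0,10,2,0,0],[0,10,0,10,2,0,0],[([6],61)]),([1,1,3,11,1,10,1],[1,1,3,11,1,11,1],[([6,1,1,3,11,1,11,1],60)])],Op.inv 6,Op.rel 6 [] 7 [7] [([],17)],Op.inv 6,Op.rel 6 [10] 7 [11] [([7],55)],Op.inv 6,Op.rel 6 [9,0,0] 7 [9,6,0,0] [([7,9,6,0,0,7],43)],Op.ext 6 2 [([4],[4],[([6],21)]),([5],[5],[([6,5],20)]),([11,2,2],[10,2,2],[([6],57)]),([3,3,10],[3,3,11],[([6,3,3,11],56)]),([0,0,8,3,0],[0,0,8,3,0],[([6],39)]),([1,2,9,1,1],[1,2,9,1,1],[([6,1,2,9,1,1],38)]),([0,11,0,10,2,0,0],[0,10,0,10,2,0,0],[([6],61)]),([1,1,3,11,1,10,1],[1,1,3,11,1,11,1],[([6,1,1,3,11,1,11,1],60)])],Op.inv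 6,Op.rel 6 [9,0,0] 7 [9,6,0,0] [([7,9,6,0,0,7],43)],Op.inv 6]) (by decide +kernel) (by decide +kernel)
theorem der770 : Der 80 (finX 80) (cl (finG m2ok) [[4],[11,2,2],[8],[1]]) (fun _ => Net.nil) := Der.zero (finModel m2ok).inj
noncomputable def ns771 : ℕ → Net := upd (fun _ => Net.nil) 0 (m2 4)
theorem der772 : Der 80 (finX 80) (cl (finG m2ok) [[4],[11,2,2],[8],[1]]) ns771 := der770.add (wp_mem_cl (w := [4]) (by decide)) (rep_letter (finModel m2ok) 4) 0
noncomputable def x773 : Net := (Net.cons (nat_lit 40) (nat_lit 0x9a6fbe680c)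
  (Net.cons (nat_lit 20) (nat_lit 0xfdc0000000fafe0)
  (Net.cons (nat_lit 10) (nat_lit 0x21000020021a002e8)
  (Net.cons (nat_lit 5) (nat_lit 0x481c008000000806814)
  (Net.cons (nat_lit 1) (nat_lit 0x40800120001000012040)
  (Net.cons (nat_lit 1) (nat_lit 0x290812900028025290a4)
  (Net.cons (nat_lit 1) (nat_lit 0x1204a528001004252848)
  (Net.cons (nat_lit 1) (nat_lit 0x20420280a529425280a5)
  (Net.cons (nat_lit 5) (nat_lit 0x201a05000000080101c)
  (Net.cons (nat_lit 10) (nat_lit 0xe000020000a003c0)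
  (Net.cons (nat_lit 20) (nat_lit 0xfdc0000000fafe0)
  (Net.cons (nat_lit 40) (nat_lit 0x9a23be480c)
  Net.nil))))))))))))
noncomputable def ns774 : ℕ → Net := upd ns771 1 x773
theorem der775 : Der 80 (finX 80) (cl (finG m2ok) [[4],[11,2,2],[8],[1]]) ns774 := der772.add (wp_mem_cl (w := [11,2,2]) (by decide)) ((finModel m2ok).toIsPre.rep_word (k := 7) (w := [11,2,2]) (n := x773) (by decide +kernel)) 1
noncomputable def ns776 : ℕ → Net := upd ns774 2 (m2 8)
theorem der777 : Der 80 (finX 80) (cl (finG m2ok) [[4],[11,2,2],[8],[1]]) ns776 := der775.add (wp_mem_cl (w := [8]) (by decide)) (rep_letter (finModel m2ok) 8) 2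
noncomputable def ns778 : ℕ → Net := upd ns776 3 (m2 1)
theorem der779 : Der 80 (finX 80) (cl (finG m2ok) [[4],[11,2,2],[8],[1]]) ns778 := der777.add (wp_mem_cl (w := [1]) (by decide)) (rep_letter (finModel m2ok) 1) 3
noncomputable def x780 : Net := (Net.cons (nat_lit 40) (nat_lit 0x7377027f31)
  (Net.cons (nat_lit 20) (nat_lit 0xeda7000000d3c10)
  (Net.cons (nat_lit 10) (nat_lit 0x37500196002750023e)
  (Net.cons (nat_lit 5) (nat_lit 0x140b03c0a0641b05810)
  (Net.cons (nat_lit 1) (nat_lit 0x28001000002840028024)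
  (Net.cons (nat_lit 1) (nat_lit 0x5000a10002528025084a)
  (Net.cons (nat_lit 1) (nat_lit 0x28024284842900529485)
  (Net.cons (nat_lit 1) (nat_lit 0x5094a129485280250902)
  (Net.cons (nat_lit 1) (nat_lit 0x94a5200a42040128024)
  (Net.cons (nat_lit 5) (nat_lit 0x280c068020000405014)
  (Net.cons (nat_lit 10) (nat_lit 0x19c0030400088002ac)
  (Net.cons (nat_lit 20) (nat_lit 0xed1d200000da8a0)
  (Net.cons (nat_lit 40) (nat_lit 0xe2f560d13e)
  Net.nil)))))))))))))
noncomputable def x780s : ℕ → Net := upd ns778 4 x780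
theorem der781 : Der 80 (finX 80) (cl (finG m2ok) [[4],[11,2,2],[8],[1]]) x780s := der779.ext (k := 7) (w := [3,1,2,1,3,3,1,3,2]) 4 (by decide +kernel)
noncomputable def x782 : Net := (Net.cons (nat_lit 40) (nat_lit 0x6cf366402c)
  (Net.cons (nat_lit 20) (nat_lit 0x5becf0000087668)
  (Net.cons (nat_lit 10) (nat_lit 0x3d10021d0006000318)
  (Net.cons (nat_lit 5) (nat_lit 0x3408060020041006000)
  (Net.cons (nat_lit 1) (nat_lit 0x1004050040500000)
  (Net.cons (nat_lit 1) (nat_lit 0xa0084a0094a0210a)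
  (Net.cons (nat_lit 1) (nat_lit 0x28404010a5094a501084)
  (Net.cons (nat_lit 1) (nat_lit 0x1090a0294a1284a1094a)
  (Net.cons (nat_lit 1) (nat_lit 0x294a10800429001294a5)
  (Net.cons (nat_lit 5) (nat_lit 0x100c060160000604000)
  (Net.cons (nat_lit 10) (nat_lit 0x290000140034000294)
  (Net.cons (nat_lit 20) (nat_lit 0x1fe2e0000085dc4)
  (Net.cons (nat_lit 40) (nat_lit 0x7641d6358e)
  Net.nil)))))))))))))
noncomputable def x782s : ℕ → Net := upd x780s 5 x782
theorem der783 : Der 80 (finX 80) (cl (finG m2ok) [[4],[11,2,2],[8],[1]]) x782s := der781.ext (k := 7) (w := [4,4,0,4,4,0,4,0,0]) 5 (by decide +kernel)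
noncomputable def x784 : Net := (Net.cons (nat_lit 40) (nat_lit 0x5a2854d02a)
  (Net.cons (nat_lit 20) (nat_lit 0xdd9730000036688)
  (Net.cons (nat_lit 10) (nat_lit 0x1c002b400183003d8)
  (Net.cons (nat_lit 5) (nat_lit 0x13018080180802012)
  (Net.cons (nat_lit 1) (nat_lit 0x4010000000020)
  (Net.cons (nat_lit 1) (nat_lit 0x40009025000000040)
  (Net.cons (nat_lit 1) (nat_lit 0x85010a52140000080)
  (Net.cons (nat_lit 1) (nat_lit 0x1421204a5280200140)
  (Net.cons (nat_lit 1) (nat_lit 0x8001004a400424200a1)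
  (Net.cons (nat_lit 5) (nat_lit 0x12008080580802014)
  (Net.cons (nat_lit 10) (nat_lit 0x15c002a200180001d8)
  (Net.cons (nat_lit 20) (nat_lit 0xda870000007268c)
  (Net.cons (nat_lit 40) (nat_lit 0x5a845085aa)
  Net.nil)))))))))))))
noncomputable def x784s : ℕ → Net := upd x782s 6 x784
theorem der785 : Der 80 (finX 80) (cl (finG m2ok) [[4],[11,2,2],[8],[1]]) x784s := der783.ext (k := 7) (w := [4,4,4,0]) 6 (by decide +kernel)
noncomputable def L786 : Lev := Lev.cons 0 3 [[6]] Lev.nil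
noncomputable def L787 : Lev := Lev.cons 43 8 [[1],[5]] L786
noncomputable def L788 : Lev := Lev.cons 51 27 [[0],[4]] L787
noncomputable def L789 : Lev := Lev.cons 6 80 [[2],[3]] L788
theorem lc790 : Lev.chk 80 4 x784s vT 100 L789 = true := by decide +kernel
theorem lb791 : 51840 ≤ Nat.card (cl (finG m2ok) [[4],[11,2,2],[8],[1]]) := le_of_eq_of_le (by decide +kernel) (der785.card_ge lc790)
theorem ix769 : Idx.{u} io C648 [0,1,2,3,4,5,8,9,10,11] [[4],[11,2,2],[8],[1]] 1 := (Idx.of bd645 sat673 (by decide +kernel) lb791 (by decide +kernel)).of_imp imp650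
noncomputable def lk792 : List (List ℕ × List ℕ × Pf) := [([4],[4],[([6],21)]),([11,2,2],[10,2,2],[([6],57)]),([8],[0,0,7,1,1,8],[([6,0,0,7],43)]),([1],[2,1,7,3,7,1,1],[([6],27)])]
noncomputable def O793 : ℕ := (nat_lit 0x2000000000000000000000000000000000000000000000000000000000000)
noncomputable def M794 : ℕ := (nat_lit 0x7ffffffffffffffffffffffffffffffffffffffffffffffffffffffffffff)
noncomputable def b795 : ℕ := (nat_lit 0x5ffffffffffffffffffffffffffffffffffffffffffffffffffffffffffff)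
theorem cl796 : Clo.{u} io C648 [0,1,2,3,4,5,8,9,10,11] 243 m647 M794 (mkB [(6,b795),(7,b767)]) := cl768.new (k := 5) (b := 6) (q := 192) (p := 241) (r := 200) (n := 1) (O := O793) (by decide +kernel) (lks := lk792) (by decide +kernel) (gens_of_lall2 (m := [[0],[1],[2],[3]]) (by decide +kernel)) ix769 (by decide +kernel)
noncomputable def b797 : ℕ := (nat_lit 0x7ffffffffffffffffffffffffffffffffffffffffffffffffffffffffffff)
noncomputable def b798 : ℕ := (nat_lit 0x7ffffffffffffffffffffffffffffffffffffffffffffffffffffffffffff)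
theorem cl799 : Clo.{u} io C648 [0,1,2,3,4,5,8,9,10,11] 243 m647 M794 (mkB [(6,b797),(7,b798)]) := cl796.ops (os := [Op.inv 6,Op.rel 6 [] 7 [7] [([],17)],Op.inv 6]) (by decide +kernel) (by decide +kernel)
theorem sat801 : Sat io C648 (finG m647ok) := m647s0.fin (k := 8) (by decide +kernel)
theorem bd800 : Bound.{u} io C648 [0,1,2,3,4,5,6,7,8,9,10,11] 12597120 := cl799.bound (by decide +kernel) sat801 (bd645.of_imp imp650)

end Cfsg.Agent.H6.Le.S3
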