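import Cfsg.Agent.H6.LeR
import Cfsg.Agent.H6.LeJ1
import Cfsg.Agent.H6.LeL1
set_option maxRecDepth 100000
set_option Elab.async false
namespace Cfsg.Agent.H6.Le.S5
open Cfsg.Agent.H6
universe u

noncomputable def il : List ℕ := [1,0,3,2,5,4,7,6,9,8,11,10,13,12,15,14,17,16,19,18]
noncomputable abbrev io : ℕ → ℕ := iota il
noncomputable def C1 : List (List ℕ) := []
noncomputable def m2n0 : Net := (Net.cons (nat_lit 4) (nat_lit 4)
  (Net.cons (nat_lit 2) (nat_lit 49)
  (Net.cons (nat_lit 1) (nat_lit 1)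
  (Net.cons (nat_lit 2) (nat_lit 2)
  (Net.cons (nat_lit 4) (nat_lit 8)
  Net.nil)))))
noncomputable def m2n1 : Net := (Net.cons (nat_lit 4) (nat_lit 8)
  (Net.cons (nat_lit 2) (nat_lit 49)
  (Net.cons (nat_lit 1) (nat_lit 4)
  (Net.cons (nat_lit 2) (nat_lit 2)
  (Net.cons (nat_lit 4) (nat_lit 4)
  Net.nil)))))
noncomputable def m2l : List Net := [m2n0,m2n1]
noncomputable abbrev m2 : ℕ → Net := lk Net.nil m2l
theorem m2ok : NetsOk 8 m2 vT := netsOk_of (by decide +kernel)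
theorem m2s0 : Sat io [] (finG m2ok) := fin_sat_nil _ (k := 3) (n := 20) (by decide +kernel)
noncomputable def r0 : List ℕ := [0,0,0,0,0,0,0,0]
noncomputable def m3n0 : Net := (Net.cons (nat_lit 4) (nat_lit 4)
  (Net.cons (nat_lit 2) (nat_lit 49)
  (Net.cons (nat_lit 1) (nat_lit 1)
  (Net.cons (nat_lit 2) (nat_lit 2)
  (Net.cons (nat_lit 4) (nat_lit 8)
  Net.nil)))))
noncomputable def m3n1 : Net := (Net.cons (nat_lit 4) (nat_lit 8)
  (Net.cons (nat_lit 2) (nat_lit 49)
  (Net.cons (nat_lit 1) (nat_lit 4)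
  (Net.cons (nat_lit 2) (nat_lit 2)
  (Net.cons (nat_lit 4) (nat_lit 4)
  Net.nil)))))
noncomputable def m3l : List Net := [m3n0,m3n1]
noncomputable abbrev m3 : ℕ → Net := lk Net.nil m3l
theorem m3ok : NetsOk 8 m3 vT := netsOk_of (by decide +kernel)
theorem m3s0 : Sat io [] (finG m3ok) := fin_sat_nil _ (k := 3) (n := 20) (by decide +kernel)
noncomputable def C4 : List (List ℕ) := [r0]
theorem cl5 : Clo.{u} io C4 [] 8 m3 1 (mkB []) := Clo.start (by decide +kernel)
theorem imp6 : Imp.{u} io C4 C1 := Imp.of_chk (pfs := []) (by decide +kernel)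
theorem ix7 : Idx.{u} io C4 [] [] 1 := (Idx.triv (Bound.nil) (by norm_num)).of_imp imp6
noncomputable def lk8 : List (List ℕ × List ℕ × Pf) := []
noncomputable def O9 : ℕ := (nat_lit 2)
noncomputable def M10 : ℕ := (nat_lit 3)
noncomputable def b11 : ℕ := (nat_lit 1)
theorem cl12 : Clo.{u} io C4 [] 8 m3 M10 (mkB [(0,b11)]) := cl5.new (k := 0) (b := 0) (q := 0) (p := 1) (r := 200) (n := 1) (O := O9) (by decide +kernel) (lks := lk8) (by decide +kernel) (gens_of_lall2 (m := []) (by decide +kernel)) ix7 (by decide +kernel)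
noncomputable def b13 : ℕ := (nat_lit 2)
theorem cl14 : Clo.{u} io C4 [] 8 m3 M10 (mkB [(0,b11),(1,b13)]) := cl12.ops (os := [Op.inv 0]) (by decide +kernel) (by decide +kernel)
theorem ix15 : Idx.{u} io C4 [] [] 1 := (Idx.triv (Bound.nil) (by norm_num)).of_imp imp6
noncomputable def lk16 : List (List ℕ × List ℕ × Pf) := []
noncomputable def O17 : ℕ := (nat_lit 8)
noncomputable def M18 : ℕ := (nat_lit 11)
noncomputable def b19 : ℕ := (nat_lit 3)
theorem cl20 : Clo.{u} io C4 [] 8 m3 M18 (mkB [(0,b19),(1,b13)]) := cl14.new (k := 0) (b := 0) (q := 1) (p := 3) (r := 200) (n := 1) (O := O17) (by decide +kernel) (lks := lk16) (by decide +kernel) (gens_of_lall2 (m := []) (by decide +kernel)) ix15 (by decide +kernel)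
noncomputable def b21 : ℕ := (nat_lit 10)
theorem cl22 : Clo.{u} io C4 [] 8 m3 M18 (mkB [(0,b19),(1,b21)]) := cl20.ops (os := [Op.inv 0]) (by decide +kernel) (by decide +kernel)
theorem ix23 : Idx.{u} io C4 [] [] 1 := (Idx.triv (Bound.nil) (by norm_num)).of_imp imp6
noncomputable def lk24 : List (List ℕ × List ℕ × Pf) := []
noncomputable def O25 : ℕ := (nat_lit 32)
noncomputable def M26 : ℕ := (nat_lit 43)
noncomputable def b27 : ℕ := (nat_lit 11)
theorem cl28 : Clo.{u} io C4 [] 8 m3 M26 (mkB [(0,b27),(1,b21)]) := cl22.new (k := 0) (b := 0) (q := 3) (p := 5) (r := 200) (n := 1) (O := O25) (by decide +kernel) (lks := lk24) (by decide +kernel) (gens_of_lall2 (m := []) (by decide +kernel)) ix23 (by decide +kernel)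
noncomputable def b29 : ℕ := (nat_lit 42)
theorem cl30 : Clo.{u} io C4 [] 8 m3 M26 (mkB [(0,b27),(1,b29)]) := cl28.ops (os := [Op.inv 0]) (by decide +kernel) (by decide +kernel)
theorem ix31 : Idx.{u} io C4 [] [] 1 := (Idx.triv (Bound.nil) (by norm_num)).of_imp imp6
noncomputable def lk32 : List (List ℕ × List ℕ × Pf) := []
noncomputable def O33 : ℕ := (nat_lit 128)
noncomputable def M34 : ℕ := (nat_lit 171)
noncomputable def b35 : ℕ := (nat_lit 43)
theorem cl36 : Clo.{u} io C4 [] 8 m3 M34 (mkB [(0,b35),(1,b29)]) := cl30.new (k := 0) (b := 0) (q := 5) (p := 7) (r := 200) (n := 1) (O := O33) (by decide +kernel) (lks := lk32) (by decide +kernel) (gens_of_lall2 (m := []) (by decide +kernel)) ix31 (by decide +kernel)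
noncomputable def b37 : ℕ := (nat_lit 170)
theorem cl38 : Clo.{u} io C4 [] 8 m3 M34 (mkB [(0,b35),(1,b37)]) := cl36.ops (os := [Op.inv 0]) (by decide +kernel) (by decide +kernel)
theorem ix39 : Idx.{u} io C4 [] [] 1 := (Idx.triv (Bound.nil) (by norm_num)).of_imp imp6
noncomputable def lk40 : List (List ℕ × List ℕ × Pf) := []
noncomputable def O41 : ℕ := (nat_lit 64)
noncomputable def M42 : ℕ := (nat_lit 235)
noncomputable def b43 : ℕ := (nat_lit 171)
theorem cl44 : Clo.{u} io C4 [] 8 m3 M42 (mkB [(0,b43),(1,b37)]) := cl38.new (k := 0) (b := 0) (q := 7) (p := 6) (r := 200) (n := 1) (O := O41) (by decide +kernel) (lks := lk40) (by decide +kernel) (gens_of_lall2 (m := []) (by decide +kernel)) ix39 (by decide +kernel)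
noncomputable def b45 : ℕ := (nat_lit 234)
theorem cl46 : Clo.{u} io C4 [] 8 m3 M42 (mkB [(0,b43),(1,b45)]) := cl44.ops (os := [Op.inv 0]) (by decide +kernel) (by decide +kernel)
theorem ix47 : Idx.{u} io C4 [] [] 1 := (Idx.triv (Bound.nil) (by norm_num)).of_imp imp6
noncomputable def lk48 : List (List ℕ × List ℕ × Pf) := []
noncomputable def O49 : ℕ := (nat_lit 16)
noncomputable def M50 : ℕ := (nat_lit 251)
noncomputable def b51 : ℕ := (nat_lit 235)
theorem cl52 : Clo.{u} io C4 [] 8 m3 M50 (mkB [(0,b51),(1,b45)]) := cl46.new (k := 0) (b := 0) (q := 6) (p := 4) (r := 200) (n := 1) (O := O49) (by decide +kernel) (lks := lk48) (by decide +kernel) (gens_of_lall2 (m := []) (by decide +kernel)) ix47 (by decide +kernel)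
noncomputable def b53 : ℕ := (nat_lit 250)
theorem cl54 : Clo.{u} io C4 [] 8 m3 M50 (mkB [(0,b51),(1,b53)]) := cl52.ops (os := [Op.inv 0]) (by decide +kernel) (by decide +kernel)
theorem ix55 : Idx.{u} io C4 [] [] 1 := (Idx.triv (Bound.nil) (by norm_num)).of_imp imp6
noncomputable def lk56 : List (List ℕ × List ℕ × Pf) := []
noncomputable def O57 : ℕ := (nat_lit 4)
noncomputable def M58 : ℕ := (nat_lit 255)
noncomputable def b59 : ℕ := (nat_lit 251)
theorem cl60 : Clo.{u} io C4 [] 8 m3 M58 (mkB [(0,b59),(1,b53)]) := cl54.new (k := 0) (b := 0) (q := 4) (p := 2) (r := 200) (n := 1) (O := O57) (by decide +kernel) (lks := lk56) (by decide +kernel) (gens_of_lall2 (m := []) (by decide +kernel)) ix55 (by decide +kernel)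
noncomputable def b61 : ℕ := (nat_lit 255)
noncomputable def b62 : ℕ := (nat_lit 255)
theorem cl63 : Clo.{u} io C4 [] 8 m3 M58 (mkB [(0,b61),(1,b62)]) := cl60.ops (os := [Op.inv 0,Op.rel 0 [] 1 [1,1,1,1,1,1] [([],1)],Op.inv 0]) (by decide +kernel) (by decide +kernel)
theorem sat65 : Sat io C4 (finG m3ok) := m3s0.fin (k := 3) (by decide +kernel)
theorem bd64 : Bound.{u} io C4 [0,1] 8 := cl63.bound (by decide +kernel) sat65 ((Bound.nil).of_imp imp6)
noncomputable def r1 : List ℕ := [2,2,2,2,2]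
noncomputable def r2 : List ℕ := [2,2,1,1,2,1,1,3,1,1,1,1]
noncomputable def r3 : List ℕ := [3,0,0,2,0,0,2,2,1,1,1,1]
noncomputable def r4 : List ℕ := [2,0,3,1,2,0,2,0,2,1,1]
noncomputable def r5 : List ℕ := [2,1,3,1,2,0,2,1,2,0,0]
noncomputable def r6 : List ℕ := [3,0,3,1,2,1,1,1,3,0,0,0]
noncomputable def m66n0 : Net := (Net.cons (nat_lit 64) (nat_lit 0xf8ebe33824e5169e)
  (Net.cons (nat_lit 32) (nat_lit 0x33897cac00000000cdbfdd30)
  (Net.cons (nat_lit 16) (nat_lit 0x110800004dd8000017ef00003440)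
  (Net.cons (nat_lit 8) (nat_lit 0xf6000f008c002a005000fc00310078)
  (Net.cons (nat_lit 4) (nat_lit 0xc030f0406000b0f0a060d070c0a0c0e)
  (Net.cons (nat_lit 2) (nat_lit 0x13013231130103231021033320222312)
  (Net.cons (nat_lit 1) (nat_lit 0x41511051410451044051044150144110)
  (Net.cons (nat_lit 2) (nat_lit 0x22022000200202002002020000020200)
  (Net.cons (nat_lit 4) (nat_lit 0x40000000404060c020202000c04040c)
  (Net.cons (nat_lit 8) (nat_lit 0xa800e000f800940000009a000800a6)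
  (Net.cons (nat_lit 16) (nat_lit 0x6d36000052040000c880000023f4)
  (Net.cons (nat_lit 32) (nat_lit 0xead9c7e200000000d55d78f8)
  (Net.cons (nat_lit 64) (nat_lit 0xfc17a5bcb87ef19a)
  Net.nil)))))))))))))
noncomputable def m66n1 : Net := (Net.cons (nat_lit 64) (nat_lit 0xfc17a5bcb87ef19a)
  (Net.cons (nat_lit 32) (nat_lit 0xaadbe7e600000000555d71f8)
  (Net.cons (nat_lit 16) (nat_lit 0x3db0000030ec0000a37f000022f4)
  (Net.cons (nat_lit 8) (nat_lit 0x4001300e900540035000a00e700a6)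
  (Net.cons (nat_lit 4) (nat_lit 0x1090707000f06090f08060a040d040c)
  (Net.cons (nat_lit 2) (nat_lit 0x11002321013121123210101102120132)
  (Net.cons (nat_lit 1) (nat_lit 0x44551400414154104010145414514040)
  (Net.cons (nat_lit 2) (nat_lit 0x220000200000000222022020)
  (Net.cons (nat_lit 4) (nat_lit 0xa00080a0a08080206020a040c0e)
  (Net.cons (nat_lit 8) (nat_lit 0xaa00980090003a0004000000c60078)
  (Net.cons (nat_lit 16) (nat_lit 0x1024000036f80000ee500000b440)
  (Net.cons (nat_lit 32) (nat_lit 0x33886ccc000000004dfedd30)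
  (Net.cons (nat_lit 64) (nat_lit 0xf8ebe33824e5169e)
  Net.nil)))))))))))))
noncomputable def m66n2 : Net := (Net.cons (nat_lit 64) (nat_lit 0x75ac02d87a4ed4d8)
  (Net.cons (nat_lit 32) (nat_lit 0x97c571b700000000f022c6ac)
  (Net.cons (nat_lit 16) (nat_lit 0x6cc6000064bb00007511000077b8)
  (Net.cons (nat_lit 8) (nat_lit 0x6a00ba0032000d006a00b700780078)
  (Net.cons (nat_lit 4) (nat_lit 0xb050f000e04060c030d0b0804050300)
  (Net.cons (nat_lit 2) (nat_lit 0x23022100302122323111212003011101)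
  (Net.cons (nat_lit 1) (nat_lit 0x45515141114011051441404444101501)
  (Net.cons (nat_lit 2) (nat_lit 0x20020200002002202200202200002)
  (Net.cons (nat_lit 4) (nat_lit 0x800060e0e0400020e0e000006000008)
  (Net.cons (nat_lit 8) (nat_lit 0x2600a0003800c200dc000e00e40060)
  (Net.cons (nat_lit 16) (nat_lit 0x8f2000002b9e00004ea40000f8b0)
  (Net.cons (nat_lit 32) (nat_lit 0xa3e4d2c6000000007a7ce982)
  (Net.cons (nat_lit 64) (nat_lit 0x65755f3133fc7c48)
  Net.nil)))))))))))))
noncomputable def m66n3 : Net := (Net.cons (nat_lit 64) (nat_lit 0x65755f3133fc7c48)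
  (Net.cons (nat_lit 32) (nat_lit 0x5c192d31000000007a7ce982)
  (Net.cons (nat_lit 16) (nat_lit 0xd65500005919000015a10000f8b0)
  (Net.cons (nat_lit 8) (nat_lit 0xbf0032007d00600099000f00ed0060)
  (Net.cons (nat_lit 4) (nat_lit 0x3040604040b050e080d0a00060f0d08)
  (Net.cons (nat_lit 2) (nat_lit 0x31021003201120211230130301122301)
  (Net.cons (nat_lit 1) (nat_lit 0x45110140454510555404044141015404)
  (Net.cons (nat_lit 2) (nat_lit 0x220020200000000000022200000202)
  (Net.cons (nat_lit 4) (nat_lit 0x60006060800080002060408040a0800)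
  (Net.cons (nat_lit 8) (nat_lit 0xd0003800a000ac006200b400300078)
  (Net.cons (nat_lit 16) (nat_lit 0xb646000017dc00007206000077b8)
  (Net.cons (nat_lit 32) (nat_lit 0x483a8a4800000000f022c6ac)
  (Net.cons (nat_lit 64) (nat_lit 0x75ac02d87a4ed4d8)
  Net.nil)))))))))))))
noncomputable def m66l : List Net := [m66n0,m66n1,m66n2,m66n3]
noncomputable abbrev m66 : ℕ → Net := lk Net.nil m66l
theorem m66ok : NetsOk 125 m66 vT := netsOk_of (by decide +kernel)
theorem m66s0 : Sat io [] (finG m66ok) := fin_sat_nil _ (k := 7) (n := 20) (by decide +kernel)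
noncomputable def C67 : List (List ℕ) := [r0,r1,r2,r3,r4,r5,r6]
theorem cl68 : Clo.{u} io C67 [0,1] 125 m66 1 (mkB []) := Clo.start (by decide +kernel)
theorem imp69 : Imp.{u} io C67 C4 := Imp.of_chk (pfs := [[([],1)]]) (by decide +kernel)
theorem ix70 : Idx.{u} io C67 [0,1] [] 8 := (Idx.triv bd64 (by norm_num)).of_imp imp69
noncomputable def lk71 : List (List ℕ × List ℕ × Pf) := []
noncomputable def O72 : ℕ := (nat_lit 0x80000000040200121a)
noncomputable def M73 : ℕ := (nat_lit 0x80000000040200121b)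
noncomputable def b74 : ℕ := (nat_lit 1)
theorem cl75 : Clo.{u} io C67 [0,1] 125 m66 M73 (mkB [(2,b74)]) := cl68.new (k := 4) (b := 2) (q := 0) (p := 1) (r := 200) (n := 8) (O := O72) (by decide +kernel) (lks := lk71) (by decide +kernel) (gens_of_lall2 (m := []) (by decide +kernel)) ix70 (by decide +kernel)
noncomputable def b76 : ℕ := (nat_lit 2)
theorem cl77 : Clo.{u} io C67 [0,1] 125 m66 M73 (mkB [(2,b74),(3,b76)]) := cl75.ops (os := [Op.inv 2]) (by decide +kernel) (by decide +kernel)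
theorem ix78 : Idx.{u} io C67 [0,1] [] 8 := (Idx.triv bd64 (by norm_num)).of_imp imp69
noncomputable def lk79 : List (List ℕ × List ℕ × Pf) := []
noncomputable def O80 : ℕ := (nat_lit 0x40020000000002201000018020)
noncomputable def M81 : ℕ := (nat_lit 0x4002000080000220140201923b)
noncomputable def b82 : ℕ := (nat_lit 3)
theorem cl83 : Clo.{u} io C67 [0,1] 125 m66 M81 (mkB [(2,b82),(3,b76)]) := cl77.new (k := 4) (b := 2) (q := 1) (p := 5) (r := 200) (n := 8) (O := O80) (by decide +kernel) (lks := lk79) (by decide +kernel) (gens_of_lall2 (m := []) (by decide +kernel)) ix78 (by decide +kernel)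
noncomputable def b84 : ℕ := (nat_lit 0x1000000003)
noncomputable def b85 : ℕ := (nat_lit 4130)
theorem cl86 : Clo.{u} io C67 [0,1] 125 m66 M81 (mkB [(2,b84),(3,b85)]) := cl83.ops (os := [Op.inv 2,Op.rel 2 [0,0] 2 [0,0,0,0,3,3,1,1] [([2],7)],Op.inv 2]) (by decide +kernel) (by decide +kernel)
theorem der88 : Der 8 (finX 8) (cl (finG m2ok) [[1,1,1,1]]) (fun _ => Net.nil) := Der.zero (finModel m2ok).inj
noncomputable def x89 : Net := (Net.cons (nat_lit 4) (nat_lit 15)
  (Net.cons (nat_lit 2) (nat_lit 51)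
  (Net.cons (nat_lit 1) (nat_lit 85)
  Net.nil)))
noncomputable def ns90 : ℕ → Net := upd (fun _ => Net.nil) 0 x89
theorem der91 : Der 8 (finX 8) (cl (finG m2ok) [[1,1,1,1]]) ns90 := der88.add (wp_mem_cl (w := [1,1,1,1]) (by decide)) ((finModel m2ok).toIsPre.rep_word (k := 3) (w := [1,1,1,1]) (n := x89) (by decide +kernel)) 0
noncomputable def L92 : Lev := Lev.cons 0 2 [[0]] Lev.nil
theorem lc93 : Lev.chk 8 0 ns90 vT 100 L92 = true := by decide +kernel
theorem lb94 : 2 ≤ Nat.card (cl (finG m2ok) [[1,1,1,1]]) := le_of_eq_of_le (by decide +kernel) (der91.card_ge lc93)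
theorem sat95 : Sat io C4 (finG m2ok) := m2s0.fin (k := 3) (by decide +kernel)
theorem ix87 : Idx.{u} io C67 [0,1] [[1,1,1,1]] 4 := (Idx.of bd64 sat95 (by decide +kernel) lb94 (by decide +kernel)).of_imp imp69
noncomputable def lk96 : List (List ℕ × List ℕ × Pf) := [([1,1,1,1],[3,1,1,3,1,1],[([3,3,1,1,3,1,1,2],7)])]
noncomputable def O97 : ℕ := (nat_lit 0x20080040010000000000000000000)
noncomputable def M98 : ℕ := (nat_lit 0x200c006001080000220140201923b)
noncomputable def b99 : ℕ := (nat_lit 0x1000001022)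
theorem cl100 : Clo.{u} io C67 [0,1] 125 m66 M98 (mkB [(2,b84),(3,b99)]) := cl86.new (k := 4) (b := 3) (q := 36) (p := 90) (r := 200) (n := 4) (O := O97) (by decide +kernel) (lks := lk96) (by decide +kernel) (gens_of_lall2 (m := [[0]]) (by decide +kernel)) ix87 (by decide +kernel)
noncomputable def b101 : ℕ := (nat_lit 0x40000000000001000000003)
theorem cl102 : Clo.{u} io C67 [0,1] 125 m66 M98 (mkB [(2,b101),(3,b99)]) := cl100.ops (os := [Op.inv 3]) (by decide +kernel) (by decide +kernel)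
theorem ix103 : Idx.{u} io C67 [0,1] [] 8 := (Idx.triv bd64 (by norm_num)).of_imp imp69
noncomputable def lk104 : List (List ℕ × List ℕ × Pf) := []
noncomputable def O105 : ℕ := (nat_lit 0x4000000000002010000001200c4)
noncomputable def M106 : ℕ := (nat_lit 0x204c00600108002032014021392ff)
noncomputable def b107 : ℕ := (nat_lit 0x20000040000000000001000000003)
theorem cl108 : Clo.{u} io C67 [0,1] 125 m66 M106 (mkB [(2,b107),(3,b99)]) := cl102.new (k := 4) (b := 2) (q := 113) (p := 106) (r := 200) (n := 8) (O := O105) (by decide +kernel) (lks := lk104) (by decide +kernel) (gens_of_lall2 (m := []) (by decide +kernel)) ix103 (by decide +kernel)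
noncomputable def b109 : ℕ := (nat_lit 0x400000000000000001000001022)
theorem cl110 : Clo.{u} io C67 [0,1] 125 m66 M106 (mkB [(2,b107),(3,b109)]) := cl108.ops (os := [Op.inv 2]) (by decide +kernel) (by decide +kernel)
theorem ix111 : Idx.{u} io C67 [0,1] [] 8 := (Idx.triv bd64 (by norm_num)).of_imp imp69
noncomputable def lk112 : List (List ℕ × List ℕ × Pf) := []
noncomputable def O113 : ℕ := (nat_lit 0x60100400000009800100)
noncomputable def M114 : ℕ := (nat_lit 0x204c006007090060320140b9393ff)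
noncomputable def b115 : ℕ := (nat_lit 0x20000040000000000001000000023)
theorem cl116 : Clo.{u} io C67 [0,1] 125 m66 M114 (mkB [(2,b115),(3,b109)]) := cl110.new (k := 4) (b := 2) (q := 5) (p := 8) (r := 200) (n := 8) (O := O113) (by decide +kernel) (lks := lk112) (by decide +kernel) (gens_of_lall2 (m := []) (by decide +kernel)) ix111 (by decide +kernel)
noncomputable def b117 : ℕ := (nat_lit 0x20000040000900402001008120127)
noncomputable def b118 : ℕ := (nat_lit 0x20400040000000402201008001327)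
theorem cl119 : Clo.{u} io C67 [0,1] 125 m66 M114 (mkB [(2,b117),(3,b118)]) := cl116.ops (os := [Op.inv 2,Op.rel 2 [1,1,1,1] 2 [0,0,3,0,0,3] [([2,0,0,3,0,0,3,3],5)],Op.inv 2,Op.rel 2 [] 3 [3,3,3] [([],3)],Op.inv 2,Op.rel 2 [0,0,0,0] 2 [2,1,1,2,1,1] [([],4)],Op.inv 2,Op.rel 2 [1,1,1,1] 2 [0,0,3,0,0,3] [([2,0,0,3,0,0,3,3],5)],Op.inv 2,Op.rel 3 [1,1,1,1] 3 [3,1,1,3,1,1] [([3,3,1,1,3,1,1,2],7)],Op.inv 3,Op.rel 2 [0,0,0,0] 2 [2,1,1,2,1,1] [([],4)],Op.inv 2,Op.rel 3 [0,0,0,0] 3 [0,0,2,0,0,2] [([],6)],Op.inv 3]) (by decide +kernel) (by decide +kernel)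
theorem ix120 : Idx.{u} io C67 [0,1] [] 8 := (Idx.triv bd64 (by norm_num)).of_imp imp69
noncomputable def lk121 : List (List ℕ × List ℕ × Pf) := []
noncomputable def O122 : ℕ := (nat_lit 0x800100018000000030400400)
noncomputable def M123 : ℕ := (nat_lit 0x204c086017091860320143bd397ff)
noncomputable def b124 : ℕ := (nat_lit 0x2000004000090040200100812012f)
theorem cl125 : Clo.{u} io C67 [0,1] 125 m66 M123 (mkB [(2,b124),(3,b118)]) := cl119.new (k := 4) (b := 2) (q := 3) (p := 10) (r := 200) (n := 8) (O := O122) (by decide +kernel) (lks := lk121) (by decide +kernel) (gens_of_lall2 (m := []) (by decide +kernel)) ix120 (by decide +kernel)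
noncomputable def b126 : ℕ := (nat_lit 0x20400040000000402201008001727)
theorem cl127 : Clo.{u} io C67 [0,1] 125 m66 M123 (mkB [(2,b124),(3,b126)]) := cl125.ops (os := [Op.inv 2]) (by decide +kernel) (by decide +kernel)
theorem ix128 : Idx.{u} io C67 [0,1] [] 8 := (Idx.triv bd64 (by norm_num)).of_imp imp69
noncomputable def lk129 : List (List ℕ × List ℕ × Pf) := []
noncomputable def O130 : ℕ := (nat_lit 0x1000000c000040000001c0000800)
noncomputable def M131 : ℕ := (nat_lit 0x214c0860d7091c6032015fbd39fff)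
noncomputable def b132 : ℕ := (nat_lit 0x2000004000090040200100812052f)
theorem cl133 : Clo.{u} io C67 [0,1] 125 m66 M131 (mkB [(2,b132),(3,b126)]) := cl127.new (k := 4) (b := 2) (q := 10) (p := 30) (r := 200) (n := 8) (O := O130) (by decide +kernel) (lks := lk129) (by decide +kernel) (gens_of_lall2 (m := []) (by decide +kernel)) ix128 (by decide +kernel)
noncomputable def b134 : ℕ := (nat_lit 0x20400040000000402201048001727)
theorem cl135 : Clo.{u} io C67 [0,1] 125 m66 M131 (mkB [(2,b132),(3,b134)]) := cl133.ops (os := [Op.inv 2]) (by decide +kernel) (by decide +kernel)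
theorem ix136 : Idx.{u} io C67 [0,1] [] 8 := (Idx.triv bd64 (by norm_num)).of_imp imp69
noncomputable def lk137 : List (List ℕ × List ℕ × Pf) := []
noncomputable def O138 : ℕ := (nat_lit 0x3800000180000000000006000002000)
noncomputable def M139 : ℕ := (nat_lit 0x38214c09e0d7091c6032075fbd3bfff)
noncomputable def b140 : ℕ := (nat_lit 0x2000004000090040200100812053f)
theorem cl141 : Clo.{u} io C67 [0,1] 125 m66 M139 (mkB [(2,b140),(3,b134)]) := cl135.new (k := 4) (b := 2) (q := 4) (p := 13) (r := 200) (n := 8) (O := O138) (by decide +kernel) (lks := lk137) (by decide +kernel) (gens_of_lall2 (m := []) (by decide +kernel)) ix136 (by decide +kernel)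
noncomputable def b142 : ℕ := (nat_lit 0x2000004001090060220100812053f)
noncomputable def b143 : ℕ := (nat_lit 0x20480040000100402203048003727)
theorem cl144 : Clo.{u} io C67 [0,1] 125 m66 M139 (mkB [(2,b142),(3,b143)]) := cl141.ops (os := [Op.inv 2,Op.rel 3 [0,0,0] 3 [0,0,0,3,0,3,1] [([3,0,0,0],12)],Op.inv 3,Op.rel 3 [0,0] 2 [0,3,1,2,0,2,0] [([],8)],Op.inv 3,Op.rel 3 [0,0] 2 [1,1,3,1,1,1,1,2] [([2,1,1,3,1,1,1,1],4)],Op.inv 3]) (by decide +kernel) (by decide +kernel)
theorem ix145 : Idx.{u} io C67 [0,1] [] 8 := (Idx.triv bd64 (by norm_num)).of_imp imp69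
noncomputable def lk146 : List (List ℕ × List ℕ × Pf) := []
noncomputable def O147 : ℕ := (nat_lit 0x1200080440000030000004000)
noncomputable def M148 : ℕ := (nat_lit 0x38214c1be0df0d5c6032375fbd3ffff)
noncomputable def b149 : ℕ := (nat_lit 0x2000004001090060220100892053f)
theorem cl150 : Clo.{u} io C67 [0,1] 125 m66 M148 (mkB [(2,b149),(3,b143)]) := cl144.new (k := 4) (b := 2) (q := 23) (p := 66) (r := 200) (n := 8) (O := O147) (by decide +kernel) (lks := lk146) (by decide +kernel) (gens_of_lall2 (m := []) (by decide +kernel)) ix145 (by decide +kernel)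
noncomputable def b151 : ℕ := (nat_lit 0x21000040090d08602215528d24d3f)
noncomputable def b152 : ℕ := (nat_lit 0x20480a401401404032330590037bf)
theorem cl153 : Clo.{u} io C67 [0,1] 125 m66 M148 (mkB [(2,b151),(3,b152)]) := cl150.ops (os := [Op.inv 2,Op.rel 2 [1] 2 [1,3,0,0,3,1,3,1] [([2,1,3],9)],Op.inv 2,Op.rel 3 [1,1,1] 3 [0,2,1,2,1,1,1] [([3,0,2,1,2],13)],Op.inv 3,Op.rel 3 [0,0,0] 2 [0,0,0,3,0,2,1] [([2,0,0,0,3,0,2,1,2],13)],Op.inv 3,Op.rel 3 [0,0,0] 3 [0,0,0,3,0,3,1] [([3,0,0,0],12)],Op.inv 3,Op.rel 2 [1,1,1,1] 2 [0,0,3,0,0,3] [([2,0,0,3,0,0,3,3],5)],Op.inv 2,Op.rel 3 [0,0] 2 [0,3,1,2,0,2,0] [([],8)],Op.inv 3,Op.rel 2 [1,1] 3 [1,3,1,3,0,2,1] [([3,1,3,1,3,0,2,1,3],9)],Op.inv 2,Op.rel 3 [1,1,1] 3 [0,2,1,2,1,1,1] [([3,0,2,1,2],13)],Op.inv 3,Op.rel 2 [0,0] 2 [0,0,0,0,3,3,1,1] [([2],7)],Op.inv 2,Op.rel 3 [1] 3 [1,1,3,0,3,1,3,0] [([3],11)],Op.inv 3,Op.rel 3 [1,1,1] 3 [0,2,1,2,1,1,1] [([3,0,2,1,2],13)],Op.inv 3,Op.rel 3 [0] 2 [1,1,1,2,0,0,0,3,0]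 [([2],13)],Op.inv 3]) (by decide +kernel) (by decide +kernel)
theorem ix154 : Idx.{u} io C67 [0,1] [] 8 := (Idx.triv bd64 (by norm_num)).of_imp imp69
noncomputable def lk155 : List (List ℕ × List ℕ × Pf) := []
noncomputable def O156 : ℕ := (nat_lit 0x18002004000000000018040000040000)
noncomputable def M157 : ℕ := (nat_lit 0x1b8234c5be0df0d5c61b2775fbd7ffff)
noncomputable def b158 : ℕ := (nat_lit 0x21000040090d08602215528d24d7f)
theorem cl159 : Clo.{u} io C67 [0,1] 125 m66 M157 (mkB [(2,b158),(3,b152)]) := cl153.new (k := 4) (b := 2) (q := 6) (p := 18) (r := 200) (n := 8) (O := O156) (by decide +kernel) (lks := lk155) (by decide +kernel) (gens_of_lall2 (m := []) (by decide +kernel)) ix154 (by decide +kernel)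
noncomputable def b160 : ℕ := (nat_lit 0x23044840490d0861a257528d24d7f)
noncomputable def b161 : ℕ := (nat_lit 0x8022484ac016015041b2330590477bf)
theorem cl162 : Clo.{u} io C67 [0,1] 125 m66 M157 (mkB [(2,b160),(3,b161)]) := cl159.ops (os := [Op.inv 2,Op.rel 3 [0,0] 2 [0,3,1,2,0,2,0] [([],8)],Op.inv 3,Op.rel 3 [0,0,0,0] 3 [0,0,2,0,0,2] [([],6)],Op.inv 3,Op.rel 3 [0,0,0] 2 [0,0,0,3,0,2,1] [([2,0,0,0,3,0,2,1,2],13)],Op.inv 3,Op.rel 3 [1,1,1] 3 [0,2,1,2,1,1,1] [([3,0,2,1,2],13)],Op.inv 3,Op.rel 3 [0,0,0] 3 [0,0,0,3,0,3,1] [([3,0,0,0],12)],Op.inv 3,Op.rel 3 [0,0,0,0] 3 [0,0,2,0,0,2] [([],6)],Op.inv 3,Op.rel 2 [1,1] 3 [1,3,1,3,0,2,1] [([3,1,3,1,3,0,2,1,3],9)],Op.inv 2,Op.rel 2 [1,1,1,1] 2 [0,0,3,0,0,3] [([2,0,0,3,0,0,3,3],5)],Op.inv 2,Op.rel 2 [0,0] 3 [0,3,1,3,0,2,0] [([3,0,3,1,3,0,2,0,3],11)],Op.inv 2]) (by decide +kernel) (by decide +kernel)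
theorem ix163 : Idx.{u} io C67 [0,1] [] 8 := (Idx.triv bd64 (by norm_num)).of_imp imp69
noncomputable def lk164 : List (List ℕ × List ℕ × Pf) := []
noncomputable def O165 : ℕ := (nat_lit 0x42048020000000000c0000000080000)
noncomputable def M166 : ℕ := (nat_lit 0x1fa27cc7be0df0d5c6db2775fbdfffff)
noncomputable def b167 : ℕ := (nat_lit 0x23044840490d0861a277528d24d7f)
theorem cl168 : Clo.{u} io C67 [0,1] 125 m66 M166 (mkB [(2,b167),(3,b161)]) := cl162.new (k := 4) (b := 2) (q := 41) (p := 97) (r := 200) (n := 8) (O := O165) (by decide +kernel) (lks := lk164) (by decide +kernel) (gens_of_lall2 (m := []) (by decide +kernel)) ix163 (by decide +kernel)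
noncomputable def b169 : ℕ := (nat_lit 0x4227047860c90d186db277528da4d7f)
noncomputable def b170 : ℕ := (nat_lit 0xf022cc7ac05e05504db2330590477ff)
theorem cl171 : Clo.{u} io C67 [0,1] 125 m66 M166 (mkB [(2,b169),(3,b170)]) := cl168.ops (os := [Op.inv 2,Op.rel 2 [1,1,1,1] 2 [0,0,3,0,0,3] [([2,0,0,3,0,0,3,3],5)],Op.inv 2,Op.rel 3 [0,0,0,0] 3 [0,0,2,0,0,2] [([],6)],Op.inv 3,Op.rel 2 [1,1] 3 [1,3,1,3,0,2,1] [([3,1,3,1,3,0,2,1,3],9)],Op.inv 2,Op.rel 3 [1,1] 2 [1,3,1,2,0,2,1] [([],10)],Op.inv 3,Op.rel 3 [1,1,1,1] 3 [3,1,1,3,1,1] [([3,3,1,1,3,1,1,2],7)],Op.inv 3,Op.rel 3 [0,0,0] 2 [0,0,0,3,0,2,1] [([2,0,0,0,3,0,2,1,2],13)],Op.inv 3,Op.rel 3 [0,0,0,0] 3 [0,0,2,0,0,2] [([],6)],Op.inv 3,Op.rel 3 [0,0] 2 [0,3,1,2,0,2,0] [([],8)],Op.inv 3,Op.rel 2 [] 3 [3,3,3] [([],3)],Op.inv 2,Op.rel 2 [1,1,1,1] 2 [0,0,3,0,0,3] [([2,0,0,3,0,0,3,3],5)],Op.inv 2,Op.rel 2 [1,1,1,1] 2 [0,0,3,0,0,3] [([2,0,0,3,0,0,3,3],5)],Op.inv 2]) (by decide +kernel) (by decide +kernel)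
theorem ix172 : Idx.{u} io C67 [0,1] [] 8 := (Idx.triv bd64 (by norm_num)).of_imp imp69
noncomputable def lk173 : List (List ℕ × List ℕ × Pf) := []
noncomputable def O174 : ℕ := (nat_lit 0xc0030000000003000100000200000)
noncomputable def M175 : ℕ := (nat_lit 0x1fae7cf7be0df0d5f6db3775fbffffff)
noncomputable def b176 : ℕ := (nat_lit 0x4227047860c90d186db277528da4dff)
theorem cl177 : Clo.{u} io C67 [0,1] 125 m66 M175 (mkB [(2,b176),(3,b170)]) := cl171.new (k := 4) (b := 2) (q := 7) (p := 21) (r := 200) (n := 8) (O := O174) (by decide +kernel) (lks := lk173) (by decide +kernel) (gens_of_lall2 (m := []) (by decide +kernel)) ix172 (by decide +kernel)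
noncomputable def b178 : ℕ := (nat_lit 0x4267077b60cd0d1b6db377538fa4dff)
noncomputable def b179 : ℕ := (nat_lit 0xf863cd7be05e055d4db33305924f7ff)
theorem cl180 : Clo.{u} io C67 [0,1] 125 m66 M175 (mkB [(2,b178),(3,b179)]) := cl177.ops (os := [Op.inv 2,Op.rel 2 [1,1,1,1] 2 [0,0,3,0,0,3] [([2,0,0,3,0,0,3,3],5)],Op.inv 2,Op.rel 2 [1,1,1,1] 2 [0,0,3,0,0,3] [([2,0,0,3,0,0,3,3],5)],Op.inv 2,Op.rel 2 [0,0,0,0] 2 [2,1,1,2,1,1] [([],4)],Op.inv 2,Op.rel 2 [1,1] 3 [1,3,1,3,0,2,1] [([3,1,3,1,3,0,2,1,3],9)],Op.inv 2,Op.rel 2 [0,0,0,0] 2 [2,1,1,2,1,1] [([],4)],Op.inv 2,Op.rel 3 [0,0,0,0] 3 [0,0,2,0,0,2] [([],6)],Op.inv 3,Op.rel 2 [] 3 [3,3,3] [([],3)],Op.inv 2,Op.rel 2 [1,1,1,1] 2 [0,0,3,0,0,3] [([2,0,0,3,0,0,3,3],5)],Op.inv 2,Op.rel 2 [] 3 [3,3,3] [([],3)],Op.inv 2]) (by decide +kernel) (by decide +kernel)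
theorem ix181 : Idx.{u} io C67 [0,1] [] 8 := (Idx.triv bd64 (by norm_num)).of_imp imp69
noncomputable def lk182 : List (List ℕ × List ℕ × Pf) := []
noncomputable def O183 : ℕ := (nat_lit 0x1020c000804000804000000)
noncomputable def M184 : ℕ := (nat_lit 0x1fae7cf7bf0ffcd5fedf377dffffffff)
noncomputable def b185 : ℕ := (nat_lit 0x4267077b60cd0d1b6db377538fa4fff)
theorem cl186 : Clo.{u} io C67 [0,1] 125 m66 M184 (mkB [(2,b185),(3,b179)]) := cl180.new (k := 4) (b := 2) (q := 9) (p := 26) (r := 200) (n := 8) (O := O183) (by decide +kernel) (lks := lk182) (by decide +kernel) (gens_of_lall2 (m := []) (by decide +kernel)) ix181 (by decide +kernel)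
noncomputable def b187 : ℕ := (nat_lit 0x172674f7b60edcd1bedf377d3cfa5fff)
noncomputable def b188 : ℕ := (nat_lit 0xf863cd7bf0dfcd5dcdf33397d36f7ff)
theorem cl189 : Clo.{u} io C67 [0,1] 125 m66 M184 (mkB [(2,b187),(3,b188)]) := cl186.ops (os := [Op.inv 2,Op.rel 2 [] 3 [3,3,3] [([],3)],Op.inv 2,Op.rel 2 [1,1,1,1] 2 [0,0,3,0,0,3] [([2,0,0,3,0,0,3,3],5)],Op.inv 2,Op.rel 2 [] 3 [3,3,3] [([],3)],Op.inv 2,Op.rel 2 [0,0,0,0] 2 [2,1,1,2,1,1] [([],4)],Op.inv 2,Op.rel 2 [] 3 [3,3,3] [([],3)],Op.inv 2,Op.rel 2 [1,1] 3 [1,3,1,3,0,2,1] [([3,1,3,1,3,0,2,1,3],9)],Op.inv 2,Op.rel 3 [1,1,1,1] 3 [3,1,1,3,1,1] [([3,3,1,1,3,1,1,2],7)],Op.inv 3,Op.rel 2 [] 3 [3,3,3] [([],3)],Op.inv 2,Op.rel 3 [1,1,1,1] 3 [3,1,1,3,1,1] [([3,3,1,1,3,1,1,2],7)],Op.inv 3,Op.rel 2 [] 3 [3,3,3] [([],3)],Op.inv 2,Op.rel 2 [0,0,0,0] 2 [2,1,1,2,1,1] [([],4)],Op.inv 2]) (by decide +kernel) (by decide +kernel)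
theorem ix190 : Idx.{u} io C67 [0,1] [] 8 := (Idx.triv bd64 (by norm_num)).of_imp imp69
noncomputable def lk191 : List (List ℕ × List ℕ × Pf) := []
noncomputable def O192 : ℕ := (nat_lit 0x800e000080020080200000000)
noncomputable def M193 : ℕ := (nat_lit 0x1fae7cffbfeffcddfeff3f7fffffffff)
noncomputable def b194 : ℕ := (nat_lit 0x172674f7b60edcd1bedf377d3cfadfff)
theorem cl195 : Clo.{u} io C67 [0,1] 125 m66 M193 (mkB [(2,b194),(3,b188)]) := cl189.new (k := 4) (b := 2) (q := 15) (p := 43) (r := 200) (n := 8) (O := O192) (by decide +kernel) (lks := lk191) (by decide +kernel) (gens_of_lall2 (m := []) (by decide +kernel)) ix190 (by decide +kernel)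
noncomputable def b196 : ℕ := (nat_lit 0x1f267cffb7eedcd9bedf3f7f7cfedfff)
noncomputable def b197 : ℕ := (nat_lit 0xf8e3cdfbfcdfcddfcff3b7f7db6ffff)
theorem cl198 : Clo.{u} io C67 [0,1] 125 m66 M193 (mkB [(2,b196),(3,b197)]) := cl195.ops (os := [Op.inv 2,Op.rel 2 [] 3 [3,3,3] [([],3)],Op.inv 2,Op.rel 2 [0,0,0,0] 2 [2,1,1,2,1,1] [([],4)],Op.inv 2,Op.rel 2 [] 3 [3,3,3] [([],3)],Op.inv 2,Op.rel 2 [1,1,1,1] 2 [0,0,3,0,0,3] [([2,0,0,3,0,0,3,3],5)],Op.inv 2,Op.rel 2 [0,0,0,0] 2 [2,1,1,2,1,1] [([],4)],Op.inv 2,Op.rel 2 [1,1] 3 [1,3,1,3,0,2,1] [([3,1,3,1,3,0,2,1,3],9)],Op.inv 2,Op.rel 2 [0,0,0,0] 2 [2,1,1,2,1,1] [([],4)],Op.inv 2,Op.rel 2 [0,0,0,0] 2 [2,1,1,2,1,1] [([],4)],Op.inv 2,Op.rel 2 [] 3 [3,3,3] [([],3)],Op.inv 2,Op.rel 2 [1,1,1,1] 2 [0,0,3,0,0,3] [([2,0,0,3,0,0,3,3],5)],Op.inv 2,Op.rel 3 [1,1,1,1] 3 [3,1,1,3,1,1] [([3,3,1,1,3,1,1,2],7)],Op.inv 3]) (by decide +kernel) (by decide +kernel)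
theorem ix199 : Idx.{u} io C67 [0,1] [] 8 := (Idx.triv bd64 (by norm_num)).of_imp imp69
noncomputable def lk200 : List (List ℕ × List ℕ × Pf) := []
noncomputable def O201 : ℕ := (nat_lit 0x100000401002220000808000000000)
noncomputable def M202 : ℕ := (nat_lit 0x1fbe7cfffffffefffeffbfffffffffff)
noncomputable def b203 : ℕ := (nat_lit 0x1f267cffb7eedcd9bedf3f7f7cfeffff)
theorem cl204 : Clo.{u} io C67 [0,1] 125 m66 M202 (mkB [(2,b203),(3,b197)]) := cl198.new (k := 4) (b := 2) (q := 13) (p := 39) (r := 200) (n := 8) (O := O201) (by decide +kernel) (lks := lk200) (by decide +kernel) (gens_of_lall2 (m := []) (by decide +kernel)) ix199 (by decide +kernel)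
noncomputable def b205 : ℕ := (nat_lit 0x1fbe7cfff7fefedbfedfbffffdfeffff)
noncomputable def b206 : ℕ := (nat_lit 0x1f9e7cdfffcdfefffcffbffffff7ffff)
theorem cl207 : Clo.{u} io C67 [0,1] 125 m66 M202 (mkB [(2,b205),(3,b206)]) := cl204.ops (os := [Op.inv 2,Op.rel 2 [] 3 [3,3,3] [([],3)],Op.inv 2,Op.rel 2 [1,1,1,1] 2 [0,0,3,0,0,3] [([2,0,0,3,0,0,3,3],5)],Op.inv 2,Op.rel 2 [] 3 [3,3,3] [([],3)],Op.inv 2,Op.rel 2 [0,0,0,0] 2 [2,1,1,2,1,1] [([],4)],Op.inv 2,Op.rel 3 [1,1,1,1] 3 [3,1,1,3,1,1] [([3,3,1,1,3,1,1,2],7)],Op.inv 3,Op.rel 2 [1,1] 3 [1,3,1,3,0,2,1] [([3,1,3,1,3,0,2,1,3],9)],Op.inv 2,Op.rel 2 [] 3 [3,3,3] [([],3)],Op.inv 2,Op.rel 2 [1,1,1,1] 2 [0,0,3,0,0,3] [([2,0,0,3,0,0,3,3],5)],Op.inv 2,Op.rel 2 [0,0,0,0] 2 [2,1,1,2,1,1] [([],4)],Op.inv 2,Op.rel 2 [] 3 [3,3,3] [([],3)],Op.inv 2]) (by decide +kernel) (by decide +kernel)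
theorem ix208 : Idx.{u} io C67 [0,1] [] 8 := (Idx.triv bd64 (by norm_num)).of_imp imp69
noncomputable def lk209 : List (List ℕ × List ℕ × Pf) := []
noncomputable def O210 : ℕ := (nat_lit 0x418300000001000100400000000000)
noncomputable def M211 : ℕ := (nat_lit 0x1fffffffffffffffffffffffffffffff)
noncomputable def b212 : ℕ := (nat_lit 0x1fbe7cfff7fefedbfedfbffffdffffff)
theorem cl213 : Clo.{u} io C67 [0,1] 125 m66 M211 (mkB [(2,b212),(3,b206)]) := cl207.new (k := 4) (b := 2) (q := 16) (p := 46) (r := 200) (n := 8) (O := O210) (by decide +kernel) (lks := lk209) (by decide +kernel) (gens_of_lall2 (m := []) (by decide +kernel)) ix208 (by decide +kernel)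
noncomputable def b214 : ℕ := (nat_lit 0x1fffffffffffffffffffffffffffffff)
noncomputable def b215 : ℕ := (nat_lit 0x1fffffffffffffffffffffffffffffff)
theorem cl216 : Clo.{u} io C67 [0,1] 125 m66 M211 (mkB [(2,b214),(3,b215)]) := cl213.ops (os := [Op.inv 2,Op.rel 2 [] 3 [3,3,3] [([],3)],Op.inv 2,Op.rel 2 [1,1,1,1] 2 [0,0,3,0,0,3] [([2,0,0,3,0,0,3,3],5)],Op.inv 2,Op.rel 2 [] 3 [3,3,3] [([],3)],Op.inv 2,Op.rel 2 [0,0,0,0] 2 [2,1,1,2,1,1] [([],4)],Op.inv 2,Op.rel 2 [] 3 [3,3,3] [([],3)],Op.inv 2,Op.rel 2 [1,1,1,1] 2 [0,0,3,0,0,3] [([2,0,0,3,0,0,3,3],5)],Op.inv 2,Op.rel 2 [1,1] 3 [1,3,1,3,0,2,1] [([3,1,3,1,3,0,2,1,3],9)],Op.inv 2,Op.rel 2 [] 3 [3,3,3] [([],3)],Op.inv 2,Op.rel 2 [1,1,1,1] 2 [0,0,3,0,0,3] [([2,0,0,3,0,0,3,3],5)],Op.inv 2,Op.rel 2 [] 3 [3,3,3] [([],3)],Op.inv 2]) (by decide +kernel) (by decide +kernel)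
theorem sat218 : Sat io C67 (finG m66ok) := m66s0.fin (k := 7) (by decide +kernel)
theorem bd217 : Bound.{u} io C67 [0,1,2,3] 1000 := cl216.bound (by decide +kernel) sat218 (bd64.of_imp imp69)
noncomputable def m219n4 : Net := (Net.cons (nat_lit 64) (nat_lit 0x47fe239a18513364)
  (Net.cons (nat_lit 32) (nat_lit 0x496c75d500000000ba6050d0)
  (Net.cons (nat_lit 16) (nat_lit 0x2c3d000086e50000a056000070f8)
  (Net.cons (nat_lit 8) (nat_lit 0x6b001d00bf00ca006e003b00cb0064)
  (Net.cons (nat_lit 4) (nat_lit 0x806070007020308030e000a040a0c)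
  (Net.cons (nat_lit 2) (nat_lit 0x3102002233012303002301300310121)
  (Net.cons (nat_lit 1) (nat_lit 0x1555050041011511401041414141411)
  (Net.cons (nat_lit 2) (nat_lit 0x2000002200002220002202)
  (Net.cons (nat_lit 4) (nat_lit 0x2080a0604040408080a0a0202040c02)
  (Net.cons (nat_lit 8) (nat_lit 0xc00500018004200dc000000820028)
  (Net.cons (nat_lit 16) (nat_lit 0x23900000f13600008a1800006198)
  (Net.cons (nat_lit 32) (nat_lit 0xba851e000000000aabcb702)
  (Net.cons (nat_lit 64) (nat_lit 0x4705ccb70e8dd298)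
  Net.nil)))))))))))))
noncomputable def m219n5 : Net := (Net.cons (nat_lit 64) (nat_lit 0x4705ccb70e8dd298)
  (Net.cons (nat_lit 32) (nat_lit 0xf457ae1f00000000aabcb702)
  (Net.cons (nat_lit 16) (nat_lit 0xf13e00009c6d00008a180000e198)
  (Net.cons (nat_lit 8) (nat_lit 0xe7006200fb00f30032007f007d00a8)
  (Net.cons (nat_lit 4) (nat_lit 0xb040d070d020c020009020a04020c02)
  (Net.cons (nat_lit 2) (nat_lit 0x1233003210020030012113033202101)
  (Net.cons (nat_lit 1) (nat_lit 0x4014115051455041044410441141114)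
  (Net.cons (nat_lit 2) (nat_lit 0x2000200002000222)
  (Net.cons (nat_lit 4) (nat_lit 0x800080c080a00000808000e040a0a0c)
  (Net.cons (nat_lit 8) (nat_lit 0x40008a002000940098008400340044)
  (Net.cons (nat_lit 16) (nat_lit 0x86e40000d2820000a056000070d8)
  (Net.cons (nat_lit 32) (nat_lit 0xb6938a2a00000000ba6050d0)
  (Net.cons (nat_lit 64) (nat_lit 0x47fe239a18513364)
  Net.nil)))))))))))))
noncomputable def m219n6 : Net := (Net.cons (nat_lit 64) (nat_lit 0xaebf2a86fd27d580)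
  (Net.cons (nat_lit 32) (nat_lit 0x2e7664c00000000bb71cff0)
  (Net.cons (nat_lit 16) (nat_lit 0xf30000078b10000f5d0000092f2)
  (Net.cons (nat_lit 8) (nat_lit 0x7400d600df00ed004800e500ca00f7)
  (Net.cons (nat_lit 4) (nat_lit 0x308040203070504010a0d0405030100)
  (Net.cons (nat_lit 2) (nat_lit 0x200021330100003021012113002103)
  (Net.cons (nat_lit 1) (nat_lit 0x45040441441141151114011501400111)
  (Net.cons (nat_lit 2) (nat_lit 0x20020000020222002222020002000002)
  (Net.cons (nat_lit 4) (nat_lit 0xa0000080000080008080a0e08000600)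
  (Net.cons (nat_lit 8) (nat_lit 0xd20064008a00d400a60044001800de)
  (Net.cons (nat_lit 16) (nat_lit 0xf3000005c6c0000968c000082e4)
  (Net.cons (nat_lit 32) (nat_lit 0x8060b11000000000abd00148)
  (Net.cons (nat_lit 64) (nat_lit 0xaeefa73934d800e6)
  Net.nil)))))))))))))
noncomputable def m219n7 : Net := (Net.cons (nat_lit 64) (nat_lit 0xaeefa73934d800e6)
  (Net.cons (nat_lit 32) (nat_lit 0x8060b11000000000c44b8ce4)
  (Net.cons (nat_lit 16) (nat_lit 0xf3000002393000057e000004404)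
  (Net.cons (nat_lit 8) (nat_lit 0xd2003e002a007500bb003000d100a2)
  (Net.cons (nat_lit 4) (nat_lit 0x1000c020c070f0e0304040b0a01060f)
  (Net.cons (nat_lit 2) (nat_lit 0x2220201002210130110110213022322)
  (Net.cons (nat_lit 1) (nat_lit 0x54044404511441114041441041101414)
  (Net.cons (nat_lit 2) (nat_lit 0x202000020000000000002000220)
  (Net.cons (nat_lit 4) (nat_lit 0x408080e080a08080800000a0802040a)
  (Net.cons (nat_lit 8) (nat_lit 0x7400800010002000b8004800f60080)
  (Net.cons (nat_lit 16) (nat_lit 0xf300000074e000083bc000044e0)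
  (Net.cons (nat_lit 32) (nat_lit 0x2e7664c00000000d45fd000)
  (Net.cons (nat_lit 64) (nat_lit 0xaebf2a86fd27d580)
  Net.nil)))))))))))))
noncomputable def m219n8 : Net := (Net.cons (nat_lit 64) (nat_lit 0xfcd6bba25f3f31db)
  (Net.cons (nat_lit 32) (nat_lit 0xe593230000000000ec0a74cc)
  (Net.cons (nat_lit 16) (nat_lit 0x500000000f0000009794000011cd)
  (Net.cons (nat_lit 8) (nat_lit 0x50002d0048001600510010004f005a)
  (Net.cons (nat_lit 4) (nat_lit 0x50a090102090c040c00090e03090907)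
  (Net.cons (nat_lit 2) (nat_lit 0x11012011013030310113212321023100)
  (Net.cons (nat_lit 1) (nat_lit 0x54015540545544414451140444104545)
  (Net.cons (nat_lit 2) (nat_lit 0x2202202220020000020)
  (Net.cons (nat_lit 4) (nat_lit 0x80a000606020a0c08020a0602)
  (Net.cons (nat_lit 8) (nat_lit 0x1000a20064008200aa0036004c001c)
  (Net.cons (nat_lit 16) (nat_lit 0x1010000091980000f94200000346)
  (Net.cons (nat_lit 32) (nat_lit 0x6140d79000000000ed2198c6)
  (Net.cons (nat_lit 64) (nat_lit 0xfc6ef758a7bf18e8)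
  Net.nil)))))))))))))
noncomputable def m219n9 : Net := (Net.cons (nat_lit 64) (nat_lit 0x39108a71840e717)
  (Net.cons (nat_lit 32) (nat_lit 0xed2198c6000000006140d790)
  (Net.cons (nat_lit 16) (nat_lit 0xf942000013460000101000009198)
  (Net.cons (nat_lit 8) (nat_lit 0x55003600b3001c0049005d00640092)
  (Net.cons (nat_lit 4) (nat_lit 0xa06060a010d0e090a0a04020a0a0606)
  (Net.cons (nat_lit 2) (nat_lit 0x21210323203232020221131003123213)
  (Net.cons (nat_lit 1) (nat_lit 0x54411101011415540550015551551414)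
  (Net.cons (nat_lit 2) (nat_lit 0x22200002200000000020002000002)
  (Net.cons (nat_lit 4) (nat_lit 0x40a06020c080002040808020c0c04)
  (Net.cons (nat_lit 8) (nat_lit 0xae001000b0005a00a000d200480012)
  (Net.cons (nat_lit 16) (nat_lit 0x9794000011cc0000500000000f00)
  (Net.cons (nat_lit 32) (nat_lit 0xec0a74cc00000000e5932300)
  (Net.cons (nat_lit 64) (nat_lit 0x329445d20c0ce24)
  Net.nil)))))))))))))
noncomputable def m219l : List Net := [Net.nil,Net.nil,Net.nil,Net.nil,m219n4,m219n5,m219n6,m219n7,m219n8,m219n9]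
noncomputable abbrev m219 : ℕ → Net := lk Net.nil m219l
theorem m219ok : NetsOk 120 m219 vT := netsOk_of (by decide +kernel)
theorem m219s0 : Sat io [] (finG m219ok) := fin_sat_nil _ (k := 7) (n := 20) (by decide +kernel)
noncomputable def r7 : List ℕ := [4,4,4,4]
noncomputable def m220n4 : Net := (Net.cons (nat_lit 2) (nat_lit 1)
  (Net.cons (nat_lit 1) (nat_lit 1)
  (Net.cons (nat_lit 2) (nat_lit 2)
  Net.nil)))
noncomputable def m220n5 : Net := (Net.cons (nat_lit 2) (nat_lit 1)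
  (Net.cons (nat_lit 1) (nat_lit 4)
  (Net.cons (nat_lit 2) (nat_lit 2)
  Net.nil)))
noncomputable def m220l : List Net := [Net.nil,Net.nil,Net.nil,Net.nil,m220n4,m220n5]
noncomputable abbrev m220 : ℕ → Net := lk Net.nil m220l
theorem m220ok : NetsOk 4 m220 vT := netsOk_of (by decide +kernel)
theorem m220s0 : Sat io [] (finG m220ok) := fin_sat_nil _ (k := 2) (n := 20) (by decide +kernel)
noncomputable def C221 : List (List ℕ) := [r7]
theorem cl222 : Clo.{u} io C221 [] 4 m220 1 (mkB []) := Clo.start (by decide +kernel)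
theorem imp223 : Imp.{u} io C221 C1 := Imp.of_chk (pfs := []) (by decide +kernel)
theorem ix224 : Idx.{u} io C221 [] [] 1 := (Idx.triv (Bound.nil) (by norm_num)).of_imp imp223
noncomputable def lk225 : List (List ℕ × List ℕ × Pf) := []
noncomputable def O226 : ℕ := (nat_lit 2)
noncomputable def M227 : ℕ := (nat_lit 3)
noncomputable def b228 : ℕ := (nat_lit 1)
theorem cl229 : Clo.{u} io C221 [] 4 m220 M227 (mkB [(4,b228)]) := cl222.new (k := 0) (b := 4) (q := 0) (p := 1) (r := 200) (n := 1) (O := O226) (by decide +kernel) (lks := lk225) (by decide +kernel) (gens_of_lall2 (m := []) (by decide +kernel)) ix224 (by decide +kernel)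
noncomputable def b230 : ℕ := (nat_lit 2)
theorem cl231 : Clo.{u} io C221 [] 4 m220 M227 (mkB [(4,b228),(5,b230)]) := cl229.ops (os := [Op.inv 4]) (by decide +kernel) (by decide +kernel)
theorem ix232 : Idx.{u} io C221 [] [] 1 := (Idx.triv (Bound.nil) (by norm_num)).of_imp imp223
noncomputable def lk233 : List (List ℕ × List ℕ × Pf) := []
noncomputable def O234 : ℕ := (nat_lit 8)
noncomputable def M235 : ℕ := (nat_lit 11)
noncomputable def b236 : ℕ := (nat_lit 3)
theorem cl237 : Clo.{u} io C221 [] 4 m220 M235 (mkB [(4,b236),(5,b230)]) := cl231.new (k := 0) (b := 4) (q := 1) (p := 3) (r := 200) (n := 1) (O := O234) (by decide +kernel) (lks := lk233) (by decide +kernel) (gens_of_lall2 (m := []) (by decide +kernel)) ix232 (by decide +kernel)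
noncomputable def b238 : ℕ := (nat_lit 10)
theorem cl239 : Clo.{u} io C221 [] 4 m220 M235 (mkB [(4,b236),(5,b238)]) := cl237.ops (os := [Op.inv 4]) (by decide +kernel) (by decide +kernel)
theorem ix240 : Idx.{u} io C221 [] [] 1 := (Idx.triv (Bound.nil) (by norm_num)).of_imp imp223
noncomputable def lk241 : List (List ℕ × List ℕ × Pf) := []
noncomputable def O242 : ℕ := (nat_lit 4)
noncomputable def M243 : ℕ := (nat_lit 15)
noncomputable def b244 : ℕ := (nat_lit 11)
theorem cl245 : Clo.{u} io C221 [] 4 m220 M243 (mkB [(4,b244),(5,b238)]) := cl239.new (k := 0) (b := 4) (q := 3) (p := 2) (r := 200) (n := 1) (O := O242) (by decide +kernel) (lks := lk241) (by decide +kernel) (gens_of_lall2 (m := []) (by decide +kernel)) ix240 (by decide +kernel)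
noncomputable def b246 : ℕ := (nat_lit 15)
noncomputable def b247 : ℕ := (nat_lit 15)
theorem cl248 : Clo.{u} io C221 [] 4 m220 M243 (mkB [(4,b246),(5,b247)]) := cl245.ops (os := [Op.inv 4,Op.rel 4 [] 5 [5,5] [([],1)],Op.inv 4]) (by decide +kernel) (by decide +kernel)
theorem sat250 : Sat io C221 (finG m220ok) := m220s0.fin (k := 2) (by decide +kernel)
theorem bd249 : Bound.{u} io C221 [4,5] 4 := cl248.bound (by decide +kernel) sat250 ((Bound.nil).of_imp imp223)
noncomputable def r8 : List ℕ := [6,6,6]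
noncomputable def r9 : List ℕ := [6,4,6,4,6,4]
noncomputable def r10 : List ℕ := [7,5,5,6,5,5]
noncomputable def r11 : List ℕ := [6,5,7,4,6,4,7,4]
noncomputable def m251n4 : Net := (Net.cons (nat_lit 3) (nat_lit 2)
  (Net.cons (nat_lit 1) (nat_lit 2)
  (Net.cons (nat_lit 1) (nat_lit 8)
  (Net.cons (nat_lit 3) (nat_lit 2)
  Net.nil))))
noncomputable def m251n5 : Net := (Net.cons (nat_lit 3) (nat_lit 2)
  (Net.cons (nat_lit 1) (nat_lit 2)
  (Net.cons (nat_lit 1) (nat_lit 8)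
  (Net.cons (nat_lit 3) (nat_lit 2)
  Net.nil))))
noncomputable def m251n6 : Net := (Net.cons (nat_lit 1) (nat_lit 9)
  (Net.cons (nat_lit 1) (nat_lit 18)
  Net.nil))
noncomputable def m251n7 : Net := (Net.cons (nat_lit 1) (nat_lit 18)
  (Net.cons (nat_lit 1) (nat_lit 9)
  Net.nil))
noncomputable def m251l : List Net := [Net.nil,Net.nil,Net.nil,Net.nil,m251n4,m251n5,m251n6,m251n7]
noncomputable abbrev m251 : ℕ → Net := lk Net.nil m251l
theorem m251ok : NetsOk 6 m251 vT := netsOk_of (by decide +kernel)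
theorem m251s0 : Sat io [] (finG m251ok) := fin_sat_nil _ (k := 3) (n := 20) (by decide +kernel)
noncomputable def C252 : List (List ℕ) := [r7,r8,r9,r10,r11]
theorem cl253 : Clo.{u} io C252 [4,5] 6 m251 1 (mkB []) := Clo.start (by decide +kernel)
theorem imp254 : Imp.{u} io C252 C221 := Imp.of_chk (pfs := [[([],1)]]) (by decide +kernel)
theorem der256 : Der 120 (finX 120) (cl (finG m219ok) [[5,5]]) (fun _ => Net.nil) := Der.zero (finModel m219ok).inj
noncomputable def x257 : Net := (Net.cons (nat_lit 64) (nat_lit 0xc0000002bc0000)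
  (Net.cons (nat_lit 32) (nat_lit 0xc4c0000000000000ab55252d)
  (Net.cons (nat_lit 16) (nat_lit 0xc00000007bcc0000f12000001b04)
  (Net.cons (nat_lit 8) (nat_lit 0xc000c000fc0042008400c0006c0018)
  (Net.cons (nat_lit 4) (nat_lit 0x400000f0c08040007030c080701060c)
  (Net.cons (nat_lit 2) (nat_lit 0x2033003030103022110300212)
  (Net.cons (nat_lit 1) (nat_lit 0x555544500155104015105504511055)
  (Net.cons (nat_lit 2) (nat_lit 0x20000000000000000000000000)
  (Net.cons (nat_lit 4) (nat_lit 0xc080400080e020c080c0808)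
  (Net.cons (nat_lit 8) (nat_lit 0xc000c000fc0042006c0018008400c0)
  (Net.cons (nat_lit 16) (nat_lit 0xc00000007bcc00001b040000f120)
  (Net.cons (nat_lit 32) (nat_lit 0xc44000000000000054aa52d2)
  (Net.cons (nat_lit 64) (nat_lit 0xc0000002bc0000)
  Net.nil)))))))))))))
noncomputable def ns258 : ℕ → Net := upd (fun _ => Net.nil) 0 x257
theorem der259 : Der 120 (finX 120) (cl (finG m219ok) [[5,5]]) ns258 := der256.add (wp_mem_cl (w := [5,5]) (by decide)) ((finModel m219ok).toIsPre.rep_word (k := 7) (w := [5,5]) (n := x257) (by decide +kernel)) 0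
noncomputable def L260 : Lev := Lev.cons 0 2 [[0]] Lev.nil
theorem lc261 : Lev.chk 120 4 ns258 vT 100 L260 = true := by decide +kernel
theorem lb262 : 2 ≤ Nat.card (cl (finG m219ok) [[5,5]]) := le_of_eq_of_le (by decide +kernel) (der259.card_ge lc261)
theorem sat263 : Sat io C221 (finG m219ok) := m219s0.fin (k := 7) (by decide +kernel)
theorem ix255 : Idx.{u} io C252 [4,5] [[5,5]] 2 := (Idx.of bd249 sat263 (by decide +kernel) lb262 (by decide +kernel)).of_imp imp254
noncomputable def lk264 : List (List ℕ × List ℕ × Pf) := [([5,5],[4,4],[([6],7)])]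
noncomputable def O265 : ℕ := (nat_lit 10)
noncomputable def M266 : ℕ := (nat_lit 11)
noncomputable def b267 : ℕ := (nat_lit 1)
theorem cl268 : Clo.{u} io C252 [4,5] 6 m251 M266 (mkB [(6,b267)]) := cl253.new (k := 0) (b := 6) (q := 0) (p := 1) (r := 200) (n := 2) (O := O265) (by decide +kernel) (lks := lk264) (by decide +kernel) (gens_of_lall2 (m := [[0]]) (by decide +kernel)) ix255 (by decide +kernel)
noncomputable def b269 : ℕ := (nat_lit 2)
theorem cl270 : Clo.{u} io C252 [4,5] 6 m251 M266 (mkB [(6,b267),(7,b269)]) := cl268.ops (os := [Op.inv 6]) (by decide +kernel) (by decide +kernel)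
theorem der272 : Der 120 (finX 120) (cl (finG m219ok) [[5,5],[5]]) (fun _ => Net.nil) := Der.zero (finModel m219ok).inj
noncomputable def x273 : Net := (Net.cons (nat_lit 64) (nat_lit 0xc0000002bc0000)
  (Net.cons (nat_lit 32) (nat_lit 0xc4c0000000000000ab55252d)
  (Net.cons (nat_lit 16) (nat_lit 0xc00000007bcc0000f12000001b04)
  (Net.cons (nat_lit 8) (nat_lit 0xc000c000fc0042008400c0006c0018)
  (Net.cons (nat_lit 4) (nat_lit 0x400000f0c08040007030c080701060c)
  (Net.cons (nat_lit 2) (nat_lit 0x2033003030103022110300212)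
  (Net.cons (nat_lit 1) (nat_lit 0x555544500155104015105504511055)
  (Net.cons (nat_lit 2) (nat_lit 0x20000000000000000000000000)
  (Net.cons (nat_lit 4) (nat_lit 0xc080400080e020c080c0808)
  (Net.cons (nat_lit 8) (nat_lit 0xc000c000fc0042006c0018008400c0)
  (Net.cons (nat_lit 16) (nat_lit 0xc00000007bcc00001b040000f120)
  (Net.cons (nat_lit 32) (nat_lit 0xc44000000000000054aa52d2)
  (Net.cons (nat_lit 64) (nat_lit 0xc0000002bc0000)
  Net.nil)))))))))))))
noncomputable def ns274 : ℕ → Net := upd (fun _ => Net.nil) 0 x273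
theorem der275 : Der 120 (finX 120) (cl (finG m219ok) [[5,5],[5]]) ns274 := der272.add (wp_mem_cl (w := [5,5]) (by decide)) ((finModel m219ok).toIsPre.rep_word (k := 7) (w := [5,5]) (n := x273) (by decide +kernel)) 0
noncomputable def ns276 : ℕ → Net := upd ns274 1 (m219 5)
theorem der277 : Der 120 (finX 120) (cl (finG m219ok) [[5,5],[5]]) ns276 := der275.add (wp_mem_cl (w := [5]) (by decide)) (rep_letter (finModel m219ok) 5) 1
noncomputable def L278 : Lev := Lev.cons 0 4 [[0],[1]] Lev.nil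
theorem lc279 : Lev.chk 120 4 ns276 vT 100 L278 = true := by decide +kernel
theorem lb280 : 4 ≤ Nat.card (cl (finG m219ok) [[5,5],[5]]) := le_of_eq_of_le (by decide +kernel) (der277.card_ge lc279)
theorem ix271 : Idx.{u} io C252 [4,5] [[5,5],[5]] 1 := (Idx.of bd249 sat263 (by decide +kernel) lb280 (by decide +kernel)).of_imp imp254
noncomputable def lk281 : List (List ℕ × List ℕ × Pf) := [([5,5],[4,4],[([7,4,4,6],7)]),([5],[5,6,5,7,5],[([7],9)])]
noncomputable def O282 : ℕ := (nat_lit 32)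
noncomputable def M283 : ℕ := (nat_lit 43)
noncomputable def b284 : ℕ := (nat_lit 10)
theorem cl285 : Clo.{u} io C252 [4,5] 6 m251 M283 (mkB [(6,b267),(7,b284)]) := cl270.new (k := 0) (b := 7) (q := 3) (p := 5) (r := 200) (n := 1) (O := O282) (by decide +kernel) (lks := lk281) (by decide +kernel) (gens_of_lall2 (m := [[0],[1]]) (by decide +kernel)) ix271 (by decide +kernel)
noncomputable def b286 : ℕ := (nat_lit 33)
theorem cl287 : Clo.{u} io C252 [4,5] 6 m251 M283 (mkB [(6,b286),(7,b284)]) := cl285.ops (os := [Op.inv 7]) (by decide +kernel) (by decide +kernel)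
theorem der289 : Der 120 (finX 120) (cl (finG m219ok) [[5,5]]) (fun _ => Net.nil) := Der.zero (finModel m219ok).inj
noncomputable def x290 : Net := (Net.cons (nat_lit 64) (nat_lit 0xc0000002bc0000)
  (Net.cons (nat_lit 32) (nat_lit 0xc4c0000000000000ab55252d)
  (Net.cons (nat_lit 16) (nat_lit 0xc00000007bcc0000f12000001b04)
  (Net.cons (nat_lit 8) (nat_lit 0xc000c000fc0042008400c0006c0018)
  (Net.cons (nat_lit 4) (nat_lit 0x400000f0c08040007030c080701060c)
  (Net.cons (nat_lit 2) (nat_lit 0x2033003030103022110300212)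
  (Net.cons (nat_lit 1) (nat_lit 0x555544500155104015105504511055)
  (Net.cons (nat_lit 2) (nat_lit 0x20000000000000000000000000)
  (Net.cons (nat_lit 4) (nat_lit 0xc080400080e020c080c0808)
  (Net.cons (nat_lit 8) (nat_lit 0xc000c000fc0042006c0018008400c0)
  (Net.cons (nat_lit 16) (nat_lit 0xc00000007bcc00001b040000f120)
  (Net.cons (nat_lit 32) (nat_lit 0xc44000000000000054aa52d2)
  (Net.cons (nat_lit 64) (nat_lit 0xc0000002bc0000)
  Net.nil)))))))))))))
noncomputable def ns291 : ℕ → Net := upd (fun _ => Net.nil) 0 x290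
theorem der292 : Der 120 (finX 120) (cl (finG m219ok) [[5,5]]) ns291 := der289.add (wp_mem_cl (w := [5,5]) (by decide)) ((finModel m219ok).toIsPre.rep_word (k := 7) (w := [5,5]) (n := x290) (by decide +kernel)) 0
noncomputable def L293 : Lev := Lev.cons 0 2 [[0]] Lev.nil
theorem lc294 : Lev.chk 120 4 ns291 vT 100 L293 = true := by decide +kernel
theorem lb295 : 2 ≤ Nat.card (cl (finG m219ok) [[5,5]]) := le_of_eq_of_le (by decide +kernel) (der292.card_ge lc294)
theorem ix288 : Idx.{u} io C252 [4,5] [[5,5]] 2 := (Idx.of bd249 sat263 (by decide +kernel) lb295 (by decide +kernel)).of_imp imp254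
noncomputable def lk296 : List (List ℕ × List ℕ × Pf) := [([5,5],[4,4],[([6],7)])]
noncomputable def O297 : ℕ := (nat_lit 20)
noncomputable def M298 : ℕ := (nat_lit 63)
noncomputable def b299 : ℕ := (nat_lit 35)
theorem cl300 : Clo.{u} io C252 [4,5] 6 m251 M298 (mkB [(6,b299),(7,b284)]) := cl287.new (k := 0) (b := 6) (q := 1) (p := 2) (r := 200) (n := 2) (O := O297) (by decide +kernel) (lks := lk296) (by decide +kernel) (gens_of_lall2 (m := [[0]]) (by decide +kernel)) ix288 (by decide +kernel)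
noncomputable def b301 : ℕ := (nat_lit 63)
noncomputable def b302 : ℕ := (nat_lit 63)
theorem cl303 : Clo.{u} io C252 [4,5] 6 m251 M298 (mkB [(6,b301),(7,b302)]) := cl300.ops (os := [Op.inv 6,Op.rel 6 [] 7 [7] [([],3)],Op.inv 6,Op.rel 6 [4] 7 [5,7,5] [([7],5)],Op.inv 6]) (by decide +kernel) (by decide +kernel)
theorem sat305 : Sat io C252 (finG m251ok) := m251s0.fin (k := 3) (by decide +kernel)
theorem bd304 : Bound.{u} io C252 [4,5,6,7] 24 := cl303.bound (by decide +kernel) sat305 (bd249.of_imp imp254)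
noncomputable def r12 : List ℕ := [8,8,8]
noncomputable def r13 : List ℕ := [9,5,5,8,5,5]
noncomputable def r14 : List ℕ := [9,5,7,8,7,5]
noncomputable def r15 : List ℕ := [8,4,8,5]
noncomputable def m306n4 : Net := (Net.cons (nat_lit 1) (nat_lit 10)
  Net.nil)
noncomputable def m306n5 : Net := (Net.cons (nat_lit 1) (nat_lit 10)
  Net.nil)
noncomputable def m306n6 : Net := (Net.cons (nat_lit 1) (nat_lit 4)
  (Net.cons (nat_lit 1) (nat_lit 2)
  Net.nil))
noncomputable def m306n7 : Net := (Net.cons (nat_lit 1) (nat_lit 2)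
  (Net.cons (nat_lit 1) (nat_lit 4)
  Net.nil))
noncomputable def m306n8 : Net := (Net.cons (nat_lit 1) (nat_lit 1)
  (Net.cons (nat_lit 1) (nat_lit 2)
  Net.nil))
noncomputable def m306n9 : Net := (Net.cons (nat_lit 1) (nat_lit 2)
  (Net.cons (nat_lit 1) (nat_lit 1)
  Net.nil))
noncomputable def m306l : List Net := [Net.nil,Net.nil,Net.nil,Net.nil,m306n4,m306n5,m306n6,m306n7,m306n8,m306n9]
noncomputable abbrev m306 : ℕ → Net := lk Net.nil m306l
theorem m306ok : NetsOk 5 m306 vT := netsOk_of (by decide +kernel)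
theorem m306s0 : Sat io [] (finG m306ok) := fin_sat_nil _ (k := 3) (n := 20) (by decide +kernel)
noncomputable def C307 : List (List ℕ) := [r7,r8,r9,r10,r11,r12,r13,r14,r15]
theorem cl308 : Clo.{u} io C307 [4,5,6,7] 5 m306 1 (mkB []) := Clo.start (by decide +kernel)
theorem imp309 : Imp.{u} io C307 C252 := Imp.of_chk (pfs := [[([],1)],[([],3)],[([],5)],[([],7)],[([],9)]]) (by decide +kernel)
theorem der311 : Der 120 (finX 120) (cl (finG m219ok) [[5,5],[5,7]]) (fun _ => Net.nil) := Der.zero (finModel m219ok).inj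
noncomputable def x312 : Net := (Net.cons (nat_lit 64) (nat_lit 0xc0000002bc0000)
  (Net.cons (nat_lit 32) (nat_lit 0xc4c0000000000000ab55252d)
  (Net.cons (nat_lit 16) (nat_lit 0xc00000007bcc0000f12000001b04)
  (Net.cons (nat_lit 8) (nat_lit 0xc000c000fc0042008400c0006c0018)
  (Net.cons (nat_lit 4) (nat_lit 0x400000f0c08040007030c080701060c)
  (Net.cons (nat_lit 2) (nat_lit 0x2033003030103022110300212)
  (Net.cons (nat_lit 1) (nat_lit 0x555544500155104015105504511055)
  (Net.cons (nat_lit 2) (nat_lit 0x20000000000000000000000000)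
  (Net.cons (nat_lit 4) (nat_lit 0xc080400080e020c080c0808)
  (Net.cons (nat_lit 8) (nat_lit 0xc000c000fc0042006c0018008400c0)
  (Net.cons (nat_lit 16) (nat_lit 0xc00000007bcc00001b040000f120)
  (Net.cons (nat_lit 32) (nat_lit 0xc44000000000000054aa52d2)
  (Net.cons (nat_lit 64) (nat_lit 0xc0000002bc0000)
  Net.nil)))))))))))))
noncomputable def ns313 : ℕ → Net := upd (fun _ => Net.nil) 0 x312
theorem der314 : Der 120 (finX 120) (cl (finG m219ok) [[5,5],[5,7]]) ns313 := der311.add (wp_mem_cl (w := [5,5]) (by decide)) ((finModel m219ok).toIsPre.rep_word (k := 7) (w := [5,5]) (n := x312) (by decide +kernel)) 0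
noncomputable def x315 : Net := (Net.cons (nat_lit 64) (nat_lit 0xe0142900998ef309)
  (Net.cons (nat_lit 32) (nat_lit 0xe4b868bb000000008252d1f7)
  (Net.cons (nat_lit 16) (nat_lit 0x3cc60000fb92000006a90000dea2)
  (Net.cons (nat_lit 8) (nat_lit 0xb8007b006600e10031006300a5008a)
  (Net.cons (nat_lit 4) (nat_lit 0x401080e0c00050a0b010e0100040802)
  (Net.cons (nat_lit 2) (nat_lit 0x30113222021002110320033212010110)
  (Net.cons (nat_lit 1) (nat_lit 0x44445441414101110514141545101401)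
  (Net.cons (nat_lit 2) (nat_lit 0x20200020002200220020222000002000)
  (Net.cons (nat_lit 4) (nat_lit 0x408020a0200020008080c000a000206)
  (Net.cons (nat_lit 8) (nat_lit 0x50005c00f400e200b200e6001a00e0)
  (Net.cons (nat_lit 16) (nat_lit 0xdc840000d04e000016e40000ce9a)
  (Net.cons (nat_lit 32) (nat_lit 0x84419b6a000000009d1d50c8)
  (Net.cons (nat_lit 64) (nat_lit 0xe0ad40bcc5380550)
  Net.nil)))))))))))))
noncomputable def ns316 : ℕ → Net := upd ns313 1 x315
theorem der317 : Der 120 (finX 120) (cl (finG m219ok) [[5,5],[5,7]]) ns316 := der314.add (wp_mem_cl (w := [5,7]) (by decide)) ((finModel m219ok).toIsPre.rep_word (k := 7) (w := [5,7]) (n := x315) (by decide +kernel)) 1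
noncomputable def L318 : Lev := Lev.cons 0 6 [[0],[1]] Lev.nil
theorem lc319 : Lev.chk 120 4 ns316 vT 100 L318 = true := by decide +kernel
theorem lb320 : 6 ≤ Nat.card (cl (finG m219ok) [[5,5],[5,7]]) := le_of_eq_of_le (by decide +kernel) (der317.card_ge lc319)
theorem sat321 : Sat io C252 (finG m219ok) := m219s0.fin (k := 7) (by decide +kernel)
theorem ix310 : Idx.{u} io C307 [4,5,6,7] [[5,5],[5,7]] 4 := (Idx.of bd304 sat321 (by decide +kernel) lb320 (by decide +kernel)).of_imp imp309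
noncomputable def lk322 : List (List ℕ × List ℕ × Pf) := [([5,5],[4,4],[([8],13)]),([5,7],[4,6],[([8],15)])]
noncomputable def O323 : ℕ := (nat_lit 30)
noncomputable def M324 : ℕ := (nat_lit 31)
noncomputable def b325 : ℕ := (nat_lit 1)
theorem cl326 : Clo.{u} io C307 [4,5,6,7] 5 m306 M324 (mkB [(8,b325)]) := cl308.new (k := 0) (b := 8) (q := 0) (p := 1) (r := 200) (n := 4) (O := O323) (by decide +kernel) (lks := lk322) (by decide +kernel) (gens_of_lall2 (m := [[0],[1]]) (by decide +kernel)) ix310 (by decide +kernel)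
noncomputable def b327 : ℕ := (nat_lit 31)
noncomputable def b328 : ℕ := (nat_lit 31)
theorem cl329 : Clo.{u} io C307 [4,5,6,7] 5 m306 M324 (mkB [(8,b327),(9,b328)]) := cl326.ops (os := [Op.inv 8,Op.rel 8 [5] 9 [5] [([9,5,9],17)],Op.inv 8,Op.rel 8 [] 9 [9] [([],11)],Op.ext 8 2 [([5,5],[4,4],[([8],13)]),([4,4],[5,5],[([8,5,5],12)]),([5,7],[4,6],[([8],15)]),([6,4],[7,5],[([8,7,5],14)])],Op.inv 8]) (by decide +kernel) (by decide +kernel)
theorem sat331 : Sat io C307 (finG m306ok) := m306s0.fin (k := 3) (by decide +kernel)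
theorem bd330 : Bound.{u} io C307 [4,5,6,7,8,9] 120 := cl329.bound (by decide +kernel) sat331 (bd304.of_imp imp309)
noncomputable def r16 : List ℕ := [2,6,2,6,2,6]
noncomputable def r17 : List ℕ := [2,4,2,4,2,4,2,4]
noncomputable def r18 : List ℕ := [3,7,9,4,2,4,6,9,7]
noncomputable def r19 : List ℕ := [2,7,9,4,3,4,6,9,7]
noncomputable def r20 : List ℕ := [3,7,5,2,9,2,5,7,8]
noncomputable def r21 : List ℕ := [3,3,7,2,5,2,2,4,6]
noncomputable def m332n2 : Net := (Net.cons (nat_lit 64) (nat_lit 0x2c0dbe2ff1739a0c)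
  (Net.cons (nat_lit 32) (nat_lit 0xdbf2566d000000007a31af88)
  (Net.cons (nat_lit 16) (nat_lit 0xc9670000a6cb0000962f00009f34)
  (Net.cons (nat_lit 8) (nat_lit 0x1800e1001900b200ed006200510004)
  (Net.cons (nat_lit 4) (nat_lit 0x20f0f0a04030f05010b02070104020c)
  (Net.cons (nat_lit 2) (nat_lit 0x10030022103230033332130112302201)
  (Net.cons (nat_lit 1) (nat_lit 0x14111445411144045114415440541041)
  (Net.cons (nat_lit 2) (nat_lit 0x22000220022000200000200002022)
  (Net.cons (nat_lit 4) (nat_lit 0xa0c060206040a040c040a080c0a0000)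
  (Net.cons (nat_lit 8) (nat_lit 0xc002800bc008a0046003200c00060)
  (Net.cons (nat_lit 16) (nat_lit 0xe7b80000870e0000b9fe00008012)
  (Net.cons (nat_lit 32) (nat_lit 0xcecbec420000000034d253a8)
  (Net.cons (nat_lit 64) (nat_lit 0x33b87b001a12ada2)
  Net.nil)))))))))))))
noncomputable def m332n3 : Net := (Net.cons (nat_lit 64) (nat_lit 0x33bc7b001a12ada2)
  (Net.cons (nat_lit 32) (nat_lit 0x9e4b8e2e0000000033d200b8)
  (Net.cons (nat_lit 16) (nat_lit 0x790600007bd10000c32c00008400)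
  (Net.cons (nat_lit 8) (nat_lit 0xc400c200e300130064008800cd0062)
  (Net.cons (nat_lit 4) (nat_lit 0xa0a0f0609030a07080f0b000c02000b)
  (Net.cons (nat_lit 2) (nat_lit 0x12020102313013002001033332022303)
  (Net.cons (nat_lit 1) (nat_lit 0x44410551114014415441444110411454)
  (Net.cons (nat_lit 2) (nat_lit 0x20220002022020200202200220222000)
  (Net.cons (nat_lit 4) (nat_lit 0xe0a0c0e0a02040802060c0408000202)
  (Net.cons (nat_lit 8) (nat_lit 0x400e400ea00e200a400560048008c)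
  (Net.cons (nat_lit 16) (nat_lit 0xe71800005b2c0000a4ec00009fa0)
  (Net.cons (nat_lit 32) (nat_lit 0xb9e0b6ec00000000f3b12790)
  (Net.cons (nat_lit 64) (nat_lit 0x2c05be2ff1739a0c)
  Net.nil)))))))))))))
noncomputable def m332n4 : Net := (Net.cons (nat_lit 64) (nat_lit 0x8bfff6c7c5397540)
  (Net.cons (nat_lit 32) (nat_lit 0x3b70316d0000000098b1a4b6)
  (Net.cons (nat_lit 16) (nat_lit 0xe8820000aeb00000723500001df4)
  (Net.cons (nat_lit 8) (nat_lit 0x61005400ae00530024003c008d0072)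
  (Net.cons (nat_lit 4) (nat_lit 0x50c040c08070107060705070e040e04)
  (Net.cons (nat_lit 2) (nat_lit 0x10010102203331113011201212102030)
  (Net.cons (nat_lit 1) (nat_lit 0x15401041415414400014140515044514)
  (Net.cons (nat_lit 2) (nat_lit 0x202002020220000022220000020020)
  (Net.cons (nat_lit 4) (nat_lit 0x2020c080a00080000020404020000)
  (Net.cons (nat_lit 8) (nat_lit 0xb200c400ae008400c4000600920070)
  (Net.cons (nat_lit 16) (nat_lit 0xdcf000006600000098120000537c)
  (Net.cons (nat_lit 32) (nat_lit 0xbb04931800000000e2fa3722)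
  (Net.cons (nat_lit 64) (nat_lit 0x8f7d935415f38d80)
  Net.nil)))))))))))))
noncomputable def m332n5 : Net := (Net.cons (nat_lit 64) (nat_lit 0x8ffd935455d38dc0)
  (Net.cons (nat_lit 32) (nat_lit 0x44fb6ca700000000424b6ee0)
  (Net.cons (nat_lit 16) (nat_lit 0x66600000de300000e6ed0000434c)
  (Net.cons (nat_lit 8) (nat_lit 0xd8007b00df00c40004006f00290030)
  (Net.cons (nat_lit 4) (nat_lit 0xc04070d0a04020c020a08040d090902)
  (Net.cons (nat_lit 2) (nat_lit 0x12031331012131021201302132013010)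
  (Net.cons (nat_lit 1) (nat_lit 0x55010114104440415444005401414514)
  (Net.cons (nat_lit 2) (nat_lit 0x20000220020000000002222000)
  (Net.cons (nat_lit 4) (nat_lit 0xe080c040c040c04000c0e0a000806)
  (Net.cons (nat_lit 8) (nat_lit 0x1a00ac00ae00540008000000ee0060)
  (Net.cons (nat_lit 16) (nat_lit 0xacb0000068860000884a00001f20)
  (Net.cons (nat_lit 32) (nat_lit 0xc487ce920000000030e5a322)
  (Net.cons (nat_lit 64) (nat_lit 0x8bfff6d6c5b17540)
  Net.nil)))))))))))))
noncomputable def m332n6 : Net := (Net.cons (nat_lit 64) (nat_lit 0x3432fbf008cfa5d6)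
  (Net.cons (nat_lit 32) (nat_lit 0x6230cd0400000000c8941d38)
  (Net.cons (nat_lit 16) (nat_lit 0x48120000febf000095d90000bdae)
  (Net.cons (nat_lit 8) (nat_lit 0x5000f80053005e00ef004600d4007e)
  (Net.cons (nat_lit 4) (nat_lit 0xa0a050b030a000c0d0f0e020609080c)
  (Net.cons (nat_lit 2) (nat_lit 0x2232330130130103101011003031010)
  (Net.cons (nat_lit 1) (nat_lit 0x44445001450551405114415541154004)
  (Net.cons (nat_lit 2) (nat_lit 0x2200000200000200000220022202002)
  (Net.cons (nat_lit 4) (nat_lit 0xc0a06040006020c000e0e080c020a0a)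
  (Net.cons (nat_lit 8) (nat_lit 0x4c004a00a6004e0078002000980060)
  (Net.cons (nat_lit 16) (nat_lit 0x28480000f5e4000012c800005204)
  (Net.cons (nat_lit 32) (nat_lit 0x506c6200000000008a7e50e0)
  (Net.cons (nat_lit 64) (nat_lit 0x3a94f1525d41cfce)
  Net.nil)))))))))))))
noncomputable def m332n7 : Net := (Net.cons (nat_lit 64) (nat_lit 0x3a90655a5d65cfce)
  (Net.cons (nat_lit 32) (nat_lit 0x706bf70200000000da2507e0)
  (Net.cons (nat_lit 16) (nat_lit 0x1b1100002bdf0000d0bf0000150c)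
  (Net.cons (nat_lit 8) (nat_lit 0x5a005000f200de00bd00ac00b6009a)
  (Net.cons (nat_lit 4) (nat_lit 0xb0a0a000904020b0704080e090f0e0a)
  (Net.cons (nat_lit 2) (nat_lit 0x31122023113022302110302321123320)
  (Net.cons (nat_lit 1) (nat_lit 0x41154004115041155441040555151440)
  (Net.cons (nat_lit 2) (nat_lit 0x2002220020200200000000002000)
  (Net.cons (nat_lit 4) (nat_lit 0xe0a040e000400060c04020e04080408)
  (Net.cons (nat_lit 8) (nat_lit 0x30000800e2008a007c00c0004a0090)
  (Net.cons (nat_lit 16) (nat_lit 0x3f02000021c6000017b40000b53e)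
  (Net.cons (nat_lit 32) (nat_lit 0x6274806c000000009b00bc70)
  (Net.cons (nat_lit 64) (nat_lit 0x34f2fb5008cba9d6)
  Net.nil)))))))))))))
noncomputable def m332n8 : Net := (Net.cons (nat_lit 64) (nat_lit 0xb8eb06515e92d75e)
  (Net.cons (nat_lit 32) (nat_lit 0xdff1b699000000002a15a8be)
  (Net.cons (nat_lit 16) (nat_lit 0xa6f1000010bc00004f130000faa0)
  (Net.cons (nat_lit 8) (nat_lit 0x1500f700c800c30063002f00ca00c8)
  (Net.cons (nat_lit 4) (nat_lit 0xc000d0e04080a0e0605090e01090002)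
  (Net.cons (nat_lit 2) (nat_lit 0x30012300102312222013321223012300)
  (Net.cons (nat_lit 1) (nat_lit 0x15010144541044414144411540501144)
  (Net.cons (nat_lit 2) (nat_lit 0x202000002002200020020002002)
  (Net.cons (nat_lit 4) (nat_lit 0x4080802020e000200040e00000800)
  (Net.cons (nat_lit 8) (nat_lit 0xcc00bc00f600e4000e001c00300054)
  (Net.cons (nat_lit 16) (nat_lit 0x71dc00003c5400006cd800006644)
  (Net.cons (nat_lit 32) (nat_lit 0x6d5041d4000000002c00f9d2)
  (Net.cons (nat_lit 64) (nat_lit 0xbe079f305e5d1f56)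
  Net.nil)))))))))))))
noncomputable def m332n9 : Net := (Net.cons (nat_lit 64) (nat_lit 0x9bab16ccebadc50e)
  (Net.cons (nat_lit 32) (nat_lit 0xde36247400000000c72ad6c8)
  (Net.cons (nat_lit 16) (nat_lit 0x94c40000abb50000a0fc00004066)
  (Net.cons (nat_lit 8) (nat_lit 0x34002700b200e200f000110006001c)
  (Net.cons (nat_lit 4) (nat_lit 0xb0b0e070f0a0d0c0b02040404010008)
  (Net.cons (nat_lit 2) (nat_lit 0x2212213202330213201311212322102)
  (Net.cons (nat_lit 1) (nat_lit 0x14545441510515014141044404100444)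
  (Net.cons (nat_lit 2) (nat_lit 0x200020020000002000202200002)
  (Net.cons (nat_lit 4) (nat_lit 0xc06080a0e0a04080606080a02060c08)
  (Net.cons (nat_lit 8) (nat_lit 0x7c00a00090000000d200aa00500006)
  (Net.cons (nat_lit 16) (nat_lit 0x90140000b67000004f58000070c2)
  (Net.cons (nat_lit 32) (nat_lit 0x5954880000000000a5de36b2)
  (Net.cons (nat_lit 64) (nat_lit 0x930b1eb8296f9724)
  Net.nil)))))))))))))
noncomputable def m332l : List Net := [Net.nil,Net.nil,m332n2,m332n3,m332n4,m332n5,m332n6,m332n7,m332n8,m332n9]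
noncomputable abbrev m332 : ℕ → Net := lk Net.nil m332l
theorem m332ok : NetsOk 125 m332 vT := netsOk_of (by decide +kernel)
theorem m332s0 : Sat io [] (finG m332ok) := fin_sat_nil _ (k := 7) (n := 20) (by decide +kernel)
noncomputable def C333 : List (List ℕ) := [r1,r7,r8,r9,r10,r11,r12,r13,r14,r15,r16,r17,r18,r19,r20,r21]
theorem cl334 : Clo.{u} io C333 [4,5,6,7,8,9] 125 m332 1 (mkB []) := Clo.start (by decide +kernel)

end Cfsg.Agent.H6.Le.S5
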