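import Cfsg.Agent.H6.LeS5x1
set_option maxRecDepth 100000
set_option Elab.async false
namespace Cfsg.Agent.H6.Le.S5
open Cfsg.Agent.H6
universe u

theorem imp335 : Imp.{u} io C333 C307 := Imp.of_chk (pfs := [[([],3)],[([],5)],[([],7)],[([],9)],[([],11)],[([],13)],[([],15)],[([],17)],[([],19)]]) (by decide +kernel)
theorem der337 : Der 120 (finX 120) (cl (finG m219ok) [[7,9,4]]) (fun _ => Net.nil) := Der.zero (finModel m219ok).inj
noncomputable def x338 : Net := (Net.cons (nat_lit 64) (nat_lit 0x5eca11d879c8a5dc)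
  (Net.cons (nat_lit 32) (nat_lit 0x68f0eff000000007c03cf29)
  (Net.cons (nat_lit 16) (nat_lit 0xfcfd00006ced0000cc1400002673)
  (Net.cons (nat_lit 8) (nat_lit 0x7a009d00b1001400ea009f003e0068)
  (Net.cons (nat_lit 4) (nat_lit 0x205030a080e030706010a0d040a0204)
  (Net.cons (nat_lit 2) (nat_lit 0x20033012211031221230002232012223)
  (Net.cons (nat_lit 1) (nat_lit 0x14550444144404544140411401044155)
  (Net.cons (nat_lit 2) (nat_lit 0x22000002200202000000202002002200)
  (Net.cons (nat_lit 4) (nat_lit 0x604020c040800000400060c040c0000)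
  (Net.cons (nat_lit 8) (nat_lit 0x200c200cc0006005a00b000180080)
  (Net.cons (nat_lit 16) (nat_lit 0xa8f2000013d00000f8b800000678)
  (Net.cons (nat_lit 32) (nat_lit 0x8b886a2000000007cc60d46)
  (Net.cons (nat_lit 64) (nat_lit 0x5e5ed74de7759f14)
  Net.nil)))))))))))))
noncomputable def ns339 : ℕ → Net := upd (fun _ => Net.nil) 0 x338
theorem der340 : Der 120 (finX 120) (cl (finG m219ok) [[7,9,4]]) ns339 := der337.add (wp_mem_cl (w := [7,9,4]) (by decide)) ((finModel m219ok).toIsPre.rep_word (k := 7) (w := [7,9,4]) (n := x338) (by decide +kernel)) 0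
noncomputable def L341 : Lev := Lev.cons 0 5 [[0]] Lev.nil
theorem lc342 : Lev.chk 120 4 ns339 vT 100 L341 = true := by decide +kernel
theorem lb343 : 5 ≤ Nat.card (cl (finG m219ok) [[7,9,4]]) := le_of_eq_of_le (by decide +kernel) (der340.card_ge lc342)
theorem sat344 : Sat io C307 (finG m219ok) := m219s0.fin (k := 7) (by decide +kernel)
theorem ix336 : Idx.{u} io C333 [4,5,6,7,8,9] [[7,9,4]] 24 := (Idx.of bd330 sat344 (by decide +kernel) lb343 (by decide +kernel)).of_imp imp335
noncomputable def lk345 : List (List ℕ × List ℕ × Pf) := [([7,9,4],[6,8,7,5],[([2],25)])]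
noncomputable def O346 : ℕ := (nat_lit 0x60000000000819d79e0003f2)
noncomputable def M347 : ℕ := (nat_lit 0x60000000000819d79e0003f3)
noncomputable def b348 : ℕ := (nat_lit 1)
theorem cl349 : Clo.{u} io C333 [4,5,6,7,8,9] 125 m332 M347 (mkB [(2,b348)]) := cl334.new (k := 4) (b := 2) (q := 0) (p := 1) (r := 200) (n := 24) (O := O346) (by decide +kernel) (lks := lk345) (by decide +kernel) (gens_of_lall2 (m := [[0]]) (by decide +kernel)) ix336 (by decide +kernel)
noncomputable def b350 : ℕ := (nat_lit 0x181008000201)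
noncomputable def b351 : ℕ := (nat_lit 0x181008000202)
theorem cl352 : Clo.{u} io C333 [4,5,6,7,8,9] 125 m332 M347 (mkB [(2,b350),(3,b351)]) := cl349.ops (os := [Op.inv 2,Op.rel 2 [7,5] 2 [9,6,4,3,8] [([2],29)],Op.ext 2 2 [([4,6,9,7],[5,8,6],[([2,5,8,6,3],27)]),([6,8,7,5],[7,9,4],[([],26)]),([7,9,4],[6,8,7,5],[([2],25)]),([5,8,6],[4,6,9,7],[([2,4,6,9,7],24)])],Op.inv 2]) (by decide +kernel) (by decide +kernel)
theorem der354 : Der 120 (finX 120) (cl (finG m219ok) [[7,9,4],[7,5]]) (fun _ => Net.nil) := Der.zero (finModel m219ok).inj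
noncomputable def x355 : Net := (Net.cons (nat_lit 64) (nat_lit 0x5eca11d879c8a5dc)
  (Net.cons (nat_lit 32) (nat_lit 0x68f0eff000000007c03cf29)
  (Net.cons (nat_lit 16) (nat_lit 0xfcfd00006ced0000cc1400002673)
  (Net.cons (nat_lit 8) (nat_lit 0x7a009d00b1001400ea009f003e0068)
  (Net.cons (nat_lit 4) (nat_lit 0x205030a080e030706010a0d040a0204)
  (Net.cons (nat_lit 2) (nat_lit 0x20033012211031221230002232012223)
  (Net.cons (nat_lit 1) (nat_lit 0x14550444144404544140411401044155)
  (Net.cons (nat_lit 2) (nat_lit 0x22000002200202000000202002002200)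
  (Net.cons (nat_lit 4) (nat_lit 0x604020c040800000400060c040c0000)
  (Net.cons (nat_lit 8) (nat_lit 0x200c200cc0006005a00b000180080)
  (Net.cons (nat_lit 16) (nat_lit 0xa8f2000013d00000f8b800000678)
  (Net.cons (nat_lit 32) (nat_lit 0x8b886a2000000007cc60d46)
  (Net.cons (nat_lit 64) (nat_lit 0x5e5ed74de7759f14)
  Net.nil)))))))))))))
noncomputable def ns356 : ℕ → Net := upd (fun _ => Net.nil) 0 x355
theorem der357 : Der 120 (finX 120) (cl (finG m219ok) [[7,9,4],[7,5]]) ns356 := der354.add (wp_mem_cl (w := [7,9,4]) (by decide)) ((finModel m219ok).toIsPre.rep_word (k := 7) (w := [7,9,4]) (n := x355) (by decide +kernel)) 0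
noncomputable def x358 : Net := (Net.cons (nat_lit 64) (nat_lit 0xb2e724fd4841553a)
  (Net.cons (nat_lit 32) (nat_lit 0x86b6b8f600000000e0a09d68)
  (Net.cons (nat_lit 16) (nat_lit 0x9c400000c7570000b91b00000999)
  (Net.cons (nat_lit 8) (nat_lit 0x3400e400570035001e00ec0026007e)
  (Net.cons (nat_lit 4) (nat_lit 0x80b0a090709010a020b0805040c0d06)
  (Net.cons (nat_lit 2) (nat_lit 0x20022200100101322200022030122311)
  (Net.cons (nat_lit 1) (nat_lit 0x10414441454455501441014144004445)
  (Net.cons (nat_lit 2) (nat_lit 0x202000202000002202002220002020)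
  (Net.cons (nat_lit 4) (nat_lit 0x2020808000208080002080c04040200)
  (Net.cons (nat_lit 8) (nat_lit 0x9200040088000e00c2002a0028007a)
  (Net.cons (nat_lit 16) (nat_lit 0x2aa0000014100000dd0200000f5c)
  (Net.cons (nat_lit 32) (nat_lit 0x1684185600000000a598704e)
  (Net.cons (nat_lit 64) (nat_lit 0xb2c4e5b510907552)
  Net.nil)))))))))))))
noncomputable def ns359 : ℕ → Net := upd ns356 1 x358
theorem der360 : Der 120 (finX 120) (cl (finG m219ok) [[7,9,4],[7,5]]) ns359 := der357.add (wp_mem_cl (w := [7,5]) (by decide)) ((finModel m219ok).toIsPre.rep_word (k := 7) (w := [7,5]) (n := x358) (by decide +kernel)) 1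
noncomputable def L361 : Lev := Lev.cons 0 120 [[0],[1]] Lev.nil
theorem lc362 : Lev.chk 120 4 ns359 vT 100 L361 = true := by decide +kernel
theorem lb363 : 120 ≤ Nat.card (cl (finG m219ok) [[7,9,4],[7,5]]) := le_of_eq_of_le (by decide +kernel) (der360.card_ge lc362)
theorem ix353 : Idx.{u} io C333 [4,5,6,7,8,9] [[7,9,4],[7,5]] 1 := (Idx.of bd330 sat344 (by decide +kernel) lb363 (by decide +kernel)).of_imp imp335
noncomputable def lk364 : List (List ℕ × List ℕ × Pf) := [([7,9,4],[6,8,7,5],[([2],25)]),([7,5],[9,6,4,3,8],[([2],29)])]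
noncomputable def O365 : ℕ := (nat_lit 0x80000000000000000000000)
noncomputable def M366 : ℕ := (nat_lit 0x68000000000819d79e0003f3)
noncomputable def b367 : ℕ := (nat_lit 0x18100a000201)
theorem cl368 : Clo.{u} io C333 [4,5,6,7,8,9] 125 m332 M366 (mkB [(2,b367),(3,b351)]) := cl352.new (k := 4) (b := 2) (q := 25) (p := 91) (r := 200) (n := 1) (O := O365) (by decide +kernel) (lks := lk364) (by decide +kernel) (gens_of_lall2 (m := [[0],[1]]) (by decide +kernel)) ix353 (by decide +kernel)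
noncomputable def b369 : ℕ := (nat_lit 0x80000000000181008000202)
theorem cl370 : Clo.{u} io C333 [4,5,6,7,8,9] 125 m332 M366 (mkB [(2,b367),(3,b369)]) := cl368.ops (os := [Op.inv 2]) (by decide +kernel) (by decide +kernel)
theorem der372 : Der 120 (finX 120) (cl (finG m219ok) [[7,9,4,7,9,4,7,5,5,8,6]]) (fun _ => Net.nil) := Der.zero (finModel m219ok).inj
noncomputable def x373 : Net := (Net.cons (nat_lit 64) (nat_lit 0xc6b8ab9a935e8723)
  (Net.cons (nat_lit 32) (nat_lit 0x92d73c53000000001a5e4554)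
  (Net.cons (nat_lit 16) (nat_lit 0x74c100002cc80000489f000022b2)
  (Net.cons (nat_lit 8) (nat_lit 0x1a00320078004500bb00cd000400e8)
  (Net.cons (nat_lit 4) (nat_lit 0x10606060e070d0101080b030e000d)
  (Net.cons (nat_lit 2) (nat_lit 0x30103030212122300013010321030003)
  (Net.cons (nat_lit 1) (nat_lit 0x14101104540554144105411401401410)
  (Net.cons (nat_lit 2) (nat_lit 0x2200200020000220000202000000020)
  (Net.cons (nat_lit 4) (nat_lit 0x4060c0a0c000008000608000e0e0808)
  (Net.cons (nat_lit 8) (nat_lit 0x4c00f2009a004000ba004200ec0068)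
  (Net.cons (nat_lit 16) (nat_lit 0x226c000063a2000069ec00008b10)
  (Net.cons (nat_lit 32) (nat_lit 0x922effa0000000003abc3286)
  (Net.cons (nat_lit 64) (nat_lit 0xc6a82b746e10f18a)
  Net.nil)))))))))))))
noncomputable def ns374 : ℕ → Net := upd (fun _ => Net.nil) 0 x373
theorem der375 : Der 120 (finX 120) (cl (finG m219ok) [[7,9,4,7,9,4,7,5,5,8,6]]) ns374 := der372.add (wp_mem_cl (w := [7,9,4,7,9,4,7,5,5,8,6]) (by decide)) ((finModel m219ok).toIsPre.rep_word (k := 7) (w := [7,9,4,7,9,4,7,5,5,8,6]) (n := x373) (by decide +kernel)) 0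
noncomputable def L376 : Lev := Lev.cons 0 5 [[0]] Lev.nil
theorem lc377 : Lev.chk 120 4 ns374 vT 100 L376 = true := by decide +kernel
theorem lb378 : 5 ≤ Nat.card (cl (finG m219ok) [[7,9,4,7,9,4,7,5,5,8,6]]) := le_of_eq_of_le (by decide +kernel) (der375.card_ge lc377)
theorem ix371 : Idx.{u} io C333 [4,5,6,7,8,9] [[7,9,4,7,9,4,7,5,5,8,6]] 24 := (Idx.of bd330 sat344 (by decide +kernel) lb378 (by decide +kernel)).of_imp imp335
noncomputable def lk379 : List (List ℕ × List ℕ × Pf) := [([7,9,4],[6,8,7,5],[([2],25)]),([7,5],[9,6,4,3,8],[([2],29)]),([5,8,6],[4,6,9,7],[([2,4,6,9,7],24)])]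
noncomputable def O380 : ℕ := (nat_lit 0x80008000002f5e7004002001f804)
noncomputable def M381 : ℕ := (nat_lit 0x8000e800002f5e781dd7be01fbf7)
noncomputable def b382 : ℕ := (nat_lit 0x18100a000221)
theorem cl383 : Clo.{u} io C333 [4,5,6,7,8,9] 125 m332 M381 (mkB [(2,b382),(3,b369)]) := cl370.new (k := 4) (b := 2) (q := 5) (p := 29) (r := 200) (n := 24) (O := O380) (by decide +kernel) (lks := lk379) (by decide +kernel) (gens_of_lall2 (m := [[0,0,1,2]]) (by decide +kernel)) ix371 (by decide +kernel)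
noncomputable def b384 : ℕ := (nat_lit 0x80000000002e44081c908a018265)
noncomputable def b385 : ℕ := (nat_lit 0x800068000006142019112800cb03)
theorem cl386 : Clo.{u} io C333 [4,5,6,7,8,9] 125 m332 M381 (mkB [(2,b384),(3,b385)]) := cl383.ops (os := [Op.ext 2 2 [([4,6,9,7],[5,8,6],[([2,5,8,6,3],27)]),([6,8,7,5],[7,9,4],[([],26)]),([7,9,4],[6,8,7,5],[([2],25)]),([5,8,6],[4,6,9,7],[([2,4,6,9,7],24)])],Op.inv 2,Op.rel 2 [6] 3 [7,3,7] [([3],21)],Op.ext 2 2 [([4,6,9,7],[5,8,6],[([2,5,8,6,3],27)]),([6,8,7,5],[7,9,4],[([],26)]),([7,9,4],[6,8,7,5],[([2],25)]),([5,8,6],[4,6,9,7],[([2,4,6,9,7],24)])],Op.inv 2,Op.rel 2 [6] 3 [7,3,7] [([3],21)],Op.ext 2 2 [([4,6,9,7],[5,8,6],[([2,5,8,6,3],27)]),([6,8,7,5],[7,9,4],[([],26)]),([7,9,4],[6,8,7,5],[([2],25)]),([5,8,6],[4,6,9,7],[([2,4,6,9,7],24)])],Op.inv 2]) (by decide +kernel) (by decide +kernel)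
theorem der388 : Der 120 (finX 120) (cl (finG m219ok) [[4,6,9,7],[5,7,8]]) (fun _ => Net.nil) := Der.zero (finModel m219ok).inj
noncomputable def x389 : Net := (Net.cons (nat_lit 64) (nat_lit 0x5e5ed74de7759f14)
  (Net.cons (nat_lit 32) (nat_lit 0xf7477959000000008239f2b9)
  (Net.cons (nat_lit 16) (nat_lit 0xec2f0000570d0000e887000027ed)
  (Net.cons (nat_lit 8) (nat_lit 0x60033002d000200810018006f0058)
  (Net.cons (nat_lit 4) (nat_lit 0xe0f0c040c0d060e0600040e0d080107)
  (Net.cons (nat_lit 2) (nat_lit 0x13013223320322210313320321022321)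
  (Net.cons (nat_lit 1) (nat_lit 0x10451411144014550555010105051101)
  (Net.cons (nat_lit 2) (nat_lit 0x20202022220020000000020200002200)
  (Net.cons (nat_lit 4) (nat_lit 0x80806080a0c02000404040804060806)
  (Net.cons (nat_lit 8) (nat_lit 0x14004e0022007a0060003e006000e8)
  (Net.cons (nat_lit 16) (nat_lit 0x9312000003020000c9840000b2c8)
  (Net.cons (nat_lit 32) (nat_lit 0xf170f1000000000083f430d6)
  (Net.cons (nat_lit 64) (nat_lit 0x5eca11d879c8a5dc)
  Net.nil)))))))))))))
noncomputable def ns390 : ℕ → Net := upd (fun _ => Net.nil) 0 x389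
theorem der391 : Der 120 (finX 120) (cl (finG m219ok) [[4,6,9,7],[5,7,8]]) ns390 := der388.add (wp_mem_cl (w := [4,6,9,7]) (by decide)) ((finModel m219ok).toIsPre.rep_word (k := 7) (w := [4,6,9,7]) (n := x389) (by decide +kernel)) 0
noncomputable def x392 : Net := (Net.cons (nat_lit 64) (nat_lit 0x6a914d969f655d76)
  (Net.cons (nat_lit 32) (nat_lit 0xaf77d7d1000000006763f631)
  (Net.cons (nat_lit 16) (nat_lit 0x4e700000da40000ecfd000092c6)
  (Net.cons (nat_lit 8) (nat_lit 0xd80014004d00e0006800c4007f0015)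
  (Net.cons (nat_lit 4) (nat_lit 0xc0008070d0002010306020e0b08060c)
  (Net.cons (nat_lit 2) (nat_lit 0x30003113011132021132112120020231)
  (Net.cons (nat_lit 1) (nat_lit 0x45045154504010511001404141040511)
  (Net.cons (nat_lit 2) (nat_lit 0x20020200000020020002002022000002)
  (Net.cons (nat_lit 4) (nat_lit 0xc0804060e00080c020000000a00020a)
  (Net.cons (nat_lit 8) (nat_lit 0x3a0018002800d20076006200760018)
  (Net.cons (nat_lit 16) (nat_lit 0xe8980000679400003d380000064a)
  (Net.cons (nat_lit 32) (nat_lit 0xa52200500000000072b2a6e0)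
  (Net.cons (nat_lit 64) (nat_lit 0x6aebddf33e39b4d0)
  Net.nil)))))))))))))
noncomputable def ns393 : ℕ → Net := upd ns390 1 x392
theorem der394 : Der 120 (finX 120) (cl (finG m219ok) [[4,6,9,7],[5,7,8]]) ns393 := der391.add (wp_mem_cl (w := [5,7,8]) (by decide)) ((finModel m219ok).toIsPre.rep_word (k := 7) (w := [5,7,8]) (n := x392) (by decide +kernel)) 1
noncomputable def L395 : Lev := Lev.cons 0 120 [[0],[1]] Lev.nil
theorem lc396 : Lev.chk 120 4 ns393 vT 100 L395 = true := by decide +kernel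
theorem lb397 : 120 ≤ Nat.card (cl (finG m219ok) [[4,6,9,7],[5,7,8]]) := le_of_eq_of_le (by decide +kernel) (der394.card_ge lc396)
theorem ix387 : Idx.{u} io C333 [4,5,6,7,8,9] [[4,6,9,7],[5,7,8]] 1 := (Idx.of bd330 sat344 (by decide +kernel) lb397 (by decide +kernel)).of_imp imp335
noncomputable def lk398 : List (List ℕ × List ℕ × Pf) := [([4,6,9,7],[5,8,6],[([3,5,8,6,2],25)]),([5,7,8],[8,3,4,6],[([3,8,3,4,6,2],29)])]
noncomputable def O399 : ℕ := (nat_lit 0x100000000000000000000000000000)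
noncomputable def M400 : ℕ := (nat_lit 0x108000e800002f5e781dd7be01fbf7)
noncomputable def b401 : ℕ := (nat_lit 0x800068000006143019112800cb03)
theorem cl402 : Clo.{u} io C333 [4,5,6,7,8,9] 125 m332 M400 (mkB [(2,b384),(3,b401)]) := cl386.new (k := 4) (b := 3) (q := 52) (p := 116) (r := 200) (n := 1) (O := O399) (by decide +kernel) (lks := lk398) (by decide +kernel) (gens_of_lall2 (m := [[0],[1]]) (by decide +kernel)) ix387 (by decide +kernel)
noncomputable def b403 : ℕ := (nat_lit 0x1080000000002e44081c908a018265)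
theorem cl404 : Clo.{u} io C333 [4,5,6,7,8,9] 125 m332 M400 (mkB [(2,b403),(3,b401)]) := cl402.ops (os := [Op.inv 3]) (by decide +kernel) (by decide +kernel)
theorem der406 : Der 120 (finX 120) (cl (finG m219ok) [[7,9,4]]) (fun _ => Net.nil) := Der.zero (finModel m219ok).inj
noncomputable def x407 : Net := (Net.cons (nat_lit 64) (nat_lit 0x5eca11d879c8a5dc)
  (Net.cons (nat_lit 32) (nat_lit 0x68f0eff000000007c03cf29)
  (Net.cons (nat_lit 16) (nat_lit 0xfcfd00006ced0000cc1400002673)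
  (Net.cons (nat_lit 8) (nat_lit 0x7a009d00b1001400ea009f003e0068)
  (Net.cons (nat_lit 4) (nat_lit 0x205030a080e030706010a0d040a0204)
  (Net.cons (nat_lit 2) (nat_lit 0x20033012211031221230002232012223)
  (Net.cons (nat_lit 1) (nat_lit 0x14550444144404544140411401044155)
  (Net.cons (nat_lit 2) (nat_lit 0x22000002200202000000202002002200)
  (Net.cons (nat_lit 4) (nat_lit 0x604020c040800000400060c040c0000)
  (Net.cons (nat_lit 8) (nat_lit 0x200c200cc0006005a00b000180080)
  (Net.cons (nat_lit 16) (nat_lit 0xa8f2000013d00000f8b800000678)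
  (Net.cons (nat_lit 32) (nat_lit 0x8b886a2000000007cc60d46)
  (Net.cons (nat_lit 64) (nat_lit 0x5e5ed74de7759f14)
  Net.nil)))))))))))))
noncomputable def ns408 : ℕ → Net := upd (fun _ => Net.nil) 0 x407
theorem der409 : Der 120 (finX 120) (cl (finG m219ok) [[7,9,4]]) ns408 := der406.add (wp_mem_cl (w := [7,9,4]) (by decide)) ((finModel m219ok).toIsPre.rep_word (k := 7) (w := [7,9,4]) (n := x407) (by decide +kernel)) 0
noncomputable def L410 : Lev := Lev.cons 0 5 [[0]] Lev.nil
theorem lc411 : Lev.chk 120 4 ns408 vT 100 L410 = true := by decide +kernel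
theorem lb412 : 5 ≤ Nat.card (cl (finG m219ok) [[7,9,4]]) := le_of_eq_of_le (by decide +kernel) (der409.card_ge lc411)
theorem ix405 : Idx.{u} io C333 [4,5,6,7,8,9] [[7,9,4]] 24 := (Idx.of bd330 sat344 (by decide +kernel) lb412 (by decide +kernel)).of_imp imp335
noncomputable def lk413 : List (List ℕ × List ℕ × Pf) := [([7,9,4],[6,8,7,5],[([2],25)])]
noncomputable def O414 : ℕ := (nat_lit 0x615bf9080040000017e0008)
noncomputable def M415 : ℕ := (nat_lit 0x108000ee15bfbfde7c1dd7bf7ffbff)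
noncomputable def b416 : ℕ := (nat_lit 0x1080000000002e44081c908a018267)
theorem cl417 : Clo.{u} io C333 [4,5,6,7,8,9] 125 m332 M415 (mkB [(2,b416),(3,b401)]) := cl404.new (k := 4) (b := 2) (q := 1) (p := 3) (r := 200) (n := 24) (O := O414) (by decide +kernel) (lks := lk413) (by decide +kernel) (gens_of_lall2 (m := [[0]]) (by decide +kernel)) ix405 (by decide +kernel)
noncomputable def b418 : ℕ := (nat_lit 0x1080000414b73e54281c92bb5fca67)
noncomputable def b419 : ℕ := (nat_lit 0x1080006e0116aed4341d552c2dcb9b)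
theorem cl420 : Clo.{u} io C333 [4,5,6,7,8,9] 125 m332 M415 (mkB [(2,b418),(3,b419)]) := cl417.ops (os := [Op.inv 2,Op.rel 3 [5,7,8] 3 [8,3,4,6] [([3,8,3,4,6,2],29)],Op.ext 3 2 [([4,6,9,7],[5,8,6],[([3,5,8,6,2],25)]),([6,8,7,5],[7,9,4],[([],24)]),([7,9,4],[6,8,7,5],[([3],27)]),([5,8,6],[4,6,9,7],[([3,4,6,9,7],26)])],Op.inv 3,Op.rel 2 [6] 3 [7,3,7] [([3],21)],Op.ext 2 2 [([4,6,9,7],[5,8,6],[([2,5,8,6,3],27)]),([6,8,7,5],[7,9,4],[([],26)]),([7,9,4],[6,8,7,5],[([2],25)]),([5,8,6],[4,6,9,7],[([2,4,6,9,7],24)])],Op.inv 2,Op.rel 2 [6] 3 [7,3,7] [([3],21)],Op.ext 2 2 [([4,6,9,7],[5,8,6],[([2,5,8,6,3],27)]),([6,8,7,5],[7,9,4],[([],26)]),([7,9,4],[6,8,7,5],[([2],25)]),([5,8,6],[4,6,9,7],[([2,4,6,9,7],24)])],Op.inv 2]) (by decide +kernel) (by decide +kernel)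
theorem der422 : Der 120 (finX 120) (cl (finG m219ok) [[4,6,9,7],[5,7,8]]) (fun _ => Net.nil) := Der.zero (finModel m219ok).inj
noncomputable def x423 : Net := (Net.cons (nat_lit 64) (nat_lit 0x5e5ed74de7759f14)
  (Net.cons (nat_lit 32) (nat_lit 0xf7477959000000008239f2b9)
  (Net.cons (nat_lit 16) (nat_lit 0xec2f0000570d0000e887000027ed)
  (Net.cons (nat_lit 8) (nat_lit 0x60033002d000200810018006f0058)
  (Net.cons (nat_lit 4) (nat_lit 0xe0f0c040c0d060e0600040e0d080107)
  (Net.cons (nat_lit 2) (nat_lit 0x13013223320322210313320321022321)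
  (Net.cons (nat_lit 1) (nat_lit 0x10451411144014550555010105051101)
  (Net.cons (nat_lit 2) (nat_lit 0x20202022220020000000020200002200)
  (Net.cons (nat_lit 4) (nat_lit 0x80806080a0c02000404040804060806)
  (Net.cons (nat_lit 8) (nat_lit 0x14004e0022007a0060003e006000e8)
  (Net.cons (nat_lit 16) (nat_lit 0x9312000003020000c9840000b2c8)
  (Net.cons (nat_lit 32) (nat_lit 0xf170f1000000000083f430d6)
  (Net.cons (nat_lit 64) (nat_lit 0x5eca11d879c8a5dc)
  Net.nil)))))))))))))
noncomputable def ns424 : ℕ → Net := upd (fun _ => Net.nil) 0 x423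
theorem der425 : Der 120 (finX 120) (cl (finG m219ok) [[4,6,9,7],[5,7,8]]) ns424 := der422.add (wp_mem_cl (w := [4,6,9,7]) (by decide)) ((finModel m219ok).toIsPre.rep_word (k := 7) (w := [4,6,9,7]) (n := x423) (by decide +kernel)) 0
noncomputable def x426 : Net := (Net.cons (nat_lit 64) (nat_lit 0x6a914d969f655d76)
  (Net.cons (nat_lit 32) (nat_lit 0xaf77d7d1000000006763f631)
  (Net.cons (nat_lit 16) (nat_lit 0x4e700000da40000ecfd000092c6)
  (Net.cons (nat_lit 8) (nat_lit 0xd80014004d00e0006800c4007f0015)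
  (Net.cons (nat_lit 4) (nat_lit 0xc0008070d0002010306020e0b08060c)
  (Net.cons (nat_lit 2) (nat_lit 0x30003113011132021132112120020231)
  (Net.cons (nat_lit 1) (nat_lit 0x45045154504010511001404141040511)
  (Net.cons (nat_lit 2) (nat_lit 0x20020200000020020002002022000002)
  (Net.cons (nat_lit 4) (nat_lit 0xc0804060e00080c020000000a00020a)
  (Net.cons (nat_lit 8) (nat_lit 0x3a0018002800d20076006200760018)
  (Net.cons (nat_lit 16) (nat_lit 0xe8980000679400003d380000064a)
  (Net.cons (nat_lit 32) (nat_lit 0xa52200500000000072b2a6e0)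
  (Net.cons (nat_lit 64) (nat_lit 0x6aebddf33e39b4d0)
  Net.nil)))))))))))))
noncomputable def ns427 : ℕ → Net := upd ns424 1 x426
theorem der428 : Der 120 (finX 120) (cl (finG m219ok) [[4,6,9,7],[5,7,8]]) ns427 := der425.add (wp_mem_cl (w := [5,7,8]) (by decide)) ((finModel m219ok).toIsPre.rep_word (k := 7) (w := [5,7,8]) (n := x426) (by decide +kernel)) 1
noncomputable def L429 : Lev := Lev.cons 0 120 [[0],[1]] Lev.nil
theorem lc430 : Lev.chk 120 4 ns427 vT 100 L429 = true := by decide +kernel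
theorem lb431 : 120 ≤ Nat.card (cl (finG m219ok) [[4,6,9,7],[5,7,8]]) := le_of_eq_of_le (by decide +kernel) (der428.card_ge lc430)
theorem ix421 : Idx.{u} io C333 [4,5,6,7,8,9] [[4,6,9,7],[5,7,8]] 1 := (Idx.of bd330 sat344 (by decide +kernel) lb431 (by decide +kernel)).of_imp imp335
noncomputable def lk432 : List (List ℕ × List ℕ × Pf) := [([4,6,9,7],[5,8,6],[([3,5,8,6,2],25)]),([5,7,8],[8,3,4,6],[([3,8,3,4,6,2],29)])]
noncomputable def O433 : ℕ := (nat_lit 0x1000000000000000000000000000000)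
noncomputable def M434 : ℕ := (nat_lit 0x1108000ee15bfbfde7c1dd7bf7ffbff)
noncomputable def b435 : ℕ := (nat_lit 0x1080006e011eaed4341d552c2dcb9b)
theorem cl436 : Clo.{u} io C333 [4,5,6,7,8,9] 125 m332 M434 (mkB [(2,b418),(3,b435)]) := cl420.new (k := 4) (b := 3) (q := 75) (p := 120) (r := 200) (n := 1) (O := O433) (by decide +kernel) (lks := lk432) (by decide +kernel) (gens_of_lall2 (m := [[0],[1]]) (by decide +kernel)) ix421 (by decide +kernel)
noncomputable def b437 : ℕ := (nat_lit 0x11080000414b73e54281c92bb5fca67)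
theorem cl438 : Clo.{u} io C333 [4,5,6,7,8,9] 125 m332 M434 (mkB [(2,b437),(3,b435)]) := cl436.ops (os := [Op.inv 3]) (by decide +kernel) (by decide +kernel)
theorem der440 : Der 120 (finX 120) (cl (finG m219ok) [[7,9,4]]) (fun _ => Net.nil) := Der.zero (finModel m219ok).inj
noncomputable def x441 : Net := (Net.cons (nat_lit 64) (nat_lit 0x5eca11d879c8a5dc)
  (Net.cons (nat_lit 32) (nat_lit 0x68f0eff000000007c03cf29)
  (Net.cons (nat_lit 16) (nat_lit 0xfcfd00006ced0000cc1400002673)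
  (Net.cons (nat_lit 8) (nat_lit 0x7a009d00b1001400ea009f003e0068)
  (Net.cons (nat_lit 4) (nat_lit 0x205030a080e030706010a0d040a0204)
  (Net.cons (nat_lit 2) (nat_lit 0x20033012211031221230002232012223)
  (Net.cons (nat_lit 1) (nat_lit 0x14550444144404544140411401044155)
  (Net.cons (nat_lit 2) (nat_lit 0x22000002200202000000202002002200)
  (Net.cons (nat_lit 4) (nat_lit 0x604020c040800000400060c040c0000)
  (Net.cons (nat_lit 8) (nat_lit 0x200c200cc0006005a00b000180080)
  (Net.cons (nat_lit 16) (nat_lit 0xa8f2000013d00000f8b800000678)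
  (Net.cons (nat_lit 32) (nat_lit 0x8b886a2000000007cc60d46)
  (Net.cons (nat_lit 64) (nat_lit 0x5e5ed74de7759f14)
  Net.nil)))))))))))))
noncomputable def ns442 : ℕ → Net := upd (fun _ => Net.nil) 0 x441
theorem der443 : Der 120 (finX 120) (cl (finG m219ok) [[7,9,4]]) ns442 := der440.add (wp_mem_cl (w := [7,9,4]) (by decide)) ((finModel m219ok).toIsPre.rep_word (k := 7) (w := [7,9,4]) (n := x441) (by decide +kernel)) 0
noncomputable def L444 : Lev := Lev.cons 0 5 [[0]] Lev.nil
theorem lc445 : Lev.chk 120 4 ns442 vT 100 L444 = true := by decide +kernel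
theorem lb446 : 5 ≤ Nat.card (cl (finG m219ok) [[7,9,4]]) := le_of_eq_of_le (by decide +kernel) (der443.card_ge lc445)
theorem ix439 : Idx.{u} io C333 [4,5,6,7,8,9] [[7,9,4]] 24 := (Idx.of bd330 sat344 (by decide +kernel) lb446 (by decide +kernel)).of_imp imp335
noncomputable def lk447 : List (List ℕ × List ℕ × Pf) := [([7,9,4],[6,8,7,5],[([2],25)])]
noncomputable def O448 : ℕ := (nat_lit 0x4561cf000800002083e20840000400)
noncomputable def M449 : ℕ := (nat_lit 0x155e1cfee1dbfbffeffffdfff7fffff)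
noncomputable def b450 : ℕ := (nat_lit 0x11080000414b73e54281c92bb5fca6f)
theorem cl451 : Clo.{u} io C333 [4,5,6,7,8,9] 125 m332 M449 (mkB [(2,b450),(3,b435)]) := cl438.new (k := 4) (b := 2) (q := 3) (p := 10) (r := 200) (n := 24) (O := O448) (by decide +kernel) (lks := lk447) (by decide +kernel) (gens_of_lall2 (m := [[0]]) (by decide +kernel)) ix439 (by decide +kernel)
noncomputable def b452 : ℕ := (nat_lit 0x155e00dec1cbfbf76abbd9bfb5fff6f)
noncomputable def b453 : ℕ := (nat_lit 0x51e1ce6e1d3eaefcfdffd5ad6dcfff)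
theorem cl454 : Clo.{u} io C333 [4,5,6,7,8,9] 125 m332 M449 (mkB [(2,b452),(3,b453)]) := cl451.ops (os := [Op.inv 2,Op.rel 2 [] 3 [3,3,3] [([],1)],Op.inv 2,Op.rel 3 [5,7,8] 3 [8,3,4,6] [([3,8,3,4,6,2],29)],Op.ext 3 2 [([4,6,9,7],[5,8,6],[([3,5,8,6,2],25)]),([6,8,7,5],[7,9,4],[([],24)]),([7,9,4],[6,8,7,5],[([3],27)]),([5,8,6],[4,6,9,7],[([3,4,6,9,7],26)])],Op.inv 3,Op.rel 2 [6] 3 [7,3,7] [([3],21)],Op.ext 2 2 [([4,6,9,7],[5,8,6],[([2,5,8,6,3],27)]),([6,8,7,5],[7,9,4],[([],26)]),([7,9,4],[6,8,7,5],[([2],25)]),([5,8,6],[4,6,9,7],[([2,4,6,9,7],24)])],Op.inv 2,Op.rel 2 [6] 3 [7,3,7] [([3],21)],Op.inv 2]) (by decide +kernel) (by decide +kernel)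
theorem der456 : Der 120 (finX 120) (cl (finG m219ok) [[7,9,4],[7,5]]) (fun _ => Net.nil) := Der.zero (finModel m219ok).inj
noncomputable def x457 : Net := (Net.cons (nat_lit 64) (nat_lit 0x5eca11d879c8a5dc)
  (Net.cons (nat_lit 32) (nat_lit 0x68f0eff000000007c03cf29)
  (Net.cons (nat_lit 16) (nat_lit 0xfcfd00006ced0000cc1400002673)
  (Net.cons (nat_lit 8) (nat_lit 0x7a009d00b1001400ea009f003e0068)
  (Net.cons (nat_lit 4) (nat_lit 0x205030a080e030706010a0d040a0204)
  (Net.cons (nat_lit 2) (nat_lit 0x20033012211031221230002232012223)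
  (Net.cons (nat_lit 1) (nat_lit 0x14550444144404544140411401044155)
  (Net.cons (nat_lit 2) (nat_lit 0x22000002200202000000202002002200)
  (Net.cons (nat_lit 4) (nat_lit 0x604020c040800000400060c040c0000)
  (Net.cons (nat_lit 8) (nat_lit 0x200c200cc0006005a00b000180080)
  (Net.cons (nat_lit 16) (nat_lit 0xa8f2000013d00000f8b800000678)
  (Net.cons (nat_lit 32) (nat_lit 0x8b886a2000000007cc60d46)
  (Net.cons (nat_lit 64) (nat_lit 0x5e5ed74de7759f14)
  Net.nil)))))))))))))
noncomputable def ns458 : ℕ → Net := upd (fun _ => Net.nil) 0 x457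
theorem der459 : Der 120 (finX 120) (cl (finG m219ok) [[7,9,4],[7,5]]) ns458 := der456.add (wp_mem_cl (w := [7,9,4]) (by decide)) ((finModel m219ok).toIsPre.rep_word (k := 7) (w := [7,9,4]) (n := x457) (by decide +kernel)) 0
noncomputable def x460 : Net := (Net.cons (nat_lit 64) (nat_lit 0xb2e724fd4841553a)
  (Net.cons (nat_lit 32) (nat_lit 0x86b6b8f600000000e0a09d68)
  (Net.cons (nat_lit 16) (nat_lit 0x9c400000c7570000b91b00000999)
  (Net.cons (nat_lit 8) (nat_lit 0x3400e400570035001e00ec0026007e)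
  (Net.cons (nat_lit 4) (nat_lit 0x80b0a090709010a020b0805040c0d06)
  (Net.cons (nat_lit 2) (nat_lit 0x20022200100101322200022030122311)
  (Net.cons (nat_lit 1) (nat_lit 0x10414441454455501441014144004445)
  (Net.cons (nat_lit 2) (nat_lit 0x202000202000002202002220002020)
  (Net.cons (nat_lit 4) (nat_lit 0x2020808000208080002080c04040200)
  (Net.cons (nat_lit 8) (nat_lit 0x9200040088000e00c2002a0028007a)
  (Net.cons (nat_lit 16) (nat_lit 0x2aa0000014100000dd0200000f5c)
  (Net.cons (nat_lit 32) (nat_lit 0x1684185600000000a598704e)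
  (Net.cons (nat_lit 64) (nat_lit 0xb2c4e5b510907552)
  Net.nil)))))))))))))
noncomputable def ns461 : ℕ → Net := upd ns458 1 x460
theorem der462 : Der 120 (finX 120) (cl (finG m219ok) [[7,9,4],[7,5]]) ns461 := der459.add (wp_mem_cl (w := [7,5]) (by decide)) ((finModel m219ok).toIsPre.rep_word (k := 7) (w := [7,5]) (n := x460) (by decide +kernel)) 1
noncomputable def L463 : Lev := Lev.cons 0 120 [[0],[1]] Lev.nil
theorem lc464 : Lev.chk 120 4 ns461 vT 100 L463 = true := by decide +kernel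
theorem lb465 : 120 ≤ Nat.card (cl (finG m219ok) [[7,9,4],[7,5]]) := le_of_eq_of_le (by decide +kernel) (der462.card_ge lc464)
theorem ix455 : Idx.{u} io C333 [4,5,6,7,8,9] [[7,9,4],[7,5]] 1 := (Idx.of bd330 sat344 (by decide +kernel) lb465 (by decide +kernel)).of_imp imp335
noncomputable def lk466 : List (List ℕ × List ℕ × Pf) := [([7,9,4],[6,8,7,5],[([2],25)]),([7,5],[9,6,4,3,8],[([2],29)])]
noncomputable def O467 : ℕ := (nat_lit 0x10000000000000000000000000000000)
noncomputable def M468 : ℕ := (nat_lit 0x1155e1cfee1dbfbffeffffdfff7fffff)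
noncomputable def b469 : ℕ := (nat_lit 0x155e00fec1cbfbf76abbd9bfb5fff6f)
theorem cl470 : Clo.{u} io C333 [4,5,6,7,8,9] 125 m332 M468 (mkB [(2,b469),(3,b453)]) := cl454.new (k := 4) (b := 2) (q := 97) (p := 124) (r := 200) (n := 1) (O := O467) (by decide +kernel) (lks := lk466) (by decide +kernel) (gens_of_lall2 (m := [[0],[1]]) (by decide +kernel)) ix455 (by decide +kernel)
noncomputable def b471 : ℕ := (nat_lit 0x1051e1ce6e1d3eaefcfdffd5ad6dcfff)
theorem cl472 : Clo.{u} io C333 [4,5,6,7,8,9] 125 m332 M468 (mkB [(2,b469),(3,b471)]) := cl470.ops (os := [Op.inv 2]) (by decide +kernel) (by decide +kernel)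
theorem der474 : Der 120 (finX 120) (cl (finG m219ok) [[7,9,6,4,9,4,7,9,4]]) (fun _ => Net.nil) := Der.zero (finModel m219ok).inj
noncomputable def x475 : Net := (Net.cons (nat_lit 64) (nat_lit 0x80318f5e1a50739e)
  (Net.cons (nat_lit 32) (nat_lit 0x63a4ff7800000000bb6887d6)
  (Net.cons (nat_lit 16) (nat_lit 0x627e0000a0d700002ec200000037)
  (Net.cons (nat_lit 8) (nat_lit 0xe2005d00680042009400a3006e002c)
  (Net.cons (nat_lit 4) (nat_lit 0x608070c0008000e030f040b0c06020b)
  (Net.cons (nat_lit 2) (nat_lit 0x1221222002123031033100230020132)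
  (Net.cons (nat_lit 1) (nat_lit 0x1041105441415101445141101414141)
  (Net.cons (nat_lit 2) (nat_lit 0x2000000020202200220200222200)
  (Net.cons (nat_lit 4) (nat_lit 0x6080c0a000804080c000a020a040602)
  (Net.cons (nat_lit 8) (nat_lit 0xe0007600c8004400d8005a00520024)
  (Net.cons (nat_lit 16) (nat_lit 0x42d00000a4cc0000da900000170c)
  (Net.cons (nat_lit 32) (nat_lit 0xe33c443800000000fbe3f2f2)
  (Net.cons (nat_lit 64) (nat_lit 0x80d6c1f4ca10b028)
  Net.nil)))))))))))))
noncomputable def ns476 : ℕ → Net := upd (fun _ => Net.nil) 0 x475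
theorem der477 : Der 120 (finX 120) (cl (finG m219ok) [[7,9,6,4,9,4,7,9,4]]) ns476 := der474.add (wp_mem_cl (w := [7,9,6,4,9,4,7,9,4]) (by decide)) ((finModel m219ok).toIsPre.rep_word (k := 7) (w := [7,9,6,4,9,4,7,9,4]) (n := x475) (by decide +kernel)) 0
noncomputable def L478 : Lev := Lev.cons 0 5 [[0]] Lev.nil
theorem lc479 : Lev.chk 120 4 ns476 vT 100 L478 = true := by decide +kernel
theorem lb480 : 5 ≤ Nat.card (cl (finG m219ok) [[7,9,6,4,9,4,7,9,4]]) := le_of_eq_of_le (by decide +kernel) (der477.card_ge lc479)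
theorem ix473 : Idx.{u} io C333 [4,5,6,7,8,9] [[7,9,6,4,9,4,7,9,4]] 24 := (Idx.of bd330 sat344 (by decide +kernel) lb480 (by decide +kernel)).of_imp imp335
noncomputable def lk481 : List (List ℕ × List ℕ × Pf) := [([7,9,4],[6,8,7,5],[([2],25)]),([6],[5,2,2,4,6,3],[([2,5,2,2,4,6],30)]),([7,5],[9,6,4,3,8],[([2],29)]),([4,6],[9,2,5,7,8],[([2,9,2,5,7,8],28)])]
noncomputable def O482 : ℕ := (nat_lit 0xeaa1e3011e240400100002000800000)
noncomputable def M483 : ℕ := (nat_lit 0x1fffffffffffffffffffffffffffffff)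
noncomputable def b484 : ℕ := (nat_lit 0x155e00fec1cbfbf76abbd9bfb5fff7f)
theorem cl485 : Clo.{u} io C333 [4,5,6,7,8,9] 125 m332 M483 (mkB [(2,b484),(3,b471)]) := cl472.new (k := 4) (b := 2) (q := 4) (p := 23) (r := 200) (n := 24) (O := O482) (by decide +kernel) (lks := lk481) (by decide +kernel) (gens_of_lall2 (m := [[0,1,2,1,3,0,0]]) (by decide +kernel)) ix473 (by decide +kernel)
noncomputable def b486 : ℕ := (nat_lit 0x1fffffffffffffffffffffffffffffff)
noncomputable def b487 : ℕ := (nat_lit 0x1fffffffffffffffffffffffffffffff)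
theorem cl488 : Clo.{u} io C333 [4,5,6,7,8,9] 125 m332 M483 (mkB [(2,b486),(3,b487)]) := cl485.ops (os := [Op.ext 2 2 [([4,6,9,7],[5,8,6],[([2,5,8,6,3],27)]),([6,8,7,5],[7,9,4],[([],26)]),([7,9,4],[6,8,7,5],[([2],25)]),([5,8,6],[4,6,9,7],[([2,4,6,9,7],24)])],Op.inv 2,Op.rel 2 [] 3 [3,3,3] [([],1)],Op.inv 2,Op.rel 2 [6] 3 [7,3,7] [([3],21)],Op.ext 2 2 [([4,6,9,7],[5,8,6],[([2,5,8,6,3],27)]),([6,8,7,5],[7,9,4],[([],26)]),([7,9,4],[6,8,7,5],[([2],25)]),([5,8,6],[4,6,9,7],[([2,4,6,9,7],24)])],Op.inv 2,Op.rel 2 [] 3 [3,3,3] [([],1)],Op.inv 2,Op.rel 2 [6] 3 [7,3,7] [([3],21)],Op.ext 2 2 [([4,6,9,7],[5,8,6],[([2,5,8,6,3],27)]),([6,8,7,5],[7,9,4],[([],26)]),([7,9,4],[6,8,7,5],[([2],25)]),([5,8,6],[4,6,9,7],[([2,4,6,9,7],24)])],Op.inv 2,Op.rel 2 [] 3 [3,3,3] [([],1)],Op.inv 2]) (by decide +kernel) (by decide +kernel)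
theorem sat490 : Sat io C333 (finG m332ok) := m332s0.fin (k := 7) (by decide +kernel)
theorem bd489 : Bound.{u} io C333 [2,3,4,5,6,7,8,9] 15000 := cl488.bound (by decide +kernel) sat490 (bd330.of_imp imp335)
noncomputable def m491n10 : Net := (Net.cons (nat_lit 4) (nat_lit 4)
  (Net.cons (nat_lit 2) (nat_lit 49)
  (Net.cons (nat_lit 1) (nat_lit 1)
  (Net.cons (nat_lit 2) (nat_lit 2)
  (Net.cons (nat_lit 4) (nat_lit 8)
  Net.nil)))))
noncomputable def m491n11 : Net := (Net.cons (nat_lit 4) (nat_lit 8)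
  (Net.cons (nat_lit 2) (nat_lit 49)
  (Net.cons (nat_lit 1) (nat_lit 4)
  (Net.cons (nat_lit 2) (nat_lit 2)
  (Net.cons (nat_lit 4) (nat_lit 4)
  Net.nil)))))
noncomputable def m491l : List Net := [Net.nil,Net.nil,Net.nil,Net.nil,Net.nil,Net.nil,Net.nil,Net.nil,Net.nil,Net.nil,m491n10,m491n11]
noncomputable abbrev m491 : ℕ → Net := lk Net.nil m491l
theorem m491ok : NetsOk 8 m491 vT := netsOk_of (by decide +kernel)
theorem m491s0 : Sat io [] (finG m491ok) := fin_sat_nil _ (k := 3) (n := 20) (by decide +kernel)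
noncomputable def r22 : List ℕ := [10,10,10,10,10,10,10,10]
noncomputable def m492n10 : Net := (Net.cons (nat_lit 4) (nat_lit 4)
  (Net.cons (nat_lit 2) (nat_lit 49)
  (Net.cons (nat_lit 1) (nat_lit 1)
  (Net.cons (nat_lit 2) (nat_lit 2)
  (Net.cons (nat_lit 4) (nat_lit 8)
  Net.nil)))))
noncomputable def m492n11 : Net := (Net.cons (nat_lit 4) (nat_lit 8)
  (Net.cons (nat_lit 2) (nat_lit 49)
  (Net.cons (nat_lit 1) (nat_lit 4)
  (Net.cons (nat_lit 2) (nat_lit 2)
  (Net.cons (nat_lit 4) (nat_lit 4)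
  Net.nil)))))
noncomputable def m492l : List Net := [Net.nil,Net.nil,Net.nil,Net.nil,Net.nil,Net.nil,Net.nil,Net.nil,Net.nil,Net.nil,m492n10,m492n11]
noncomputable abbrev m492 : ℕ → Net := lk Net.nil m492l
theorem m492ok : NetsOk 8 m492 vT := netsOk_of (by decide +kernel)
theorem m492s0 : Sat io [] (finG m492ok) := fin_sat_nil _ (k := 3) (n := 20) (by decide +kernel)
noncomputable def C493 : List (List ℕ) := [r22]
theorem cl494 : Clo.{u} io C493 [] 8 m492 1 (mkB []) := Clo.start (by decide +kernel)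
theorem imp495 : Imp.{u} io C493 C1 := Imp.of_chk (pfs := []) (by decide +kernel)
theorem ix496 : Idx.{u} io C493 [] [] 1 := (Idx.triv (Bound.nil) (by norm_num)).of_imp imp495
noncomputable def lk497 : List (List ℕ × List ℕ × Pf) := []
noncomputable def O498 : ℕ := (nat_lit 2)
noncomputable def M499 : ℕ := (nat_lit 3)
noncomputable def b500 : ℕ := (nat_lit 1)
theorem cl501 : Clo.{u} io C493 [] 8 m492 M499 (mkB [(10,b500)]) := cl494.new (k := 0) (b := 10) (q := 0) (p := 1) (r := 200) (n := 1) (O := O498) (by decide +kernel) (lks := lk497) (by decide +kernel) (gens_of_lall2 (m := []) (by decide +kernel)) ix496 (by decide +kernel)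
noncomputable def b502 : ℕ := (nat_lit 2)
theorem cl503 : Clo.{u} io C493 [] 8 m492 M499 (mkB [(10,b500),(11,b502)]) := cl501.ops (os := [Op.inv 10]) (by decide +kernel) (by decide +kernel)
theorem ix504 : Idx.{u} io C493 [] [] 1 := (Idx.triv (Bound.nil) (by norm_num)).of_imp imp495
noncomputable def lk505 : List (List ℕ × List ℕ × Pf) := []
noncomputable def O506 : ℕ := (nat_lit 8)
noncomputable def M507 : ℕ := (nat_lit 11)
noncomputable def b508 : ℕ := (nat_lit 3)
theorem cl509 : Clo.{u} io C493 [] 8 m492 M507 (mkB [(10,b508),(11,b502)]) := cl503.new (k := 0) (b := 10) (q := 1) (p := 3) (r := 200) (n := 1) (O := O506) (by decide +kernel) (lks := lk505) (by decide +kernel) (gens_of_lall2 (m := []) (by decide +kernel)) ix504 (by decide +kernel)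
noncomputable def b510 : ℕ := (nat_lit 10)
theorem cl511 : Clo.{u} io C493 [] 8 m492 M507 (mkB [(10,b508),(11,b510)]) := cl509.ops (os := [Op.inv 10]) (by decide +kernel) (by decide +kernel)
theorem ix512 : Idx.{u} io C493 [] [] 1 := (Idx.triv (Bound.nil) (by norm_num)).of_imp imp495
noncomputable def lk513 : List (List ℕ × List ℕ × Pf) := []
noncomputable def O514 : ℕ := (nat_lit 32)
noncomputable def M515 : ℕ := (nat_lit 43)
noncomputable def b516 : ℕ := (nat_lit 11)
theorem cl517 : Clo.{u} io C493 [] 8 m492 M515 (mkB [(10,b516),(11,b510)]) := cl511.new (k := 0) (b := 10) (q := 3) (p := 5) (r := 200) (n := 1) (O := O514) (by decide +kernel) (lks := lk513) (by decide +kernel) (gens_of_lall2 (m := []) (by decide +kernel)) ix512 (by decide +kernel)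
noncomputable def b518 : ℕ := (nat_lit 42)
theorem cl519 : Clo.{u} io C493 [] 8 m492 M515 (mkB [(10,b516),(11,b518)]) := cl517.ops (os := [Op.inv 10]) (by decide +kernel) (by decide +kernel)
theorem ix520 : Idx.{u} io C493 [] [] 1 := (Idx.triv (Bound.nil) (by norm_num)).of_imp imp495
noncomputable def lk521 : List (List ℕ × List ℕ × Pf) := []
noncomputable def O522 : ℕ := (nat_lit 128)
noncomputable def M523 : ℕ := (nat_lit 171)
noncomputable def b524 : ℕ := (nat_lit 43)
theorem cl525 : Clo.{u} io C493 [] 8 m492 M523 (mkB [(10,b524),(11,b518)]) := cl519.new (k := 0) (b := 10) (q := 5) (p := 7) (r := 200) (n := 1) (O := O522) (by decide +kernel) (lks := lk521) (by decide +kernel) (gens_of_lall2 (m := []) (by decide +kernel)) ix520 (by decide +kernel)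
noncomputable def b526 : ℕ := (nat_lit 170)
theorem cl527 : Clo.{u} io C493 [] 8 m492 M523 (mkB [(10,b524),(11,b526)]) := cl525.ops (os := [Op.inv 10]) (by decide +kernel) (by decide +kernel)
theorem ix528 : Idx.{u} io C493 [] [] 1 := (Idx.triv (Bound.nil) (by norm_num)).of_imp imp495
noncomputable def lk529 : List (List ℕ × List ℕ × Pf) := []
noncomputable def O530 : ℕ := (nat_lit 64)
noncomputable def M531 : ℕ := (nat_lit 235)
noncomputable def b532 : ℕ := (nat_lit 171)
theorem cl533 : Clo.{u} io C493 [] 8 m492 M531 (mkB [(10,b532),(11,b526)]) := cl527.new (k := 0) (b := 10) (q := 7) (p := 6) (r := 200) (n := 1) (O := O530) (by decide +kernel) (lks := lk529) (by decide +kernel) (gens_of_lall2 (m := []) (by decide +kernel)) ix528 (by decide +kernel)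
noncomputable def b534 : ℕ := (nat_lit 234)
theorem cl535 : Clo.{u} io C493 [] 8 m492 M531 (mkB [(10,b532),(11,b534)]) := cl533.ops (os := [Op.inv 10]) (by decide +kernel) (by decide +kernel)
theorem ix536 : Idx.{u} io C493 [] [] 1 := (Idx.triv (Bound.nil) (by norm_num)).of_imp imp495
noncomputable def lk537 : List (List ℕ × List ℕ × Pf) := []
noncomputable def O538 : ℕ := (nat_lit 16)
noncomputable def M539 : ℕ := (nat_lit 251)
noncomputable def b540 : ℕ := (nat_lit 235)
theorem cl541 : Clo.{u} io C493 [] 8 m492 M539 (mkB [(10,b540),(11,b534)]) := cl535.new (k := 0) (b := 10) (q := 6) (p := 4) (r := 200) (n := 1) (O := O538) (by decide +kernel) (lks := lk537) (by decide +kernel) (gens_of_lall2 (m := []) (by decide +kernel)) ix536 (by decide +kernel)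
noncomputable def b542 : ℕ := (nat_lit 250)
theorem cl543 : Clo.{u} io C493 [] 8 m492 M539 (mkB [(10,b540),(11,b542)]) := cl541.ops (os := [Op.inv 10]) (by decide +kernel) (by decide +kernel)
theorem ix544 : Idx.{u} io C493 [] [] 1 := (Idx.triv (Bound.nil) (by norm_num)).of_imp imp495
noncomputable def lk545 : List (List ℕ × List ℕ × Pf) := []
noncomputable def O546 : ℕ := (nat_lit 4)
noncomputable def M547 : ℕ := (nat_lit 255)
noncomputable def b548 : ℕ := (nat_lit 251)
theorem cl549 : Clo.{u} io C493 [] 8 m492 M547 (mkB [(10,b548),(11,b542)]) := cl543.new (k := 0) (b := 10) (q := 4) (p := 2) (r := 200) (n := 1) (O := O546) (by decide +kernel) (lks := lk545) (by decide +kernel) (gens_of_lall2 (m := []) (by decide +kernel)) ix544 (by decide +kernel)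
noncomputable def b550 : ℕ := (nat_lit 255)
noncomputable def b551 : ℕ := (nat_lit 255)
theorem cl552 : Clo.{u} io C493 [] 8 m492 M547 (mkB [(10,b550),(11,b551)]) := cl549.ops (os := [Op.inv 10,Op.rel 10 [] 11 [11,11,11,11,11,11] [([],1)],Op.inv 10]) (by decide +kernel) (by decide +kernel)
theorem sat554 : Sat io C493 (finG m492ok) := m492s0.fin (k := 3) (by decide +kernel)
theorem bd553 : Bound.{u} io C493 [10,11] 8 := cl552.bound (by decide +kernel) sat554 ((Bound.nil).of_imp imp495)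
noncomputable def r23 : List ℕ := [12,12,12,12,12]
noncomputable def r24 : List ℕ := [12,10,10,12,10,10,12,10,10,12,10,10]
noncomputable def r25 : List ℕ := [12,11,13,11,12,12,10,12,10]
noncomputable def r26 : List ℕ := [13,11,13,10,12,10,12,12,11]
noncomputable def r27 : List ℕ := [12,12,11,11,12,11,11,13,11,11,11,11]
noncomputable def r28 : List ℕ := [13,10,10,12,10,10,12,12,11,11,11,11]
noncomputable def m555n10 : Net := (Net.cons (nat_lit 64) (nat_lit 0x39aba5b4d519f114)
  (Net.cons (nat_lit 32) (nat_lit 0x8b60969000000000b5e5cd0e)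
  (Net.cons (nat_lit 16) (nat_lit 0x4302000095c70000d210000090bc)
  (Net.cons (nat_lit 8) (nat_lit 0xc9005100e200ba00e200ea001c0060)
  (Net.cons (nat_lit 4) (nat_lit 0x40002050a0b0c040b08060200020d0e)
  (Net.cons (nat_lit 2) (nat_lit 0x11032202302321100323133211312232)
  (Net.cons (nat_lit 1) (nat_lit 0x10040451441114015505501140511004)
  (Net.cons (nat_lit 2) (nat_lit 0x200200202020000002200020002)
  (Net.cons (nat_lit 4) (nat_lit 0x20e0404040c04040804000008020000)
  (Net.cons (nat_lit 8) (nat_lit 0xfc00e0000000ce0050001a000000ec)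
  (Net.cons (nat_lit 16) (nat_lit 0x6d540000c280000023a800009262)
  (Net.cons (nat_lit 32) (nat_lit 0x80d89b7000000000e1a01d92)
  (Net.cons (nat_lit 64) (nat_lit 0x20d449f295cc7ca0)
  Net.nil)))))))))))))
noncomputable def m555n11 : Net := (Net.cons (nat_lit 64) (nat_lit 0x20d449f295cc7ca0)
  (Net.cons (nat_lit 32) (nat_lit 0xa0d89b7200000000064f2b2e)
  (Net.cons (nat_lit 16) (nat_lit 0x6d540000cba60000e489000022e8)
  (Net.cons (nat_lit 8) (nat_lit 0x3001f004d00dc007100a9008500d0)
  (Net.cons (nat_lit 4) (nat_lit 0xe02040a0206000e020202020b05030a)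
  (Net.cons (nat_lit 2) (nat_lit 0x3310022101312102123313230330330)
  (Net.cons (nat_lit 1) (nat_lit 0x1405140015110411540140151154440)
  (Net.cons (nat_lit 2) (nat_lit 0x200220020220000000220202000200)
  (Net.cons (nat_lit 4) (nat_lit 0x4040c080e040c0600020e06080800)
  (Net.cons (nat_lit 8) (nat_lit 0x3600ae007000b60042002000100082)
  (Net.cons (nat_lit 16) (nat_lit 0x43020000f0c600006f940000dad0)
  (Net.cons (nat_lit 32) (nat_lit 0x8a608690000000005ac83a68)
  (Net.cons (nat_lit 64) (nat_lit 0x39aba5b4d519f114)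
  Net.nil)))))))))))))
noncomputable def m555n12 : Net := (Net.cons (nat_lit 64) (nat_lit 0x292a84f25b1fea04)
  (Net.cons (nat_lit 32) (nat_lit 0x20f197eb000000006ffe987c)
  (Net.cons (nat_lit 16) (nat_lit 0x49ad000000b4000045ca00001748)
  (Net.cons (nat_lit 8) (nat_lit 0x5f0057003400b500d5007e00130038)
  (Net.cons (nat_lit 4) (nat_lit 0xd0d010b0a0d0e040a0f0f070f010a0d)
  (Net.cons (nat_lit 2) (nat_lit 0x10010220032123020200233021222310)
  (Net.cons (nat_lit 1) (nat_lit 0x40515114140115144114115154505005)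
  (Net.cons (nat_lit 2) (nat_lit 0x20000200220200220002020200000000)
  (Net.cons (nat_lit 4) (nat_lit 0xe0c0c0a040c00060e0804020a080006)
  (Net.cons (nat_lit 8) (nat_lit 0x2000580050006c0018001600880098)
  (Net.cons (nat_lit 16) (nat_lit 0x481000001d8e00009984000006e8)
  (Net.cons (nat_lit 32) (nat_lit 0x2ebd82000000000064a8ea82)
  (Net.cons (nat_lit 64) (nat_lit 0x27bd7fa17e022550)
  Net.nil)))))))))))))
noncomputable def m555n13 : Net := (Net.cons (nat_lit 64) (nat_lit 0x27bd7fa17e022550)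
  (Net.cons (nat_lit 32) (nat_lit 0xd1427dbf0000000064a8ea92)
  (Net.cons (nat_lit 16) (nat_lit 0x1d8e0000b7ef0000409900002f32)
  (Net.cons (nat_lit 8) (nat_lit 0x50009300a3005f00b400500067009a)
  (Net.cons (nat_lit 4) (nat_lit 0x1030601050302010b0f0a0f0b0d0300)
  (Net.cons (nat_lit 2) (nat_lit 0x30122203002030011020200200113111)
  (Net.cons (nat_lit 1) (nat_lit 0x11401415411545014151414141151414)
  (Net.cons (nat_lit 2) (nat_lit 0x200220022020020202220002200002)
  (Net.cons (nat_lit 4) (nat_lit 0xc020406040e000202080e0000040a0c)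
  (Net.cons (nat_lit 8) (nat_lit 0x34004a00280020007c009800c40098)
  (Net.cons (nat_lit 16) (nat_lit 0xb40000b6520000f514000073b0)
  (Net.cons (nat_lit 32) (nat_lit 0xdf0a6814000000006ff6987c)
  (Net.cons (nat_lit 64) (nat_lit 0x292a84f25b1fea04)
  Net.nil)))))))))))))
noncomputable def m555l : List Net := [Net.nil,Net.nil,Net.nil,Net.nil,Net.nil,Net.nil,Net.nil,Net.nil,Net.nil,Net.nil,m555n10,m555n11,m555n12,m555n13]
noncomputable abbrev m555 : ℕ → Net := lk Net.nil m555l
theorem m555ok : NetsOk 125 m555 vT := netsOk_of (by decide +kernel)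
theorem m555s0 : Sat io [] (finG m555ok) := fin_sat_nil _ (k := 7) (n := 20) (by decide +kernel)
noncomputable def C556 : List (List ℕ) := [r22,r23,r24,r25,r26,r27,r28]
theorem cl557 : Clo.{u} io C556 [10,11] 125 m555 1 (mkB []) := Clo.start (by decide +kernel)
theorem imp558 : Imp.{u} io C556 C493 := Imp.of_chk (pfs := [[([],1)]]) (by decide +kernel)
theorem ix559 : Idx.{u} io C556 [10,11] [] 8 := (Idx.triv bd553 (by norm_num)).of_imp imp558
noncomputable def lk560 : List (List ℕ × List ℕ × Pf) := []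
noncomputable def O561 : ℕ := (nat_lit 0x800000020200121a)
noncomputable def M562 : ℕ := (nat_lit 0x800000020200121b)
noncomputable def b563 : ℕ := (nat_lit 1)
theorem cl564 : Clo.{u} io C556 [10,11] 125 m555 M562 (mkB [(12,b563)]) := cl557.new (k := 4) (b := 12) (q := 0) (p := 1) (r := 200) (n := 8) (O := O561) (by decide +kernel) (lks := lk560) (by decide +kernel) (gens_of_lall2 (m := []) (by decide +kernel)) ix559 (by decide +kernel)
noncomputable def b565 : ℕ := (nat_lit 2)
theorem cl566 : Clo.{u} io C556 [10,11] 125 m555 M562 (mkB [(12,b563),(13,b565)]) := cl564.ops (os := [Op.inv 12]) (by decide +kernel) (by decide +kernel)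
theorem ix567 : Idx.{u} io C556 [10,11] [] 8 := (Idx.triv bd553 (by norm_num)).of_imp imp558
noncomputable def lk568 : List (List ℕ × List ℕ × Pf) := []
noncomputable def O569 : ℕ := (nat_lit 0x100100000000880800018020)
noncomputable def M570 : ℕ := (nat_lit 0x100100008000880a0201923b)
noncomputable def b571 : ℕ := (nat_lit 3)
theorem cl572 : Clo.{u} io C556 [10,11] 125 m555 M570 (mkB [(12,b571),(13,b565)]) := cl566.new (k := 4) (b := 12) (q := 1) (p := 5) (r := 200) (n := 8) (O := O569) (by decide +kernel) (lks := lk568) (by decide +kernel) (gens_of_lall2 (m := []) (by decide +kernel)) ix567 (by decide +kernel)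
noncomputable def b573 : ℕ := (nat_lit 0x800000003)
noncomputable def b574 : ℕ := (nat_lit 4130)
theorem cl575 : Clo.{u} io C556 [10,11] 125 m555 M570 (mkB [(12,b573),(13,b574)]) := cl572.ops (os := [Op.inv 12,Op.rel 12 [10,10] 12 [10,10,10,10,13,13,11,11] [([12],13)],Op.inv 12]) (by decide +kernel) (by decide +kernel)
theorem der577 : Der 8 (finX 8) (cl (finG m491ok) [[11,11,11,11]]) (fun _ => Net.nil) := Der.zero (finModel m491ok).inj
noncomputable def x578 : Net := (Net.cons (nat_lit 4) (nat_lit 15)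
  (Net.cons (nat_lit 2) (nat_lit 51)
  (Net.cons (nat_lit 1) (nat_lit 85)
  Net.nil)))
noncomputable def ns579 : ℕ → Net := upd (fun _ => Net.nil) 0 x578
theorem der580 : Der 8 (finX 8) (cl (finG m491ok) [[11,11,11,11]]) ns579 := der577.add (wp_mem_cl (w := [11,11,11,11]) (by decide)) ((finModel m491ok).toIsPre.rep_word (k := 3) (w := [11,11,11,11]) (n := x578) (by decide +kernel)) 0
noncomputable def L581 : Lev := Lev.cons 0 2 [[0]] Lev.nil
theorem lc582 : Lev.chk 8 0 ns579 vT 100 L581 = true := by decide +kernel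
theorem lb583 : 2 ≤ Nat.card (cl (finG m491ok) [[11,11,11,11]]) := le_of_eq_of_le (by decide +kernel) (der580.card_ge lc582)
theorem sat584 : Sat io C493 (finG m491ok) := m491s0.fin (k := 3) (by decide +kernel)
theorem ix576 : Idx.{u} io C556 [10,11] [[11,11,11,11]] 4 := (Idx.of bd553 sat584 (by decide +kernel) lb583 (by decide +kernel)).of_imp imp558
noncomputable def lk585 : List (List ℕ × List ℕ × Pf) := [([11,11,11,11],[13,11,11,13,11,11],[([13,13,11,11,13,11,11,12],13)])]
noncomputable def O586 : ℕ := (nat_lit 0x1000200200080000000000000000)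
noncomputable def M587 : ℕ := (nat_lit 0x1000300300088000880a0201923b)
noncomputable def b588 : ℕ := (nat_lit 0x800001022)
theorem cl589 : Clo.{u} io C556 [10,11] 125 m555 M587 (mkB [(12,b573),(13,b588)]) := cl575.new (k := 4) (b := 13) (q := 35) (p := 81) (r := 200) (n := 4) (O := O586) (by decide +kernel) (lks := lk585) (by decide +kernel) (gens_of_lall2 (m := [[0]]) (by decide +kernel)) ix576 (by decide +kernel)
noncomputable def b590 : ℕ := (nat_lit 0x200000000000800000003)
theorem cl591 : Clo.{u} io C556 [10,11] 125 m555 M587 (mkB [(12,b590),(13,b588)]) := cl589.ops (os := [Op.inv 13]) (by decide +kernel) (by decide +kernel)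
theorem ix592 : Idx.{u} io C556 [10,11] [] 8 := (Idx.triv bd553 (by norm_num)).of_imp imp558
noncomputable def lk593 : List (List ℕ × List ℕ × Pf) := []
noncomputable def O594 : ℕ := (nat_lit 0x20000000000404000001200c4)
noncomputable def M595 : ℕ := (nat_lit 0x1002300300088040c80a021392ff)
noncomputable def b596 : ℕ := (nat_lit 0x1000000200000000000800000003)
theorem cl597 : Clo.{u} io C556 [10,11] 125 m555 M595 (mkB [(12,b596),(13,b588)]) := cl591.new (k := 4) (b := 12) (q := 108) (p := 97) (r := 200) (n := 8) (O := O594) (by decide +kernel) (lks := lk593) (by decide +kernel) (gens_of_lall2 (m := []) (by decide +kernel)) ix592 (by decide +kernel)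
noncomputable def b598 : ℕ := (nat_lit 0x2000000000000000800001022)
theorem cl599 : Clo.{u} io C556 [10,11] 125 m555 M595 (mkB [(12,b596),(13,b598)]) := cl597.ops (os := [Op.inv 12]) (by decide +kernel) (by decide +kernel)
theorem ix600 : Idx.{u} io C556 [10,11] [] 8 := (Idx.triv bd553 (by norm_num)).of_imp imp558
noncomputable def lk601 : List (List ℕ × List ℕ × Pf) := []
noncomputable def O602 : ℕ := (nat_lit 0x302080000009800100)
noncomputable def M603 : ℕ := (nat_lit 0x100230030038a0c0c80a0b9393ff)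
noncomputable def b604 : ℕ := (nat_lit 0x1000000200000000000800000023)
theorem cl605 : Clo.{u} io C556 [10,11] 125 m555 M603 (mkB [(12,b604),(13,b598)]) := cl599.new (k := 4) (b := 12) (q := 5) (p := 8) (r := 200) (n := 8) (O := O602) (by decide +kernel) (lks := lk601) (by decide +kernel) (gens_of_lall2 (m := []) (by decide +kernel)) ix600 (by decide +kernel)
noncomputable def b606 : ℕ := (nat_lit 0x100000020000a080800808120127)
noncomputable def b607 : ℕ := (nat_lit 0x1002000200000080880808001327)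
theorem cl608 : Clo.{u} io C556 [10,11] 125 m555 M603 (mkB [(12,b606),(13,b607)]) := cl605.ops (os := [Op.inv 12,Op.rel 12 [11,11,11,11] 12 [10,10,13,10,10,13] [([12,10,10,13,10,10,13,13],11)],Op.inv 12,Op.rel 12 [] 13 [13,13,13] [([],3)],Op.inv 12,Op.rel 12 [10,10,10,10] 12 [12,11,11,12,11,11] [([],10)],Op.inv 12,Op.rel 12 [11,11,11,11] 12 [10,10,13,10,10,13] [([12,10,10,13,10,10,13,13],11)],Op.inv 12,Op.rel 13 [11,11,11,11] 13 [13,11,11,13,11,11] [([13,13,11,11,13,11,11,12],13)],Op.inv 13,Op.rel 12 [10,10,10,10] 12 [12,11,11,12,11,11] [([],10)],Op.inv 12,Op.rel 13 [10,10,10,10] 13 [10,10,12,10,10,12] [([],12)],Op.inv 13]) (by decide +kernel) (by decide +kernel)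
theorem ix609 : Idx.{u} io C556 [10,11] [] 8 := (Idx.triv bd553 (by norm_num)).of_imp imp558
noncomputable def lk610 : List (List ℕ × List ℕ × Pf) := []
noncomputable def O611 : ℕ := (nat_lit 0x10000000c01004000030000400)
noncomputable def M612 : ℕ := (nat_lit 0x1012300300f8b0c4c80a3b9397ff)
noncomputable def b613 : ℕ := (nat_lit 0x100000020000a08080080812012f)
theorem cl614 : Clo.{u} io C556 [10,11] 125 m555 M612 (mkB [(12,b613),(13,b607)]) := cl608.new (k := 4) (b := 12) (q := 3) (p := 10) (r := 200) (n := 8) (O := O611) (by decide +kernel) (lks := lk610) (by decide +kernel) (gens_of_lall2 (m := []) (by decide +kernel)) ix609 (by decide +kernel)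
noncomputable def b615 : ℕ := (nat_lit 0x100000020000a08080080812812f)
noncomputable def b616 : ℕ := (nat_lit 0x1002000200000080880828001727)
theorem cl617 : Clo.{u} io C556 [10,11] 125 m555 M612 (mkB [(12,b615),(13,b616)]) := cl614.ops (os := [Op.inv 12,Op.rel 12 [10] 12 [10,12,10,13,13,11] [([12,10,12],9)],Op.inv 12]) (by decide +kernel) (by decide +kernel)
theorem ix618 : Idx.{u} io C556 [10,11] [] 8 := (Idx.triv bd553 (by norm_num)).of_imp imp558
noncomputable def lk619 : List (List ℕ × List ℕ × Pf) := []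
noncomputable def O620 : ℕ := (nat_lit 0x20008000000018180004800)
noncomputable def M621 : ℕ := (nat_lit 0x1012320308f8b0c4c98bbb93dfff)
noncomputable def b622 : ℕ := (nat_lit 0x100000020000a08080080892812f)
theorem cl623 : Clo.{u} io C556 [10,11] 125 m555 M621 (mkB [(12,b622),(13,b616)]) := cl617.new (k := 4) (b := 12) (q := 23) (p := 32) (r := 200) (n := 8) (O := O620) (by decide +kernel) (lks := lk619) (by decide +kernel) (gens_of_lall2 (m := []) (by decide +kernel)) ix618 (by decide +kernel)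
noncomputable def b624 : ℕ := (nat_lit 0x100000020000a08080081892892f)
noncomputable def b625 : ℕ := (nat_lit 0x1002000200000080880928001f2f)
theorem cl626 : Clo.{u} io C556 [10,11] 125 m555 M621 (mkB [(12,b624),(13,b625)]) := cl623.ops (os := [Op.inv 12,Op.rel 13 [11] 12 [10,12,11,13,11,12] [([12,10],6)],Op.inv 13,Op.rel 13 [11] 12 [10,12,11,13,11,12] [([12,10],6)],Op.inv 13]) (by decide +kernel) (by decide +kernel)
theorem ix627 : Idx.{u} io C556 [10,11] [] 8 := (Idx.triv bd553 (by norm_num)).of_imp imp558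
noncomputable def lk628 : List (List ℕ × List ℕ × Pf) := []
noncomputable def O629 : ℕ := (nat_lit 0x50000001440000000003000002000)
noncomputable def M630 : ℕ := (nat_lit 0x51012321748f8b0c4c9bbbb93ffff)
noncomputable def b631 : ℕ := (nat_lit 0x100000020000a08080081892893f)
theorem cl632 : Clo.{u} io C556 [10,11] 125 m555 M630 (mkB [(12,b631),(13,b625)]) := cl626.new (k := 4) (b := 12) (q := 4) (p := 13) (r := 200) (n := 8) (O := O629) (by decide +kernel) (lks := lk628) (by decide +kernel) (gens_of_lall2 (m := []) (by decide +kernel)) ix627 (by decide +kernel)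
noncomputable def b633 : ℕ := (nat_lit 0x1002000200000080880928003f2f)
theorem cl634 : Clo.{u} io C556 [10,11] 125 m555 M630 (mkB [(12,b631),(13,b633)]) := cl632.ops (os := [Op.inv 12]) (by decide +kernel) (by decide +kernel)
theorem ix635 : Idx.{u} io C556 [10,11] [] 8 := (Idx.triv bd553 (by norm_num)).of_imp imp558
noncomputable def lk636 : List (List ℕ × List ℕ × Pf) := []
noncomputable def O637 : ℕ := (nat_lit 0x1000009040000000002020040040000)
noncomputable def M638 : ℕ := (nat_lit 0x105101b361748f8b0c6cbbbfb97ffff)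
noncomputable def b639 : ℕ := (nat_lit 0x100000020000a08080081892897f)
theorem cl640 : Clo.{u} io C556 [10,11] 125 m555 M638 (mkB [(12,b639),(13,b633)]) := cl634.new (k := 4) (b := 12) (q := 6) (p := 18) (r := 200) (n := 8) (O := O637) (by decide +kernel) (lks := lk636) (by decide +kernel) (gens_of_lall2 (m := []) (by decide +kernel)) ix635 (by decide +kernel)
noncomputable def b641 : ℕ := (nat_lit 0x100000020000a080800858928d7f)
noncomputable def b642 : ℕ := (nat_lit 0x1002000200000080880978043f2f)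
theorem cl643 : Clo.{u} io C556 [10,11] 125 m555 M638 (mkB [(12,b641),(13,b642)]) := cl640.ops (os := [Op.inv 12,Op.rel 12 [11] 12 [10,13,11,13,11,13] [([12,10,13],7)],Op.inv 12,Op.rel 12 [] 13 [13,13,13] [([],3)],Op.inv 12]) (by decide +kernel) (by decide +kernel)
theorem ix644 : Idx.{u} io C556 [10,11] [] 8 := (Idx.triv bd553 (by norm_num)).of_imp imp558
noncomputable def lk645 : List (List ℕ × List ℕ × Pf) := []
noncomputable def O646 : ℕ := (nat_lit 0x6080060000000000018000000080000)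
noncomputable def M647 : ℕ := (nat_lit 0x70d107b361748f8b0decbbbfb9fffff)
noncomputable def b648 : ℕ := (nat_lit 0x100000020010a080800858928d7f)
theorem cl649 : Clo.{u} io C556 [10,11] 125 m555 M647 (mkB [(12,b648),(13,b642)]) := cl643.new (k := 4) (b := 12) (q := 68) (p := 115) (r := 200) (n := 8) (O := O646) (by decide +kernel) (lks := lk645) (by decide +kernel) (gens_of_lall2 (m := []) (by decide +kernel)) ix644 (by decide +kernel)
noncomputable def b650 : ℕ := (nat_lit 0x81002000200000080880978043f2f)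
theorem cl651 : Clo.{u} io C556 [10,11] 125 m555 M647 (mkB [(12,b648),(13,b650)]) := cl649.ops (os := [Op.inv 12]) (by decide +kernel) (by decide +kernel)
theorem ix652 : Idx.{u} io C556 [10,11] [] 8 := (Idx.triv bd553 (by norm_num)).of_imp imp558
noncomputable def lk653 : List (List ℕ × List ℕ × Pf) := []
noncomputable def O654 : ℕ := (nat_lit 0x2000080820000600040000200000)
noncomputable def M655 : ℕ := (nat_lit 0x70d307b3e1f68f8b6decfbbfbbfffff)
noncomputable def b656 : ℕ := (nat_lit 0x100000020010a080800a58928d7f)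
theorem cl657 : Clo.{u} io C556 [10,11] 125 m555 M655 (mkB [(12,b656),(13,b650)]) := cl651.new (k := 4) (b := 12) (q := 33) (p := 77) (r := 200) (n := 8) (O := O654) (by decide +kernel) (lks := lk653) (by decide +kernel) (gens_of_lall2 (m := []) (by decide +kernel)) ix652 (by decide +kernel)
noncomputable def b658 : ℕ := (nat_lit 0x100004020010a080800a58928d7f)
noncomputable def b659 : ℕ := (nat_lit 0x81002080220000080880978043f2f)
theorem cl660 : Clo.{u} io C556 [10,11] 125 m555 M655 (mkB [(12,b658),(13,b659)]) := cl657.ops (os := [Op.inv 12,Op.rel 12 [10,10] 12 [10,10,10,10,13,13,11,11] [([12],13)],Op.inv 12]) (by decide +kernel) (by decide +kernel)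
theorem ix661 : Idx.{u} io C556 [10,11] [] 8 := (Idx.triv bd553 (by norm_num)).of_imp imp558
noncomputable def lk662 : List (List ℕ × List ℕ × Pf) := []
noncomputable def O663 : ℕ := (nat_lit 0x8000018000004800204000400000)
noncomputable def M664 : ℕ := (nat_lit 0x70db07b3f9f68f8fedeeffbfbffffff)
noncomputable def b665 : ℕ := (nat_lit 0x100004020010a080800a5892ad7f)
theorem cl666 : Clo.{u} io C556 [10,11] 125 m555 M664 (mkB [(12,b665),(13,b659)]) := cl660.new (k := 4) (b := 12) (q := 13) (p := 38) (r := 200) (n := 8) (O := O663) (by decide +kernel) (lks := lk662) (by decide +kernel) (gens_of_lall2 (m := []) (by decide +kernel)) ix661 (by decide +kernel)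
noncomputable def b667 : ℕ := (nat_lit 0x60930790e9b6018be9aaf5a59feedff)
noncomputable def b668 : ℕ := (nat_lit 0x70cb0732b0a28e07884ef4b7be5ffff)
theorem cl669 : Clo.{u} io C556 [10,11] 125 m555 M664 (mkB [(12,b667),(13,b668)]) := cl666.ops (os := [Op.inv 12,Op.rel 12 [10] 12 [10,12,10,13,13,11] [([12,10,12],9)],Op.inv 12,Op.rel 12 [10,10,10,10] 12 [12,11,11,12,11,11] [([],10)],Op.inv 12,Op.rel 13 [11,11,11,11] 13 [13,11,11,13,11,11] [([13,13,11,11,13,11,11,12],13)],Op.inv 13,Op.rel 12 [10,10] 13 [11,11,13,11,11,13,11,11] [([13],5)],Op.inv 12,Op.rel 12 [10] 13 [11,13,13,10,12,10] [([13,11,13,13,10,12,10,13],7)],Op.inv 12,Op.rel 12 [10] 13 [11,13,13,10,12,10] [([13,11,13,13,10,12,10,13],7)],Op.inv 12,Op.rel 13 [11] 13 [11,13,11,13,13,10] [([13],7)],Op.inv 13,Op.rel 12 [] 13 [13,13,13] [([],3)],Op.inv 12,Op.rel 12 [10,10,10,10] 12 [12,11,11,12,11,11] [([],10)],Op.inv 12,Op.rel 12 [11,11,11,11] 12 [10,10,13,10,10,13] [([12,10,10,13,10,10,13,13],11)],Op.inv 12,Op.rel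 13 [11,11,11,11] 13 [13,11,11,13,11,11] [([13,13,11,11,13,11,11,12],13)],Op.inv 13,Op.rel 12 [] 13 [13,13,13] [([],3)],Op.inv 12,Op.rel 12 [10] 13 [11,13,13,10,12,10] [([13,11,13,13,10,12,10,13],7)],Op.inv 12,Op.rel 13 [11] 13 [11,13,11,13,13,10] [([13],7)],Op.inv 13,Op.rel 13 [11] 13 [11,13,11,13,13,10] [([13],7)],Op.inv 13,Op.rel 12 [10] 13 [13,10,12,10,13,11] [([13,13,10,12,10,13],7)],Op.inv 12,Op.rel 13 [11] 13 [13,11,13,11,12,10] [([13,13,11,13,11,12,10,12],9)],Op.inv 13,Op.rel 13 [11] 12 [10,12,11,13,11,12] [([12,10],6)],Op.inv 13,Op.rel 13 [11] 12 [10,13,13,11,13,11] [([12],9)],Op.inv 13,Op.rel 12 [11] 12 [10,13,11,13,11,13] [([12,10,13],7)],Op.inv 12,Op.rel 12 [11] 12 [10,13,11,13,11,13] [([12,10,13],7)],Op.inv 12,Op.rel 12 [10] 13 [13,10,12,10,13,11] [([13,13,10,12,10,13],7)],Op.inv 12,Op.rel 13 [10] 13 [11,13,10,12,10,12] [([],8)],Op.inv 13,Op.rel 13 [11] 13 [11,13,11,13,13,10] [([13],7)],Op.inv 13,Op.rel 12 [11,11,11,11] 12 [10,10,13,10,10,13] [([12,10,10,13,10,10,13,13],11)],Op.inv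 12,Op.rel 12 [11] 12 [10,13,11,13,11,13] [([12,10,13],7)],Op.inv 12,Op.rel 12 [10] 13 [11,13,13,10,12,10] [([13,11,13,13,10,12,10,13],7)],Op.inv 12,Op.rel 13 [11] 12 [10,12,11,13,11,12] [([12,10],6)],Op.inv 13,Op.rel 13 [11] 13 [13,11,13,11,12,10] [([13,13,11,13,11,12,10,12],9)],Op.inv 13,Op.rel 13 [10] 13 [11,13,10,12,10,12] [([],8)],Op.inv 13,Op.rel 12 [10,10,10,10] 12 [12,11,11,12,11,11] [([],10)],Op.inv 12,Op.rel 12 [10,10] 13 [11,11,13,11,11,13,11,11] [([13],5)],Op.inv 12]) (by decide +kernel) (by decide +kernel)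
theorem ix670 : Idx.{u} io C556 [10,11] [] 8 := (Idx.triv bd553 (by norm_num)).of_imp imp558
noncomputable def lk671 : List (List ℕ × List ℕ × Pf) := []
noncomputable def O672 : ℕ := (nat_lit 0x4000080060101000404000000)
noncomputable def M673 : ℕ := (nat_lit 0x70db07f3f9fe8feffdfefffffffffff)
noncomputable def b674 : ℕ := (nat_lit 0x60930790e9b6018be9aaf5a59feefff)
theorem cl675 : Clo.{u} io C556 [10,11] 125 m555 M673 (mkB [(12,b674),(13,b668)]) := cl669.new (k := 4) (b := 12) (q := 9) (p := 26) (r := 200) (n := 8) (O := O672) (by decide +kernel) (lks := lk671) (by decide +kernel) (gens_of_lall2 (m := []) (by decide +kernel)) ix670 (by decide +kernel)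
noncomputable def b676 : ℕ := (nat_lit 0x70d307f2e9be01ebf9baf5e5dfeffff)
noncomputable def b677 : ℕ := (nat_lit 0x70cb0732f8aa8ecf985efdf7ff7ffff)
theorem cl678 : Clo.{u} io C556 [10,11] 125 m555 M673 (mkB [(12,b676),(13,b677)]) := cl675.ops (os := [Op.inv 12,Op.rel 12 [] 13 [13,13,13] [([],3)],Op.inv 12,Op.rel 12 [10] 13 [11,13,13,10,12,10] [([13,11,13,13,10,12,10,13],7)],Op.inv 12,Op.rel 12 [] 13 [13,13,13] [([],3)],Op.inv 12,Op.rel 12 [10] 13 [11,13,13,10,12,10] [([13,11,13,13,10,12,10,13],7)],Op.inv 12,Op.rel 12 [] 13 [13,13,13] [([],3)],Op.inv 12,Op.rel 12 [10] 13 [11,13,13,10,12,10] [([13,11,13,13,10,12,10,13],7)],Op.inv 12,Op.rel 12 [] 13 [13,13,13] [([],3)],Op.inv 12,Op.rel 13 [11] 13 [11,13,11,13,13,10] [([13],7)],Op.inv 13,Op.rel 12 [] 13 [13,13,13] [([],3)],Op.inv 12,Op.rel 13 [11] 13 [11,13,11,13,13,10] [([13],7)],Op.inv 13,Op.rel 12 [] 13 [13,13,13] [([],3)],Op.inv 12,Op.rel 13 [11] 13 [11,13,11,13,13,10] [([13],7)],Op.inv 13]) (by decide +kernel)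 (by decide +kernel)
theorem ix679 : Idx.{u} io C556 [10,11] [] 8 := (Idx.triv bd553 (by norm_num)).of_imp imp558
noncomputable def lk680 : List (List ℕ × List ℕ × Pf) := []
noncomputable def O681 : ℕ := (nat_lit 0x8c00800c00010000000100000000000)
noncomputable def M682 : ℕ := (nat_lit 0xfcdb87fff9ff8feffdfffffffffffff)
noncomputable def b683 : ℕ := (nat_lit 0x70d307f2e9be01ebf9baf5e5dffffff)
theorem cl684 : Clo.{u} io C556 [10,11] 125 m555 M682 (mkB [(12,b683),(13,b677)]) := cl678.new (k := 4) (b := 12) (q := 16) (p := 44) (r := 200) (n := 8) (O := O681) (by decide +kernel) (lks := lk680) (by decide +kernel) (gens_of_lall2 (m := []) (by decide +kernel)) ix679 (by decide +kernel)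
noncomputable def b685 : ℕ := (nat_lit 0xf8d387fff9ff89ebf9bbf5f5dffffff)
noncomputable def b686 : ℕ := (nat_lit 0xfcdb87baf8ef8fcf9cdffdf7ff7ffff)
theorem cl687 : Clo.{u} io C556 [10,11] 125 m555 M682 (mkB [(12,b685),(13,b686)]) := cl684.ops (os := [Op.inv 12,Op.rel 12 [] 13 [13,13,13] [([],3)],Op.inv 12,Op.rel 12 [10] 13 [11,13,13,10,12,10] [([13,11,13,13,10,12,10,13],7)],Op.inv 12,Op.rel 12 [] 13 [13,13,13] [([],3)],Op.inv 12,Op.rel 12 [10] 13 [11,13,13,10,12,10] [([13,11,13,13,10,12,10,13],7)],Op.inv 12,Op.rel 12 [10] 13 [11,13,13,10,12,10] [([13,11,13,13,10,12,10,13],7)],Op.inv 12,Op.rel 12 [10] 13 [11,13,13,10,12,10] [([13,11,13,13,10,12,10,13],7)],Op.inv 12,Op.rel 13 [11] 13 [11,13,11,13,13,10] [([13],7)],Op.inv 13,Op.rel 13 [11] 13 [11,13,11,13,13,10] [([13],7)],Op.inv 13,Op.rel 12 [11] 12 [10,13,11,13,11,13] [([12,10,13],7)],Op.inv 12,Op.rel 12 [10] 13 [13,10,12,10,13,11] [([13,13,10,12,10,13],7)],Op.inv 12]) (by decide +kernel) (by decide +kernel)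
theorem ix688 : Idx.{u} io C556 [10,11] [] 8 := (Idx.triv bd553 (by norm_num)).of_imp imp558
noncomputable def lk689 : List (List ℕ × List ℕ × Pf) := []
noncomputable def O690 : ℕ := (nat_lit 0x10120300002000010020000000000000)
noncomputable def M691 : ℕ := (nat_lit 0x1fdfbb7fffbff8ffffffffffffffffff)
noncomputable def b692 : ℕ := (nat_lit 0xf8d387fff9ff89ebf9bbf5f5fffffff)
theorem cl693 : Clo.{u} io C556 [10,11] 125 m555 M691 (mkB [(12,b692),(13,b686)]) := cl687.new (k := 4) (b := 12) (q := 25) (p := 64) (r := 200) (n := 8) (O := O690) (by decide +kernel) (lks := lk689) (by decide +kernel) (gens_of_lall2 (m := []) (by decide +kernel)) ix688 (by decide +kernel)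
noncomputable def b694 : ℕ := (nat_lit 0x1fddba7fffbff8bfffbfbf7f5fffffff)
noncomputable def b695 : ℕ := (nat_lit 0x1fdfbb7fafbff8fdf9efffdf7fffffff)
theorem cl696 : Clo.{u} io C556 [10,11] 125 m555 M691 (mkB [(12,b694),(13,b695)]) := cl693.ops (os := [Op.inv 12,Op.rel 13 [11] 13 [11,13,11,13,13,10] [([13],7)],Op.inv 13,Op.rel 12 [11] 12 [10,13,11,13,11,13] [([12,10,13],7)],Op.inv 12,Op.rel 12 [] 13 [13,13,13] [([],3)],Op.inv 12,Op.rel 13 [11] 13 [11,13,11,13,13,10] [([13],7)],Op.inv 13,Op.rel 12 [] 13 [13,13,13] [([],3)],Op.inv 12,Op.rel 12 [11] 12 [10,13,11,13,11,13] [([12,10,13],7)],Op.inv 12,Op.rel 12 [10] 13 [13,10,12,10,13,11] [([13,13,10,12,10,13],7)],Op.inv 12,Op.rel 12 [] 13 [13,13,13] [([],3)],Op.inv 12,Op.rel 12 [10] 13 [11,13,13,10,12,10] [([13,11,13,13,10,12,10,13],7)],Op.inv 12,Op.rel 12 [10] 13 [11,13,13,10,12,10] [([13,11,13,13,10,12,10,13],7)],Op.inv 12,Op.rel 13 [11] 13 [11,13,11,13,13,10] [([13],7)],Op.inv 13,Op.rel 12 [] 13 [13,13,13] [([],3)],Op.inv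 12]) (by decide +kernel) (by decide +kernel)
theorem ix697 : Idx.{u} io C556 [10,11] [] 8 := (Idx.triv bd553 (by norm_num)).of_imp imp558
noncomputable def lk698 : List (List ℕ × List ℕ × Pf) := []
noncomputable def O699 : ℕ := (nat_lit 0x204480004007000000000000000000)
noncomputable def M700 : ℕ := (nat_lit 0x1fffffffffffffffffffffffffffffff)
noncomputable def b701 : ℕ := (nat_lit 0x1fddba7fffbff8bfffbfbf7f7fffffff)
theorem cl702 : Clo.{u} io C556 [10,11] 125 m555 M700 (mkB [(12,b701),(13,b695)]) := cl696.new (k := 4) (b := 12) (q := 29) (p := 72) (r := 200) (n := 8) (O := O699) (by decide +kernel) (lks := lk698) (by decide +kernel) (gens_of_lall2 (m := []) (by decide +kernel)) ix697 (by decide +kernel)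
noncomputable def b703 : ℕ := (nat_lit 0x1fffffffffffffffffffffffffffffff)
noncomputable def b704 : ℕ := (nat_lit 0x1fffffffffffffffffffffffffffffff)
theorem cl705 : Clo.{u} io C556 [10,11] 125 m555 M700 (mkB [(12,b703),(13,b704)]) := cl702.ops (os := [Op.inv 12,Op.rel 12 [] 13 [13,13,13] [([],3)],Op.inv 12,Op.rel 12 [10] 13 [11,13,13,10,12,10] [([13,11,13,13,10,12,10,13],7)],Op.inv 12,Op.rel 12 [10] 13 [11,13,13,10,12,10] [([13,11,13,13,10,12,10,13],7)],Op.inv 12,Op.rel 12 [10] 13 [11,13,13,10,12,10] [([13,11,13,13,10,12,10,13],7)],Op.inv 12,Op.rel 12 [10] 13 [11,13,13,10,12,10] [([13,11,13,13,10,12,10,13],7)],Op.inv 12,Op.rel 12 [10] 13 [11,13,13,10,12,10] [([13,11,13,13,10,12,10,13],7)],Op.inv 12,Op.rel 12 [10] 13 [11,13,13,10,12,10] [([13,11,13,13,10,12,10,13],7)],Op.inv 12,Op.rel 12 [10] 13 [11,13,13,10,12,10] [([13,11,13,13,10,12,10,13],7)],Op.inv 12]) (by decide +kernel) (by decide +kernel)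
theorem sat707 : Sat io C556 (finG m555ok) := m555s0.fin (k := 7) (by decide +kernel)
theorem bd706 : Bound.{u} io C556 [10,11,12,13] 1000 := cl705.bound (by decide +kernel) sat707 (bd553.of_imp imp558)
noncomputable def m708n14 : Net := (Net.cons (nat_lit 12) (nat_lit 1624)
  (Net.cons (nat_lit 6) (nat_lit 0x2c030)
  (Net.cons (nat_lit 3) (nat_lit 0x100080)
  (Net.cons (nat_lit 1) (nat_lit 0x40049)
  (Net.cons (nat_lit 1) (nat_lit 0x80092)
  (Net.cons (nat_lit 1) (nat_lit 0x241048)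
  (Net.cons (nat_lit 3) (nat_lit 8192)
  (Net.cons (nat_lit 6) (nat_lit 0x24010)
  (Net.cons (nat_lit 12) (nat_lit 2008)
  Net.nil)))))))))
noncomputable def m708n15 : Net := (Net.cons (nat_lit 12) (nat_lit 2008)
  (Net.cons (nat_lit 6) (nat_lit 0x24010)
  (Net.cons (nat_lit 3) (nat_lit 8320)
  (Net.cons (nat_lit 1) (nat_lit 0x40048)
  (Net.cons (nat_lit 1) (nat_lit 0x80092)
  (Net.cons (nat_lit 1) (nat_lit 0x241049)
  (Net.cons (nat_lit 3) (nat_lit 0x100000)
  (Net.cons (nat_lit 6) (nat_lit 0x2c030)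
  (Net.cons (nat_lit 12) (nat_lit 1624)
  Net.nil)))))))))
noncomputable def m708n16 : Net := (Net.cons (nat_lit 12) (nat_lit 2610)
  (Net.cons (nat_lit 6) (nat_lit 0x1f030)
  (Net.cons (nat_lit 3) (nat_lit 0x45003)
  (Net.cons (nat_lit 1) (nat_lit 0x40000)
  (Net.cons (nat_lit 1) (nat_lit 0x482480)
  (Net.cons (nat_lit 1) (nat_lit 0x200008)
  (Net.cons (nat_lit 3) (nat_lit 0x100000)
  (Net.cons (nat_lit 6) (nat_lit 0x3c026)
  (Net.cons (nat_lit 12) (nat_lit 2634)
  Net.nil)))))))))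
noncomputable def m708n17 : Net := (Net.cons (nat_lit 12) (nat_lit 1445)
  (Net.cons (nat_lit 6) (nat_lit 0x26003)
  (Net.cons (nat_lit 3) (nat_lit 12355)
  (Net.cons (nat_lit 1) (nat_lit 1)
  (Net.cons (nat_lit 1) (nat_lit 0x480092)
  (Net.cons (nat_lit 1) (nat_lit 4104)
  (Net.cons (nat_lit 3) (nat_lit 262)
  (Net.cons (nat_lit 6) (nat_lit 0x30020)
  (Net.cons (nat_lit 12) (nat_lit 1484)
  Net.nil)))))))))
noncomputable def m708l : List Net := [Net.nil,Net.nil,Net.nil,Net.nil,Net.nil,Net.nil,Net.nil,Net.nil,Net.nil,Net.nil,Net.nil,Net.nil,Net.nil,Net.nil,m708n14,m708n15,m708n16,m708n17]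
noncomputable abbrev m708 : ℕ → Net := lk Net.nil m708l
theorem m708ok : NetsOk 21 m708 vT := netsOk_of (by decide +kernel)
theorem m708s0 : Sat io [] (finG m708ok) := fin_sat_nil _ (k := 5) (n := 20) (by decide +kernel)
noncomputable def r29 : List ℕ := [14,14,14]
noncomputable def m709n14 : Net := (Net.cons (nat_lit 1) (nat_lit 1)
  (Net.cons (nat_lit 1) (nat_lit 2)
  Net.nil))
noncomputable def m709n15 : Net := (Net.cons (nat_lit 1) (nat_lit 2)
  (Net.cons (nat_lit 1) (nat_lit 1)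
  Net.nil))
noncomputable def m709l : List Net := [Net.nil,Net.nil,Net.nil,Net.nil,Net.nil,Net.nil,Net.nil,Net.nil,Net.nil,Net.nil,Net.nil,Net.nil,Net.nil,Net.nil,m709n14,m709n15]
noncomputable abbrev m709 : ℕ → Net := lk Net.nil m709l
theorem m709ok : NetsOk 3 m709 vT := netsOk_of (by decide +kernel)
theorem m709s0 : Sat io [] (finG m709ok) := fin_sat_nil _ (k := 2) (n := 20) (by decide +kernel)
noncomputable def C710 : List (List ℕ) := [r29]
theorem cl711 : Clo.{u} io C710 [] 3 m709 1 (mkB []) := Clo.start (by decide +kernel)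
theorem imp712 : Imp.{u} io C710 C1 := Imp.of_chk (pfs := []) (by decide +kernel)
theorem ix713 : Idx.{u} io C710 [] [] 1 := (Idx.triv (Bound.nil) (by norm_num)).of_imp imp712
noncomputable def lk714 : List (List ℕ × List ℕ × Pf) := []
noncomputable def O715 : ℕ := (nat_lit 2)
noncomputable def M716 : ℕ := (nat_lit 3)

end Cfsg.Agent.H6.Le.S5
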