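import Cfsg.Agent.H6.McA
import Cfsg.Agent.H6.LeN
set_option maxRecDepth 100000
set_option Elab.async false
namespace Cfsg.Agent.H6.McC
open Cfsg.Agent.H6
universe u

noncomputable def il : List ℕ := [1,0,3,2,5,4,7,6]
noncomputable abbrev io : ℕ → ℕ := iota il
noncomputable def C1 : List (List ℕ) := []
noncomputable def m2n0 : Net := (Net.cons (nat_lit 4) (nat_lit 14)
  (Net.cons (nat_lit 2) (nat_lit 48)
  (Net.cons (nat_lit 1) (nat_lit 84)
  (Net.cons (nat_lit 2) (nat_lit 2)
  (Net.cons (nat_lit 4) (nat_lit 4)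
  Net.nil)))))
noncomputable def m2n1 : Net := (Net.cons (nat_lit 4) (nat_lit 6)
  (Net.cons (nat_lit 2) (nat_lit 50)
  (Net.cons (nat_lit 1) (nat_lit 84)
  (Net.cons (nat_lit 4) (nat_lit 10)
  Net.nil))))
noncomputable def m2n2 : Net := (Net.cons (nat_lit 4) (nat_lit 15)
  (Net.cons (nat_lit 1) (nat_lit 17)
  Net.nil))
noncomputable def m2n4 : Net := (Net.cons (nat_lit 4) (nat_lit 11)
  (Net.cons (nat_lit 2) (nat_lit 33)
  (Net.cons (nat_lit 1) (nat_lit 85)
  (Net.cons (nat_lit 4) (nat_lit 4)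
  Net.nil))))
noncomputable def m2l : List Net := [m2n0,m2n1,m2n2,m2n2,m2n4,m2n4,Net.nil,Net.nil]
noncomputable abbrev m2 : ℕ → Net := lk Net.nil m2l
theorem m2ok : NetsOk 8 m2 vT := netsOk_of (by decide +kernel)
theorem m2s0 : Sat io [] (finG m2ok) := fin_sat_nil _ (k := 3) (n := 8) (by decide +kernel)
noncomputable def m3n0 : Net := (Net.cons (nat_lit 4) (nat_lit 12)
  (Net.cons (nat_lit 2) (nat_lit 49)
  (Net.cons (nat_lit 1) (nat_lit 1)
  (Net.cons (nat_lit 4) (nat_lit 10)
  Net.nil))))
noncomputable def m3n1 : Net := (Net.cons (nat_lit 4) (nat_lit 10)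
  (Net.cons (nat_lit 2) (nat_lit 51)
  (Net.cons (nat_lit 1) (nat_lit 4)
  (Net.cons (nat_lit 2) (nat_lit 2)
  (Net.cons (nat_lit 4) (nat_lit 12)
  Net.nil)))))
noncomputable def m3l : List Net := [m3n0,m3n1]
noncomputable abbrev m3 : ℕ → Net := lk Net.nil m3l
theorem m3ok : NetsOk 7 m3 vT := netsOk_of (by decide +kernel)
theorem m3s0 : Sat io [] (finG m3ok) := fin_sat_nil _ (k := 3) (n := 8) (by decide +kernel)
noncomputable def r0 : List ℕ := [0,0,0,0,0,0,0]
noncomputable def m4n0 : Net := (Net.cons (nat_lit 4) (nat_lit 12)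
  (Net.cons (nat_lit 2) (nat_lit 49)
  (Net.cons (nat_lit 1) (nat_lit 1)
  (Net.cons (nat_lit 4) (nat_lit 10)
  Net.nil))))
noncomputable def m4n1 : Net := (Net.cons (nat_lit 4) (nat_lit 10)
  (Net.cons (nat_lit 2) (nat_lit 51)
  (Net.cons (nat_lit 1) (nat_lit 4)
  (Net.cons (nat_lit 2) (nat_lit 2)
  (Net.cons (nat_lit 4) (nat_lit 12)
  Net.nil)))))
noncomputable def m4l : List Net := [m4n0,m4n1]
noncomputable abbrev m4 : ℕ → Net := lk Net.nil m4l
theorem m4ok : NetsOk 7 m4 vT := netsOk_of (by decide +kernel)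
theorem m4s0 : Sat io [] (finG m4ok) := fin_sat_nil _ (k := 3) (n := 8) (by decide +kernel)
noncomputable def C5 : List (List ℕ) := [r0]
theorem cl6 : Clo.{u} io C5 [] 7 m4 1 (mkB []) := Clo.start (by decide +kernel)
theorem imp7 : Imp.{u} io C5 C1 := Imp.of_chk (pfs := []) (by decide +kernel)
theorem ix8 : Idx.{u} io C5 [] [] 1 := (Idx.triv (Bound.nil) (by norm_num)).of_imp imp7
noncomputable def lk9 : List (List ℕ × List ℕ × Pf) := []
noncomputable def O10 : ℕ := (nat_lit 2)
noncomputable def M11 : ℕ := (nat_lit 3)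
noncomputable def b12 : ℕ := (nat_lit 1)
theorem cl13 : Clo.{u} io C5 [] 7 m4 M11 (mkB [(0,b12)]) := cl6.new (k := 0) (b := 0) (q := 0) (p := 1) (r := 200) (n := 1) (O := O10) (by decide +kernel) (lks := lk9) (by decide +kernel) (gens_of_lall2 (m := []) (by decide +kernel)) ix8 (by decide +kernel)
noncomputable def b14 : ℕ := (nat_lit 2)
theorem cl15 : Clo.{u} io C5 [] 7 m4 M11 (mkB [(0,b12),(1,b14)]) := cl13.ops (os := [Op.inv 0]) (by decide +kernel) (by decide +kernel)
theorem ix16 : Idx.{u} io C5 [] [] 1 := (Idx.triv (Bound.nil) (by norm_num)).of_imp imp7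
noncomputable def lk17 : List (List ℕ × List ℕ × Pf) := []
noncomputable def O18 : ℕ := (nat_lit 8)
noncomputable def M19 : ℕ := (nat_lit 11)
noncomputable def b20 : ℕ := (nat_lit 3)
theorem cl21 : Clo.{u} io C5 [] 7 m4 M19 (mkB [(0,b20),(1,b14)]) := cl15.new (k := 0) (b := 0) (q := 1) (p := 3) (r := 200) (n := 1) (O := O18) (by decide +kernel) (lks := lk17) (by decide +kernel) (gens_of_lall2 (m := []) (by decide +kernel)) ix16 (by decide +kernel)
noncomputable def b22 : ℕ := (nat_lit 10)
theorem cl23 : Clo.{u} io C5 [] 7 m4 M19 (mkB [(0,b20),(1,b22)]) := cl21.ops (os := [Op.inv 0]) (by decide +kernel) (by decide +kernel)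
theorem ix24 : Idx.{u} io C5 [] [] 1 := (Idx.triv (Bound.nil) (by norm_num)).of_imp imp7
noncomputable def lk25 : List (List ℕ × List ℕ × Pf) := []
noncomputable def O26 : ℕ := (nat_lit 32)
noncomputable def M27 : ℕ := (nat_lit 43)
noncomputable def b28 : ℕ := (nat_lit 11)
theorem cl29 : Clo.{u} io C5 [] 7 m4 M27 (mkB [(0,b28),(1,b22)]) := cl23.new (k := 0) (b := 0) (q := 3) (p := 5) (r := 200) (n := 1) (O := O26) (by decide +kernel) (lks := lk25) (by decide +kernel) (gens_of_lall2 (m := []) (by decide +kernel)) ix24 (by decide +kernel)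
noncomputable def b30 : ℕ := (nat_lit 42)
theorem cl31 : Clo.{u} io C5 [] 7 m4 M27 (mkB [(0,b28),(1,b30)]) := cl29.ops (os := [Op.inv 0]) (by decide +kernel) (by decide +kernel)
theorem ix32 : Idx.{u} io C5 [] [] 1 := (Idx.triv (Bound.nil) (by norm_num)).of_imp imp7
noncomputable def lk33 : List (List ℕ × List ℕ × Pf) := []
noncomputable def O34 : ℕ := (nat_lit 64)
noncomputable def M35 : ℕ := (nat_lit 107)
noncomputable def b36 : ℕ := (nat_lit 43)
theorem cl37 : Clo.{u} io C5 [] 7 m4 M35 (mkB [(0,b36),(1,b30)]) := cl31.new (k := 0) (b := 0) (q := 5) (p := 6) (r := 200) (n := 1) (O := O34) (by decide +kernel) (lks := lk33) (by decide +kernel) (gens_of_lall2 (m := []) (by decide +kernel)) ix32 (by decide +kernel)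
noncomputable def b38 : ℕ := (nat_lit 106)
theorem cl39 : Clo.{u} io C5 [] 7 m4 M35 (mkB [(0,b36),(1,b38)]) := cl37.ops (os := [Op.inv 0]) (by decide +kernel) (by decide +kernel)
theorem ix40 : Idx.{u} io C5 [] [] 1 := (Idx.triv (Bound.nil) (by norm_num)).of_imp imp7
noncomputable def lk41 : List (List ℕ × List ℕ × Pf) := []
noncomputable def O42 : ℕ := (nat_lit 16)
noncomputable def M43 : ℕ := (nat_lit 123)
noncomputable def b44 : ℕ := (nat_lit 107)
theorem cl45 : Clo.{u} io C5 [] 7 m4 M43 (mkB [(0,b44),(1,b38)]) := cl39.new (k := 0) (b := 0) (q := 6) (p := 4) (r := 200) (n := 1) (O := O42) (by decide +kernel) (lks := lk41) (by decide +kernel) (gens_of_lall2 (m := []) (by decide +kernel)) ix40 (by decide +kernel)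
noncomputable def b46 : ℕ := (nat_lit 122)
theorem cl47 : Clo.{u} io C5 [] 7 m4 M43 (mkB [(0,b44),(1,b46)]) := cl45.ops (os := [Op.inv 0]) (by decide +kernel) (by decide +kernel)
theorem ix48 : Idx.{u} io C5 [] [] 1 := (Idx.triv (Bound.nil) (by norm_num)).of_imp imp7
noncomputable def lk49 : List (List ℕ × List ℕ × Pf) := []
noncomputable def O50 : ℕ := (nat_lit 4)
noncomputable def M51 : ℕ := (nat_lit 127)
noncomputable def b52 : ℕ := (nat_lit 123)
theorem cl53 : Clo.{u} io C5 [] 7 m4 M51 (mkB [(0,b52),(1,b46)]) := cl47.new (k := 0) (b := 0) (q := 4) (p := 2) (r := 200) (n := 1) (O := O50) (by decide +kernel) (lks := lk49) (by decide +kernel) (gens_of_lall2 (m := []) (by decide +kernel)) ix48 (by decide +kernel)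
noncomputable def b54 : ℕ := (nat_lit 127)
noncomputable def b55 : ℕ := (nat_lit 127)
theorem cl56 : Clo.{u} io C5 [] 7 m4 M51 (mkB [(0,b54),(1,b55)]) := cl53.ops (os := [Op.inv 0,Op.rel 0 [] 1 [1,1,1,1,1] [([],1)],Op.inv 0]) (by decide +kernel) (by decide +kernel)
theorem sat58 : Sat io C5 (finG m4ok) := m4s0.fin (k := 3) (by decide +kernel)
theorem bd57 : Bound.{u} io C5 [0,1] 7 := cl56.bound (by decide +kernel) sat58 ((Bound.nil).of_imp imp7)
noncomputable def m59n0 : Net := (Net.cons (nat_lit 2) (nat_lit 16)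
  (Net.cons (nat_lit 1) (nat_lit 20)
  (Net.cons (nat_lit 2) (nat_lit 34)
  (Net.cons (nat_lit 4) (nat_lit 4)
  Net.nil))))
noncomputable def m59n1 : Net := (Net.cons (nat_lit 4) (nat_lit 4)
  (Net.cons (nat_lit 2) (nat_lit 18)
  (Net.cons (nat_lit 1) (nat_lit 68)
  (Net.cons (nat_lit 2) (nat_lit 32)
  Net.nil))))
noncomputable def m59n2 : Net := (Net.cons (nat_lit 4) (nat_lit 9)
  (Net.cons (nat_lit 2) (nat_lit 49)
  (Net.cons (nat_lit 1) (nat_lit 65)
  (Net.cons (nat_lit 2) (nat_lit 32)
  (Net.cons (nat_lit 4) (nat_lit 6)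
  Net.nil)))))
noncomputable def m59l : List Net := [m59n0,m59n1,m59n2,m59n2]
noncomputable abbrev m59 : ℕ → Net := lk Net.nil m59l
theorem m59ok : NetsOk 8 m59 vT := netsOk_of (by decide +kernel)
theorem m59s0 : Sat io [] (finG m59ok) := fin_sat_nil _ (k := 3) (n := 8) (by decide +kernel)
noncomputable def r1 : List ℕ := [2,2]
noncomputable def r2 : List ℕ := [2,0,2,0,2,0,2,0]
noncomputable def r3 : List ℕ := [2,0,0,2,0,0,2,0,0]
noncomputable def r4 : List ℕ := [3,1,1,1,3,0,3,0,2,1,2,0,0,0,2,1,1]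
noncomputable def m60n0 : Net := (Net.cons (nat_lit 12) (nat_lit 2560)
  (Net.cons (nat_lit 6) (nat_lit 57388)
  (Net.cons (nat_lit 3) (nat_lit 0x1470c2)
  (Net.cons (nat_lit 1) (nat_lit 0x48000)
  (Net.cons (nat_lit 1) (nat_lit 0x90482)
  (Net.cons (nat_lit 1) (nat_lit 37384)
  (Net.cons (nat_lit 3) (nat_lit 0x100002)
  (Net.cons (nat_lit 6) (nat_lit 32802)
  (Net.cons (nat_lit 12) (nat_lit 2176)
  Net.nil)))))))))
noncomputable def m60n1 : Net := (Net.cons (nat_lit 12) (nat_lit 2176)
  (Net.cons (nat_lit 6) (nat_lit 0x19022)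
  (Net.cons (nat_lit 3) (nat_lit 0xc71c2)
  (Net.cons (nat_lit 1) (nat_lit 4160)
  (Net.cons (nat_lit 1) (nat_lit 0x402482)
  (Net.cons (nat_lit 1) (nat_lit 0x209008)
  (Net.cons (nat_lit 3) (nat_lit 8450)
  (Net.cons (nat_lit 6) (nat_lit 0x1c02c)
  (Net.cons (nat_lit 12) (nat_lit 2560)
  Net.nil)))))))))
noncomputable def m60n2 : Net := (Net.cons (nat_lit 12) (nat_lit 1989)
  (Net.cons (nat_lit 6) (nat_lit 0x1e034)
  (Net.cons (nat_lit 3) (nat_lit 0x182080)
  (Net.cons (nat_lit 1) (nat_lit 32833)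
  (Net.cons (nat_lit 1) (nat_lit 0x92092)
  (Net.cons (nat_lit 1) (nat_lit 0x41008)
  (Net.cons (nat_lit 3) (nat_lit 0x80182)
  (Net.cons (nat_lit 6) (nat_lit 0x3000e)
  (Net.cons (nat_lit 12) (nat_lit 2106)
  Net.nil)))))))))
noncomputable def m60l : List Net := [m60n0,m60n1,m60n2,m60n2]
noncomputable abbrev m60 : ℕ → Net := lk Net.nil m60l
theorem m60ok : NetsOk 24 m60 vT := netsOk_of (by decide +kernel)
theorem m60s0 : Sat io [] (finG m60ok) := fin_sat_nil _ (k := 5) (n := 8) (by decide +kernel)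
noncomputable def C61 : List (List ℕ) := [r0,r1,r2,r3,r4]
theorem cl62 : Clo.{u} io C61 [0,1] 24 m60 1 (mkB []) := Clo.start (by decide +kernel)
theorem imp63 : Imp.{u} io C61 C5 := Imp.of_chk (pfs := [[([],1)]]) (by decide +kernel)
theorem ix64 : Idx.{u} io C61 [0,1] [] 7 := (Idx.triv bd57 (by norm_num)).of_imp imp63
noncomputable def lk65 : List (List ℕ × List ℕ × Pf) := []
noncomputable def O66 : ℕ := (nat_lit 1374)
noncomputable def M67 : ℕ := (nat_lit 1375)
noncomputable def b68 : ℕ := (nat_lit 1)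
theorem cl69 : Clo.{u} io C61 [0,1] 24 m60 M67 (mkB [(2,b68)]) := cl62.new (k := 2) (b := 2) (q := 0) (p := 1) (r := 200) (n := 7) (O := O66) (by decide +kernel) (lks := lk65) (by decide +kernel) (gens_of_lall2 (m := []) (by decide +kernel)) ix64 (by decide +kernel)
noncomputable def b70 : ℕ := (nat_lit 83)
noncomputable def b71 : ℕ := (nat_lit 83)
theorem cl72 : Clo.{u} io C61 [0,1] 24 m60 M67 (mkB [(2,b70),(3,b71)]) := cl69.ops (os := [Op.inv 2,Op.rel 2 [] 3 [] [([],3)],Op.inv 2,Op.rel 2 [0,0] 3 [1,1,3,1,1] [([3],7)],Op.inv 2,Op.rel 2 [] 3 [] [([],3)],Op.inv 2]) (by decide +kernel) (by decide +kernel)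
theorem ix73 : Idx.{u} io C61 [0,1] [] 7 := (Idx.triv bd57 (by norm_num)).of_imp imp63
noncomputable def lk74 : List (List ℕ × List ℕ × Pf) := []
noncomputable def O75 : ℕ := (nat_lit 0x4aaa0)
noncomputable def M76 : ℕ := (nat_lit 0x4afff)
noncomputable def b77 : ℕ := (nat_lit 87)
theorem cl78 : Clo.{u} io C61 [0,1] 24 m60 M76 (mkB [(2,b77),(3,b71)]) := cl72.new (k := 2) (b := 2) (q := 2) (p := 5) (r := 200) (n := 7) (O := O75) (by decide +kernel) (lks := lk74) (by decide +kernel) (gens_of_lall2 (m := []) (by decide +kernel)) ix73 (by decide +kernel)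
noncomputable def b79 : ℕ := (nat_lit 2815)
noncomputable def b80 : ℕ := (nat_lit 2815)
theorem cl81 : Clo.{u} io C61 [0,1] 24 m60 M76 (mkB [(2,b79),(3,b80)]) := cl78.ops (os := [Op.inv 2,Op.rel 2 [] 3 [] [([],3)],Op.inv 2,Op.rel 2 [0] 3 [1,3,1,3,1] [([3],5)],Op.inv 2,Op.rel 2 [] 3 [] [([],3)],Op.inv 2,Op.rel 2 [0] 3 [1,3,1,3,1] [([3],5)],Op.inv 2,Op.rel 2 [] 3 [] [([],3)],Op.inv 2]) (by decide +kernel) (by decide +kernel)
theorem der83 : Der 7 (finX 7) (cl (finG m3ok) [[1,1]]) (fun _ => Net.nil) := Der.zero (finModel m3ok).inj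
noncomputable def x84 : Net := (Net.cons (nat_lit 4) (nat_lit 13)
  (Net.cons (nat_lit 2) (nat_lit 16)
  (Net.cons (nat_lit 1) (nat_lit 80)
  (Net.cons (nat_lit 4) (nat_lit 10)
  Net.nil))))
noncomputable def ns85 : ℕ → Net := upd (fun _ => Net.nil) 0 x84
theorem der86 : Der 7 (finX 7) (cl (finG m3ok) [[1,1]]) ns85 := der83.add (wp_mem_cl (w := [1,1]) (by decide)) ((finModel m3ok).toIsPre.rep_word (k := 3) (w := [1,1]) (n := x84) (by decide +kernel)) 0
noncomputable def L87 : Lev := Lev.cons 0 7 [[0]] Lev.nil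
theorem lc88 : Lev.chk 7 0 ns85 vT 100 L87 = true := by decide +kernel
theorem lb89 : 7 ≤ Nat.card (cl (finG m3ok) [[1,1]]) := le_of_eq_of_le (by decide +kernel) (der86.card_ge lc88)
theorem sat90 : Sat io C5 (finG m3ok) := m3s0.fin (k := 3) (by decide +kernel)
theorem ix82 : Idx.{u} io C61 [0,1] [[1,1]] 1 := (Idx.of bd57 sat90 (by decide +kernel) lb89 (by decide +kernel)).of_imp imp63
noncomputable def lk91 : List (List ℕ × List ℕ × Pf) := [([1,1],[1,1,1,3,0,3,1,2,1,2,0,0,0],[([3,1,1,1,3,0,3,1,2,1,2,0,0,0,2],9)])]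
noncomputable def O92 : ℕ := (nat_lit 0x800000)
noncomputable def M93 : ℕ := (nat_lit 0x84afff)
noncomputable def b94 : ℕ := (nat_lit 0x40aff)
theorem cl95 : Clo.{u} io C61 [0,1] 24 m60 M93 (mkB [(2,b79),(3,b94)]) := cl81.new (k := 2) (b := 3) (q := 18) (p := 23) (r := 200) (n := 1) (O := O92) (by decide +kernel) (lks := lk91) (by decide +kernel) (gens_of_lall2 (m := [[0]]) (by decide +kernel)) ix82 (by decide +kernel)
noncomputable def b96 : ℕ := (nat_lit 0x840aff)
noncomputable def b97 : ℕ := (nat_lit 0x840aff)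
theorem cl98 : Clo.{u} io C61 [0,1] 24 m60 M93 (mkB [(2,b96),(3,b97)]) := cl95.ops (os := [Op.inv 3,Op.rel 2 [] 3 [] [([],3)],Op.inv 2]) (by decide +kernel) (by decide +kernel)
theorem ix99 : Idx.{u} io C61 [0,1] [] 7 := (Idx.triv bd57 (by norm_num)).of_imp imp63
noncomputable def lk100 : List (List ℕ × List ℕ × Pf) := []
noncomputable def O101 : ℕ := (nat_lit 0x3b5000)
noncomputable def M102 : ℕ := (nat_lit 0xbfffff)
noncomputable def b103 : ℕ := (nat_lit 0x842aff)
theorem cl104 : Clo.{u} io C61 [0,1] 24 m60 M102 (mkB [(2,b103),(3,b97)]) := cl98.new (k := 2) (b := 2) (q := 13) (p := 19) (r := 200) (n := 7) (O := O101) (by decide +kernel) (lks := lk100) (by decide +kernel) (gens_of_lall2 (m := []) (by decide +kernel)) ix99 (by decide +kernel)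
noncomputable def b105 : ℕ := (nat_lit 0xbdffff)
noncomputable def b106 : ℕ := (nat_lit 0xbdffff)
theorem cl107 : Clo.{u} io C61 [0,1] 24 m60 M102 (mkB [(2,b105),(3,b106)]) := cl104.ops (os := [Op.inv 2,Op.rel 2 [] 3 [] [([],3)],Op.inv 2,Op.rel 2 [0] 3 [1,3,1,3,1] [([3],5)],Op.inv 2,Op.rel 2 [] 3 [] [([],3)],Op.inv 2,Op.rel 2 [0] 3 [1,3,1,3,1] [([3],5)],Op.inv 2,Op.rel 2 [] 3 [] [([],3)],Op.inv 2,Op.rel 2 [0,0] 3 [1,1,3,1,1] [([3],7)],Op.inv 2,Op.rel 2 [] 3 [] [([],3)],Op.inv 2]) (by decide +kernel) (by decide +kernel)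
theorem der109 : Der 7 (finX 7) (cl (finG m3ok) [[0]]) (fun _ => Net.nil) := Der.zero (finModel m3ok).inj
noncomputable def ns110 : ℕ → Net := upd (fun _ => Net.nil) 0 (m3 0)
theorem der111 : Der 7 (finX 7) (cl (finG m3ok) [[0]]) ns110 := der109.add (wp_mem_cl (w := [0]) (by decide)) (rep_letter (finModel m3ok) 0) 0
noncomputable def L112 : Lev := Lev.cons 0 7 [[0]] Lev.nil
theorem lc113 : Lev.chk 7 0 ns110 vT 100 L112 = true := by decide +kernel
theorem lb114 : 7 ≤ Nat.card (cl (finG m3ok) [[0]]) := le_of_eq_of_le (by decide +kernel) (der111.card_ge lc113)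
theorem ix108 : Idx.{u} io C61 [0,1] [[0]] 1 := (Idx.of bd57 sat90 (by decide +kernel) lb114 (by decide +kernel)).of_imp imp63
noncomputable def lk115 : List (List ℕ × List ℕ × Pf) := [([0],[1,2,0,0,0,2,0,0,3,1,1,1,3,0],[([2,1,2,0,0,0,2],9)])]
noncomputable def O116 : ℕ := (nat_lit 0x400000)
noncomputable def M117 : ℕ := (nat_lit 0xffffff)
noncomputable def b118 : ℕ := (nat_lit 0xbfffff)
theorem cl119 : Clo.{u} io C61 [0,1] 24 m60 M117 (mkB [(2,b118),(3,b106)]) := cl107.new (k := 2) (b := 2) (q := 17) (p := 22) (r := 200) (n := 1) (O := O116) (by decide +kernel) (lks := lk115) (by decide +kernel) (gens_of_lall2 (m := [[0]]) (by decide +kernel)) ix108 (by decide +kernel)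
noncomputable def b120 : ℕ := (nat_lit 0xffffff)
noncomputable def b121 : ℕ := (nat_lit 0xffffff)
theorem cl122 : Clo.{u} io C61 [0,1] 24 m60 M117 (mkB [(2,b120),(3,b121)]) := cl119.ops (os := [Op.inv 2,Op.rel 2 [] 3 [] [([],3)],Op.inv 2]) (by decide +kernel) (by decide +kernel)
theorem sat124 : Sat io C61 (finG m60ok) := m60s0.fin (k := 5) (by decide +kernel)
theorem bd123 : Bound.{u} io C61 [0,1,2,3] 168 := cl122.bound (by decide +kernel) sat124 (bd57.of_imp imp63)
noncomputable def r5 : List ℕ := [4,4]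
noncomputable def r6 : List ℕ := [4,2,4,2,4,2]
noncomputable def r7 : List ℕ := [5,1,3,0,2,1,4,0,3,1,3,0]
noncomputable def r8 : List ℕ := [5,3,0,0,0,2,1,1,4,0,0,3,1,1,1,3]
noncomputable def r9 : List ℕ := [5,1,3,5,1,3,0,4,2,0,4,0,0,0,3,1,1,1]
noncomputable def r10 : List ℕ := [5,1,3,5,1,1,2,4,2,0,4,0,3,1,3,0,0,0,3]
noncomputable def r11 : List ℕ := [5,0,3,5,1,2,0,4,2,1,4,0,0,0,3,0,3,1,1]
noncomputable def r12 : List ℕ := [5,0,3,5,0,2,1,4,2,1,4,1,1,1,3,0,0,0]
noncomputable def m125n0 : Net := (Net.cons (nat_lit 64) (nat_lit 0xd578fd04b129c25c)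
  (Net.cons (nat_lit 32) (nat_lit 0xe92ad6e600000000440aff04)
  (Net.cons (nat_lit 16) (nat_lit 0x858f0000350e0000a8fc000080c8)
  (Net.cons (nat_lit 8) (nat_lit 0x29006800c800420030003300c800d8)
  (Net.cons (nat_lit 4) (nat_lit 0x106040f0403090e0c00010b0f00060a)
  (Net.cons (nat_lit 2) (nat_lit 0x11320113323210232001102021223022)
  (Net.cons (nat_lit 1) (nat_lit 0x44504145051400041444041410141004)
  (Net.cons (nat_lit 2) (nat_lit 0x20002200020002000200000002)
  (Net.cons (nat_lit 4) (nat_lit 0x20c020400000804000004040a0e08)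
  (Net.cons (nat_lit 8) (nat_lit 0x4c006000bc00d80018004000780090)
  (Net.cons (nat_lit 16) (nat_lit 0x2d56000023e40000ec7800000090)
  (Net.cons (nat_lit 32) (nat_lit 0x298d6e86000000006ef38470)
  (Net.cons (nat_lit 64) (nat_lit 0xd5c0916431173b42)
  Net.nil)))))))))))))
noncomputable def m125n1 : Net := (Net.cons (nat_lit 64) (nat_lit 0xd5c0956031172f42)
  (Net.cons (nat_lit 32) (nat_lit 0x217cbd9200000000814c3f8e)
  (Net.cons (nat_lit 16) (nat_lit 0xe6d000000054000067f000001d10)
  (Net.cons (nat_lit 8) (nat_lit 0x2c00fd00ab0064002000b100b800fe)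
  (Net.cons (nat_lit 4) (nat_lit 0xc0d0d0c0605060d0c06030603000c00)
  (Net.cons (nat_lit 2) (nat_lit 0x30012123300123112210002300111200)
  (Net.cons (nat_lit 1) (nat_lit 0x11011045544440010450014041014414)
  (Net.cons (nat_lit 2) (nat_lit 0x22000020020020000022002020020)
  (Net.cons (nat_lit 4) (nat_lit 0x80c000004080802080e080402000800)
  (Net.cons (nat_lit 8) (nat_lit 0x8c00f0007400e80060008800d0008c)
  (Net.cons (nat_lit 16) (nat_lit 0xa3c00000018c0000ed880000494c)
  (Net.cons (nat_lit 32) (nat_lit 0xe436cb2e00000000abb590fa)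
  (Net.cons (nat_lit 64) (nat_lit 0xd538ed04b529c24c)
  Net.nil)))))))))))))
noncomputable def m125n2 : Net := (Net.cons (nat_lit 64) (nat_lit 0x311e7cf204369288)
  (Net.cons (nat_lit 32) (nat_lit 0xad45b0500000000044831888)
  (Net.cons (nat_lit 16) (nat_lit 0xc8e80000808200002ba000009180)
  (Net.cons (nat_lit 8) (nat_lit 0x9400b400640078005a004000c100a0)
  (Net.cons (nat_lit 4) (nat_lit 0x506080f0d0204030704000a06060d06)
  (Net.cons (nat_lit 2) (nat_lit 0x132012222203001120003221033302)
  (Net.cons (nat_lit 1) (nat_lit 0x50455401100110045005044414110)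
  (Net.cons (nat_lit 2) (nat_lit 0x202200000020000020020000)
  (Net.cons (nat_lit 4) (nat_lit 0x608000c0004000004000a06040202)
  (Net.cons (nat_lit 8) (nat_lit 0x1400b400240078005a0040008800a0)
  (Net.cons (nat_lit 16) (nat_lit 0xc8e80000808200002ba000009180)
  (Net.cons (nat_lit 32) (nat_lit 0xad45b0400000000044830808)
  (Net.cons (nat_lit 64) (nat_lit 0x311e7cf204369288)
  Net.nil)))))))))))))
noncomputable def m125n4 : Net := (Net.cons (nat_lit 64) (nat_lit 0x8c348aab782c0408)
  (Net.cons (nat_lit 32) (nat_lit 0x559948a000000000d63d060)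
  (Net.cons (nat_lit 16) (nat_lit 0x91c00007440000007020000e310)
  (Net.cons (nat_lit 8) (nat_lit 0x8400000078002000a6003000e00010)
  (Net.cons (nat_lit 4) (nat_lit 0xb0e04020c06020c08000c08040808)
  (Net.cons (nat_lit 2) (nat_lit 0x1120230000232202101321302022020)
  (Net.cons (nat_lit 1) (nat_lit 0x555101505401154040040511404005)
  (Net.cons (nat_lit 2) (nat_lit 0x200000202202000020002002000)
  (Net.cons (nat_lit 4) (nat_lit 0x40e04020c06020408000c08040008)
  (Net.cons (nat_lit 8) (nat_lit 0x8c00080078002000a4003000a00000)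
  (Net.cons (nat_lit 16) (nat_lit 0x51400007440000007020000e110)
  (Net.cons (nat_lit 32) (nat_lit 0x559948a000000000c63d060)
  (Net.cons (nat_lit 64) (nat_lit 0x8c348aab782c0408)
  Net.nil)))))))))))))
noncomputable def m125l : List Net := [m125n0,m125n1,m125n2,m125n2,m125n4,m125n4]
noncomputable abbrev m125 : ℕ → Net := lk Net.nil m125l
theorem m125ok : NetsOk 120 m125 vT := netsOk_of (by decide +kernel)
theorem m125s0 : Sat io [] (finG m125ok) := fin_sat_nil _ (k := 7) (n := 8) (by decide +kernel)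
noncomputable def C126 : List (List ℕ) := [r0,r1,r2,r3,r4,r5,r6,r7,r8,r9,r10,r11,r12]
theorem cl127 : Clo.{u} io C126 [0,1,2,3] 120 m125 1 (mkB []) := Clo.start (by decide +kernel)
theorem imp128 : Imp.{u} io C126 C61 := Imp.of_chk (pfs := [[([],1)],[([],3)],[([],5)],[([],7)],[([],9)]]) (by decide +kernel)
theorem der130 : Der 8 (finX 8) (cl (finG m59ok) [[1,3,0,2,1],[3,0,0,0,2,1,1]]) (fun _ => Net.nil) := Der.zero (finModel m59ok).inj
noncomputable def x131 : Net := (Net.cons (nat_lit 4) (nat_lit 1)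
  (Net.cons (nat_lit 2) (nat_lit 16)
  (Net.cons (nat_lit 1) (nat_lit 4)
  (Net.cons (nat_lit 2) (nat_lit 2)
  Net.nil))))
noncomputable def ns132 : ℕ → Net := upd (fun _ => Net.nil) 0 x131
theorem der133 : Der 8 (finX 8) (cl (finG m59ok) [[1,3,0,2,1],[3,0,0,0,2,1,1]]) ns132 := der130.add (wp_mem_cl (w := [1,3,0,2,1]) (by decide)) ((finModel m59ok).toIsPre.rep_word (k := 3) (w := [1,3,0,2,1]) (n := x131) (by decide +kernel)) 0
noncomputable def x134 : Net := (Net.cons (nat_lit 4) (nat_lit 3)
  (Net.cons (nat_lit 2) (nat_lit 17)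
  (Net.cons (nat_lit 1) (nat_lit 20)
  (Net.cons (nat_lit 2) (nat_lit 34)
  (Net.cons (nat_lit 4) (nat_lit 12)
  Net.nil)))))
noncomputable def ns135 : ℕ → Net := upd ns132 1 x134
theorem der136 : Der 8 (finX 8) (cl (finG m59ok) [[1,3,0,2,1],[3,0,0,0,2,1,1]]) ns135 := der133.add (wp_mem_cl (w := [3,0,0,0,2,1,1]) (by decide)) ((finModel m59ok).toIsPre.rep_word (k := 3) (w := [3,0,0,0,2,1,1]) (n := x134) (by decide +kernel)) 1
noncomputable def L137 : Lev := Lev.cons 0 6 [[0],[1]] Lev.nil
theorem lc138 : Lev.chk 8 0 ns135 vT 100 L137 = true := by decide +kernel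
theorem lb139 : 6 ≤ Nat.card (cl (finG m59ok) [[1,3,0,2,1],[3,0,0,0,2,1,1]]) := le_of_eq_of_le (by decide +kernel) (der136.card_ge lc138)
theorem sat140 : Sat io C61 (finG m59ok) := m59s0.fin (k := 3) (by decide +kernel)
theorem ix129 : Idx.{u} io C126 [0,1,2,3] [[1,3,0,2,1],[3,0,0,0,2,1,1]] 28 := (Idx.of bd123 sat140 (by decide +kernel) lb139 (by decide +kernel)).of_imp imp128
noncomputable def lk141 : List (List ℕ × List ℕ × Pf) := [([1,3,0,2,1],[1,2,0,2,1],[([4],15)]),([3,0,0,0,2,1,1],[2,0,0,0,2,1,1],[([4],17)])]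
noncomputable def O142 : ℕ := (nat_lit 0xc0000c4030b61617b7e)
noncomputable def M143 : ℕ := (nat_lit 0xc0000c4030b61617b7f)
noncomputable def b144 : ℕ := (nat_lit 1)
theorem cl145 : Clo.{u} io C126 [0,1,2,3] 120 m125 M143 (mkB [(4,b144)]) := cl127.new (k := 4) (b := 4) (q := 0) (p := 1) (r := 200) (n := 28) (O := O142) (by decide +kernel) (lks := lk141) (by decide +kernel) (gens_of_lall2 (m := [[0],[1]]) (by decide +kernel)) ix129 (by decide +kernel)
noncomputable def b146 : ℕ := (nat_lit 0x4000000000240202013)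
noncomputable def b147 : ℕ := (nat_lit 0x4000000000240202013)
theorem cl148 : Clo.{u} io C126 [0,1,2,3] 120 m125 M143 (mkB [(4,b146),(5,b147)]) := cl145.ops (os := [Op.inv 4,Op.rel 4 [] 5 [] [([],11)],Op.inv 4,Op.rel 4 [2] 5 [3,5,3] [([5],13)],Op.ext 4 2 [([1,3,0,2,1],[1,2,0,2,1],[([4],15)]),([0,3,1,2,0],[0,3,1,3,0],[([4,0,3,1,3,0],14)]),([3,0,0,0,2,1,1],[2,0,0,0,2,1,1],[([4],17)]),([0,0,3,1,1,1,2],[0,0,3,1,1,1,3],[([4,0,0,3,1,1,1,3],16)])],Op.inv 4]) (by decide +kernel) (by decide +kernel)
theorem der150 : Der 8 (finX 8) (cl (finG m59ok) [[1,3,0],[1,1,2],[3,0,0,0,2,1,1,1,3,0,2,1]]) (fun _ => Net.nil) := Der.zero (finModel m59ok).inj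
noncomputable def x151 : Net := (Net.cons (nat_lit 4) (nat_lit 3)
  (Net.cons (nat_lit 2) (nat_lit 18)
  (Net.cons (nat_lit 1) (nat_lit 85)
  (Net.cons (nat_lit 4) (nat_lit 12)
  Net.nil))))
noncomputable def ns152 : ℕ → Net := upd (fun _ => Net.nil) 0 x151
theorem der153 : Der 8 (finX 8) (cl (finG m59ok) [[1,3,0],[1,1,2],[3,0,0,0,2,1,1,1,3,0,2,1]]) ns152 := der150.add (wp_mem_cl (w := [1,3,0]) (by decide)) ((finModel m59ok).toIsPre.rep_word (k := 3) (w := [1,3,0]) (n := x151) (by decide +kernel)) 0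
noncomputable def x154 : Net := (Net.cons (nat_lit 4) (nat_lit 12)
  (Net.cons (nat_lit 2) (nat_lit 3)
  (Net.cons (nat_lit 1) (nat_lit 20)
  (Net.cons (nat_lit 2) (nat_lit 34)
  (Net.cons (nat_lit 4) (nat_lit 12)
  Net.nil)))))
noncomputable def ns155 : ℕ → Net := upd ns152 1 x154
theorem der156 : Der 8 (finX 8) (cl (finG m59ok) [[1,3,0],[1,1,2],[3,0,0,0,2,1,1,1,3,0,2,1]]) ns155 := der153.add (wp_mem_cl (w := [1,1,2]) (by decide)) ((finModel m59ok).toIsPre.rep_word (k := 3) (w := [1,1,2]) (n := x154) (by decide +kernel)) 1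
noncomputable def x157 : Net := (Net.cons (nat_lit 4) (nat_lit 13)
  (Net.cons (nat_lit 2) (nat_lit 32)
  (Net.cons (nat_lit 1) (nat_lit 17)
  (Net.cons (nat_lit 2) (nat_lit 2)
  (Net.cons (nat_lit 4) (nat_lit 2)
  Net.nil)))))
noncomputable def ns158 : ℕ → Net := upd ns155 2 x157
theorem der159 : Der 8 (finX 8) (cl (finG m59ok) [[1,3,0],[1,1,2],[3,0,0,0,2,1,1,1,3,0,2,1]]) ns158 := der156.add (wp_mem_cl (w := [3,0,0,0,2,1,1,1,3,0,2,1]) (by decide)) ((finModel m59ok).toIsPre.rep_word (k := 3) (w := [3,0,0,0,2,1,1,1,3,0,2,1]) (n := x157) (by decide +kernel)) 2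
noncomputable def L160 : Lev := Lev.cons 0 3 [[1]] Lev.nil
noncomputable def L161 : Lev := Lev.cons 2 8 [[0],[2]] L160
theorem lc162 : Lev.chk 8 0 ns158 vT 100 L161 = true := by decide +kernel
theorem lb163 : 24 ≤ Nat.card (cl (finG m59ok) [[1,3,0],[1,1,2],[3,0,0,0,2,1,1,1,3,0,2,1]]) := le_of_eq_of_le (by decide +kernel) (der159.card_ge lc162)
theorem ix149 : Idx.{u} io C126 [0,1,2,3] [[1,3,0],[1,1,2],[3,0,0,0,2,1,1,1,3,0,2,1]] 7 := (Idx.of bd123 sat140 (by decide +kernel) lb163 (by decide +kernel)).of_imp imp128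
noncomputable def lk164 : List (List ℕ × List ℕ × Pf) := [([1,3,0],[2,0,4,0,0,0,2,1,1,1,5,1,3],[([4,2,0,4],19)]),([1,1,2],[2,0,4,2,1,1,1,2,0,2,1,5,1,3],[([4,2,0,4],21)]),([3,0,0,0,2,1,1],[2,0,0,0,2,1,1],[([4],17)]),([1,3,0,2,1],[1,2,0,2,1],[([4],15)])]
noncomputable def O165 : ℕ := (nat_lit 0x1000000050000000180400020000)
noncomputable def M166 : ℕ := (nat_lit 0x100000005c0000c41b0f61637b7f)
noncomputable def b167 : ℕ := (nat_lit 0x4000000000240202053)
theorem cl168 : Clo.{u} io C126 [0,1,2,3] 120 m125 M166 (mkB [(4,b167),(5,b147)]) := cl148.new (k := 4) (b := 4) (q := 6) (p := 17) (r := 200) (n := 7) (O := O165) (by decide +kernel) (lks := lk164) (by decide +kernel) (gens_of_lall2 (m := [[0],[1],[2,3]]) (by decide +kernel)) ix149 (by decide +kernel)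
noncomputable def b169 : ℕ := (nat_lit 0x14000000020640223053)
noncomputable def b170 : ℕ := (nat_lit 0x14000000020640223053)
theorem cl171 : Clo.{u} io C126 [0,1,2,3] 120 m125 M166 (mkB [(4,b169),(5,b170)]) := cl168.ops (os := [Op.ext 4 2 [([1,3,0,2,1],[1,2,0,2,1],[([4],15)]),([0,3,1,2,0],[0,3,1,3,0],[([4,0,3,1,3,0],14)]),([3,0,0,0,2,1,1],[2,0,0,0,2,1,1],[([4],17)]),([0,0,3,1,1,1,2],[0,0,3,1,1,1,3],[([4,0,0,3,1,1,1,3],16)])],Op.inv 4,Op.rel 4 [] 5 [] [([],11)],Op.inv 4]) (by decide +kernel) (by decide +kernel)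
theorem der173 : Der 8 (finX 8) (cl (finG m59ok) [[3,0,0,0,2,1,1],[0,3,1,2,0,0,3,1,1,3,0,2,1],[0,3,1,3,0,2,1]]) (fun _ => Net.nil) := Der.zero (finModel m59ok).inj
noncomputable def x174 : Net := (Net.cons (nat_lit 4) (nat_lit 3)
  (Net.cons (nat_lit 2) (nat_lit 17)
  (Net.cons (nat_lit 1) (nat_lit 20)
  (Net.cons (nat_lit 2) (nat_lit 34)
  (Net.cons (nat_lit 4) (nat_lit 12)
  Net.nil)))))
noncomputable def ns175 : ℕ → Net := upd (fun _ => Net.nil) 0 x174
theorem der176 : Der 8 (finX 8) (cl (finG m59ok) [[3,0,0,0,2,1,1],[0,3,1,2,0,0,3,1,1,3,0,2,1],[0,3,1,3,0,2,1]]) ns175 := der173.add (wp_mem_cl (w := [3,0,0,0,2,1,1]) (by decide)) ((finModel m59ok).toIsPre.rep_word (k := 3) (w := [3,0,0,0,2,1,1]) (n := x174) (by decide +kernel)) 0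
noncomputable def x177 : Net := (Net.cons (nat_lit 4) (nat_lit 15)
  (Net.cons (nat_lit 2) (nat_lit 51)
  (Net.cons (nat_lit 1) (nat_lit 85)
  Net.nil)))
noncomputable def ns178 : ℕ → Net := upd ns175 1 x177
theorem der179 : Der 8 (finX 8) (cl (finG m59ok) [[3,0,0,0,2,1,1],[0,3,1,2,0,0,3,1,1,3,0,2,1],[0,3,1,3,0,2,1]]) ns178 := der176.add (wp_mem_cl (w := [0,3,1,2,0,0,3,1,1,3,0,2,1]) (by decide)) ((finModel m59ok).toIsPre.rep_word (k := 3) (w := [0,3,1,2,0,0,3,1,1,3,0,2,1]) (n := x177) (by decide +kernel)) 1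
noncomputable def x180 : Net := (Net.cons (nat_lit 4) (nat_lit 5)
  (Net.cons (nat_lit 2) (nat_lit 2)
  (Net.cons (nat_lit 1) (nat_lit 17)
  (Net.cons (nat_lit 2) (nat_lit 32)
  (Net.cons (nat_lit 4) (nat_lit 10)
  Net.nil)))))
noncomputable def ns181 : ℕ → Net := upd ns178 2 x180
theorem der182 : Der 8 (finX 8) (cl (finG m59ok) [[3,0,0,0,2,1,1],[0,3,1,2,0,0,3,1,1,3,0,2,1],[0,3,1,3,0,2,1]]) ns181 := der179.add (wp_mem_cl (w := [0,3,1,3,0,2,1]) (by decide)) ((finModel m59ok).toIsPre.rep_word (k := 3) (w := [0,3,1,3,0,2,1]) (n := x180) (by decide +kernel)) 2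
noncomputable def L183 : Lev := Lev.cons 0 8 [[0],[1],[2]] Lev.nil
theorem lc184 : Lev.chk 8 0 ns181 vT 100 L183 = true := by decide +kernel
theorem lb185 : 8 ≤ Nat.card (cl (finG m59ok) [[3,0,0,0,2,1,1],[0,3,1,2,0,0,3,1,1,3,0,2,1],[0,3,1,3,0,2,1]]) := le_of_eq_of_le (by decide +kernel) (der182.card_ge lc184)
theorem ix172 : Idx.{u} io C126 [0,1,2,3] [[3,0,0,0,2,1,1],[0,3,1,2,0,0,3,1,1,3,0,2,1],[0,3,1,3,0,2,1]] 21 := (Idx.of bd123 sat140 (by decide +kernel) lb185 (by decide +kernel)).of_imp imp128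
noncomputable def lk186 : List (List ℕ × List ℕ × Pf) := [([3,0,0,0,2,1,1],[2,0,0,0,2,1,1],[([4],17)]),([0,3,1,2,0],[0,3,1,3,0],[([4,0,3,1,3,0],14)]),([0,3,1],[2,1,4,1,1,1,3,0,0,0,5,0,3],[([4,2,1,4,1,1,1,3,0,0,0],24)]),([1,3,0,2,1],[1,2,0,2,1],[([4],15)]),([1,3,0],[2,1,4,0,0,0,3,0,3,1,1,5,0,3],[([4,2,1,4,0,0,0,3,0,3,1,1],22)])]
noncomputable def O187 : ℕ := (nat_lit 0x140f2005800360003000e000808000)
noncomputable def M188 : ℕ := (nat_lit 0x141f2005805f6000f41bef61e3fb7f)
noncomputable def b189 : ℕ := (nat_lit 0x14000000020640223073)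
theorem cl190 : Clo.{u} io C126 [0,1,2,3] 120 m125 M188 (mkB [(4,b189),(5,b170)]) := cl171.new (k := 4) (b := 4) (q := 5) (p := 15) (r := 200) (n := 21) (O := O187) (by decide +kernel) (lks := lk186) (by decide +kernel) (gens_of_lall2 (m := [[0],[1,2,3],[1,4,3]]) (by decide +kernel)) ix172 (by decide +kernel)
noncomputable def b191 : ℕ := (nat_lit 0x100c0000801d200000024640a2b173)
noncomputable def b192 : ℕ := (nat_lit 0x100c0000801d200000024640a2b173)
theorem cl193 : Clo.{u} io C126 [0,1,2,3] 120 m125 M188 (mkB [(4,b191),(5,b192)]) := cl190.ops (os := [Op.ext 4 2 [([1,3,0,2,1],[1,2,0,2,1],[([4],15)]),([0,3,1,2,0],[0,3,1,3,0],[([4,0,3,1,3,0],14)]),([3,0,0,0,2,1,1],[2,0,0,0,2,1,1],[([4],17)]),([0,0,3,1,1,1,2],[0,0,3,1,1,1,3],[([4,0,0,3,1,1,1,3],16)])],Op.inv 4,Op.rel 4 [] 5 [] [([],11)],Op.inv 4,Op.rel 4 [2] 5 [3,5,3] [([5],13)],Op.ext 4 2 [([1,3,0,2,1],[1,2,0,2,1],[([4],15)]),([0,3,1,2,0],[0,3,1,3,0],[([4,0,3,1,3,0],14)]),([3,0,0,0,2,1,1],[2,0,0,0,2,1,1],[([4],17)]),([0,0,3,1,1,1,2],[0,0,3,1,1,1,3],[([4,0,0,3,1,1,1,3],16)])],Op.inv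 4]) (by decide +kernel) (by decide +kernel)
theorem der195 : Der 8 (finX 8) (cl (finG m59ok) [[0,0,3,1,1,1,2,2,0],[1,3,0,2,0,3,1,3,0,0,0,2,1,3,1,2,0,0,2,1,3,1,2,0]]) (fun _ => Net.nil) := Der.zero (finModel m59ok).inj
noncomputable def x196 : Net := (Net.cons (nat_lit 4) (nat_lit 11)
  (Net.cons (nat_lit 2) (nat_lit 2)
  (Net.cons (nat_lit 1) (nat_lit 68)
  (Net.cons (nat_lit 2) (nat_lit 32)
  (Net.cons (nat_lit 4) (nat_lit 4)
  Net.nil)))))
noncomputable def ns197 : ℕ → Net := upd (fun _ => Net.nil) 0 x196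
theorem der198 : Der 8 (finX 8) (cl (finG m59ok) [[0,0,3,1,1,1,2,2,0],[1,3,0,2,0,3,1,3,0,0,0,2,1,3,1,2,0,0,2,1,3,1,2,0]]) ns197 := der195.add (wp_mem_cl (w := [0,0,3,1,1,1,2,2,0]) (by decide)) ((finModel m59ok).toIsPre.rep_word (k := 3) (w := [0,0,3,1,1,1,2,2,0]) (n := x196) (by decide +kernel)) 0
noncomputable def x199 : Net := (Net.cons (nat_lit 4) (nat_lit 7)
  (Net.cons (nat_lit 2) (nat_lit 2)
  (Net.cons (nat_lit 1) (nat_lit 68)
  (Net.cons (nat_lit 2) (nat_lit 32)
  (Net.cons (nat_lit 4) (nat_lit 8)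
  Net.nil)))))
noncomputable def ns200 : ℕ → Net := upd ns197 1 x199
theorem der201 : Der 8 (finX 8) (cl (finG m59ok) [[0,0,3,1,1,1,2,2,0],[1,3,0,2,0,3,1,3,0,0,0,2,1,3,1,2,0,0,2,1,3,1,2,0]]) ns200 := der198.add (wp_mem_cl (w := [1,3,0,2,0,3,1,3,0,0,0,2,1,3,1,2,0,0,2,1,3,1,2,0]) (by decide)) ((finModel m59ok).toIsPre.rep_word (k := 3) (w := [1,3,0,2,0,3,1,3,0,0,0,2,1,3,1,2,0,0,2,1,3,1,2,0]) (n := x199) (by decide +kernel)) 1
noncomputable def L202 : Lev := Lev.cons 1 6 [[0],[1]] Lev.nil
theorem lc203 : Lev.chk 8 0 ns200 vT 100 L202 = true := by decide +kernel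
theorem lb204 : 6 ≤ Nat.card (cl (finG m59ok) [[0,0,3,1,1,1,2,2,0],[1,3,0,2,0,3,1,3,0,0,0,2,1,3,1,2,0,0,2,1,3,1,2,0]]) := le_of_eq_of_le (by decide +kernel) (der201.card_ge lc203)
theorem ix194 : Idx.{u} io C126 [0,1,2,3] [[0,0,3,1,1,1,2,2,0],[1,3,0,2,0,3,1,3,0,0,0,2,1,3,1,2,0,0,2,1,3,1,2,0]] 28 := (Idx.of bd123 sat140 (by decide +kernel) lb204 (by decide +kernel)).of_imp imp128
noncomputable def lk205 : List (List ℕ × List ℕ × Pf) := [([0,0,3,1,1,1,2],[0,0,3,1,1,1,3],[([4,0,0,3,1,1,1,3],16)]),([0,2,1],[2,1,4,1,1,1,2,0,0,0,5,0,3],[([4,2,1,4],25)]),([0,3,1,2,0],[0,3,1,3,0],[([4,0,3,1,3,0],14)]),([1,3,0,2,1],[1,2,0,2,1],[([4],15)]),([3,0,0],[2,0,4,0,3,1,3,0,0,0,3,5,1,3],[([4,2,0,4,0,3,1,3,0,0,0,3],20)]),([3,0,0,0,2,1,1],[2,0,0,0,2,1,1],[([4],17)]),([1,1,2],[2,0,4,2,1,1,1,2,0,2,1,5,1,3],[([4,2,0,4],21)])]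
noncomputable def O206 : ℕ := (nat_lit 0x60da0007a09d0003e410001c0080)
noncomputable def M207 : ℕ := (nat_lit 0x147ffa0587fffd00f7ffff61fffbff)
noncomputable def b208 : ℕ := (nat_lit 0x100c0000801d200000024640a2b177)
theorem cl209 : Clo.{u} io C126 [0,1,2,3] 120 m125 M207 (mkB [(4,b208),(5,b192)]) := cl193.new (k := 4) (b := 4) (q := 2) (p := 7) (r := 200) (n := 28) (O := O206) (by decide +kernel) (lks := lk205) (by decide +kernel) (gens_of_lall2 (m := [[0,1,2],[3,0,4,5,2,6,5,2]]) (by decide +kernel)) ix194 (by decide +kernel)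
noncomputable def b210 : ℕ := (nat_lit 0x107e6a0182ffbd0041fefe60bbf1f7)
noncomputable def b211 : ℕ := (nat_lit 0x107e6a0182ffbd0041fefe60bbf1f7)
theorem cl212 : Clo.{u} io C126 [0,1,2,3] 120 m125 M207 (mkB [(4,b210),(5,b211)]) := cl209.ops (os := [Op.ext 4 2 [([1,3,0,2,1],[1,2,0,2,1],[([4],15)]),([0,3,1,2,0],[0,3,1,3,0],[([4,0,3,1,3,0],14)]),([3,0,0,0,2,1,1],[2,0,0,0,2,1,1],[([4],17)]),([0,0,3,1,1,1,2],[0,0,3,1,1,1,3],[([4,0,0,3,1,1,1,3],16)])],Op.inv 4,Op.rel 4 [] 5 [] [([],11)],Op.inv 4,Op.rel 4 [2] 5 [3,5,3] [([5],13)],Op.ext 4 2 [([1,3,0,2,1],[1,2,0,2,1],[([4],15)]),([0,3,1,2,0],[0,3,1,3,0],[([4,0,3,1,3,0],14)]),([3,0,0,0,2,1,1],[2,0,0,0,2,1,1],[([4],17)]),([0,0,3,1,1,1,2],[0,0,3,1,1,1,3],[([4,0,0,3,1,1,1,3],16)])],Op.inv 4,Op.rel 5 [0,0,0,3,1,1,1] 5 [1,3,5,1,2,0,4,2,0] [([5,1,3,5,1,2,0,4,2,0,4],19)],Op.ext 5 2 [([0,3,1,3,0],[0,3,1,2,0],[([5,0,3,1,2,0,4],15)]),([1,2,0,2,1],[1,3,0,2,1],[([],14)]),([0,0,3,1,1,1,3],[0,0,3,1,1,1,2],[([5,0,0,3,1,1,1,2,4],17)]),([2,0,0,0,2,1,1],[3,0,0,0,2,1,1],[([],16)])],Op.inv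 5]) (by decide +kernel) (by decide +kernel)
theorem der214 : Der 8 (finX 8) (cl (finG m59ok) [[1,3,0],[0,2,1],[1,3,0,2,1,3,0,3,0,2,1]]) (fun _ => Net.nil) := Der.zero (finModel m59ok).inj
noncomputable def x215 : Net := (Net.cons (nat_lit 4) (nat_lit 3)
  (Net.cons (nat_lit 2) (nat_lit 18)
  (Net.cons (nat_lit 1) (nat_lit 85)
  (Net.cons (nat_lit 4) (nat_lit 12)
  Net.nil))))
noncomputable def ns216 : ℕ → Net := upd (fun _ => Net.nil) 0 x215
theorem der217 : Der 8 (finX 8) (cl (finG m59ok) [[1,3,0],[0,2,1],[1,3,0,2,1,3,0,3,0,2,1]]) ns216 := der214.add (wp_mem_cl (w := [1,3,0]) (by decide)) ((finModel m59ok).toIsPre.rep_word (k := 3) (w := [1,3,0]) (n := x215) (by decide +kernel)) 0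
noncomputable def x218 : Net := (Net.cons (nat_lit 4) (nat_lit 2)
  (Net.cons (nat_lit 2) (nat_lit 51)
  (Net.cons (nat_lit 1) (nat_lit 80)
  (Net.cons (nat_lit 4) (nat_lit 2)
  Net.nil))))
noncomputable def ns219 : ℕ → Net := upd ns216 1 x218
theorem der220 : Der 8 (finX 8) (cl (finG m59ok) [[1,3,0],[0,2,1],[1,3,0,2,1,3,0,3,0,2,1]]) ns219 := der217.add (wp_mem_cl (w := [0,2,1]) (by decide)) ((finModel m59ok).toIsPre.rep_word (k := 3) (w := [0,2,1]) (n := x218) (by decide +kernel)) 1
noncomputable def x221 : Net := (Net.cons (nat_lit 2) (nat_lit 32)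
  (Net.cons (nat_lit 1) (nat_lit 65)
  (Net.cons (nat_lit 2) (nat_lit 34)
  (Net.cons (nat_lit 4) (nat_lit 4)
  Net.nil))))
noncomputable def ns222 : ℕ → Net := upd ns219 2 x221
theorem der223 : Der 8 (finX 8) (cl (finG m59ok) [[1,3,0],[0,2,1],[1,3,0,2,1,3,0,3,0,2,1]]) ns222 := der220.add (wp_mem_cl (w := [1,3,0,2,1,3,0,3,0,2,1]) (by decide)) ((finModel m59ok).toIsPre.rep_word (k := 3) (w := [1,3,0,2,1,3,0,3,0,2,1]) (n := x221) (by decide +kernel)) 2
noncomputable def L224 : Lev := Lev.cons 0 3 [[2]] Lev.nil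
noncomputable def L225 : Lev := Lev.cons 7 8 [[0],[1]] L224
theorem lc226 : Lev.chk 8 0 ns222 vT 100 L225 = true := by decide +kernel
theorem lb227 : 24 ≤ Nat.card (cl (finG m59ok) [[1,3,0],[0,2,1],[1,3,0,2,1,3,0,3,0,2,1]]) := le_of_eq_of_le (by decide +kernel) (der223.card_ge lc226)
theorem ix213 : Idx.{u} io C126 [0,1,2,3] [[1,3,0],[0,2,1],[1,3,0,2,1,3,0,3,0,2,1]] 7 := (Idx.of bd123 sat140 (by decide +kernel) lb227 (by decide +kernel)).of_imp imp128
noncomputable def lk228 : List (List ℕ × List ℕ × Pf) := [([1,3,0],[2,0,4,0,0,0,2,1,1,1,5,1,3],[([4,2,0,4],19)]),([0,2,1],[2,1,4,1,1,1,2,0,0,0,5,0,3],[([4,2,1,4],25)]),([1,3,0,2,1],[1,2,0,2,1],[([4],15)]),([3,0,0],[2,0,4,0,3,1,3,0,0,0,3,5,1,3],[([4,2,0,4,0,3,1,3,0,0,0,3],20)])]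
noncomputable def O229 : ℕ := (nat_lit 0x200000280000000600000082000000)
noncomputable def M230 : ℕ := (nat_lit 0x347ffa2d87fffd06f7ffffe3fffbff)
noncomputable def b231 : ℕ := (nat_lit 0x107e6a0182ffbd0041fefe60bbf3f7)
theorem cl232 : Clo.{u} io C126 [0,1,2,3] 120 m125 M230 (mkB [(4,b231),(5,b211)]) := cl212.new (k := 4) (b := 4) (q := 9) (p := 25) (r := 200) (n := 7) (O := O229) (by decide +kernel) (lks := lk228) (by decide +kernel) (gens_of_lall2 (m := [[0],[1],[2,3,2]]) (by decide +kernel)) ix213 (by decide +kernel)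
noncomputable def b233 : ℕ := (nat_lit 0x107e6a0982ffbd00c1fefee2bbfbf7)
noncomputable def b234 : ℕ := (nat_lit 0x107e6a0982ffbd00c1fefee2bbfbf7)
theorem cl235 : Clo.{u} io C126 [0,1,2,3] 120 m125 M230 (mkB [(4,b233),(5,b234)]) := cl232.ops (os := [Op.ext 4 2 [([1,3,0,2,1],[1,2,0,2,1],[([4],15)]),([0,3,1,2,0],[0,3,1,3,0],[([4,0,3,1,3,0],14)]),([3,0,0,0,2,1,1],[2,0,0,0,2,1,1],[([4],17)]),([0,0,3,1,1,1,2],[0,0,3,1,1,1,3],[([4,0,0,3,1,1,1,3],16)])],Op.inv 4,Op.rel 4 [] 5 [] [([],11)],Op.inv 4]) (by decide +kernel) (by decide +kernel)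
theorem der237 : Der 8 (finX 8) (cl (finG m59ok) [[0,3,1,2,1,2,1,3,3,0,2,1],[1,3,0,2,1,1,1,2,0,3,1,3,0,2,1,3,0,0,0,3,1,2,0]]) (fun _ => Net.nil) := Der.zero (finModel m59ok).inj
noncomputable def x238 : Net := (Net.cons (nat_lit 4) (nat_lit 15)
  (Net.cons (nat_lit 2) (nat_lit 51)
  Net.nil))
noncomputable def ns239 : ℕ → Net := upd (fun _ => Net.nil) 0 x238
theorem der240 : Der 8 (finX 8) (cl (finG m59ok) [[0,3,1,2,1,2,1,3,3,0,2,1],[1,3,0,2,1,1,1,2,0,3,1,3,0,2,1,3,0,0,0,3,1,2,0]]) ns239 := der237.add (wp_mem_cl (w := [0,3,1,2,1,2,1,3,3,0,2,1]) (by decide)) ((finModel m59ok).toIsPre.rep_word (k := 3) (w := [0,3,1,2,1,2,1,3,3,0,2,1]) (n := x238) (by decide +kernel)) 0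
noncomputable def x241 : Net := (Net.cons (nat_lit 4) (nat_lit 7)
  (Net.cons (nat_lit 2) (nat_lit 49)
  (Net.cons (nat_lit 1) (nat_lit 20)
  (Net.cons (nat_lit 2) (nat_lit 32)
  (Net.cons (nat_lit 4) (nat_lit 8)
  Net.nil)))))
noncomputable def ns242 : ℕ → Net := upd ns239 1 x241
theorem der243 : Der 8 (finX 8) (cl (finG m59ok) [[0,3,1,2,1,2,1,3,3,0,2,1],[1,3,0,2,1,1,1,2,0,3,1,3,0,2,1,3,0,0,0,3,1,2,0]]) ns242 := der240.add (wp_mem_cl (w := [1,3,0,2,1,1,1,2,0,3,1,3,0,2,1,3,0,0,0,3,1,2,0]) (by decide)) ((finModel m59ok).toIsPre.rep_word (k := 3) (w := [1,3,0,2,1,1,1,2,0,3,1,3,0,2,1,3,0,0,0,3,1,2,0]) (n := x241) (by decide +kernel)) 1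
noncomputable def L244 : Lev := Lev.cons 1 6 [[0],[1]] Lev.nil
theorem lc245 : Lev.chk 8 0 ns242 vT 100 L244 = true := by decide +kernel
theorem lb246 : 6 ≤ Nat.card (cl (finG m59ok) [[0,3,1,2,1,2,1,3,3,0,2,1],[1,3,0,2,1,1,1,2,0,3,1,3,0,2,1,3,0,0,0,3,1,2,0]]) := le_of_eq_of_le (by decide +kernel) (der243.card_ge lc245)
theorem ix236 : Idx.{u} io C126 [0,1,2,3] [[0,3,1,2,1,2,1,3,3,0,2,1],[1,3,0,2,1,1,1,2,0,3,1,3,0,2,1,3,0,0,0,3,1,2,0]] 28 := (Idx.of bd123 sat140 (by decide +kernel) lb246 (by decide +kernel)).of_imp imp128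
noncomputable def lk247 : List (List ℕ × List ℕ × Pf) := [([0,3,1,2,0],[0,3,1,3,0],[([4,0,3,1,3,0],14)]),([1,1,2],[2,0,4,2,1,1,1,2,0,2,1,5,1,3],[([4,2,0,4],21)]),([1,3,0],[2,0,4,0,0,0,2,1,1,1,5,1,3],[([4,2,0,4],19)]),([1,3,0,2,1],[1,2,0,2,1],[([4],15)]),([3,0,0],[2,0,4,0,3,1,3,0,0,0,3,5,1,3],[([4,2,0,4,0,3,1,3,0,0,0,3],20)])]
noncomputable def O248 : ℕ := (nat_lit 0xcb8005d2780002f90800001c000400)
noncomputable def M249 : ℕ := (nat_lit 0xffffffffffffffffffffffffffffff)
noncomputable def b250 : ℕ := (nat_lit 0x107e6a0982ffbd00c1fefee2bbfbff)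
theorem cl251 : Clo.{u} io C126 [0,1,2,3] 120 m125 M249 (mkB [(4,b250),(5,b234)]) := cl235.new (k := 4) (b := 4) (q := 3) (p := 10) (r := 200) (n := 28) (O := O248) (by decide +kernel) (lks := lk247) (by decide +kernel) (gens_of_lall2 (m := [[0,1,2,3],[3,1,0,2,3,4,0]]) (by decide +kernel)) ix236 (by decide +kernel)
noncomputable def b252 : ℕ := (nat_lit 0xffffffffffffffffffffffffffffff)
noncomputable def b253 : ℕ := (nat_lit 0xffffffffffffffffffffffffffffff)
theorem cl254 : Clo.{u} io C126 [0,1,2,3] 120 m125 M249 (mkB [(4,b252),(5,b253)]) := cl251.ops (os := [Op.ext 4 2 [([1,3,0,2,1],[1,2,0,2,1],[([4],15)]),([0,3,1,2,0],[0,3,1,3,0],[([4,0,3,1,3,0],14)]),([3,0,0,0,2,1,1],[2,0,0,0,2,1,1],[([4],17)]),([0,0,3,1,1,1,2],[0,0,3,1,1,1,3],[([4,0,0,3,1,1,1,3],16)])],Op.inv 4,Op.rel 4 [] 5 [] [([],11)],Op.inv 4,Op.rel 4 [2] 5 [3,5,3] [([5],13)],Op.ext 4 2 [([1,3,0,2,1],[1,2,0,2,1],[([4],15)]),([0,3,1,2,0],[0,3,1,3,0],[([4,0,3,1,3,0],14)]),([3,0,0,0,2,1,1],[2,0,0,0,2,1,1],[([4],17)]),([0,0,3,1,1,1,2],[0,0,3,1,1,1,3],[([4,0,0,3,1,1,1,3],16)])],Op.inv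 4,Op.rel 4 [2] 5 [3,5,3] [([5],13)],Op.ext 4 2 [([1,3,0,2,1],[1,2,0,2,1],[([4],15)]),([0,3,1,2,0],[0,3,1,3,0],[([4,0,3,1,3,0],14)]),([3,0,0,0,2,1,1],[2,0,0,0,2,1,1],[([4],17)]),([0,0,3,1,1,1,2],[0,0,3,1,1,1,3],[([4,0,0,3,1,1,1,3],16)])],Op.inv 4]) (by decide +kernel) (by decide +kernel)
theorem sat256 : Sat io C126 (finG m125ok) := m125s0.fin (k := 7) (by decide +kernel)
theorem bd255 : Bound.{u} io C126 [0,1,2,3,4,5] 20160 := cl254.bound (by decide +kernel) sat256 (bd123.of_imp imp128)
abbrev GA : Type := ↥(cl (finG m2ok) (lw [0,1,2,3,4,5]))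
theorem allA : ∀ l, finG m2ok l ∈ (cl (finG m2ok) (lw [0,1,2,3,4,5])) := finG_mem_all _ (by decide +kernel)
noncomputable def gA : ℕ → GA := subA _ _ allA
theorem sat257 : Sat io C126 (finG m2ok) := m2s0.fin (k := 3) (by decide +kernel)
noncomputable abbrev RA : List (List ℕ) := C126
theorem satA : Sat io RA gA := sat257.subA _
theorem topA : cl gA (lw [0,1,2,3,4,5]) = ⊤ := cl_subA _
theorem modelA : IsModel 8 (finX 8) gA m2 vT := (finModel m2ok).subA _
theorem faithA : Faith GA 8 (finX 8) := (faith_fin 8).sub _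
theorem der258 : Der 8 (finX 8) (cl (finG m2ok) (lw [0,1,2,3,4,5])) (resN m2 [0,1,2,3,4,5]) := Der.letters (finModel m2ok) _
noncomputable def x259 : Net := (Net.cons (nat_lit 4) (nat_lit 10)
  (Net.cons (nat_lit 1) (nat_lit 4)
  (Net.cons (nat_lit 2) (nat_lit 2)
  (Net.cons (nat_lit 4) (nat_lit 12)
  Net.nil))))
noncomputable def x259s : ℕ → Net := upd (resN m2 [0,1,2,3,4,5]) 8 x259
theorem der260 : Der 8 (finX 8) (cl (finG m2ok) (lw [0,1,2,3,4,5])) x259s := der258.ext (k := 3) (w := [2,1,1,4,0,2]) 8 (by decide +kernel)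
noncomputable def x261 : Net := (Net.cons (nat_lit 4) (nat_lit 14)
  (Net.cons (nat_lit 2) (nat_lit 2)
  (Net.cons (nat_lit 1) (nat_lit 68)
  (Net.cons (nat_lit 2) (nat_lit 2)
  (Net.cons (nat_lit 4) (nat_lit 8)
  Net.nil)))))
noncomputable def x261s : ℕ → Net := upd x259s 9 x261
theorem der262 : Der 8 (finX 8) (cl (finG m2ok) (lw [0,1,2,3,4,5])) x261s := der260.ext (k := 3) (w := [1,8,0]) 9 (by decide +kernel)
noncomputable def x263 : Net := (Net.cons (nat_lit 4) (nat_lit 6)
  (Net.cons (nat_lit 2) (nat_lit 2)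
  (Net.cons (nat_lit 1) (nat_lit 4)
  Net.nil)))
noncomputable def x263s : ℕ → Net := upd x261s 10 x263
theorem der264 : Der 8 (finX 8) (cl (finG m2ok) (lw [0,1,2,3,4,5])) x263s := der262.ext (k := 3) (w := [8,9,8,8]) 10 (by decide +kernel)
noncomputable def x265 : Net := (Net.cons (nat_lit 4) (nat_lit 4)
  (Net.cons (nat_lit 1) (nat_lit 4)
  Net.nil))
noncomputable def x265s : ℕ → Net := upd x263s 11 x265
theorem der266 : Der 8 (finX 8) (cl (finG m2ok) (lw [0,1,2,3,4,5])) x265s := der264.ext (k := 3) (w := [9,9,10,9]) 11 (by decide +kernel)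
noncomputable def x267 : Net := (Net.cons (nat_lit 4) (nat_lit 12)
  (Net.cons (nat_lit 1) (nat_lit 64)
  (Net.cons (nat_lit 2) (nat_lit 32)
  (Net.cons (nat_lit 4) (nat_lit 12)
  Net.nil))))
noncomputable def x267s : ℕ → Net := upd x265s 12 x267
theorem der268 : Der 8 (finX 8) (cl (finG m2ok) (lw [0,1,2,3,4,5])) x267s := der266.ext (k := 3) (w := [9,9,9,10]) 12 (by decide +kernel)
noncomputable def L269 : Lev := Lev.cons 2 3 [[12]] Lev.nil
noncomputable def L270 : Lev := Lev.cons 6 4 [[11]] L269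
noncomputable def L271 : Lev := Lev.cons 1 5 [[9],[10]] L270
noncomputable def L272 : Lev := Lev.cons 7 6 [[8]] L271
noncomputable def L273 : Lev := Lev.cons 4 7 [[0],[1]] L272
noncomputable def L274 : Lev := Lev.cons 0 8 [[2],[3],[4],[5]] L273
theorem lc275 : Lev.chk 8 0 x267s vT 100 L274 = true := by decide +kernel
theorem bdA : Bound.{u} io RA [0,1,2,3,4,5] 20160 := bd255
theorem cardA : Nat.card GA = 20160 := le_antisymm (bdA.{0}.fin sat257) (le_of_eq_of_le (by decide +kernel) (der268.card_ge lc275))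
noncomputable def baseA : List ℕ := [0,4,7,1,6,2]
theorem basedA : Based 8 (finX 8) (⊤ : Subgroup GA) baseA := (der268.based lc275 (le_of_eq_of_le cardA (by decide +kernel))).sub
noncomputable def eqvA : List ℕ → List ℕ → Bool := eqBc m2 baseA
theorem heqA : ∀ u w, eqvA u w = true → wp gA u = wp gA w := basedA.eqv modelA.toIsPre
theorem hgeA : ∀ l, llen il ≤ l → gA l = 1 := fun l h => Subtype.ext (finG_eq_one m2ok (n := 8) (by decide +kernel) l (le_of_eq_of_le (by decide +kernel) h))
theorem s0A : Sat io [] gA := satA.nil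
theorem isoA : Nonempty (GA ≃* alternatingGroup (Fin 8)) := ⟨MulEquiv.subgroupCongr
  (Equiv.Perm.eq_alternatingGroup_of_index_eq_two (index_of_card (m := 20160) (by rw [Nat.card_perm]; simp [Nat.factorial]) cardA (by norm_num)))⟩
theorem simpleA : IsSimpleGroup GA := simple_congr isoA.some.symm (alternatingGroup.isSimpleGroup (by simp))
noncomputable def m276n0 : Net := (Net.cons (nat_lit 160) (nat_lit 0xf7af8afedaff4706fb63703acdbcacc0dffaa73e)
  (Net.cons (nat_lit 80) (nat_lit 0x52919bb8be9bfb11d829000000000000000000005fe012f4058a4852a4ea)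
  (Net.cons (nat_lit 40) (nat_lit 0x71098cd81200000000009f425facd70000000000cff12709120000000000f10b40270f)
  (Net.cons (nat_lit 20) (nat_lit 0x11ea60000094c1700000ffbb3000005b3e2000004c8210000044ba600000e8d1600000032f5)
  (Net.cons (nat_lit 10) (nat_lit 0x16f000e8002240015400166000e90015a001030000d0010000081001c700347002730015e000f2)
  (Net.cons (nat_lit 5) (nat_lit 0x1802060100381107414030140541c038000300300808078000641705c1d0001406c080700101009)
  (Net.cons (nat_lit 1) (nat_lit 0x20000000200008000024004010000000400000002000000000000010840500000000000000000020)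
  (Net.cons (nat_lit 1) (nat_lit 0x5080800940101401214a0080212108029081080052002000000000a5280a00102028000000800148)
  (Net.cons (nat_lit 1) (nat_lit 0x2940429080290a029485010a429484014a429020294a40140428424294a500485210812102400085)
  (Net.cons (nat_lit 1) (nat_lit 0x5294a129481084252942028485084a0284a1294052848508085084a5284a0094a428421204a0294a)
  (Net.cons (nat_lit 1) (nat_lit 0x148109020014a42900120085010a1284a420401284a50040529420090a400085004852002009024)
  (Net.cons (nat_lit 5) (nat_lit 0x1008040000000201812010160001806008028000401807000050160281000808060040001005010)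
  (Net.cons (nat_lit 10) (nat_lit 0x32e002a800178003540026c002c6001c6002300030e001020008000064003040031a001ca00380)
  (Net.cons (nat_lit 20) (nat_lit 0x76e3e00000070a800000317a000000f03d8000004c020000004082a00000e88180000003218)
  (Net.cons (nat_lit 40) (nat_lit 0xf5b08cbc10000000000010477578940000000000c4c11528120000000000d1553c2480)
  (Net.cons (nat_lit 80) (nat_lit 0xd01613be3e5bfd4c48900000000000000000000057f052f4048c60a8517c)
  (Net.cons (nat_lit 160) (nat_lit 0xf7af8afedaf8e83647c159a6ce893d90505ef170)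
  Net.nil)))))))))))))))))
noncomputable def m276n1 : Net := (Net.cons (nat_lit 160) (nat_lit 0xc72f0afafbf8a8fe47c15ba48a9a3d38545af974)
  (Net.cons (nat_lit 80) (nat_lit 0x2f596852e1040bbb256f00000000000000000000802fe60ed9388b39f2c5)
  (Net.cons (nat_lit 40) (nat_lit 0xf90ca630400000000000e51ce0d28100000000008b6ff6fb040000000000fcad617126)
  (Net.cons (nat_lit 20) (nat_lit 0x4a18e00000b065200000e6d3d00000c2600000007e9e500000149ad00000449a600000fa781)
  (Net.cons (nat_lit 10) (nat_lit 0x3ac001a00011400241003f50038e00215003da0033300259002260036b001000022000159001ed)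
  (Net.cons (nat_lit 5) (nat_lit 0x201e030090041f0701c01c140781c02c100641c050180240e000020141c0600e010000440b00013)
  (Net.cons (nat_lit 1) (nat_lit 0x8480000200000108000080000000100000010800000000400080000000400080000200102100020)
  (Net.cons (nat_lit 1) (nat_lit 0x12940001404080a10008508000080a00100129400090012800100085000a00140000400294202040)
  (Net.cons (nat_lit 1) (nat_lit 0x210a02908029025280a4294042100521481294a421480290a52000420405014a4200802948401484)
  (Net.cons (nat_lit 1) (nat_lit 0x529485094a1204a5004a5284a1210a1094a528424294052842400025284a02942121421094802942)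
  (Net.cons (nat_lit 1) (nat_lit 0x2040029005284040842101005080042142521001204a120024200850140100425004a02942500084)
  (Net.cons (nat_lit 5) (nat_lit 0x200e000080080a0681c0100c0680c008000101c0401c0300a010100180c0201601004040040001c)
  (Net.cons (nat_lit 10) (nat_lit 0x39c0013000300000dc002760004c00054000200022600238002a60013a00018003220005c00198)
  (Net.cons (nat_lit 20) (nat_lit 0x2230400000398c000000b06fa00000c4ef0000005c02800000248900000084da400000a9288)
  (Net.cons (nat_lit 40) (nat_lit 0xdd43ac42080000000000729f62c2c00000000000b31644f7c80000000000fefd384426)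
  (Net.cons (nat_lit 80) (nat_lit 0xad76621a412404e6a78400000000000000000000a83f960ed93d2fa6b814)
  (Net.cons (nat_lit 160) (nat_lit 0xc72f0afafbffc7267f617272cdbcf583ddfa873c)
  Net.nil)))))))))))))))))
noncomputable def m276n2 : Net := (Net.cons (nat_lit 160) (nat_lit 0x45285aa39993e998a254ad1a376641e9bb180000)
  (Net.cons (nat_lit 80) (nat_lit 0x806c5066bcc5b5324c200000000000000000000018c2900bcf4758360340)
  (Net.cons (nat_lit 40) (nat_lit 0xd36538428000000000007981960c110000000000de470cc3e800000000002284b54a00)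
  (Net.cons (nat_lit 20) (nat_lit 0xbe01400000e1b100000052c80000003a98a000006f81000000e5404000007961600000d7bf0)
  (Net.cons (nat_lit 10) (nat_lit 0x2cc001c000394003280032000260003f4003220011a0038a001e9001050005e00160000f200049)
  (Net.cons (nat_lit 5) (nat_lit 0x1004020080601602800040000601e0081b0001c018080081d0141d0401a01011060100381402018)
  (Net.cons (nat_lit 1) (nat_lit 0x10000000400014000008000000000010000500000014200000000000000002940000404)
  (Net.cons (nat_lit 1) (nat_lit 0x20000a00800028005280a0294802848000021000a0014012942000480000000000528000080a)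
  (Net.cons (nat_lit 1) (nat_lit 0x8501404014200140421404010a521485010a52940500084294a5010a400424004002942001025)
  (Net.cons (nat_lit 1) (nat_lit 0x401020090a00848428025280a0294a429025204a1080a02142129420214a4294a009005294052142)
  (Net.cons (nat_lit 1) (nat_lit 0x80802142100021084a4014842008120020010a40142508084084a4210a000481204002942001421)
  (Net.cons (nat_lit 5) (nat_lit 0x4020080201602800040000601e008040001c018080081c0081a0400c0100e020100001406008)
  (Net.cons (nat_lit 10) (nat_lit 0x2cc001c000314003280030000220003f400322000180010a00010001040005e00100000f200254)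
  (Net.cons (nat_lit 20) (nat_lit 0xba01400000e1b100000052c80000003898a000006f81000000e5404000007961000000c73f0)
  (Net.cons (nat_lit 40) (nat_lit 0x5365384280000000000079899e0c100000000000de470cc3e800000000002284b54a00)
  (Net.cons (nat_lit 80) (nat_lit 0x806c5066acc5b5324c200000000000000000000018c2900bcf4758360340)
  (Net.cons (nat_lit 160) (nat_lit 0x45285aa39993e998a254ad1a376641e9bb180000)
  Net.nil)))))))))))))))))
noncomputable def m276n4 : Net := (Net.cons (nat_lit 160) (nat_lit 0x1a696b2990050a93c8fdf8662a8580cf0bc08820)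
  (Net.cons (nat_lit 80) (nat_lit 0xc8dc2c4170401821483800000000000000000000a3b3a1102ccce2411244)
  (Net.cons (nat_lit 40) (nat_lit 0x12ed094c780000000000b0715f0730000000000026254550400000000000132cec1278)
  (Net.cons (nat_lit 20) (nat_lit 0xf890000000dada800000eb1a00000006e40000001026c00000e32e000000bb2fd00000ec41c)
  (Net.cons (nat_lit 10) (nat_lit 0x38800200001b4002290007c00048000e8003ba001460021400130003f80033c000840012200301)
  (Net.cons (nat_lit 5) (nat_lit 0x80e0000a050010200c0700d0201b0581600801000100000a0281e06818058030181d0440001014)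
  (Net.cons (nat_lit 1) (nat_lit 0x802000000004000000000000000000000008000000000040000000010000000000020)
  (Net.cons (nat_lit 1) (nat_lit 0x102000005014a000000280000048501020014000000500000000002800500000280a0000000040)
  (Net.cons (nat_lit 1) (nat_lit 0x20084280a4290842108409020284842808400080010a5200a42900109005290a0214850000420084)
  (Net.cons (nat_lit 1) (nat_lit 0x10148121425214a420485284a50942509484014842842500481210a12842121404284a0004812142)
  (Net.cons (nat_lit 1) (nat_lit 0x20404284a4090012908008401284840000401400010a5080a42940109405290052902400085200a4)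
  (Net.cons (nat_lit 5) (nat_lit 0x8100000a050120000c050020200005800008000000000008028040600801800018100000400014)
  (Net.cons (nat_lit 10) (nat_lit 0x38800200000b4002280016400048000e000338001020021000130003f0000bc00004001a200100)
  (Net.cons (nat_lit 20) (nat_lit 0xf890000000da5a800000eb1a00000006e40000001526800000e32e0000009b2bc00000a4408)
  (Net.cons (nat_lit 40) (nat_lit 0x12ed094c680000000000b0715f07200000000000262545504000000000005320ee1240)
  (Net.cons (nat_lit 80) (nat_lit 0xc8d42c4160400821482800000000000000000000a3b3a1102ccce2411244)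
  (Net.cons (nat_lit 160) (nat_lit 0x1a696b2990050a93c8fdf8662a8580c70bc08820)
  Net.nil)))))))))))))))))
noncomputable def m276n6 : Net := (Net.cons (nat_lit 160) (nat_lit 0x118835260535d13cedf194b6463e5d725d4e8fad)
  (Net.cons (nat_lit 80) (nat_lit 0x7be16244aa2a931aeb0700000000000000000000a12be43c3310ba6d7a34)
  (Net.cons (nat_lit 40) (nat_lit 0x165c07188000000000095f7856c8d0000000000d688b2351b0000000000f405b9996c)
  (Net.cons (nat_lit 20) (nat_lit 0x3ca1a0000025b51000001d89b000003340b000008b1f9000000e274000007fb1c0000084524)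
  (Net.cons (nat_lit 10) (nat_lit 0xd000aa002500021500358001540001c00304003cf00251003c8003670029900132002aa0016f)
  (Net.cons (nat_lit 5) (nat_lit 0x3816008010040201003024110281a0181c03813044110681d0181004c1902400008140680807806)
  (Net.cons (nat_lit 1) (nat_lit 0x400000000000100021080200000000080000000002008000000000800100001000200002001000)
  (Net.cons (nat_lit 1) (nat_lit 0x280a0000a5000a00942101405000010140500481014210000008001280a1004a000400084012948)
  (Net.cons (nat_lit 1) (nat_lit 0x14052800521424090a4210a020004200a029084200a5200a401400214a521085080a401484294a5)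
  (Net.cons (nat_lit 1) (nat_lit 0x280a1000a5084a1214a5094052902401401094a529425084a0290a5284a5214a121480294a1084a)
  (Net.cons (nat_lit 1) (nat_lit 0x40108001000080850840001484004852100501420004a021400084a0010200008000480094a0)
  (Net.cons (nat_lit 5) (nat_lit 0x18100101c000040380e0000004018008100101a040140601c0780001016060060480c0680406818)
  (Net.cons (nat_lit 10) (nat_lit 0x40002e002a200030001080024e0015800360000e0003d0001c400050000cc0013000016001b0)
  (Net.cons (nat_lit 20) (nat_lit 0x3ca92000000d3e2000009855a000002356c00000e08a800000ca24c00000dba000000077388)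
  (Net.cons (nat_lit 40) (nat_lit 0x2ac49573820000000000007501579c000000000011d3f68808000000000032c669c2b8)
  (Net.cons (nat_lit 80) (nat_lit 0x6ae17746af09c9d3baa200000000000000000000657a666cd1d6de755da6)
  (Net.cons (nat_lit 160) (nat_lit 0x1188352605331a7d61058fb400614a7c261b7f60)
  Net.nil)))))))))))))))))
noncomputable def m276n7 : Net := (Net.cons (nat_lit 160) (nat_lit 0xcbe0ca45f4dca5a697dbf15a2f9f9c46d14988e6)
  (Net.cons (nat_lit 80) (nat_lit 0x69729a8dd8d299805c64000000000000000000009af384e8c13fb0a38269)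
  (Net.cons (nat_lit 40) (nat_lit 0x1ced2467ba0000000000d62424354e00000000002f05a952c1000000000091442698e3)
  (Net.cons (nat_lit 20) (nat_lit 0x2913e000009c858000008919a0000079912000008c5580000054eee00000e899000000a65f3)
  (Net.cons (nat_lit 10) (nat_lit 0x6b0015c0035c0018d0015a001550033f000f0002fa003b0001f300032001e000318003ec000a0)
  (Net.cons (nat_lit 5) (nat_lit 0x40c0041007c0000c010381e00005014130140e028010281b02c1c06417048130101c05c1806006)
  (Net.cons (nat_lit 1) (nat_lit 0xa008000000800000000000080a000000000010000400000010000000000000000000000000004)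
  (Net.cons (nat_lit 1) (nat_lit 0x948108024014040000001025014050140029025000a408000280050148029004000a520004000a)
  (Net.cons (nat_lit 1) (nat_lit 0x10a529404280a42942021484284a0294a4014852800521080214a020484014a0200052940028085)
  (Net.cons (nat_lit 1) (nat_lit 0x5294a5080850148108404084850940508425094a1080a528481284a50942028401204a1084a5010a)
  (Net.cons (nat_lit 1) (nat_lit 0x280202908028484204200148400421094042940500005204a0294002008508400000212148408001)
  (Net.cons (nat_lit 5) (nat_lit 0x2002028180701002804030140400c050140101c0280204000008100681805016000120180005014)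
  (Net.cons (nat_lit 10) (nat_lit 0xb800346000180018c0000a003bc0008800210000d0000e80000a000c40015000154003fc00064)
  (Net.cons (nat_lit 20) (nat_lit 0x4321c0000095d54000009b78a000006575200000075d800000648fa00000a889400000d14d8)
  (Net.cons (nat_lit 40) (nat_lit 0x9faffeeebe000000000009e14722f8000000000025468c2a880000000000f5483501cc)
  (Net.cons (nat_lit 80) (nat_lit 0xa17290c86c00baea2528000000000000000000008eeb85c2c21d999ebeec)
  (Net.cons (nat_lit 160) (nat_lit 0xcbe0ca45f4de4e8a8b8ae91f9873eb0da2b99212)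
  Net.nil)))))))))))))))))
noncomputable def m276l : List Net := [m276n0,m276n1,m276n2,m276n2,m276n4,m276n4,m276n6,m276n7]
noncomputable abbrev m276 : ℕ → Net := lk Net.nil m276l
theorem m276ok : NetsOk 275 m276 vT := netsOk_of (by decide +kernel)
theorem m276s0 : Sat io [] (finG m276ok) := fin_sat_nil _ (k := 9) (n := 8) (by decide +kernel)
noncomputable def wsX : List (List ℕ) := [[5,2,1,5,1,3,0,4,2,1,4,1,5,1,4,2,1],[0,3,5,0,4,0,5,0,3,5,1,2,0,4,0,3,4],[1,5,1,1,4,4,1,2,5,5,5,5,0,4,4,3],[2,5,5,1,4,4,4,4,3,0,5,5,0,0,4,0],[5,0,4,0,5,0,0,0,4,1,1,4,1,5,1,3],[2,0,4,0,5,0,0,5,1,1,1,4,1,5,1,4],[0],[1]]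
def m0X := Le.Mc.mvm.dG (ws := wsX) (k := 9) (nl := m276l) (by decide +kernel)
noncomputable def gX : ℕ → (FixV [Le.rU, Le.rV]) := dG Le.Mc.gM wsX
def modelX := m0X
theorem hgeX : ∀ l, llen il ≤ l → gX l = 1 := fun _ h => dG_ge h
theorem heqX : ∀ u w, (fun u w => eqBc Le.Mc.mv Le.Mc.baseM (sel wsX u) (sel wsX w)) u w = true → wp gX u = wp gX w := eqv_dG Le.Mc.heqM _
theorem s0X : Sat io [] gX := sat_of_eqv heqX hgeX (by decide +kernel)
theorem odX : Der 275 (LX 4 Le.Mc.mvS) (cl gX (lw [0,1,2,3,4,5,6,7])) (resN m276 [0,1,2,3,4,5,6,7]) := Der.letters modelX _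
noncomputable def x277 : Net := (Net.cons (nat_lit 160) (nat_lit 0x42345a02de32f6987b952f41646cf083a0608001)
  (Net.cons (nat_lit 80) (nat_lit 0x55a1a2094106d1008240000000000000000000058d83189651654338a80)
  (Net.cons (nat_lit 40) (nat_lit 0x2666d312000000000000a210fe11580000000000c3711cc4400000000000677be55824)
  (Net.cons (nat_lit 20) (nat_lit 0x371c00000009c6a00000469d200000f8da800000828e000000f5f440000089f8000000e9000)
  (Net.cons (nat_lit 10) (nat_lit 0x2e80039000010003810028c002420014a0024a0032200030000f0002d000238002a8001a800388)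
  (Net.cons (nat_lit 5) (nat_lit 0x3404070060401c06010018080080e0340f04c1205802034000580a04818040060001a0541401412)
  (Net.cons (nat_lit 1) (nat_lit 0x20000000000800000000000040002000000000000908100000000000000001400000000008008020)
  (Net.cons (nat_lit 1) (nat_lit 0x500000000050140028000000a0014050000400025294a000000000a000000280000000001401214a)
  (Net.cons (nat_lit 1) (nat_lit 0x2940521000214840108020085280a02000420024214a40100408005284052140421401010a129484)
  (Net.cons (nat_lit 1) (nat_lit 0x508424200850948429004210a10148529081004a5294a508085014a5090a128024094a009425294a)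
  (Net.cons (nat_lit 1) (nat_lit 0x2140521000014a5010a00908429021000a1200202908101084080002842521424214010108120420)
  (Net.cons (nat_lit 5) (nat_lit 0x4000000401c06010068080000e030100200805000030000500a0401804002000020001404012)
  (Net.cons (nat_lit 10) (nat_lit 0x2e80039000060003800028c002420014a001100016000030000f0002d00022800288001a800380)
  (Net.cons (nat_lit 20) (nat_lit 0x371c00000009c6a00000469d200000f09a8000008a8e000000fd704000008878000000e9800)
  (Net.cons (nat_lit 40) (nat_lit 0x2666d312000000000000a210fe115000000000008b711c4440000000000047fb655024)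
  (Net.cons (nat_lit 80) (nat_lit 0x55a1a2094106d1008200000000000000000000058d83189651654338a80)
  (Net.cons (nat_lit 160) (nat_lit 0x42345a02de32f6987b952f41646cf083a0608000)
  Net.nil)))))))))))))))))
noncomputable def x277s : ℕ → Net := upd (resN m276 [0,1,2,3,4,5,6,7]) 8 x277
theorem der278 : Der 275 (LX 4 Le.Mc.mvS) (cl gX (lw [0,1,2,3,4,5,6,7])) x277s := odX.ext (k := 9) (w := [0,2,4,0,2,4,0,2,4,0,2,4]) 8 (by decide +kernel)
noncomputable def x279 : Net := (Net.cons (nat_lit 160) (nat_lit 0xa308b3a4f11320e230c39184a52484489cfce7b1)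
  (Net.cons (nat_lit 80) (nat_lit 0x5e21a02acae07b226dfb00000000000000000000e45214674c8809fdaeec)
  (Net.cons (nat_lit 40) (nat_lit 0x7710a0bfba00000000000327949b1c00000000008aec2bbbce000000000008a978e9ca)
  (Net.cons (nat_lit 20) (nat_lit 0xbfd29000003c65f0000083aac00000d4cd300000fe25e000000706f00000d77e4000007af80)
  (Net.cons (nat_lit 10) (nat_lit 0x20c001840037a0025700246000c100349001ca00209003da0033c0025b00044002b0000da00124)
  (Net.cons (nat_lit 5) (nat_lit 0x5801018160100e0400604800004050741e0740804c050581601416058190200b0381c06c0e05401)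
  (Net.cons (nat_lit 1) (nat_lit 0x1000000002000000014200140008004000000000000000000810040020000080002000000020)
  (Net.cons (nat_lit 1) (nat_lit 0x200242800021480014002840529085000a000000204000900001420280050100101005004052948)
  (Net.cons (nat_lit 1) (nat_lit 0x2142429000010a52048501480294a52808520400010a521080090a40100529084214a42808029485)
  (Net.cons (nat_lit 1) (nat_lit 0x1084a1284a009421294a129401294a5014a40842108425214a5214a4280a50848509421090050942)
  (Net.cons (nat_lit 1) (nat_lit 0x280a4290010042001000004a12900108004294a0014200948029021200042002120480080a420025)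
  (Net.cons (nat_lit 5) (nat_lit 0x5000078020500a018040400007000050180780800000040000401c03818000100401a0680c00000)
  (Net.cons (nat_lit 10) (nat_lit 0x38c001540017400004002c00026800224001c8002a8003ca000300015a0022c003340009800184)
  (Net.cons (nat_lit 20) (nat_lit 0x95d2a000001acd0000000225400000cfcf400000102de0000006206000009e672000002e308)
  (Net.cons (nat_lit 40) (nat_lit 0x4138a33590000000000000614daab800000000008eb86b868a0000000000044e90f840)
  (Net.cons (nat_lit 80) (nat_lit 0xfc21912aaaf5039982c000000000000000000000b084502f446b5643fb40)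
  (Net.cons (nat_lit 160) (nat_lit 0xa308b3a4f116bf88467ab4bf3fea8fdef8c67030)
  Net.nil)))))))))))))))))
noncomputable def x279s : ℕ → Net := upd x277s 9 x279
theorem der280 : Der 275 (LX 4 Le.Mc.mvS) (cl gX (lw [0,1,2,3,4,5,6,7])) x279s := der278.ext (k := 9) (w := [6,2,0,7,5,6,1,6,1,1]) 9 (by decide +kernel)
noncomputable def x281 : Net := (Net.cons (nat_lit 160) (nat_lit 0x3f165ec2f589c8a00e35c948a61681fa973ebfac)
  (Net.cons (nat_lit 80) (nat_lit 0x320bb7051de850dfde46000000000000000000000eec2f7bc61fdfa915c3)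
  (Net.cons (nat_lit 40) (nat_lit 0xaab2de409900000000001e52e6df6c0000000000bc048755f60000000000863b388f11)
  (Net.cons (nat_lit 20) (nat_lit 0xf0e65000006b91100000460d400000c3e3300000548c6000003930100000570910000078c17)
  (Net.cons (nat_lit 10) (nat_lit 0x1500024a000b30025e001370028e0025800273000fe002ea002a30010300024002bc0018d0018b)
  (Net.cons (nat_lit 5) (nat_lit 0x7008020010100d0681d0281d00415040100200106806000100481706c080441c06c080240403015)
  (Net.cons (nat_lit 1) (nat_lit 0x8000080000000000001084000800000000004010002000000200000800000000004000000000000)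
  (Net.cons (nat_lit 1) (nat_lit 0x1000810140028005014a1094010002020080090a4014050000500405000000008508000084000100)
  (Net.cons (nat_lit 1) (nat_lit 0x28484200a02940028084214802000529005210a5214802900429084214800008529005294a000085)
  (Net.cons (nat_lit 1) (nat_lit 0x5290240140108405214a529485084a1284a5214a50942129425210852840029025280a5084010042)
  (Net.cons (nat_lit 1) (nat_lit 0x204a000001080a108005004840908528024094010040400484080a4014840808528000094a1200a1)
  (Net.cons (nat_lit 5) (nat_lit 0x5012020160000402800000040601404006060140780406000000020080c05004060180000003010)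
  (Net.cons (nat_lit 10) (nat_lit 0xcc000ca000b0002d2003fe003a60036e00282000ec00330001d8002000002c0038400268000c8)
  (Net.cons (nat_lit 20) (nat_lit 0x4ce2c000004cd8a0000029fd000000c86020000044e4c000007450000000c728a0000079114)
  (Net.cons (nat_lit 40) (nat_lit 0xafb2aa03a400000000001032e69fcc0000000000b2842f60fc00000000002629189b38)
  (Net.cons (nat_lit 80) (nat_lit 0x2809ef870d6947cb7270000000000000000000000e458e77ce6c97e924c4)
  (Net.cons (nat_lit 160) (nat_lit 0x3f165ec2f58eed296979d2580973218983592886)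
  Net.nil)))))))))))))))))
noncomputable def x281s : ℕ → Net := upd x279s 10 x281
theorem der282 : Der 275 (LX 4 Le.Mc.mvS) (cl gX (lw [0,1,2,3,4,5,6,7])) x281s := der280.ext (k := 9) (w := [9,9,9,2,2,9,2]) 10 (by decide +kernel)
noncomputable def x283 : Net := (Net.cons (nat_lit 160) (nat_lit 0xac033921dcd6c12279e71f06c8a81500f8def598)
  (Net.cons (nat_lit 80) (nat_lit 0x7d5b326221b8c880673d000000000000000000006d0902f70fda30c85d41)
  (Net.cons (nat_lit 40) (nat_lit 0x253431e46700000000005730a0d8040000000000e68b0744b2000000000039ae05e674)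
  (Net.cons (nat_lit 20) (nat_lit 0xdb06900000a9690000006e40c00000d441600000abd36000004b28c00000d74e70000042695)
  (Net.cons (nat_lit 10) (nat_lit 0x92002d5002ee003730021f00316002f10022500354000e10034a00072002b7000a20033400054)
  (Net.cons (nat_lit 5) (nat_lit 0x1001038160401e0100d0241b0100804c1206804074120041f020020680a0180b060100600201412)
  (Net.cons (nat_lit 1) (nat_lit 0x1004000800000420000a00000000000004202040000000010000040008084000000000400000)
  (Net.cons (nat_lit 1) (nat_lit 0x52802428481080810840421400200a000025094250800000020280a008081014a000005000a00040)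
  (Net.cons (nat_lit 1) (nat_lit 0x214a4290a52100429080214a501084010042908529000280240148421025200a5290012008500484)
  (Net.cons (nat_lit 1) (nat_lit 0x5294a5284a42802129421294a0084a4080812142129001284a1084a121424004a12002520421290a)
  (Net.cons (nat_lit 1) (nat_lit 0x90210908109001294a42808428000210010942009424284a0214812808129481094210848401485)
  (Net.cons (nat_lit 5) (nat_lit 0x101002810030140001c0280800010060100780007812030060400a0480202810070020200c0181a)
  (Net.cons (nat_lit 10) (nat_lit 0x21200050001f4002620000c00280000b200002002ca002d400250001f2001de002000027400006)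
  (Net.cons (nat_lit 20) (nat_lit 0x7b0ca00000ecfbc0000035d5c00000d409800000ea5a20000008d8000000f4e600000043804)
  (Net.cons (nat_lit 40) (nat_lit 0xcc351ac4c60000000000d130e8f4900000000000b2ab0721b800000000003b1c266e26)
  (Net.cons (nat_lit 80) (nat_lit 0x715b136221aca0e75890000000000000000000006f8102710fdbb0770afe)
  (Net.cons (nat_lit 160) (nat_lit 0xac033921dcd02dda2da7614afd376c6599145e04)
  Net.nil)))))))))))))))))
noncomputable def x283s : ℕ → Net := upd x281s 11 x283
theorem der284 : Der 275 (LX 4 Le.Mc.mvS) (cl gX (lw [0,1,2,3,4,5,6,7])) x283s := der282.ext (k := 9) (w := [9,9,2,9,9,3,9,2,9,2,9,9,2,9,9,2]) 11 (by decide +kernel)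
noncomputable def x285 : Net := (Net.cons (nat_lit 160) (nat_lit 0xf800000000000000000000000000000000000000)
  (Net.cons (nat_lit 80) (nat_lit 0x705bc0008003e06672000000000000000000000080000000000000000000)
  (Net.cons (nat_lit 40) (nat_lit 0x705600a2000000000000efae0050090000000000a2f3ac3c2000000000002650611220)
  (Net.cons (nat_lit 20) (nat_lit 0xa2000000052688000005d14000000fa3cc00000bc182000004122000000d92ec00000d1890)
  (Net.cons (nat_lit 10) (nat_lit 0x3a000080001d600130001a0000820017c0034400258000300025c000f4001dc0000c0022f00238)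
  (Net.cons (nat_lit 5) (nat_lit 0x1800000000000700204802058140480407c1607413024080080e068150040c008120001e0281e)
  (Net.cons (nat_lit 1) (nat_lit 0x80000000000001000000000140000480080000000400400010200000000400000000140000000)
  (Net.cons (nat_lit 1) (nat_lit 0x14000000000400280a028000280a02940120000004a408000294012000409400294a1280800040)
  (Net.cons (nat_lit 1) (nat_lit 0x94a408000000a0014052102029484010a5210a0200a52908021480290a1210a50108521405010a4)
  (Net.cons (nat_lit 1) (nat_lit 0x5094810000000404294a428405290a5294a529481094252948129405294a5294a0294a5294a02848)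
  (Net.cons (nat_lit 1) (nat_lit 0x948408000200a109000290212948401485214a02008029481210a52802529005090800008509005)
  (Net.cons (nat_lit 5) (nat_lit 0x18000000000006002048020581404804000140300c0500800802030080780c00800068020281e)
  (Net.cons (nat_lit 10) (nat_lit 0x3a000080001c200130000a0000820017c0034400258000300025c000f40014c0000c0010000238)
  (Net.cons (nat_lit 20) (nat_lit 0xa2000000052680000005d14000000fa3cc00000bc182000004122000000d92ec00000d1890)
  (Net.cons (nat_lit 40) (nat_lit 0x705600a2000000000000efae005008000000000022f3ac3c0000000000002650611220)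
  (Net.cons (nat_lit 80) (nat_lit 0x705bc0008003e04672000000000000000000000080000000000000000000)
  (Net.cons (nat_lit 160) (nat_lit 0xf800000000000000000000000000000000000000)
  Net.nil)))))))))))))))))
noncomputable def x285s : ℕ → Net := upd x283s 12 x285
theorem der286 : Der 275 (LX 4 Le.Mc.mvS) (cl gX (lw [0,1,2,3,4,5,6,7])) x285s := der284.ext (k := 9) (w := [11,10,11,11,10,11]) 12 (by decide +kernel)
noncomputable def x287 : Net := (Net.cons (nat_lit 160) (nat_lit 0x23e98a005780f1718b740d18680b16372a712690)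
  (Net.cons (nat_lit 80) (nat_lit 0x7260a7a3eab2249b6415000000000000000000009397b55b31bbd02f4ddb)
  (Net.cons (nat_lit 40) (nat_lit 0xd7fcc7628f0000000000c9ab5d791800000000000ca272c5180000000000f49f02ea48)
  (Net.cons (nat_lit 20) (nat_lit 0xe8bd000000cbeb900000fa3c00000009dbc00000a86a400000d0660000001ccea00000f479f)
  (Net.cons (nat_lit 10) (nat_lit 0x1be002da00349000750010500164000a00019d0004a0001400042000bf00018003220028700354)
  (Net.cons (nat_lit 5) (nat_lit 0x200e04803040160081000816030040500605400054050481803803070140201c000140740f01c13)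
  (Net.cons (nat_lit 1) (nat_lit 0x4080000040000020000000800000000000000800000000000a0)
  (Net.cons (nat_lit 1) (nat_lit 0x420025280a0010000002400000280a10140009000084a00000109005210002140100000010200142)
  (Net.cons (nat_lit 1) (nat_lit 0x214a421005084802808420484010a5200a0294a021484200a1290a1294a0290a521004004a4000a5)
  (Net.cons (nat_lit 1) (nat_lit 0x528485290a128421284a109024294242940129405094a1204a5294a1294010942408085094a5014a)
  (Net.cons (nat_lit 1) (nat_lit 0xa000084084810000121405214a4280202842108405210a5284852800029004294a4010a428404)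
  (Net.cons (nat_lit 5) (nat_lit 0xe000140401e0101007016008040500605014050140001001010048160280a008100601203012)
  (Net.cons (nat_lit 10) (nat_lit 0x1be00090001e00003400108003fc002800018c000520011000166000ac000b800300000a600318)
  (Net.cons (nat_lit 20) (nat_lit 0xfe80000000b902a000009f384000000170800000b979400000d677e00000645aa00000a45d8)
  (Net.cons (nat_lit 40) (nat_lit 0xc6dd61c1fc0000000000cf59d77d1800000000008ba4b7e0200000000000e8e376dd48)
  (Net.cons (nat_lit 80) (nat_lit 0x5021a7a3aa34acb9b4a4000000000000000000005f8585ec91af5e75d6f0)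
  (Net.cons (nat_lit 160) (nat_lit 0x23e98a00578429619b5940fd88583072f9788e8a)
  Net.nil)))))))))))))))))
noncomputable def x287s : ℕ → Net := upd x285s 13 x287
theorem der288 : Der 275 (LX 4 Le.Mc.mvS) (cl gX (lw [0,1,2,3,4,5,6,7])) x287s := der286.ext (k := 9) (w := [10,11,11,11,11,10,10]) 13 (by decide +kernel)
noncomputable def x289 : Net := (Net.cons (nat_lit 160) (nat_lit 0x2f661d356b40f644eaf3904bf76fd31abc0793e0)
  (Net.cons (nat_lit 80) (nat_lit 0x8f77bf309256a3ece68d0000000000000000000082dccd09cdfe426ee30a)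
  (Net.cons (nat_lit 40) (nat_lit 0x1dc2f9d56300000000007baf9d920d00000000002abc943515000000000015e980e220)
  (Net.cons (nat_lit 20) (nat_lit 0xd186d00000fd17e000001d69d00000ddfff000008f31100000cb95400000887040000038823)
  (Net.cons (nat_lit 10) (nat_lit 0x3b80007b001440005b000650035d0007a0000100083002f8003320009e00296003a80027e00285)
  (Net.cons (nat_lit 5) (nat_lit 0x2c0806400050160540300009074110781f048100001404811024000500e05808044060781401411)
  (Net.cons (nat_lit 1) (nat_lit 0x508000000800000000000200200040100000004040000000400000a008000000202000020000)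
  (Net.cons (nat_lit 1) (nat_lit 0x10a100400014010040028005014002802500021280a00000009000014250008001405000a50000)
  (Net.cons (nat_lit 1) (nat_lit 0x85210a1004a1210802908128084090a4200842908521481010a4000a5280a4090802800529000)
  (Net.cons (nat_lit 1) (nat_lit 0x4a52042128424090812842101481294a520485290a4084a02848509425004a121485084a1090a)
  (Net.cons (nat_lit 1) (nat_lit 0x140401425204040142020081000a028085014a5280010100508420200a1000a129004080a109085)
  (Net.cons (nat_lit 5) (nat_lit 0x28000200805010058120200803000020020081401000020140281c0400000008000120600c01000)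
  (Net.cons (nat_lit 10) (nat_lit 0x3a8000f800100000580000c00148000f8001800024c000380025000010002a0001880000400122)
  (Net.cons (nat_lit 20) (nat_lit 0x6597c00000fd30400000510900000004afc00000a785c000008b938000008cd120000096ab0)
  (Net.cons (nat_lit 40) (nat_lit 0x1dd0c5c0b800000000003e21990c060000000000a8fcb83c1000000000008df2b2a8b2)
  (Net.cons (nat_lit 80) (nat_lit 0x8573b7209a530d08282400000000000000000000925ccdcb59c37ff2c2a2)
  (Net.cons (nat_lit 160) (nat_lit 0x2f661d356b442300c79b46cdfa95ffd9a15f085c)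
  Net.nil)))))))))))))))))
noncomputable def x289s : ℕ → Net := upd x287s 14 x289
theorem der290 : Der 275 (LX 4 Le.Mc.mvS) (cl gX (lw [0,1,2,3,4,5,6,7])) x289s := der288.ext (k := 9) (w := [10,10,11,11,11,10,11,11,10]) 14 (by decide +kernel)
noncomputable def x291 : Net := (Net.cons (nat_lit 160) (nat_lit 0xbf2ea7b0baf49980a2000440012011c180082020)
  (Net.cons (nat_lit 80) (nat_lit 0x9157d2a2370604340a10000000000000000000001dd4996d890208c90200)
  (Net.cons (nat_lit 40) (nat_lit 0x374db6f61200000000004a94848a82000000000011c42da2c00000000000e4b8894000)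
  (Net.cons (nat_lit 20) (nat_lit 0xf01a8000006809200000eade20000097410000000450600000332c000000366180000002921)
  (Net.cons (nat_lit 10) (nat_lit 0x104003e20031600248000f4003be0004f0014000001000280001c0010c00342003c8003c2002a0)
  (Net.cons (nat_lit 5) (nat_lit 0x181b0101502c1a00810038180400c04c0f0300c040180200c0201003802010140281a030140201a)
  (Net.cons (nat_lit 1) (nat_lit 0x480080000800100000280000002000400000000800001400004000000000000010010000000000)
  (Net.cons (nat_lit 1) (nat_lit 0x294a501405294a00000501025204a009000000050140129400280050000000000294a0004002800)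
  (Net.cons (nat_lit 1) (nat_lit 0x94a521080210a5000002808421084010842048020080214a0014a5200200000021484004a0014a0)
  (Net.cons (nat_lit 1) (nat_lit 0x1294a521485294a400005004a5090a428484284050940528400284252040409401294a0084042848)
  (Net.cons (nat_lit 1) (nat_lit 0x84042940001401010812940029000080a5204810800001401284a520425000012108128400000a0)
  (Net.cons (nat_lit 5) (nat_lit 0x180401010060120000003804060180400c03008040100200c0200003802010140281a0300402018)
  (Net.cons (nat_lit 10) (nat_lit 0x104003e20031600248000f400144002200014000000002600001c0010000342003c8003c000220)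
  (Net.cons (nat_lit 20) (nat_lit 0xf01a8000004809200000dfce00000097410000000450600000332c000000366180000002920)
  (Net.cons (nat_lit 40) (nat_lit 0x354db6d61200000000004a94840a82000000000011c42da2400000000000e498894000)
  (Net.cons (nat_lit 80) (nat_lit 0x9157d2a2370604340a10000000000000000000001dd4996d890208c90200)
  (Net.cons (nat_lit 160) (nat_lit 0xbf2ea7b0baf49980a2000440012011c180082020)
  Net.nil)))))))))))))))))
noncomputable def x291s : ℕ → Net := upd x289s 15 x291
theorem der292 : Der 275 (LX 4 Le.Mc.mvS) (cl gX (lw [0,1,2,3,4,5,6,7])) x291s := der290.ext (k := 9) (w := [14,13]) 15 (by decide +kernel)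
noncomputable def x293 : Net := (Net.cons (nat_lit 160) (nat_lit 0x684c00083c56f1797a3cf5926332e59a9d012020)
  (Net.cons (nat_lit 80) (nat_lit 0xbc1cb2046005484860d8000000000000000000002cb9c9c8a3a1e24f74e4)
  (Net.cons (nat_lit 40) (nat_lit 0x909850d5200000000000e80a205c290000000000a5f96e1100000000000096cfbc140b)
  (Net.cons (nat_lit 20) (nat_lit 0x2506000000a491200000c76c400000aa5e90000057ad0000002ca04000001fad000000fc434)
  (Net.cons (nat_lit 10) (nat_lit 0x1c00050000c000260001900024700132002cd0010400232000b80005c0026c003c400216000ac)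
  (Net.cons (nat_lit 5) (nat_lit 0x101c0080800018060160241406810018180700c0200c050120701e0680a0100f0600002c0802c12)
  (Net.cons (nat_lit 1) (nat_lit 0x20000000000008000000000000400020000002048008001000010000000000010000000000000)
  (Net.cons (nat_lit 1) (nat_lit 0x9420280000800500000280a0280a400401000a529405280a0000a0280a10100028000080000000)
  (Net.cons (nat_lit 1) (nat_lit 0x14a50100401400200800102401025290a528004294a02900428004214a420080014002940001020)
  (Net.cons (nat_lit 1) (nat_lit 0x9420280800800500420294a0284a109421280a529405280a5084a4294a4214a029405090002142)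
  (Net.cons (nat_lit 1) (nat_lit 0x2942008004200810800420020080a009024004a4204800902128021200a420000210002042429424)
  (Net.cons (nat_lit 5) (nat_lit 0x101c008000000804008020140481c06806070000200805012070160081a03000060000000802012)
  (Net.cons (nat_lit 10) (nat_lit 0x1c0005000280000600019000246002c6002cc0000400232000b80028c00130003c000206000ac)
  (Net.cons (nat_lit 20) (nat_lit 0x250600000024b0200000c76c400000abd680000057ad0000002ca04000001fad000000fd434)
  (Net.cons (nat_lit 40) (nat_lit 0x909850d1200000000000e842205c000000000000a5f96e1100000000000096cfbc1408)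
  (Net.cons (nat_lit 80) (nat_lit 0xbc1cb2046005484860d8000000000000000000002c39e9c8a3a1e24ff4e0)
  (Net.cons (nat_lit 160) (nat_lit 0x684c00083c57f1795a7cf5926322e59a8d012020)
  Net.nil)))))))))))))))))
noncomputable def x293s : ℕ → Net := upd x291s 16 x293
theorem der294 : Der 275 (LX 4 Le.Mc.mvS) (cl gX (lw [0,1,2,3,4,5,6,7])) x293s := der292.ext (k := 9) (w := [13,14]) 16 (by decide +kernel)
noncomputable def x295 : Net := (Net.cons (nat_lit 160) (nat_lit 0x82151900d21a4358b03e41036100958e90600080)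
  (Net.cons (nat_lit 80) (nat_lit 0x33f5443f981804730400000000000000000000003a2ddcc52ab020884200)
  (Net.cons (nat_lit 40) (nat_lit 0x826584f8080000000000053b81070100000000008a15a8022800000000006db1b0c741)
  (Net.cons (nat_lit 20) (nat_lit 0x19940000004040c000009c28000000fe88100000a1a2800000ebb8c000003522c0000087268)
  (Net.cons (nat_lit 10) (nat_lit 0x154003c2003fc00370002c800070001380001c003c80031a002ac0010800254000a90012c00170)
  (Net.cons (nat_lit 5) (nat_lit 0x18018120741a07c000081a0480c0380c048020681f064110181a0100c050130141f0600205005)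
  (Net.cons (nat_lit 1) (nat_lit 0x401004000000401000000000002520001000010000001020000010000000000004000100000000)
  (Net.cons (nat_lit 1) (nat_lit 0x1280a0294a0000a12800000000014a5000a5280a000480284a0294a00802000000090a0280010000)
  (Net.cons (nat_lit 1) (nat_lit 0x29484010840008529401290a00008529005210040048529485014850140508000010a40940028080)
  (Net.cons (nat_lit 1) (nat_lit 0x1284a4294a0284a50842528480014a5280a5280a4294a129420294a00802100001204a1280010048)
  (Net.cons (nat_lit 1) (nat_lit 0x28481014002008429001290a0004252108100021004a42902528001094a5084a5004240908001080)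
  (Net.cons (nat_lit 5) (nat_lit 0x18010000701a0000000818008080380c000020000004008018120100c01000010120600001000)
  (Net.cons (nat_lit 10) (nat_lit 0x154003c2003ec00370002c8000700013800010003c80031a002ac0010800044000100012000030)
  (Net.cons (nat_lit 20) (nat_lit 0x18940000004040c000009c280000003208000000a1a2800000eb98c000003522c0000087068)
  (Net.cons (nat_lit 40) (nat_lit 0x826584f8080000000000013b81070000000000008a15a8022800000000006db1b04740)
  (Net.cons (nat_lit 80) (nat_lit 0x33f5443f981804730400000000000000000000003a2ddcc52ab020884200)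
  (Net.cons (nat_lit 160) (nat_lit 0x82151900d21a4358b03e41036100958e90600080)
  Net.nil)))))))))))))))))
noncomputable def x295s : ℕ → Net := upd x293s 17 x295
theorem der296 : Der 275 (LX 4 Le.Mc.mvS) (cl gX (lw [0,1,2,3,4,5,6,7])) x295s := der294.ext (k := 9) (w := [13,13]) 17 (by decide +kernel)
noncomputable def x297 : Net := (Net.cons (nat_lit 160) (nat_lit 0xd07740e29aeca29e1785f1c020e92d65777dad04)
  (Net.cons (nat_lit 80) (nat_lit 0xc98af93dc01978f5119a000000000000000000005808a148c09469e89621)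
  (Net.cons (nat_lit 40) (nat_lit 0x24079d6e900000000000f447ef339300000000002f0db4c20000000000002534ef1f96)
  (Net.cons (nat_lit 20) (nat_lit 0xebd5800000dc5660000067736000005cff900000b1b4a000002ef6900000e9d660000045614)
  (Net.cons (nat_lit 10) (nat_lit 0x3c100280000bd003b9001f80036400339003c1003ce0016a002200036800097000bd003f100062)
  (Net.cons (nat_lit 5) (nat_lit 0x20100280a07c180380c058100000f0400103818000020180900402008130441204c080700801802)
  (Net.cons (nat_lit 1) (nat_lit 0x4000800028000000000000009000280000000000000000000002000400010002000020424)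
  (Net.cons (nat_lit 1) (nat_lit 0x5000a02942108085000040008021405280850140001000000200000001400280202800508005294a)
  (Net.cons (nat_lit 1) (nat_lit 0x290040148421004294202908429480214a5284810008401005010800148129005214a52940529485)
  (Net.cons (nat_lit 1) (nat_lit 0x5280a1294a5210a50842109025294a5294a529424004a10842029001294a5290a42842508025294a)
  (Net.cons (nat_lit 1) (nat_lit 0x2142509480090042142509000094010902529025200050902100001284a429020210242840001020)
  (Net.cons (nat_lit 5) (nat_lit 0x281802800078000600c0581c0300e0000c0701c0001c01808010020380e040020000a0200800008)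
  (Net.cons (nat_lit 10) (nat_lit 0x1b2003d2000ca000be000e8003f400110002c20004e0012a002a00016000038002980031000258)
  (Net.cons (nat_lit 20) (nat_lit 0xbb99000000cd34800000e3410000005617c00000b1b4a00000ab348000004100e000006c750)
  (Net.cons (nat_lit 40) (nat_lit 0xad62f422d00000000000b473ebd13000000000002d0d22d2840000000000077e738da0)
  (Net.cons (nat_lit 80) (nat_lit 0x89ceb9ffd2936d9431320000000000000000000052082348c186cdb02364)
  (Net.cons (nat_lit 160) (nat_lit 0xd07740e29aeca89a13d5784aa069297f757e2100)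
  Net.nil)))))))))))))))))
noncomputable def x297s : ℕ → Net := upd x295s 18 x297
theorem der298 : Der 275 (LX 4 Le.Mc.mvS) (cl gX (lw [0,1,2,3,4,5,6,7])) x297s := der296.ext (k := 9) (w := [13,12,13]) 18 (by decide +kernel)
noncomputable def x299 : Net := (Net.cons (nat_lit 160) (nat_lit 0x242e75bae043e1c779a0bd13979b579127fed504)
  (Net.cons (nat_lit 80) (nat_lit 0xdeb077cdf57179d40d8200000000000000000000af907cd6ebdc8b3f2a01)
  (Net.cons (nat_lit 40) (nat_lit 0xdbc0752b17000000000088eb818b6800000000006f9a1c6f6d0000000000230c83ae18)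
  (Net.cons (nat_lit 20) (nat_lit 0xab930000099655000000220e00000055b600000216a6000003f3de0000042aa800000929ee)
  (Net.cons (nat_lit 10) (nat_lit 0x1bf001c8000ac0025c0004d0026e00140002690017e00229000e2000670035a0002a0016f0026c)
  (Net.cons (nat_lit 5) (nat_lit 0x4130380a0580a018030001c030020081502c16024170001b03809008080200a07c020600303818)
  (Net.cons (nat_lit 1) (nat_lit 0x200040000000004000000000005010250008100400000200002008000004000000400000)
  (Net.cons (nat_lit 1) (nat_lit 0x210000840029080000202902001400000a0284a4294200840029404294012100408000014a02148)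
  (Net.cons (nat_lit 1) (nat_lit 0x290a101080294a420004010a42808000005014a5290a4290a501485210852148021080004a521085)
  (Net.cons (nat_lit 1) (nat_lit 0x12842029401294a1280a02848101420090a0294a1294a1284a0294a1294250840121404094a12942)
  (Net.cons (nat_lit 1) (nat_lit 0x2840501404280250900108024080a0014012148509421090a0014242900121480200200142428084)
  (Net.cons (nat_lit 5) (nat_lit 0x180c0200a0280c0381a0400801004008040300401000000000280204018010080381e0600202810)
  (Net.cons (nat_lit 10) (nat_lit 0x14c0014a003900026c0026c0034c001480020400344002a4000360016200152003b00016200220)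
  (Net.cons (nat_lit 20) (nat_lit 0x1ffb0000003dc70000000a28c00000067540000084bb2000007f79e0000060ea0000009216a)
  (Net.cons (nat_lit 40) (nat_lit 0xcdf676be2200000000008ca474bb4000000000001b8a9cefc800000000003a1e00e600)
  (Net.cons (nat_lit 80) (nat_lit 0xdeb426c5b535f3e03a8800000000000000000000f6817497efeeb34dd600)
  (Net.cons (nat_lit 160) (nat_lit 0x242e75bae045a8d55170fce50e7992d4653bc534)
  Net.nil)))))))))))))))))
noncomputable def x299s : ℕ → Net := upd x297s 19 x299
theorem der300 : Der 275 (LX 4 Le.Mc.mvS) (cl gX (lw [0,1,2,3,4,5,6,7])) x299s := der298.ext (k := 9) (w := [12,17,18,12,15]) 19 (by decide +kernel)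
noncomputable def x301 : Net := (Net.cons (nat_lit 160) (nat_lit 0x1c2005e0200394a9ac698c840991040224848021)
  (Net.cons (nat_lit 80) (nat_lit 0x1cf1b4221026aa9800000000000000000000000001a0c613b145b0011304)
  (Net.cons (nat_lit 40) (nat_lit 0x19b3a44010000000000009c940c8080000000000ec92909310000000000020e2dc11c4)
  (Net.cons (nat_lit 20) (nat_lit 0xc820000000dfa800000f069000000dbc000000021c3a00000e0e38000009a6dc000000b80c)
  (Net.cons (nat_lit 10) (nat_lit 0x3100200000f100048002a40023e00294002400012c002b60038200390001cd0010f0021c00390)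
  (Net.cons (nat_lit 5) (nat_lit 0x10020481000c130681e068000481903409060060600a03008050020380a06813038100641e06000)
  (Net.cons (nat_lit 1) (nat_lit 0x401000200002001000200000000020000000000800001420000010040000081004012000000000)
  (Net.cons (nat_lit 1) (nat_lit 0x280a529400294002802501400000a508000000050000428400000a02800001421290a5084000000)
  (Net.cons (nat_lit 1) (nat_lit 0x900421080014a40140529080094042948028004200852948001024210a0010a421084294a409080)
  (Net.cons (nat_lit 1) (nat_lit 0x1290a529401294202842509405284a50848501085210a529001214a42942108485284a5084252900)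
  (Net.cons (nat_lit 1) (nat_lit 0x842100020004802900521000094002148029080280a5094a101421214a4004a4014852140409084)
  (Net.cons (nat_lit 5) (nat_lit 0x1002000100101c06808068000401001008060180600a02004050000300a028040400e0400406000)
  (Net.cons (nat_lit 10) (nat_lit 0x20002000000000048002200023e00290002400012c00012003820039000084002d00021c00390)
  (Net.cons (nat_lit 20) (nat_lit 0xc820000000dfa800000f069000000d1c000000021c3a00000e0e3800000926dc000000b80c)
  (Net.cons (nat_lit 40) (nat_lit 0x19b3a44010000000000009c940c8080000000000ec92909310000000000020e2dc11c4)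
  (Net.cons (nat_lit 80) (nat_lit 0x1cf1b4221026aa9800000000000000000000000041a0c613b145b0011340)
  (Net.cons (nat_lit 160) (nat_lit 0x1c2005e0200394a98c698c840991040224848000)
  Net.nil)))))))))))))))))
noncomputable def x301s : ℕ → Net := upd x299s 20 x301
theorem der302 : Der 275 (LX 4 Le.Mc.mvS) (cl gX (lw [0,1,2,3,4,5,6,7])) x301s := der300.ext (k := 9) (w := [18,16,15,16]) 20 (by decide +kernel)
noncomputable def x303 : Net := (Net.cons (nat_lit 160) (nat_lit 0x42345a02de32f6987b952f41646cf083a0608001)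
  (Net.cons (nat_lit 80) (nat_lit 0x55a1a2094106d1008240000000000000000000058d83189651654338a80)
  (Net.cons (nat_lit 40) (nat_lit 0x2666d312000000000000a210fe11580000000000c3711cc4400000000000677be55824)
  (Net.cons (nat_lit 20) (nat_lit 0x371c00000009c6a00000469d200000f8da800000828e000000f5f440000089f8000000e9000)
  (Net.cons (nat_lit 10) (nat_lit 0x2e80039000010003810028c002420014a0024a0032200030000f0002d000238002a8001a800388)
  (Net.cons (nat_lit 5) (nat_lit 0x3404070060401c06010018080080e0340f04c1205802034000580a04818040060001a0541401412)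
  (Net.cons (nat_lit 1) (nat_lit 0x20000000000800000000000040002000000000000908100000000000000001400000000008008020)
  (Net.cons (nat_lit 1) (nat_lit 0x500000000050140028000000a0014050000400025294a000000000a000000280000000001401214a)
  (Net.cons (nat_lit 1) (nat_lit 0x2940521000214840108020085280a02000420024214a40100408005284052140421401010a129484)
  (Net.cons (nat_lit 1) (nat_lit 0x508424200850948429004210a10148529081004a5294a508085014a5090a128024094a009425294a)
  (Net.cons (nat_lit 1) (nat_lit 0x2140521000014a5010a00908429021000a1200202908101084080002842521424214010108120420)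
  (Net.cons (nat_lit 5) (nat_lit 0x4000000401c06010068080000e030100200805000030000500a0401804002000020001404012)
  (Net.cons (nat_lit 10) (nat_lit 0x2e80039000060003800028c002420014a001100016000030000f0002d00022800288001a800380)
  (Net.cons (nat_lit 20) (nat_lit 0x371c00000009c6a00000469d200000f09a8000008a8e000000fd704000008878000000e9800)
  (Net.cons (nat_lit 40) (nat_lit 0x2666d312000000000000a210fe115000000000008b711c4440000000000047fb655024)
  (Net.cons (nat_lit 80) (nat_lit 0x55a1a2094106d1008200000000000000000000058d83189651654338a80)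
  (Net.cons (nat_lit 160) (nat_lit 0x42345a02de32f6987b952f41646cf083a0608000)
  Net.nil)))))))))))))))))
noncomputable def x303s : ℕ → Net := upd x301s 21 x303
theorem der304 : Der 275 (LX 4 Le.Mc.mvS) (cl gX (lw [0,1,2,3,4,5,6,7])) x303s := der302.ext (k := 9) (w := [19,20,17,19,20]) 21 (by decide +kernel)
theorem nokX : NetsOk 275 x303s vT := der304.elim fun _ h => h.1.ok
noncomputable def chX7 : Ch := []
noncomputable def chXD6 : ℕ := (nat_lit 0x10000000000000000000000000000000000000001)
noncomputable def chX6 : Ch := (0, chXD6, [21]) :: chX7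
theorem chXok6 : ChnL (FixV [Le.rU, Le.rV]) 275 (LX 4 Le.Mc.mvS) x303s chX6 2 := ChnL.cons2 (l0 := [21]) (n := 2) (B := 1) (k := 6) (rr := 300) ChnL.nil (by decide +kernel) (by decide +kernel)
noncomputable def chXD5 : ℕ := (nat_lit 0x8000002002000000000000020810000000000000000000010020010)
noncomputable def chX5 : Ch := (219, chXD5, [17,19,20,21]) :: chX6
theorem chXok5 : ChnL (FixV [Le.rU, Le.rV]) 275 (LX 4 Le.Mc.mvS) x303s chX5 18 := ChnL.cons2 (l0 := [17,19,20]) (n := 9) (B := 2) (k := 6) (rr := 300) chXok6 (by decide +kernel) (by decide +kernel)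
noncomputable def chXD4 : ℕ := (nat_lit 0x4000004000100018004008081000000800308612800000000000000000018a04f)
noncomputable def chX4 : Ch := (99, chXD4, [12,15,16,17,18,19,20,21]) :: chX5
theorem chXok4 : ChnL (FixV [Le.rU, Le.rV]) 275 (LX 4 Le.Mc.mvS) x303s chX4 486 := ChnL.cons2 (l0 := [12,15,16,17,18]) (n := 27) (B := 18) (k := 6) (rr := 300) chXok5 (by decide +kernel) (by decide +kernel)
noncomputable def chXD3 : ℕ := (nat_lit 0x400000000000200000000000000000000)
noncomputable def chX3 : Ch := (81, chXD3, [12,13,14,15,16,17,18,19,20,21]) :: chX4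
theorem chXok3 : ChnL (FixV [Le.rU, Le.rV]) 275 (LX 4 Le.Mc.mvS) x303s chX3 972 := ChnL.cons2 (l0 := [12,13,14]) (n := 2) (B := 486) (k := 6) (rr := 300) chXok4 (by decide +kernel) (by decide +kernel)
noncomputable def chXD2 : ℕ := (nat_lit 0x408080500010000000000000000000220240000000504023898d44d000040400000)
noncomputable def chX2 : Ch := (77, chXD2, [10,11,12,13,14,15,16,17,18,19,20,21]) :: chX3
theorem chXok2 : ChnL (FixV [Le.rU, Le.rV]) 275 (LX 4 Le.Mc.mvS) x303s chX2 29160 := ChnL.cons2 (l0 := [10,11]) (n := 30) (B := 972) (k := 6) (rr := 300) chXok3 (by decide +kernel) (by decide +kernel)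
noncomputable def chXD1 : ℕ := (nat_lit 0x2369a9aad93bf800a14488085060000d7fd7d946206870c033cdeddcd100846e54b00)
noncomputable def chX1 : Ch := (14, chXD1, [2,3,9,10,11,12,13,14,15,16,17,18,19,20,21]) :: chX2
theorem chXok1 : ChnL (FixV [Le.rU, Le.rV]) 275 (LX 4 Le.Mc.mvS) x303s chX1 3265920 := ChnL.cons2 (l0 := [2,3,9]) (n := 112) (B := 29160) (k := 6) (rr := 300) chXok2 (by decide +kernel) (by decide +kernel)
noncomputable def chXD0 : ℕ := (nat_lit 0x7ffffffffffffffffffffffffffffffffffffffffffffffffffffffffffffffffffff)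
noncomputable def chX0 : Ch := (166, chXD0, [0,1,2,3,4,5,6,7,9,10,11,12,13,14,15,16,17,18,19,20,21]) :: chX1
theorem chXok0 : ChnL (FixV [Le.rU, Le.rV]) 275 (LX 4 Le.Mc.mvS) x303s chX0 898128000 := ChnL.cons2 (l0 := [0,1,2,3,4,5,6,7]) (n := 275) (B := 3265920) (k := 6) (rr := 300) chXok1 (by decide +kernel) (by decide +kernel)
noncomputable def flX0 : ℕ := (nat_lit 0x262100120048120000000208402000a00500001809008220200804010102044002)
noncomputable def flX : List (List ℕ × ℕ) := [([8],flX0)]
theorem fokX : (spC 275 x303s 8 (lw [0,1,2,3,4,5]) flX).FixOk := SP.fixOk_of _ nokX (k := 9) (by decide +kernel)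
noncomputable def cm305T : BT := (BT.br [[0],[2],[4]] (BT.kid 166 [] (BT.br [[2],[1,4,0],[0,2,1],[1,2,0,0],[4,1,2,4,1]] (BT.kid 14 [] (BT.br [[4,1,4,0,4,2],[4,2,0,2,0,4],[1,1,2,4,2,0,0],[2,4,0,2,1,4,2]] (BT.kid 77 [] (BT.br [[4,0,2,1,4,1,4,0],[4,0,0,4,2,1,4,1,2]] (BT.kid 81 [] (BT.br [[4,0,0,4,2,1,4,1,2],[4,2,0,0,2,4,1,1,4,2]] (BT.kid 99 [] (BT.br [] (BT.kid 219 [] (BT.br [[4,1,1,4,0,0,4,1,1,4,0,0]] (BT.kid 0 [] BT.live BT.nil)) BT.nil)) BT.nil)) BT.nil)) BT.nil)) BT.nil)) BT.nil))
theorem cm305 : (spC 275 x303s 8 (lw [0,1,2,3,4,5]) flX).Clm (FixV [Le.rU, Le.rV]) (LX 4 Le.Mc.mvS) false 0 chX0 [] [] := SP.Clm.ofN (T := cm305T) (by decide +kernel)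
theorem ceX : cl gX (lw [0,1,2,3,4,5]) = Subgroup.centralizer {wp gX [0,2,4,0,2,4,0,2,4,0,2,4]} := cent_eq_cl modelX Le.C2.cardM der304 chXok0 fokX cm305 (by decide +kernel)
theorem hfX : ∀ u w, eqBc m276 Le.Mc.baseM u w = true → wp gX u = wp gX w := Le.Mc.basedM.eqv modelX.toIsPre
theorem ordX : orderOf (wp gX [0,2,4,0,2,4,0,2,4,0,2,4]) = 2 := orderOf_two (by rw [← wp_lapp]; exact hfX _ [] (by decide +kernel)) (modelX.ne_one_of_mp (p := 0) (by decide +kernel))
noncomputable def gK : ℕ → Subgroup.centralizer {wp gX [0,2,4,0,2,4,0,2,4,0,2,4]} := kG ceX.le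
theorem heqK : ∀ u w, (fun u w => eqBc m276 Le.Mc.baseM (sel (lw [0,1,2,3,4,5]) u) (sel (lw [0,1,2,3,4,5]) w)) u w = true → wp gK u = wp gK w := fun u w h => Subtype.ext (by rw [gK, wp_kG, wp_kG]; exact hfX _ _ h)
theorem s0K : Sat io [] gK := sat_of_eqv heqK (fun _ h => kG_ge _ (le_trans (by decide +kernel) h)) (by decide +kernel)
theorem zK : (wp gK [0,2,4,0,2,4,0,2,4,0,2,4]).1 = wp gX [0,2,4,0,2,4,0,2,4,0,2,4] := (wp_kG _ _).trans (hfX _ _ (by decide +kernel))
theorem cenK : wp gK [0,2,4,0,2,4,0,2,4,0,2,4] ∈ Subgroup.center _ := Subgroup.mem_center_iff.2 fun x => Subtype.ext (by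
  rw [Subgroup.coe_mul, Subgroup.coe_mul, zK]; exact Subgroup.mem_centralizer_singleton_iff.1 x.2)
theorem nsK : IsNonsplitDoubleCover (Subgroup.centralizer {wp gX [0,2,4,0,2,4,0,2,4,0,2,4]}) (alternatingGroup (Fin 8)) := by
  have hxy : wp gA [0] * wp gA [2] ≠ wp gA [2] * wp gA [0] := by
    rw [← wp_lapp, ← wp_lapp]; exact modelA.ne_of_mp (p := 0) (by decide +kernel)
  have hab : wp gK [0] * wp gK [2] ≠ wp gK [2] * wp gK [0] := fun e => by
    rw [← wp_lapp, ← wp_lapp] at e
    have := congrArg Subtype.val e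
    rw [gK, wp_kG, wp_kG] at this
    exact modelX.ne_of_mp (p := 0) (by decide +kernel) this
  obtain ⟨h1, e, -⟩ := bdA.central_ext satA topA cardA simpleA hxy s0K (top_kG ceX (by decide +kernel)) cenK
    (mem_zpowers_of_eqv heqK (u := [0,2,4,0,2,4,0,2,4,0,2,4]) (ks := [0,0,0,0,0,0,0,0,1,1,0,0,1]) (by decide +kernel)) hab
  refine nonsplit_of_sq h1 ?_ ⟨isoA.some.symm.trans e⟩ (y := wp gK [0,2,4,0,2,4]) (by rw [sq, ← wp_lapp]; rfl)
  rw [← Subgroup.orderOf_coe, zK, ordX]
noncomputable def m306n0 : Net := (Net.cons (nat_lit 160) (nat_lit 0xda61ca87be08bdcf05a50e27cd81ddf9274e05ba)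
  (Net.cons (nat_lit 80) (nat_lit 0x81ac438189dfd5abfb4500000000000000000000b58ac4ee80eb06786dfe)
  (Net.cons (nat_lit 40) (nat_lit 0x876718669d00000000009a223873d0000000000097891090800000000000bf870b569a)
  (Net.cons (nat_lit 20) (nat_lit 0xb8a210000058c0800000a138800000b186700000ccdf800000d0bf50000081ca900000151ac)
  (Net.cons (nat_lit 10) (nat_lit 0x1c900167000360034d0029200148001ab00244001ca003e2002e10000900355003f00030e001b0)
  (Net.cons (nat_lit 5) (nat_lit 0x301007c1000014038110541d02816044130780900402050180201b01c0900019010140340b00013)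
  (Net.cons (nat_lit 1) (nat_lit 0x1004210100000000000000048028000000010000000000000000000000400200012800000000)
  (Net.cons (nat_lit 1) (nat_lit 0x5000200842028080080a02100029405290010102020005000a408020000200848508025000200140)
  (Net.cons (nat_lit 1) (nat_lit 0x290040108401424014a4090a5010a029484284a409480210042140401005210a4290842800508081)
  (Net.cons (nat_lit 1) (nat_lit 0x5214a1290a4284a5094a5084212840529421284a128405210a50948028425294a121485000212942)
  (Net.cons (nat_lit 1) (nat_lit 0x2902508480010a0000210802520000200242102000085080010800001421204a5080052102428004)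
  (Net.cons (nat_lit 5) (nat_lit 0x301c078000601c01000020000200e0501005010000080600803010060020480807804038080201a)
  (Net.cons (nat_lit 10) (nat_lit 0x1200017e003380012c0033a00070003e6000280014c003a200076003e400306002b20024c0010a)
  (Net.cons (nat_lit 20) (nat_lit 0x2eab00000080b4a00000ed7a8000000dd1200000dadb800000b9c540000042248000005f9a2)
  (Net.cons (nat_lit 40) (nat_lit 0xf07d967000000000000907104c4080000000000971b75da800000000000b8df3b1ed0)
  (Net.cons (nat_lit 80) (nat_lit 0xd18d0b860fd5b46ebf2e000000000000000000009104d0a6c04b2896615c)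
  (Net.cons (nat_lit 160) (nat_lit 0xda61ca87be091dcde00344e85a03a0ffd22159aa)
  Net.nil)))))))))))))))))
noncomputable def m306n1 : Net := (Net.cons (nat_lit 160) (nat_lit 0xcc5cf24be66c361d77bbd40fd80a523fce0655)
  (Net.cons (nat_lit 80) (nat_lit 0xa6a666a0cb517dbd4a9000000000000000000001b9db6f1c92152a396ad)
  (Net.cons (nat_lit 40) (nat_lit 0xdc5e29f402000000000046e272431600000000009f069a55c1000000000047f6062dea)
  (Net.cons (nat_lit 20) (nat_lit 0xc6da10000086e130000050c1e0000013de700000ce7e900000d1482000002db680000000f23)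
  (Net.cons (nat_lit 10) (nat_lit 0x3100000f00210003da0027900011003da001d700252001fc00116002f90002e001a80012500005)
  (Net.cons (nat_lit 5) (nat_lit 0x40040001c0000805c050141600c150301901c08010040380f02416078030281002c100381001819)
  (Net.cons (nat_lit 1) (nat_lit 0x1200000000001400080000000500020000000002000000000200000020000004000002008000)
  (Net.cons (nat_lit 1) (nat_lit 0x280a508404080a12800500000004a02840028000084210100100404200a5000a029021004050008)
  (Net.cons (nat_lit 1) (nat_lit 0x1084294a1290042140029401200a5294a00100029484290a0294812140529404214a42948020084)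
  (Net.cons (nat_lit 1) (nat_lit 0x294a1284a5290a52802509424284a109484290210948120421090a128021090a128485090850902)
  (Net.cons (nat_lit 1) (nat_lit 0x802048409001284810048028085000a02040409005200a109005204a501000204040942508484)
  (Net.cons (nat_lit 5) (nat_lit 0x4016040140000a0100c02014028180200000810020040300e0380a03800010080001e0700c05808)
  (Net.cons (nat_lit 10) (nat_lit 0x31000082002a0003f2001a4000fc003a0003c200358000fc000e000006002640014400308000a0)
  (Net.cons (nat_lit 20) (nat_lit 0x541a400000acc5c00000b2dd400000de13600000faf0000000cff04000006da08000001dc20)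
  (Net.cons (nat_lit 40) (nat_lit 0xdcb253ec080000000000c36bffa7c40000000000a2200db01c0000000000ccc4652d48)
  (Net.cons (nat_lit 80) (nat_lit 0xa623a5844f6e89dd91a00000000000000000000829f36fd7d3fda1e7484)
  (Net.cons (nat_lit 160) (nat_lit 0xcc5cf24be35fb4f852995b3af22862c8b2f650)
  Net.nil)))))))))))))))))
noncomputable def m306n2 : Net := (Net.cons (nat_lit 160) (nat_lit 0xc8c5dc5a48c56ccc6604079622ade4320cd69d21)
  (Net.cons (nat_lit 80) (nat_lit 0x4a5ba69c9082d3e237b500000000000000000000e860a05e319c641cbb26)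
  (Net.cons (nat_lit 40) (nat_lit 0xc41f3f1de80000000000731260a35b0000000000a0bc96e62800000000006bd12a14da)
  (Net.cons (nat_lit 20) (nat_lit 0x7a9fe0000002ac300000ee4730000021214000007bd3400000b6d680000044946000002019c)
  (Net.cons (nat_lit 10) (nat_lit 0x239000500024c003e10003e0036b0004000308001c80032e0030e001f500100002dc0001600172)
  (Net.cons (nat_lit 5) (nat_lit 0x341b01c080600b048120781a0381a03c06010060541106c08040180101c00c090380c0701f05414)
  (Net.cons (nat_lit 1) (nat_lit 0x1080000000000000280050800001000000010002008400080800000100020004010002000005)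
  (Net.cons (nat_lit 1) (nat_lit 0x21010200100508005010a1200012800101020014050800101404000a000480080a100404000a)
  (Net.cons (nat_lit 1) (nat_lit 0x20004280a4200a421405280852108021480214a401080210a0280a4280252848401005200a429005)
  (Net.cons (nat_lit 1) (nat_lit 0x1200a5204812048528425004a5284a40902509480214252842508485204a1090a0210a401481280a)
  (Net.cons (nat_lit 1) (nat_lit 0x290002042420404010a1080812008120485010010102500024000a4080a129084094050000121425)
  (Net.cons (nat_lit 5) (nat_lit 0x381a030080680200002070000680807002020060000e0200c040080701e0081a0081c0601007812)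
  (Net.cons (nat_lit 10) (nat_lit 0x3380016e00340003fe0001400360002840035000018003a600358003e8000e4002b8000c000050)
  (Net.cons (nat_lit 20) (nat_lit 0x360a60000042a9e00000a24300000031e940000047594000000795c000000d8440000020820)
  (Net.cons (nat_lit 40) (nat_lit 0xc452175f6800000000004fb6e0a33200000000003cee34e42a000000000078d01c1576)
  (Net.cons (nat_lit 80) (nat_lit 0x4adff6dc908604ca474a00000000000000000000fe6a817f31b7be22b23c)
  (Net.cons (nat_lit 160) (nat_lit 0xc8c5dc5a48c047fcae584d03a7242435af079ee0)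
  Net.nil)))))))))))))))))
noncomputable def m306n3 : Net := (Net.cons (nat_lit 160) (nat_lit 0xc299c38d361ee00a99ef23fa20f316de1ce54d85)
  (Net.cons (nat_lit 80) (nat_lit 0x6dc7b2f752b3fe25fe3600000000000000000000208cadd71cfb9c3f2bb5)
  (Net.cons (nat_lit 40) (nat_lit 0x1f4211bd220000000000d74150c4720000000000caa9d8c386000000000021dc83b420)
  (Net.cons (nat_lit 20) (nat_lit 0x441a6000002a96e000001096000000509e60000009154000009446600000003f200000a0b00)
  (Net.cons (nat_lit 10) (nat_lit 0x1460033a001ce000e7000c700158002a2001740024b002ef0028e001bb00104000d6001960021c)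
  (Net.cons (nat_lit 5) (nat_lit 0x3c0504c1c0281503c1c0600b03c02008180581600c020601d0241007c0901c1407014040130201f)
  (Net.cons (nat_lit 1) (nat_lit 0x4000000008000000000000008000000050000000401080012000100000000a00000000000)
  (Net.cons (nat_lit 1) (nat_lit 0x1000a029400000a101000000a0200a100000080a409080094a100025000a02002121480210000040)
  (Net.cons (nat_lit 1) (nat_lit 0x20024014a401005200a0014842148520004214a5210a4010a42808429484010a4214a401084210a0)
  (Net.cons (nat_lit 1) (nat_lit 0x5284a4294242802501485084a1084a401024084a5204a0204a500481090a0284a5094a028484204a)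
  (Net.cons (nat_lit 1) (nat_lit 0x902128484290012842000481204812800009405004a40000120084084a1090810042001425010a5)
  (Net.cons (nat_lit 5) (nat_lit 0x28040001c060100300007008038020000000014008100100c07016048100501a0501a0400402018)
  (Net.cons (nat_lit 10) (nat_lit 0x100003da001d60028e001d2000480018800116002e0002ae000ae001c000380000c40038000190)
  (Net.cons (nat_lit 20) (nat_lit 0x7edc6000008a54c000004417000000009e8000004e74c000009814600000ab1380000045950)
  (Net.cons (nat_lit 40) (nat_lit 0x319ee33f20000000000085d9d4c5e00000000000f3a16842160000000000008f8d9caa)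
  (Net.cons (nat_lit 80) (nat_lit 0x2dc7f07f70a4701c6b4c000000000000000000000daa91b5dc5dafe4b16e)
  (Net.cons (nat_lit 160) (nat_lit 0xc299c38d361a967b81d9c663967376859fef4b66)
  Net.nil)))))))))))))))))
noncomputable def m306n4 : Net := (Net.cons (nat_lit 160) (nat_lit 0x9deab78f4d8636d7437666cbea3dbcca8f992088)
  (Net.cons (nat_lit 80) (nat_lit 0x4eeef1e27397044074d600000000000000000000fe416a03aec093d1cbb3)
  (Net.cons (nat_lit 40) (nat_lit 0xc91563cfb90000000000bbc9786ea40000000000ba41a913fc000000000073414129c1)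
  (Net.cons (nat_lit 20) (nat_lit 0x8e4f100000835f300000307a000000f056b00000a959800000425d700000d76ec0000009761)
  (Net.cons (nat_lit 10) (nat_lit 0x8d0024800101003f50027400042003a2001e600094002e8000e900087000300001c0038e00156)
  (Net.cons (nat_lit 5) (nat_lit 0x2c110701a0581100c0b0441d04411048020000b06002008000081a018150681005c120100806017)
  (Net.cons (nat_lit 1) (nat_lit 0x20004000000008020000000000400000080010000008000000010000028400280000000000020)
  (Net.cons (nat_lit 1) (nat_lit 0x148008085014a108400200a5000a0000a5014200000501421000a0014050800500020084000140)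
  (Net.cons (nat_lit 1) (nat_lit 0x204842102428085214800108529405210042048401080214a420424280842900028085090a0200a4)
  (Net.cons (nat_lit 1) (nat_lit 0x1094a1214a5214a4090802902528021210a509480204a5084a5094a1014a521005004a1284a4014a)
  (Net.cons (nat_lit 1) (nat_lit 0x80052102000024200a50040121405214a0004a5210040902008424210040140000084084a508020)
  (Net.cons (nat_lit 5) (nat_lit 0x38080781e070020000a050120401804008000000600400812058000381800010078100400e00802)
  (Net.cons (nat_lit 10) (nat_lit 0xae00050001040017a002c000066001320006400084000880017800028000e00015c0032400388)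
  (Net.cons (nat_lit 20) (nat_lit 0x9e142000005819a00000ba80000000016600000089480000002b55000000c7fbc00000055ec)
  (Net.cons (nat_lit 40) (nat_lit 0xdef544eecc00000000009ec0ebe0280000000000fa518913ee000000000053fb09d992)
  (Net.cons (nat_lit 80) (nat_lit 0xce6ce76c73159ad45134000000000000000000009c556a43bccc7a2179aa)
  (Net.cons (nat_lit 160) (nat_lit 0x9deab78f4d879d645cff5df54f4ab89e856134fa)
  Net.nil)))))))))))))))))
noncomputable def m306n5 : Net := (Net.cons (nat_lit 160) (nat_lit 0xbdea338b6fc715045cfdddf54742989aa46fb6fa)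
  (Net.cons (nat_lit 80) (nat_lit 0x1a95f06a824bc5d0bb2e0000000000000000000063840790c2b292d7503d)
  (Net.cons (nat_lit 40) (nat_lit 0xeb2e56a6860000000000c83b81a6ac0000000000556576f098000000000050fbaca2f1)
  (Net.cons (nat_lit 20) (nat_lit 0xd816b000009f9e90000070e17000006a5d100000a9a5c000003a8e400000c6a9800000d31a3)
  (Net.cons (nat_lit 10) (nat_lit 0x277000380033f000c8000a40035b00147002ce0035c00200000ec001bf002da003900007100085)
  (Net.cons (nat_lit 5) (nat_lit 0x701a05817034140781900c14014000240706404054100401c038000640203c1006413038160200d)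
  (Net.cons (nat_lit 1) (nat_lit 0x480000000000100020004000800000400000000000000000080000000000000000000102000001)
  (Net.cons (nat_lit 1) (nat_lit 0x12940020021214a0094002800100000290a021000000a02040500000014212800020004284802002)
  (Net.cons (nat_lit 1) (nat_lit 0x290a501024210a42908521404280a0090a401084014050148021000204a52100409005294a4010a5)
  (Net.cons (nat_lit 1) (nat_lit 0x52942029484094a1214a4280a520401294a1294240802009025084842942528081080a5094a0094a)
  (Net.cons (nat_lit 1) (nat_lit 0x28480094242840101024280040940001400094240040101000090a021081090000900008004214a0)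
  (Net.cons (nat_lit 5) (nat_lit 0x7810070160501406000010100280a07814040060500004818000080201a01018050120080802808)
  (Net.cons (nat_lit 10) (nat_lit 0x300003d80010400270000b0002f000300000000031c002c6001a0000ac002d000188000e800096)
  (Net.cons (nat_lit 20) (nat_lit 0x8e4640000091a5800000313bc0000053fd60000089a54000003302400000cc14400000d0308)
  (Net.cons (nat_lit 40) (nat_lit 0x6b14a76dc800000000003999a12ba0000000000056607a74da000000000016b90ca450)
  (Net.cons (nat_lit 80) (nat_lit 0x9bdfc162a60cd902b7980000000000000000000021954bc052b62dca5564)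
  (Net.cons (nat_lit 160) (nat_lit 0xbdea338b6fc236d7677664c3c234b4c0cd9f0088)
  Net.nil)))))))))))))))))
noncomputable def m306l : List Net := [m306n0,m306n1,m306n2,m306n3,m306n4,m306n5,Net.nil,Net.nil]
noncomputable abbrev m306 : ℕ → Net := lk Net.nil m306l
theorem m306ok : NetsOk 275 m306 vT := netsOk_of (by decide +kernel)
theorem m306s0 : Sat io [] (finG m306ok) := fin_sat_nil _ (k := 9) (n := 8) (by decide +kernel)
noncomputable def wsY : List (List ℕ) := [[0,0,4,3,4,4,1,5,2,1,5,1],[0,4,0,3,4,0,5,5,2,5,1,1],[4,1,4,0,5,5,5,2,0,4,4,4,4,1,5,0,2],[3,1,4,0,5,5,5,5,1,3,4,4,4,1,5,0,5],[2,2,0,4,4,1,1,5,1,4,4,1,5,5,0],[1,4,4,0,5,5,0,4,0,0,5,5,1,3,3],[],[]]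
def m0Y := Le.Mc.mvm.dG (ws := wsY) (k := 9) (nl := m306l) (by decide +kernel)
noncomputable def gY : ℕ → (FixV [Le.rU, Le.rV]) := dG Le.Mc.gM wsY
def modelY := m0Y
theorem hgeY : ∀ l, llen il ≤ l → gY l = 1 := fun _ h => dG_ge h
theorem heqY : ∀ u w, (fun u w => eqBc Le.Mc.mv Le.Mc.baseM (sel wsY u) (sel wsY w)) u w = true → wp gY u = wp gY w := eqv_dG Le.Mc.heqM _
theorem s0Y : Sat io [] gY := sat_of_eqv heqY hgeY (by decide +kernel)

end Cfsg.Agent.H6.McC
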