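import Cfsg.Agent.H6.McB1
set_option maxRecDepth 100000
set_option Elab.async false
namespace Cfsg.Agent.H6.McC
open Cfsg.Agent.H6
universe u

theorem der307 : Der 275 (LX 4 Le.Mc.mvS) (cl gY (lw [0,2,4,6])) (fun _ => Net.nil) := Der.zero modelY.inj
noncomputable def ns308 : ℕ → Net := upd (fun _ => Net.nil) 0 (m306 0)
theorem der309 : Der 275 (LX 4 Le.Mc.mvS) (cl gY (lw [0,2,4,6])) ns308 := der307.add (wp_mem_cl (w := [0]) (by decide)) (rep_letter modelY 0) 0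
noncomputable def ns310 : ℕ → Net := upd ns308 1 (m306 2)
theorem der311 : Der 275 (LX 4 Le.Mc.mvS) (cl gY (lw [0,2,4,6])) ns310 := der309.add (wp_mem_cl (w := [2]) (by decide)) (rep_letter modelY 2) 1
noncomputable def ns312 : ℕ → Net := upd ns310 2 (m306 4)
theorem der313 : Der 275 (LX 4 Le.Mc.mvS) (cl gY (lw [0,2,4,6])) ns312 := der311.add (wp_mem_cl (w := [4]) (by decide)) (rep_letter modelY 4) 2
noncomputable def ns314 : ℕ → Net := upd ns312 3 (m306 6)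
theorem der315 : Der 275 (LX 4 Le.Mc.mvS) (cl gY (lw [0,2,4,6])) ns314 := der313.add (wp_mem_cl (w := [6]) (by decide)) (rep_letter modelY 6) 3
noncomputable def x316 : Net := (Net.cons (nat_lit 160) (nat_lit 0x6b1601c01896a0d85b14236091600d125c02a000)
  (Net.cons (nat_lit 80) (nat_lit 0x6a53b73ad830e9580010000000000000000000002674a0b4fba6a07451c0)
  (Net.cons (nat_lit 40) (nat_lit 0x47c3e628480000000000e960c1872c0000000000577d5810d000000000002a34503166)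
  (Net.cons (nat_lit 20) (nat_lit 0x161e800000b346a000008c900000004d990000004826800000ba98d00000a8d5000000ec3fc)
  (Net.cons (nat_lit 10) (nat_lit 0x920027800049002e1000a00031000120001ac0004c0030e000c0000fb003a600124000ac001f0)
  (Net.cons (nat_lit 5) (nat_lit 0x68040201800014068080001c06410018140180a0480907012030180381d054120201705c1004c16)
  (Net.cons (nat_lit 1) (nat_lit 0x40002000020000000000000020000a0000000142001004200040802000001200000100008000)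
  (Net.cons (nat_lit 1) (nat_lit 0xa00140001400004000040001401014010000028480280a5280a528400080a528001284a50040)
  (Net.cons (nat_lit 1) (nat_lit 0x200052008001485000a4094a001080280a129404214850148529405294840140429481294a4280a4)
  (Net.cons (nat_lit 1) (nat_lit 0x5004a401400094a42048108480094a12942128084294a0294a5280a509421284a509421284a50042)
  (Net.cons (nat_lit 1) (nat_lit 0x204042902021425080a40940001020280a101424294a52108420084294012100020420200a1010a4)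
  (Net.cons (nat_lit 5) (nat_lit 0x68040281000014000080001c0201000014018020481407012030180201606814030000780204806)
  (Net.cons (nat_lit 10) (nat_lit 0x920027800000002e0000a00031000120001ac0004c0030e000c000160001a0000b20018c001e2)
  (Net.cons (nat_lit 20) (nat_lit 0x161e80000032468000008c900000004d9900000048268000009a880000008d3d000000a014a)
  (Net.cons (nat_lit 40) (nat_lit 0x47c5e620480000000000e960c0872c000000000057795010d0000000000026b6067ea0)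
  (Net.cons (nat_lit 80) (nat_lit 0x6a53b73ad830e9580010000000000000000000002674a0b4fba6a07451c0)
  (Net.cons (nat_lit 160) (nat_lit 0x6b1601c01896a0d85b14236091600d125c02a000)
  Net.nil)))))))))))))))))
noncomputable def x316s : ℕ → Net := upd ns314 4 x316
theorem der317 : Der 275 (LX 4 Le.Mc.mvS) (cl gY (lw [0,2,4,6])) x316s := der315.ext (k := 9) (w := [1,0,2,0,2,0,0]) 4 (by decide +kernel)
noncomputable def L318 : Lev := Lev.cons 1 2 [[4]] Lev.nil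
noncomputable def L319 : Lev := Lev.cons 0 64 [[0],[1],[2]] L318
theorem lc320 : Lev.chk 275 6 x316s vT 100 L319 = true := by decide +kernel
theorem lb321 : 128 ≤ Nat.card (cl gY (lw [0,2,4,6])) := le_of_eq_of_le (by decide +kernel) (der317.card_ge lc320)
theorem hfY : ∀ u w, eqBc m306 Le.Mc.baseM u w = true → wp gY u = wp gY w := Le.Mc.basedM.eqv modelY.toIsPre
noncomputable def WY : List (List ℕ) := [[],[0],[2],[4],[0,0],[2,0],[4,0],[0,2],[2,2],[4,2],[0,4],[2,4],[4,4],[0,0,0],[2,0,0],[4,0,0],[0,2,0],[2,2,0],[4,2,0],[0,4,0],[2,4,0],[4,4,0],[2,0,2],[4,0,2],[2,2,2],[4,2,2],[0,4,2],[4,4,2],[0,0,4],[2,0,4],[4,0,4],[0,2,4],[0,4,4],[2,0,0,0],[4,0,0,0],[0,2,0,0],[2,2,0,0],[4,2,0,0],[0,4,0,0],[2,4,0,0],[4,4,0,0],[2,0,2,0],[4,0,2,0],[2,2,2,0],[4,2,2,0],[0,4,2,0],[4,4,2,0],[0,0,4,0],[2,0,4,0],[0,2,4,0],[0,4,4,0],[0,2,0,2],[2,2,0,2],[4,2,0,2],[0,4,0,2],[2,4,0,2],[4,4,0,2],[0,4,2,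2],[4,4,2,2],[0,0,4,2],[2,0,4,2],[4,0,4,2],[0,4,4,2],[0,0,0,4],[2,0,0,4],[0,2,0,4],[4,2,0,4],[2,4,0,4],[4,4,0,4],[2,0,2,4],[4,0,2,4],[0,0,4,4],[2,0,4,4],[4,0,4,4],[0,2,0,0,0],[0,4,0,0,0],[2,4,0,0,0],[4,4,0,0,0],[2,0,2,0,0],[4,0,2,0,0],[2,2,2,0,0],[4,2,2,0,0],[0,4,2,0,0],[4,4,2,0,0],[0,0,4,0,0],[0,2,4,0,0],[0,4,4,0,0],[0,2,0,2,0],[2,2,0,2,0],[4,2,0,2,0],[0,4,0,2,0],[2,4,0,2,0],[4,4,0,2,0],[0,4,2,2,0],[4,4,2,2,0],[0,0,4,2,0],[4,0,4,2,0],[0,0,0,4,0],[2,0,0,4,0],[0,2,0,4,0],[4,2,0,4,0],[2,0,2,4,0],[4,0,2,4,0],[0,0,4,4,0],[2,0,4,4,0],[4,0,4,4,0],[2,2,2,0,2],[4,4,2,0,2],[0,4,4,0,2],[0,0,4,2,2],[0,4,4,2,2],[0,0,0,4,2],[4,4,0,4,2],[2,0,2,0,0,0],[0,0,4,0,0,0],[0,4,4,0,0,0],[0,2,0,2,0,0],[0,4,0,2,0,0],[4,4,0,2,0,0],[0,0,4,2,0,0],[0,0,0,4,0,0],[2,0,0,4,0,0],[4,4,2,0,2,0],[0,4,4,0,2,0],[0,4,4,2,2,0],[4,4,0,4,2,0],[0,0,0,4,0,0,0],[0,4,4,0,2,0,0]]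
theorem clY : ∀ x ∈ cl gY (lw [0,2,4,6]), ∃ w ∈ WY, wp gY w = x := list_of_tab hfY (tab := [[1,2,3,0],[4,5,6,1],[7,8,9,2],[10,11,12,3],[13,14,15,4],[16,17,18,5],[19,20,21,6],[14,22,23,7],[17,24,25,8],[26,19,27,9],[28,29,30,10],[31,25,24,11],[32,27,19,12],[8,33,34,13],[35,36,37,14],[38,39,40,15],[33,41,42,16],[36,43,44,17],[45,38,46,18],[47,48,0,19],[49,44,43,20],[50,46,38,21],[51,52,53,22],[54,55,56,23],[52,0,48,24],[57,54,58,25],[59,60,61,26],[62,58,54,27],[63,64,50,28],[65,57,66,29],[0,67,68,30],[64,69,70,31],[71,72,73,32],[74,30,29,33],[75,76,77,34],[24,78,79,35],[30,80,81,36],[82,75,83,37],[84,31,1,38],[85,81,80,39],[86,83,75,40],[87,88,89,41],[90,91,92,42],[88,1,31,43],[93,90,94,44],[95,28,96,45],[27,94,90,46],[97,98,86,47],[99,93,100,48],[98,101,102,49],[103,104,105,50],[78,16,84,51],[80,106,95,52],[105,82,107,53],[18,3,2,54],[15,95,106,55],[108,107,82,56],[109,85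,13,57],[110,100,93,58],[111,97,108,59],[91,99,32,60],[2,87,112,61],[102,77,76,62],[25,112,87,63],[23,109,74,64],[112,84,16,65],[83,103,111,66],[96,13,85,67],[101,111,103,68],[89,18,17,69],[100,21,20,70],[107,102,101,71],[92,110,26,72],[3,79,78,73],[43,113,59,74],[114,49,4,75],[9,68,67,76],[115,66,57,77],[116,61,60,78],[117,63,118,79],[61,4,49,80],[69,117,71,81],[119,47,7,82],[46,71,117,83],[120,121,115,84],[121,10,62,85],[12,56,55,86],[113,35,114,87],[67,51,119,88],[55,65,122,89],[37,6,5,90],[34,119,51,91],[123,122,65,92],[53,9,8,93],[124,70,69,94],[11,120,123,95],[5,116,125,96],[44,125,116,97],[42,53,52,98],[125,114,35,99],[66,12,11,100],[60,37,36,101],[70,40,39,102],[122,62,10,103],[118,124,45,104],[6,59,113,105],[41,7,47,106],[58,123,120,107],[72,50,64,108],[73,45,124,109],[40,118,63,110],[48,34,33,111],[39,73,72,112],[22,96,28,113],[126,26,110,114],[21,92,91,115],[106,74,109,116],[29,15,14,117],[127,32,99,118],[20,126,127,119],[81,23,22,120],[79,89,88,121],[94,127,126,122],[104,86,98,123],[77,108,97,124],[76,105,104,125],[68,42,41,126],[56,115,121,127]])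 List.mem_cons_self (by decide +kernel)
noncomputable def tst (w e : List ℕ) : Bool :=
  match e with
  | 0 :: c => eqBc Le.Mc.mv Le.Mc.baseM (lapp c (sel wsX [0,2,4,0,2,4,0,2,4,0,2,4])) (lapp (sel wsY w) c)
  | [1] => isNil w
  | [2, p] => band (Nat.ble (Nat.succ p) 275) (beqb (Nat.beq (fnWc m306 (lapp w w) p) p) false)
  | _ => false
theorem tstY : lall2 tst WY [[1],[2,0],[2,0],[2,0],[2,0],[2,0],[0,1,5,0,4,4,2,0,4],[2,0],[0],[0,5,1,5,1,1,5,2,0],[0,2,0,4,3,0,2],[0,4,1,5,2,2,0,4,0],[0,1,5,3,1,5,1,4,4],[2,0],[0,4,0,4,2,0,0,4,0],[2,0],[0,3,1,5,2,1,5,5,3],[2,0],[2,0],[2,0],[2,0],[2,0],[2,0],[2,0],[2,0],[2,0],[2,0],[2,0],[2,0],[2,0],[2,0],[2,0],[2,0],[2,0],[2,0],[2,0],[2,0],[2,0],[2,0],[2,0],[0,0,0,4,1,5,0,4,0],[0,2,2,0,5,5],[0,5,0,4,0,4,4,2,2],[2,0],[0,1,4,1,5,1,4,1],[2,0],[2,0],[2,0],[0,1,5,0,5,3,1],[2,0],[0,4,0,4,4,1,5,5],[0,0,4,3,1,4,0],[2,0],[2,0],[0,3,1,5,1,4,2,2,0],[0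,5,5,0,4,1,1,4,1],[2,0],[0,5,1,5,0,5,3,0,5,0],[0,5,1,1,4,4,0,4],[2,0],[0,5,0,5,5,1,5,0],[2,0],[2,0],[2,0],[2,0],[0,2,1,4,1,1,4],[2,0],[2,0],[2,0],[2,0],[2,0],[0,5,1,1,5,5,1,3],[2,0],[2,0],[2,0],[2,0],[2,0],[2,0],[2,0],[2,0],[0,5,0,4,4,4,2,2],[2,0],[2,0],[2,0],[2,0],[2,0],[2,0],[2,0],[0,2,1,5,2,1,4,2,0],[2,0],[2,0],[2,0],[0,1,1,5,5,0,2,0],[2,0],[2,0],[2,0],[2,0],[2,0],[2,0],[2,0],[2,0],[2,0],[2,0],[2,0],[0,1,4,3,1,5,1,3,0],[2,0],[2,0],[2,0],[0,4,0,4,3,0,4,0,0],[2,0],[2,0],[2,0],[2,0],[2,0],[0,0,4,2,1,5,2],[0,3,1,5,3,1,5,1],[2,0],[2,0],[2,0],[0,2,1,5,5,3,1,5,3],[0,1,1,5,5,5,2,2],[0,4,1,4,0,4,2,0],[0,1,1,5,1,4,3,0,0],[2,0],[0,4,0,4,4,3,0,3,0],[2,0],[2,0],[0,3,0,0,5,2,1,4,1]] = true := by decide +kernel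
theorem conjY : ∀ w ∈ WY, orderOf (wp gY w) = 2 → IsConj (wp gY w) (wp gX [0,2,4,0,2,4,0,2,4,0,2,4]) := forall_of_lall2 tstY fun w e h ho => by
  unfold tst at h
  split at h
  · rename_i c
    have := Le.Mc.heqM _ _ h
    rw [wp_lapp, wp_lapp, ← wp_dG, ← wp_dG] at this
    exact (isConj_iff.2 ⟨wp Le.Mc.gM c, mul_inv_eq_iff_eq_mul.2 this⟩).symm
  · rw [isNil_eq h, wp_nil, orderOf_one] at ho
    exact absurd ho (by norm_num)
  · have := modelY.ne_one_of_mp h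
    rw [wp_lapp, ← sq, ← ho] at this
    exact absurd (pow_orderOf_eq_one _) this
  · cases h
theorem allC (x : (FixV [Le.rU, Le.rV])) (hx : orderOf x = 2) : IsConj x (wp gX [0,2,4,0,2,4,0,2,4,0,2,4]) :=
  invol_conj (k := 7) (by rw [Le.C2.cardM]; exact (Nat.factorization_def _ Nat.prime_two).trans (by decide +kernel)) clY (by decide +kernel) lb321 conjY x hx

end Cfsg.Agent.H6.McC
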