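import Cfsg.Agent.H6.SMat6
import Cfsg.Agent.H6.Simp3
set_option maxRecDepth 100000
set_option Elab.async false
namespace Cfsg.Agent.H6.SMat
open Cfsg.Agent.H6
universe u

noncomputable def cv11 : List (List ℕ) := [[0],[4,0,5]]
theorem der7001 : Der 24 pt (cl g11 cv11) (fun _ => Net.nil) := Der.zero model11.inj
noncomputable def ns7002 : ℕ → Net := upd (fun _ => Net.nil) 0 (m497 0)
theorem der7003 : Der 24 pt (cl g11 cv11) ns7002 := der7001.add (wp_mem_cl (w := [0]) (by decide)) (rep_letter model11 0) 0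
noncomputable def x7004 : Net := (Net.cons (nat_lit 12) (nat_lit 2646)
  (Net.cons (nat_lit 6) (nat_lit 45068)
  (Net.cons (nat_lit 3) (nat_lit 8260)
  (Net.cons (nat_lit 1) (nat_lit 0x241008)
  (Net.cons (nat_lit 1) (nat_lit 0x492490)
  (Net.cons (nat_lit 1) (nat_lit 0x209000)
  (Net.cons (nat_lit 3) (nat_lit 4)
  (Net.cons (nat_lit 6) (nat_lit 40)
  (Net.cons (nat_lit 12) (nat_lit 2356)
  Net.nil)))))))))
noncomputable def ns7005 : ℕ → Net := upd ns7002 1 x7004
theorem der7006 : Der 24 pt (cl g11 cv11) ns7005 := der7003.add (wp_mem_cl (w := [4,0,5]) (by decide)) (model11.toIsPre.rep_word (k := 5) (w := [4,0,5]) (n := x7004) (by decide +kernel)) 1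
noncomputable def x7007 : Net := (Net.cons (nat_lit 12) (nat_lit 2884)
  (Net.cons (nat_lit 6) (nat_lit 0x2b030)
  (Net.cons (nat_lit 3) (nat_lit 0x43180)
  (Net.cons (nat_lit 1) (nat_lit 0x402010)
  (Net.cons (nat_lit 1) (nat_lit 0x48040)
  (Net.cons (nat_lit 3) (nat_lit 8320)
  (Net.cons (nat_lit 6) (nat_lit 0x20030)
  (Net.cons (nat_lit 12) (nat_lit 2884)
  Net.nil))))))))
noncomputable def x7007s : ℕ → Net := upd ns7005 2 x7007
theorem der7008 : Der 24 pt (cl g11 cv11) x7007s := der7006.ext (k := 5) (w := [0,1]) 2 (by decide +kernel)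
noncomputable def x7009 : Net := (Net.cons (nat_lit 12) (nat_lit 2216)
  (Net.cons (nat_lit 6) (nat_lit 0x1f030)
  (Net.cons (nat_lit 3) (nat_lit 0x1c21c0)
  (Net.cons (nat_lit 1) (nat_lit 64)
  (Net.cons (nat_lit 1) (nat_lit 9344)
  (Net.cons (nat_lit 1) (nat_lit 33288)
  (Net.cons (nat_lit 3) (nat_lit 8192)
  (Net.cons (nat_lit 6) (nat_lit 0x3201c)
  (Net.cons (nat_lit 12) (nat_lit 2752)
  Net.nil)))))))))
noncomputable def x7009s : ℕ → Net := upd x7007s 3 x7009
theorem der7010 : Der 24 pt (cl g11 cv11) x7009s := der7008.ext (k := 5) (w := [0,0,0,0,1,0]) 3 (by decide +kernel)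
noncomputable def x7011 : Net := (Net.cons (nat_lit 12) (nat_lit 2712)
  (Net.cons (nat_lit 6) (nat_lit 24636)
  (Net.cons (nat_lit 3) (nat_lit 0x1030c4)
  (Net.cons (nat_lit 1) (nat_lit 8)
  (Net.cons (nat_lit 1) (nat_lit 0x480410)
  (Net.cons (nat_lit 1) (nat_lit 0x201248)
  (Net.cons (nat_lit 3) (nat_lit 0x82004)
  (Net.cons (nat_lit 6) (nat_lit 8252)
  (Net.cons (nat_lit 12) (nat_lit 472)
  Net.nil)))))))))
noncomputable def x7011s : ℕ → Net := upd x7009s 4 x7011
theorem der7012 : Der 24 pt (cl g11 cv11) x7011s := der7010.ext (k := 5) (w := [3,3,3,2,3,2]) 4 (by decide +kernel)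
noncomputable def x7013 : Net := (Net.cons (nat_lit 12) (nat_lit 2488)
  (Net.cons (nat_lit 6) (nat_lit 0x28004)
  (Net.cons (nat_lit 3) (nat_lit 0x47180)
  (Net.cons (nat_lit 1) (nat_lit 32776)
  (Net.cons (nat_lit 1) (nat_lit 0x90090)
  (Net.cons (nat_lit 1) (nat_lit 37376)
  (Net.cons (nat_lit 3) (nat_lit 0x104104)
  (Net.cons (nat_lit 6) (nat_lit 24596)
  (Net.cons (nat_lit 12) (nat_lit 1808)
  Net.nil)))))))))
noncomputable def x7013s : ℕ → Net := upd x7011s 5 x7013
theorem der7014 : Der 24 pt (cl g11 cv11) x7013s := der7012.ext (k := 5) (w := [2,3,3,2]) 5 (by decide +kernel)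
noncomputable def x7015 : Net := (Net.cons (nat_lit 12) (nat_lit 420)
  (Net.cons (nat_lit 6) (nat_lit 4154)
  (Net.cons (nat_lit 3) (nat_lit 0x47086)
  (Net.cons (nat_lit 1) (nat_lit 4608)
  (Net.cons (nat_lit 1) (nat_lit 0x82412)
  (Net.cons (nat_lit 1) (nat_lit 0x240240)
  (Net.cons (nat_lit 3) (nat_lit 24960)
  (Net.cons (nat_lit 6) (nat_lit 0x38032)
  (Net.cons (nat_lit 12) (nat_lit 692)
  Net.nil)))))))))
noncomputable def x7015s : ℕ → Net := upd x7013s 6 x7015
theorem der7016 : Der 24 pt (cl g11 cv11) x7015s := der7014.ext (k := 5) (w := [2,3,2,3,3,3,2,3]) 6 (by decide +kernel)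
noncomputable def x7017 : Net := (Net.cons (nat_lit 12) (nat_lit 1548)
  (Net.cons (nat_lit 6) (nat_lit 0x2b020)
  (Net.cons (nat_lit 3) (nat_lit 12288)
  (Net.cons (nat_lit 1) (nat_lit 8)
  (Net.cons (nat_lit 1) (nat_lit 0x80090)
  (Net.cons (nat_lit 1) (nat_lit 32832)
  (Net.cons (nat_lit 3) (nat_lit 388)
  (Net.cons (nat_lit 6) (nat_lit 32796)
  (Net.cons (nat_lit 12) (nat_lit 332)
  Net.nil)))))))))
noncomputable def x7017s : ℕ → Net := upd x7015s 7 x7017
theorem der7018 : Der 24 pt (cl g11 cv11) x7017s := der7016.ext (k := 5) (w := [4,5,4]) 7 (by decide +kernel)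
noncomputable def x7019 : Net := (Net.cons (nat_lit 12) (nat_lit 1968)
  (Net.cons (nat_lit 6) (nat_lit 57344)
  (Net.cons (nat_lit 3) (nat_lit 0x143000)
  (Net.cons (nat_lit 1) (nat_lit 9216)
  (Net.cons (nat_lit 1) (nat_lit 0x49200)
  (Net.cons (nat_lit 3) (nat_lit 0x80100)
  (Net.cons (nat_lit 6) (nat_lit 16384)
  (Net.cons (nat_lit 12) (nat_lit 1856)
  Net.nil))))))))
noncomputable def x7019s : ℕ → Net := upd x7017s 8 x7019
theorem der7020 : Der 24 pt (cl g11 cv11) x7019s := der7018.ext (k := 5) (w := [4,6,4,5]) 8 (by decide +kernel)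
noncomputable def L7021 : Lev := Lev.cons 4 8 [[7],[8]] Lev.nil
noncomputable def L7022 : Lev := Lev.cons 3 9 [[4],[5],[6]] L7021
noncomputable def L7023 : Lev := Lev.cons 2 10 [[2],[3]] L7022
noncomputable def L7024 : Lev := Lev.cons 1 11 [[0],[1]] L7023
theorem lc7025 : Lev.chk 24 2 x7019s vT 100 L7024 = true := by decide +kernel
theorem lb7026 : 7920 ≤ Nat.card (cl g11 cv11) := le_of_eq_of_le (by decide +kernel) (der7020.card_ge lc7025)
theorem based11 : Based 24 pt (⊤ : Subgroup ↥Spor.M11) [1,2,3,4] := der7020.based_top lc7025 card_M11 (by decide +kernel)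
theorem simple11 : IsSimpleGroup ↥Spor.M11 := model11.simpleA based11 (top_of_card card_M11 lb577) (ws := [[3,1],[2,0,4,3]]) (r := 30) (p0 := 1) (A := 340830) (k := 2) (n := 11) (l := [(3,[3])]) (by decide +kernel) (p := 11) (by norm_num) card_M11 (by norm_num) (pow_one_of heq11 (a := [0]) (by decide +kernel)) (ncl_top s011 (cs := [[],[4]]) (by decide +kernel) card_M11 lb7026)
noncomputable def cv22 : List (List ℕ) := [[0],[15,0,14]]
theorem der7027 : Der 24 pt (cl g22 cv22) (fun _ => Net.nil) := Der.zero model22.inj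
noncomputable def ns7028 : ℕ → Net := upd (fun _ => Net.nil) 0 (m499 0)
theorem der7029 : Der 24 pt (cl g22 cv22) ns7028 := der7027.add (wp_mem_cl (w := [0]) (by decide)) (rep_letter model22 0) 0
noncomputable def x7030 : Net := (Net.cons (nat_lit 12) (nat_lit 3740)
  (Net.cons (nat_lit 6) (nat_lit 0x3f03a)
  (Net.cons (nat_lit 3) (nat_lit 0x1c7046)
  (Net.cons (nat_lit 1) (nat_lit 0x48008)
  (Net.cons (nat_lit 1) (nat_lit 0x490490)
  (Net.cons (nat_lit 1) (nat_lit 0x209040)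
  (Net.cons (nat_lit 3) (nat_lit 0x80086)
  (Net.cons (nat_lit 6) (nat_lit 0x24030)
  (Net.cons (nat_lit 12) (nat_lit 2736)
  Net.nil)))))))))
noncomputable def ns7031 : ℕ → Net := upd ns7028 1 x7030
theorem der7032 : Der 24 pt (cl g22 cv22) ns7031 := der7029.add (wp_mem_cl (w := [15,0,14]) (by decide)) (model22.toIsPre.rep_word (k := 5) (w := [15,0,14]) (n := x7030) (by decide +kernel)) 1
noncomputable def x7033 : Net := (Net.cons (nat_lit 12) (nat_lit 1328)
  (Net.cons (nat_lit 6) (nat_lit 4112)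
  (Net.cons (nat_lit 3) (nat_lit 0xc50c0)
  (Net.cons (nat_lit 1) (nat_lit 584)
  (Net.cons (nat_lit 1) (nat_lit 1168)
  (Net.cons (nat_lit 1) (nat_lit 0x241048)
  (Net.cons (nat_lit 3) (nat_lit 8324)
  (Net.cons (nat_lit 6) (nat_lit 73728)
  (Net.cons (nat_lit 12) (nat_lit 272)
  Net.nil)))))))))
noncomputable def x7033s : ℕ → Net := upd ns7031 2 x7033
theorem der7034 : Der 24 pt (cl g22 cv22) x7033s := der7032.ext (k := 5) (w := [1,1,1,1,0,1,0,0]) 2 (by decide +kernel)
noncomputable def x7035 : Net := (Net.cons (nat_lit 12) (nat_lit 3848)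
  (Net.cons (nat_lit 6) (nat_lit 57392)
  (Net.cons (nat_lit 3) (nat_lit 0x1c4184)
  (Net.cons (nat_lit 1) (nat_lit 0x41208)
  (Net.cons (nat_lit 1) (nat_lit 0x492410)
  (Net.cons (nat_lit 1) (nat_lit 0x200000)
  (Net.cons (nat_lit 3) (nat_lit 0x180004)
  (Net.cons (nat_lit 6) (nat_lit 0x3a020)
  (Net.cons (nat_lit 12) (nat_lit 2212)
  Net.nil)))))))))
noncomputable def x7035s : ℕ → Net := upd x7033s 3 x7035
theorem der7036 : Der 24 pt (cl g22 cv22) x7035s := der7034.ext (k := 5) (w := [0,0,1,1]) 3 (by decide +kernel)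
noncomputable def x7037 : Net := (Net.cons (nat_lit 12) (nat_lit 3798)
  (Net.cons (nat_lit 6) (nat_lit 41012)
  (Net.cons (nat_lit 3) (nat_lit 0x83082)
  (Net.cons (nat_lit 1) (nat_lit 0x208040)
  (Net.cons (nat_lit 1) (nat_lit 0x410480)
  (Net.cons (nat_lit 1) (nat_lit 0x240008)
  (Net.cons (nat_lit 3) (nat_lit 0x180100)
  (Net.cons (nat_lit 6) (nat_lit 41002)
  (Net.cons (nat_lit 12) (nat_lit 3886)
  Net.nil)))))))))
noncomputable def x7037s : ℕ → Net := upd x7035s 4 x7037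
theorem der7038 : Der 24 pt (cl g22 cv22) x7037s := der7036.ext (k := 5) (w := [3,2,2,2,2,3]) 4 (by decide +kernel)
noncomputable def x7039 : Net := (Net.cons (nat_lit 12) (nat_lit 1704)
  (Net.cons (nat_lit 6) (nat_lit 0x3b010)
  (Net.cons (nat_lit 3) (nat_lit 0x820c0)
  (Net.cons (nat_lit 1) (nat_lit 0x240040)
  (Net.cons (nat_lit 1) (nat_lit 0x480080)
  (Net.cons (nat_lit 1) (nat_lit 0x208048)
  (Net.cons (nat_lit 3) (nat_lit 0x80000)
  (Net.cons (nat_lit 6) (nat_lit 0x28008)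
  (Net.cons (nat_lit 12) (nat_lit 856)
  Net.nil)))))))))
noncomputable def x7039s : ℕ → Net := upd x7037s 5 x7039
theorem der7040 : Der 24 pt (cl g22 cv22) x7039s := der7038.ext (k := 5) (w := [2,2,2,3,2,3,3,2,2]) 5 (by decide +kernel)
noncomputable def x7041 : Net := (Net.cons (nat_lit 12) (nat_lit 1656)
  (Net.cons (nat_lit 6) (nat_lit 41010)
  (Net.cons (nat_lit 3) (nat_lit 0x87042)
  (Net.cons (nat_lit 1) (nat_lit 72)
  (Net.cons (nat_lit 1) (nat_lit 0x80090)
  (Net.cons (nat_lit 1) (nat_lit 0x48040)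
  (Net.cons (nat_lit 3) (nat_lit 0x82002)
  (Net.cons (nat_lit 6) (nat_lit 40994)
  (Net.cons (nat_lit 12) (nat_lit 1800)
  Net.nil)))))))))
noncomputable def x7041s : ℕ → Net := upd x7039s 6 x7041
theorem der7042 : Der 24 pt (cl g22 cv22) x7041s := der7040.ext (k := 5) (w := [4,4,4,4,5,4]) 6 (by decide +kernel)
noncomputable def x7043 : Net := (Net.cons (nat_lit 12) (nat_lit 1522)
  (Net.cons (nat_lit 6) (nat_lit 0x27032)
  (Net.cons (nat_lit 3) (nat_lit 0x146082)
  (Net.cons (nat_lit 1) (nat_lit 65552)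
  (Net.cons (nat_lit 1) (nat_lit 0x200240)
  (Net.cons (nat_lit 3) (nat_lit 16384)
  (Net.cons (nat_lit 6) (nat_lit 0x3e022)
  (Net.cons (nat_lit 12) (nat_lit 770)
  Net.nil))))))))
noncomputable def x7043s : ℕ → Net := upd x7041s 7 x7043
theorem der7044 : Der 24 pt (cl g22 cv22) x7043s := der7042.ext (k := 5) (w := [5,4,4,5,4,5,5,4,5]) 7 (by decide +kernel)
noncomputable def x7045 : Net := (Net.cons (nat_lit 12) (nat_lit 1280)
  (Net.cons (nat_lit 6) (nat_lit 32768)
  (Net.cons (nat_lit 3) (nat_lit 28736)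
  (Net.cons (nat_lit 1) (nat_lit 512)
  (Net.cons (nat_lit 1) (nat_lit 1152)
  (Net.cons (nat_lit 1) (nat_lit 0x40200)
  (Net.cons (nat_lit 3) (nat_lit 0x80000)
  (Net.cons (nat_lit 12) (nat_lit 1072)
  Net.nil))))))))
noncomputable def x7045s : ℕ → Net := upd x7043s 8 x7045
theorem der7046 : Der 24 pt (cl g22 cv22) x7045s := der7044.ext (k := 5) (w := [5,4,4,4,4,5,4,5]) 8 (by decide +kernel)
noncomputable def x7047 : Net := (Net.cons (nat_lit 12) (nat_lit 2034)
  (Net.cons (nat_lit 6) (nat_lit 0x3e000)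
  (Net.cons (nat_lit 3) (nat_lit 0x146102)
  (Net.cons (nat_lit 1) (nat_lit 32768)
  (Net.cons (nat_lit 1) (nat_lit 65664)
  (Net.cons (nat_lit 1) (nat_lit 36864)
  (Net.cons (nat_lit 3) (nat_lit 16384)
  (Net.cons (nat_lit 6) (nat_lit 0x3e010)
  (Net.cons (nat_lit 12) (nat_lit 1426)
  Net.nil)))))))))
noncomputable def x7047s : ℕ → Net := upd x7045s 9 x7047
theorem der7048 : Der 24 pt (cl g22 cv22) x7047s := der7046.ext (k := 5) (w := [6,8,7,6,7,6,7,8]) 9 (by decide +kernel)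
noncomputable def L7049 : Lev := Lev.cons 5 3 [[9]] Lev.nil
noncomputable def L7050 : Lev := Lev.cons 4 16 [[6],[7],[8]] L7049
noncomputable def L7051 : Lev := Lev.cons 3 20 [[4],[5]] L7050
noncomputable def L7052 : Lev := Lev.cons 2 21 [[2],[3]] L7051
noncomputable def L7053 : Lev := Lev.cons 1 22 [[0],[1]] L7052
theorem lc7054 : Lev.chk 24 2 x7047s vT 100 L7053 = true := by decide +kernel
theorem lb7055 : 443520 ≤ Nat.card (cl g22 cv22) := le_of_eq_of_le (by decide +kernel) (der7048.card_ge lc7054)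
theorem based22 : Based 24 pt (⊤ : Subgroup ↥Spor.M22) [1,2,3,4,5] := der7048.based_top lc7054 card_M22 (by decide +kernel)
theorem simple22 : IsSimpleGroup ↥Spor.M22 := model22.simpleA based22 (top_of_card card_M22 lb1228) (ws := [[1,13,15,2,14,0],[1,13,1,3]]) (r := 30) (p0 := 1) (A := 8388606) (k := 2) (n := 22) (l := [(3,[3])]) (by decide +kernel) (p := 11) (by norm_num) card_M22 (by norm_num) (pow_one_of heq22 (a := [0]) (by decide +kernel)) (ncl_top s022 (cs := [[],[15]]) (by decide +kernel) card_M22 lb7055)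
noncomputable def cv23 : List (List ℕ) := [[0,9,0],[1,0,9,0,0]]
theorem der7056 : Der 24 pt (cl g23 cv23) (fun _ => Net.nil) := Der.zero model23.inj
noncomputable def x7057 : Net := (Net.cons (nat_lit 12) (nat_lit 854)
  (Net.cons (nat_lit 6) (nat_lit 20512)
  (Net.cons (nat_lit 3) (nat_lit 0x46141)
  (Net.cons (nat_lit 1) (nat_lit 33289)
  (Net.cons (nat_lit 1) (nat_lit 74898)
  (Net.cons (nat_lit 1) (nat_lit 0x200241)
  (Net.cons (nat_lit 3) (nat_lit 0x84100)
  (Net.cons (nat_lit 6) (nat_lit 0x1a034)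
  (Net.cons (nat_lit 12) (nat_lit 912)
  Net.nil)))))))))
noncomputable def ns7058 : ℕ → Net := upd (fun _ => Net.nil) 0 x7057
theorem der7059 : Der 24 pt (cl g23 cv23) ns7058 := der7056.add (wp_mem_cl (w := [0,9,0]) (by decide)) (model23.toIsPre.rep_word (k := 5) (w := [0,9,0]) (n := x7057) (by decide +kernel)) 0
noncomputable def x7060 : Net := (Net.cons (nat_lit 12) (nat_lit 25)
  (Net.cons (nat_lit 6) (nat_lit 98333)
  (Net.cons (nat_lit 3) (nat_lit 0xc40c6)
  (Net.cons (nat_lit 1) (nat_lit 4168)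
  (Net.cons (nat_lit 1) (nat_lit 0x82492)
  (Net.cons (nat_lit 1) (nat_lit 0x208049)
  (Net.cons (nat_lit 3) (nat_lit 260)
  (Net.cons (nat_lit 6) (nat_lit 81950)
  (Net.cons (nat_lit 12) (nat_lit 1638)
  Net.nil)))))))))
noncomputable def ns7061 : ℕ → Net := upd ns7058 1 x7060
theorem der7062 : Der 24 pt (cl g23 cv23) ns7061 := der7059.add (wp_mem_cl (w := [1,0,9,0,0]) (by decide)) (model23.toIsPre.rep_word (k := 5) (w := [1,0,9,0,0]) (n := x7060) (by decide +kernel)) 1
noncomputable def x7063 : Net := (Net.cons (nat_lit 12) (nat_lit 2658)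
  (Net.cons (nat_lit 6) (nat_lit 86054)
  (Net.cons (nat_lit 3) (nat_lit 0x1c7104)
  (Net.cons (nat_lit 1) (nat_lit 4104)
  (Net.cons (nat_lit 1) (nat_lit 0x482090)
  (Net.cons (nat_lit 1) (nat_lit 36872)
  (Net.cons (nat_lit 3) (nat_lit 8196)
  (Net.cons (nat_lit 6) (nat_lit 49184)
  (Net.cons (nat_lit 12) (nat_lit 2842)
  Net.nil)))))))))
noncomputable def x7063s : ℕ → Net := upd ns7061 2 x7063
theorem der7064 : Der 24 pt (cl g23 cv23) x7063s := der7062.ext (k := 5) (w := [0,0,1,1,1,0,0,0]) 2 (by decide +kernel)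
noncomputable def x7065 : Net := (Net.cons (nat_lit 12) (nat_lit 1062)
  (Net.cons (nat_lit 6) (nat_lit 98348)
  (Net.cons (nat_lit 3) (nat_lit 0x86040)
  (Net.cons (nat_lit 1) (nat_lit 0x41000)
  (Net.cons (nat_lit 1) (nat_lit 0x82002)
  (Net.cons (nat_lit 1) (nat_lit 0x40200)
  (Net.cons (nat_lit 3) (nat_lit 24580)
  (Net.cons (nat_lit 6) (nat_lit 90156)
  (Net.cons (nat_lit 12) (nat_lit 1574)
  Net.nil)))))))))
noncomputable def x7065s : ℕ → Net := upd x7063s 3 x7065
theorem der7066 : Der 24 pt (cl g23 cv23) x7065s := der7064.ext (k := 5) (w := [0,0,1,0,0,1]) 3 (by decide +kernel)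
noncomputable def x7067 : Net := (Net.cons (nat_lit 12) (nat_lit 568)
  (Net.cons (nat_lit 6) (nat_lit 0x2e034)
  (Net.cons (nat_lit 3) (nat_lit 0x105180)
  (Net.cons (nat_lit 1) (nat_lit 0x48000)
  (Net.cons (nat_lit 1) (nat_lit 0x490090)
  (Net.cons (nat_lit 1) (nat_lit 0x41008)
  (Net.cons (nat_lit 3) (nat_lit 0x184000)
  (Net.cons (nat_lit 6) (nat_lit 0x3a030)
  (Net.cons (nat_lit 12) (nat_lit 164)
  Net.nil)))))))))
noncomputable def x7067s : ℕ → Net := upd x7065s 4 x7067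
theorem der7068 : Der 24 pt (cl g23 cv23) x7067s := der7066.ext (k := 5) (w := [3,2,3,2,3,2,2,2]) 4 (by decide +kernel)
noncomputable def x7069 : Net := (Net.cons (nat_lit 12) (nat_lit 1812)
  (Net.cons (nat_lit 6) (nat_lit 0x3802a)
  (Net.cons (nat_lit 3) (nat_lit 0xc0144)
  (Net.cons (nat_lit 1) (nat_lit 72)
  (Net.cons (nat_lit 1) (nat_lit 0x400492)
  (Net.cons (nat_lit 1) (nat_lit 0x200040)
  (Net.cons (nat_lit 3) (nat_lit 0x80104)
  (Net.cons (nat_lit 6) (nat_lit 0x2a00a)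
  (Net.cons (nat_lit 12) (nat_lit 16)
  Net.nil)))))))))
noncomputable def x7069s : ℕ → Net := upd x7067s 5 x7069
theorem der7070 : Der 24 pt (cl g23 cv23) x7069s := der7068.ext (k := 5) (w := [3,3,2,2,3,3,2]) 5 (by decide +kernel)
noncomputable def x7071 : Net := (Net.cons (nat_lit 12) (nat_lit 618)
  (Net.cons (nat_lit 6) (nat_lit 0x3e02e)
  (Net.cons (nat_lit 3) (nat_lit 20672)
  (Net.cons (nat_lit 1) (nat_lit 8)
  (Net.cons (nat_lit 1) (nat_lit 0x410412)
  (Net.cons (nat_lit 1) (nat_lit 37376)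
  (Net.cons (nat_lit 3) (nat_lit 16384)
  (Net.cons (nat_lit 6) (nat_lit 0x2a034)
  (Net.cons (nat_lit 12) (nat_lit 1186)
  Net.nil)))))))))
noncomputable def x7071s : ℕ → Net := upd x7069s 6 x7071
theorem der7072 : Der 24 pt (cl g23 cv23) x7071s := der7070.ext (k := 5) (w := [5,4,5,4,4]) 6 (by decide +kernel)
noncomputable def x7073 : Net := (Net.cons (nat_lit 12) (nat_lit 1178)
  (Net.cons (nat_lit 6) (nat_lit 0x2102c)
  (Net.cons (nat_lit 3) (nat_lit 0x461c4)
  (Net.cons (nat_lit 1) (nat_lit 32832)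
  (Net.cons (nat_lit 1) (nat_lit 0x410092)
  (Net.cons (nat_lit 1) (nat_lit 0x209000)
  (Net.cons (nat_lit 3) (nat_lit 24960)
  (Net.cons (nat_lit 6) (nat_lit 0x2c024)
  (Net.cons (nat_lit 12) (nat_lit 594)
  Net.nil)))))))))
noncomputable def x7073s : ℕ → Net := upd x7071s 7 x7073
theorem der7074 : Der 24 pt (cl g23 cv23) x7073s := der7072.ext (k := 5) (w := [4,5,4,4,5,4,4,5]) 7 (by decide +kernel)
noncomputable def x7075 : Net := (Net.cons (nat_lit 12) (nat_lit 1792)
  (Net.cons (nat_lit 6) (nat_lit 45072)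
  (Net.cons (nat_lit 3) (nat_lit 0x1851c0)
  (Net.cons (nat_lit 1) (nat_lit 0x200000)
  (Net.cons (nat_lit 1) (nat_lit 0x400080)
  (Net.cons (nat_lit 1) (nat_lit 0x48200)
  (Net.cons (nat_lit 3) (nat_lit 0x100080)
  (Net.cons (nat_lit 6) (nat_lit 73744)
  (Net.cons (nat_lit 12) (nat_lit 800)
  Net.nil)))))))))
noncomputable def x7075s : ℕ → Net := upd x7073s 8 x7075
theorem der7076 : Der 24 pt (cl g23 cv23) x7075s := der7074.ext (k := 5) (w := [7,6,7,6,6,6]) 8 (by decide +kernel)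
noncomputable def x7077 : Net := (Net.cons (nat_lit 12) (nat_lit 3106)
  (Net.cons (nat_lit 6) (nat_lit 0x1f010)
  (Net.cons (nat_lit 3) (nat_lit 8642)
  (Net.cons (nat_lit 1) (nat_lit 0x200200)
  (Net.cons (nat_lit 1) (nat_lit 0x402400)
  (Net.cons (nat_lit 1) (nat_lit 0x209000)
  (Net.cons (nat_lit 3) (nat_lit 0x104180)
  (Net.cons (nat_lit 6) (nat_lit 0x32000)
  (Net.cons (nat_lit 12) (nat_lit 3522)
  Net.nil)))))))))
noncomputable def x7077s : ℕ → Net := upd x7075s 9 x7077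
theorem der7078 : Der 24 pt (cl g23 cv23) x7077s := der7076.ext (k := 5) (w := [7,6,6,7,6,6,7]) 9 (by decide +kernel)
noncomputable def x7079 : Net := (Net.cons (nat_lit 12) (nat_lit 928)
  (Net.cons (nat_lit 6) (nat_lit 0x26010)
  (Net.cons (nat_lit 3) (nat_lit 0x101100)
  (Net.cons (nat_lit 1) (nat_lit 4672)
  (Net.cons (nat_lit 1) (nat_lit 9344)
  (Net.cons (nat_lit 1) (nat_lit 0x48200)
  (Net.cons (nat_lit 3) (nat_lit 0x80080)
  (Net.cons (nat_lit 6) (nat_lit 0x2c010)
  (Net.cons (nat_lit 12) (nat_lit 80)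
  Net.nil)))))))))
noncomputable def x7079s : ℕ → Net := upd x7077s 10 x7079
theorem der7080 : Der 24 pt (cl g23 cv23) x7079s := der7078.ext (k := 5) (w := [7,6,6,6,7,6,6]) 10 (by decide +kernel)
noncomputable def x7081 : Net := (Net.cons (nat_lit 12) (nat_lit 1426)
  (Net.cons (nat_lit 6) (nat_lit 0x3e010)
  (Net.cons (nat_lit 3) (nat_lit 0x144002)
  (Net.cons (nat_lit 1) (nat_lit 32768)
  (Net.cons (nat_lit 1) (nat_lit 65664)
  (Net.cons (nat_lit 1) (nat_lit 36864)
  (Net.cons (nat_lit 3) (nat_lit 24832)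
  (Net.cons (nat_lit 6) (nat_lit 0x3e000)
  (Net.cons (nat_lit 12) (nat_lit 2034)
  Net.nil)))))))))
noncomputable def x7081s : ℕ → Net := upd x7079s 11 x7081
theorem der7082 : Der 24 pt (cl g23 cv23) x7081s := der7080.ext (k := 5) (w := [9,10,9,10,8,8]) 11 (by decide +kernel)
noncomputable def L7083 : Lev := Lev.cons 5 3 [[11]] Lev.nil
noncomputable def L7084 : Lev := Lev.cons 4 16 [[8],[9],[10]] L7083
noncomputable def L7085 : Lev := Lev.cons 3 20 [[6],[7]] L7084
noncomputable def L7086 : Lev := Lev.cons 2 21 [[4],[5]] L7085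
noncomputable def L7087 : Lev := Lev.cons 1 22 [[2],[3]] L7086
noncomputable def L7088 : Lev := Lev.cons 0 23 [[0],[1]] L7087
theorem lc7089 : Lev.chk 24 2 x7081s vT 100 L7088 = true := by decide +kernel
theorem lb7090 : 10200960 ≤ Nat.card (cl g23 cv23) := le_of_eq_of_le (by decide +kernel) (der7082.card_ge lc7089)
theorem based23 : Based 24 pt (⊤ : Subgroup ↥Spor.M23) [0,1,2,3,4,5] := der7082.based_top lc7089 card_M23 (by decide +kernel)
theorem simple23 : IsSimpleGroup ↥Spor.M23 := model23.simpleA based23 (top_of_card card_M23 lb694) (ws := [[9,3,0,4,0,2,8,4],[3]]) (r := 30) (p0 := 0) (A := 8388607) (k := 2) (n := 23) (l := [(1,[4])]) (by decide +kernel) (p := 23) (by norm_num) card_M23 (by norm_num) (pow_one_of heq23 (a := [0,9,0]) (by decide +kernel)) (ncl_top s023 (cs := [[],[1]]) (by decide +kernel) card_M23 lb7090)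
noncomputable def cv12 : List (List ℕ) := [[0],[1],[2],[3],[4],[5],[6],[7]]
theorem der7091 : Der 24 pt (cl g12 cv12) (fun _ => Net.nil) := Der.zero model12.inj
noncomputable def ns7092 : ℕ → Net := upd (fun _ => Net.nil) 0 (m498 0)
theorem der7093 : Der 24 pt (cl g12 cv12) ns7092 := der7091.add (wp_mem_cl (w := [0]) (by decide)) (rep_letter model12 0) 0
noncomputable def ns7094 : ℕ → Net := upd ns7092 1 (m498 1)
theorem der7095 : Der 24 pt (cl g12 cv12) ns7094 := der7093.add (wp_mem_cl (w := [1]) (by decide)) (rep_letter model12 1) 1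
noncomputable def ns7096 : ℕ → Net := upd ns7094 2 (m498 2)
theorem der7097 : Der 24 pt (cl g12 cv12) ns7096 := der7095.add (wp_mem_cl (w := [2]) (by decide)) (rep_letter model12 2) 2
noncomputable def ns7098 : ℕ → Net := upd ns7096 3 (m498 3)
theorem der7099 : Der 24 pt (cl g12 cv12) ns7098 := der7097.add (wp_mem_cl (w := [3]) (by decide)) (rep_letter model12 3) 3
noncomputable def ns7100 : ℕ → Net := upd ns7098 4 (m498 4)
theorem der7101 : Der 24 pt (cl g12 cv12) ns7100 := der7099.add (wp_mem_cl (w := [4]) (by decide)) (rep_letter model12 4) 4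
noncomputable def ns7102 : ℕ → Net := upd ns7100 5 (m498 5)
theorem der7103 : Der 24 pt (cl g12 cv12) ns7102 := der7101.add (wp_mem_cl (w := [5]) (by decide)) (rep_letter model12 5) 5
noncomputable def ns7104 : ℕ → Net := upd ns7102 6 (m498 6)
theorem der7105 : Der 24 pt (cl g12 cv12) ns7104 := der7103.add (wp_mem_cl (w := [6]) (by decide)) (rep_letter model12 6) 6
noncomputable def ns7106 : ℕ → Net := upd ns7104 7 (m498 7)
theorem der7107 : Der 24 pt (cl g12 cv12) ns7106 := der7105.add (wp_mem_cl (w := [7]) (by decide)) (rep_letter model12 7) 7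
noncomputable def x7108 : Net := (Net.cons (nat_lit 12) (nat_lit 12)
  (Net.cons (nat_lit 6) (nat_lit 0x33022)
  (Net.cons (nat_lit 3) (nat_lit 0x147144)
  (Net.cons (nat_lit 1) (nat_lit 0x48000)
  (Net.cons (nat_lit 1) (nat_lit 0x490402)
  (Net.cons (nat_lit 1) (nat_lit 0x200008)
  (Net.cons (nat_lit 3) (nat_lit 0x106006)
  (Net.cons (nat_lit 6) (nat_lit 0x38032)
  (Net.cons (nat_lit 12) (nat_lit 1508)
  Net.nil)))))))))
noncomputable def x7108s : ℕ → Net := upd ns7106 8 x7108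
theorem der7109 : Der 24 pt (cl g12 cv12) x7108s := der7107.ext (k := 5) (w := [0,2]) 8 (by decide +kernel)
noncomputable def x7110 : Net := (Net.cons (nat_lit 12) (nat_lit 1548)
  (Net.cons (nat_lit 6) (nat_lit 0x28030)
  (Net.cons (nat_lit 3) (nat_lit 0xc11c4)
  (Net.cons (nat_lit 1) (nat_lit 0x200040)
  (Net.cons (nat_lit 1) (nat_lit 0x402480)
  (Net.cons (nat_lit 1) (nat_lit 0x201208)
  (Net.cons (nat_lit 3) (nat_lit 0x102100)
  (Net.cons (nat_lit 6) (nat_lit 20)
  (Net.cons (nat_lit 12) (nat_lit 300)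
  Net.nil)))))))))
noncomputable def x7110s : ℕ → Net := upd x7108s 9 x7110
theorem der7111 : Der 24 pt (cl g12 cv12) x7110s := der7109.ext (k := 5) (w := [1,2,4,0,0]) 9 (by decide +kernel)
noncomputable def x7112 : Net := (Net.cons (nat_lit 12) (nat_lit 2816)
  (Net.cons (nat_lit 6) (nat_lit 0x3903e)
  (Net.cons (nat_lit 3) (nat_lit 8320)
  (Net.cons (nat_lit 1) (nat_lit 32768)
  (Net.cons (nat_lit 1) (nat_lit 0x90002)
  (Net.cons (nat_lit 1) (nat_lit 0x248048)
  (Net.cons (nat_lit 3) (nat_lit 0x104082)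
  (Net.cons (nat_lit 6) (nat_lit 24606)
  (Net.cons (nat_lit 12) (nat_lit 2896)
  Net.nil)))))))))
noncomputable def x7112s : ℕ → Net := upd x7110s 10 x7112
theorem der7113 : Der 24 pt (cl g12 cv12) x7112s := der7111.ext (k := 5) (w := [8,9]) 10 (by decide +kernel)
noncomputable def x7114 : Net := (Net.cons (nat_lit 12) (nat_lit 1560)
  (Net.cons (nat_lit 6) (nat_lit 0x2c012)
  (Net.cons (nat_lit 3) (nat_lit 0x45044)
  (Net.cons (nat_lit 1) (nat_lit 0x200040)
  (Net.cons (nat_lit 1) (nat_lit 0x480082)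
  (Net.cons (nat_lit 1) (nat_lit 0x209048)
  (Net.cons (nat_lit 3) (nat_lit 0x180104)
  (Net.cons (nat_lit 6) (nat_lit 0x2801a)
  (Net.cons (nat_lit 12) (nat_lit 2832)
  Net.nil)))))))))
noncomputable def x7114s : ℕ → Net := upd x7112s 11 x7114
theorem der7115 : Der 24 pt (cl g12 cv12) x7114s := der7113.ext (k := 5) (w := [9,9,9,8]) 11 (by decide +kernel)
noncomputable def x7116 : Net := (Net.cons (nat_lit 12) (nat_lit 1888)
  (Net.cons (nat_lit 6) (nat_lit 16384)
  (Net.cons (nat_lit 3) (nat_lit 0x147100)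
  (Net.cons (nat_lit 1) (nat_lit 33280)
  (Net.cons (nat_lit 1) (nat_lit 66560)
  (Net.cons (nat_lit 1) (nat_lit 0x201000)
  (Net.cons (nat_lit 3) (nat_lit 0x84000)
  (Net.cons (nat_lit 6) (nat_lit 57344)
  (Net.cons (nat_lit 12) (nat_lit 1936)
  Net.nil)))))))))
noncomputable def x7116s : ℕ → Net := upd x7114s 12 x7116
theorem der7117 : Der 24 pt (cl g12 cv12) x7116s := der7115.ext (k := 5) (w := [11,10,10,11,11,11,10,10,11]) 12 (by decide +kernel)
noncomputable def L7118 : Lev := Lev.cons 4 8 [[10],[12]] Lev.nil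
noncomputable def L7119 : Lev := Lev.cons 3 9 [[11]] L7118
noncomputable def L7120 : Lev := Lev.cons 2 10 [[8],[9]] L7119
noncomputable def L7121 : Lev := Lev.cons 1 11 [[0],[1],[2],[3],[4],[5]] L7120
noncomputable def L7122 : Lev := Lev.cons 0 12 [[6],[7]] L7121
theorem lc7123 : Lev.chk 24 2 x7116s vT 100 L7122 = true := by decide +kernel
theorem lb7124 : 95040 ≤ Nat.card (cl g12 cv12) := le_of_eq_of_le (by decide +kernel) (der7117.card_ge lc7123)
theorem based12 : Based 24 pt (⊤ : Subgroup ↥Spor.M12) [0,1,2,3,4] := der7117.based_top lc7123 card_M12 (by decide +kernel)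
theorem simple12 : IsSimpleGroup ↥Spor.M12 := model12.simpleS based12 (top_of_card card_M12 lb985) (ws := [[7,1,2,4,3,0,6],[7,1,7,1,6]]) (r := 30) (p0 := 0) (A := 340831) (k := 2) (n := 12) (l := [(16,[6])]) (by decide +kernel) (q := 16) (by decide +kernel) (simple_congr (stabSubEquiv Spor.M12 (pt 0)).symm simple11) (by norm_num)
noncomputable def cv24 : List (List ℕ) := [[0],[1],[2],[3],[4],[5],[8],[9],[10],[11]]
theorem der7125 : Der 24 pt (cl g24 cv24) (fun _ => Net.nil) := Der.zero model24.inj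
noncomputable def ns7126 : ℕ → Net := upd (fun _ => Net.nil) 0 (m501 0)
theorem der7127 : Der 24 pt (cl g24 cv24) ns7126 := der7125.add (wp_mem_cl (w := [0]) (by decide)) (rep_letter model24 0) 0
noncomputable def ns7128 : ℕ → Net := upd ns7126 1 (m501 1)
theorem der7129 : Der 24 pt (cl g24 cv24) ns7128 := der7127.add (wp_mem_cl (w := [1]) (by decide)) (rep_letter model24 1) 1
noncomputable def ns7130 : ℕ → Net := upd ns7128 2 (m501 2)
theorem der7131 : Der 24 pt (cl g24 cv24) ns7130 := der7129.add (wp_mem_cl (w := [2]) (by decide)) (rep_letter model24 2) 2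
noncomputable def ns7132 : ℕ → Net := upd ns7130 3 (m501 3)
theorem der7133 : Der 24 pt (cl g24 cv24) ns7132 := der7131.add (wp_mem_cl (w := [3]) (by decide)) (rep_letter model24 3) 3
noncomputable def ns7134 : ℕ → Net := upd ns7132 4 (m501 4)
theorem der7135 : Der 24 pt (cl g24 cv24) ns7134 := der7133.add (wp_mem_cl (w := [4]) (by decide)) (rep_letter model24 4) 4
noncomputable def ns7136 : ℕ → Net := upd ns7134 5 (m501 5)
theorem der7137 : Der 24 pt (cl g24 cv24) ns7136 := der7135.add (wp_mem_cl (w := [5]) (by decide)) (rep_letter model24 5) 5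
noncomputable def ns7138 : ℕ → Net := upd ns7136 6 (m501 8)
theorem der7139 : Der 24 pt (cl g24 cv24) ns7138 := der7137.add (wp_mem_cl (w := [8]) (by decide)) (rep_letter model24 8) 6
noncomputable def ns7140 : ℕ → Net := upd ns7138 7 (m501 9)
theorem der7141 : Der 24 pt (cl g24 cv24) ns7140 := der7139.add (wp_mem_cl (w := [9]) (by decide)) (rep_letter model24 9) 7
noncomputable def ns7142 : ℕ → Net := upd ns7140 8 (m501 10)
theorem der7143 : Der 24 pt (cl g24 cv24) ns7142 := der7141.add (wp_mem_cl (w := [10]) (by decide)) (rep_letter model24 10) 8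
noncomputable def ns7144 : ℕ → Net := upd ns7142 9 (m501 11)
theorem der7145 : Der 24 pt (cl g24 cv24) ns7144 := der7143.add (wp_mem_cl (w := [11]) (by decide)) (rep_letter model24 11) 9
noncomputable def x7146 : Net := (Net.cons (nat_lit 12) (nat_lit 1182)
  (Net.cons (nat_lit 6) (nat_lit 53256)
  (Net.cons (nat_lit 3) (nat_lit 0x143140)
  (Net.cons (nat_lit 1) (nat_lit 0x201040)
  (Net.cons (nat_lit 1) (nat_lit 0x402090)
  (Net.cons (nat_lit 1) (nat_lit 37448)
  (Net.cons (nat_lit 3) (nat_lit 0x102002)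
  (Net.cons (nat_lit 6) (nat_lit 81928)
  (Net.cons (nat_lit 12) (nat_lit 1570)
  Net.nil)))))))))
noncomputable def x7146s : ℕ → Net := upd ns7144 10 x7146
theorem der7147 : Der 24 pt (cl g24 cv24) x7146s := der7145.ext (k := 5) (w := [8,0,0,8,1,8,0,0,8]) 10 (by decide +kernel)
noncomputable def x7148 : Net := (Net.cons (nat_lit 12) (nat_lit 2904)
  (Net.cons (nat_lit 6) (nat_lit 0x30022)
  (Net.cons (nat_lit 3) (nat_lit 0x143142)
  (Net.cons (nat_lit 1) (nat_lit 512)
  (Net.cons (nat_lit 1) (nat_lit 0x82400)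
  (Net.cons (nat_lit 1) (nat_lit 0x201208)
  (Net.cons (nat_lit 3) (nat_lit 0x100000)
  (Net.cons (nat_lit 6) (nat_lit 81970)
  (Net.cons (nat_lit 12) (nat_lit 2988)
  Net.nil)))))))))
noncomputable def x7148s : ℕ → Net := upd x7146s 11 x7148
theorem der7149 : Der 24 pt (cl g24 cv24) x7148s := der7147.ext (k := 5) (w := [10,10,2,1]) 11 (by decide +kernel)
noncomputable def x7150 : Net := (Net.cons (nat_lit 12) (nat_lit 4076)
  (Net.cons (nat_lit 6) (nat_lit 0x2f028)
  (Net.cons (nat_lit 3) (nat_lit 0x140100)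
  (Net.cons (nat_lit 1) (nat_lit 0x41200)
  (Net.cons (nat_lit 1) (nat_lit 0x482480)
  (Net.cons (nat_lit 1) (nat_lit 0x209200)
  (Net.cons (nat_lit 3) (nat_lit 8320)
  (Net.cons (nat_lit 6) (nat_lit 65568)
  (Net.cons (nat_lit 12) (nat_lit 3868)
  Net.nil)))))))))
noncomputable def x7150s : ℕ → Net := upd x7148s 12 x7150
theorem der7151 : Der 24 pt (cl g24 cv24) x7150s := der7149.ext (k := 5) (w := [2,0,2,2,0]) 12 (by decide +kernel)
noncomputable def x7152 : Net := (Net.cons (nat_lit 12) (nat_lit 882)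
  (Net.cons (nat_lit 6) (nat_lit 98322)
  (Net.cons (nat_lit 3) (nat_lit 0x107000)
  (Net.cons (nat_lit 1) (nat_lit 64)
  (Net.cons (nat_lit 1) (nat_lit 0x400480)
  (Net.cons (nat_lit 1) (nat_lit 0x241000)
  (Net.cons (nat_lit 3) (nat_lit 0x102000)
  (Net.cons (nat_lit 6) (nat_lit 2)
  (Net.cons (nat_lit 12) (nat_lit 978)
  Net.nil)))))))))
noncomputable def x7152s : ℕ → Net := upd x7150s 13 x7152
theorem der7153 : Der 24 pt (cl g24 cv24) x7152s := der7151.ext (k := 5) (w := [11,11,11,12,11]) 13 (by decide +kernel)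
noncomputable def x7154 : Net := (Net.cons (nat_lit 12) (nat_lit 1888)
  (Net.cons (nat_lit 6) (nat_lit 0x25038)
  (Net.cons (nat_lit 3) (nat_lit 0x80180)
  (Net.cons (nat_lit 1) (nat_lit 0x201040)
  (Net.cons (nat_lit 1) (nat_lit 0x482080)
  (Net.cons (nat_lit 1) (nat_lit 0x201240)
  (Net.cons (nat_lit 3) (nat_lit 128)
  (Net.cons (nat_lit 6) (nat_lit 0x24028)
  (Net.cons (nat_lit 12) (nat_lit 1080)
  Net.nil)))))))))
noncomputable def x7154s : ℕ → Net := upd x7152s 14 x7154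
theorem der7155 : Der 24 pt (cl g24 cv24) x7154s := der7153.ext (k := 5) (w := [11,11,12,12,12,12,11]) 14 (by decide +kernel)
noncomputable def x7156 : Net := (Net.cons (nat_lit 12) (nat_lit 1384)
  (Net.cons (nat_lit 6) (nat_lit 98304)
  (Net.cons (nat_lit 3) (nat_lit 0x86000)
  (Net.cons (nat_lit 1) (nat_lit 64)
  (Net.cons (nat_lit 1) (nat_lit 0x80080)
  (Net.cons (nat_lit 1) (nat_lit 0x48240)
  (Net.cons (nat_lit 3) (nat_lit 0x80180)
  (Net.cons (nat_lit 6) (nat_lit 0x1a018)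
  (Net.cons (nat_lit 12) (nat_lit 648)
  Net.nil)))))))))
noncomputable def x7156s : ℕ → Net := upd x7154s 15 x7156
theorem der7157 : Der 24 pt (cl g24 cv24) x7156s := der7155.ext (k := 5) (w := [14,13,14,13,14,14,13,13,14]) 15 (by decide +kernel)
noncomputable def x7158 : Net := (Net.cons (nat_lit 12) (nat_lit 3792)
  (Net.cons (nat_lit 6) (nat_lit 0x34014)
  (Net.cons (nat_lit 3) (nat_lit 0x147044)
  (Net.cons (nat_lit 1) (nat_lit 4096)
  (Net.cons (nat_lit 1) (nat_lit 8208)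
  (Net.cons (nat_lit 1) (nat_lit 33344)
  (Net.cons (nat_lit 3) (nat_lit 16388)
  (Net.cons (nat_lit 6) (nat_lit 0x24014)
  (Net.cons (nat_lit 12) (nat_lit 3504)
  Net.nil)))))))))
noncomputable def x7158s : ℕ → Net := upd x7156s 16 x7158
theorem der7159 : Der 24 pt (cl g24 cv24) x7158s := der7157.ext (k := 5) (w := [14,13,14,14,13,14,13,14,14]) 16 (by decide +kernel)
noncomputable def x7160 : Net := (Net.cons (nat_lit 12) (nat_lit 2034)
  (Net.cons (nat_lit 6) (nat_lit 0x3e000)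
  (Net.cons (nat_lit 3) (nat_lit 0x146102)
  (Net.cons (nat_lit 1) (nat_lit 32768)
  (Net.cons (nat_lit 1) (nat_lit 65664)
  (Net.cons (nat_lit 1) (nat_lit 36864)
  (Net.cons (nat_lit 3) (nat_lit 16384)
  (Net.cons (nat_lit 6) (nat_lit 0x3e010)
  (Net.cons (nat_lit 12) (nat_lit 1426)
  Net.nil)))))))))
noncomputable def x7160s : ℕ → Net := upd x7158s 17 x7160
theorem der7161 : Der 24 pt (cl g24 cv24) x7160s := der7159.ext (k := 5) (w := [13,15,13,16,13,13]) 17 (by decide +kernel)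
noncomputable def L7162 : Lev := Lev.cons 5 3 [[17]] Lev.nil
noncomputable def L7163 : Lev := Lev.cons 4 16 [[13],[15],[16]] L7162
noncomputable def L7164 : Lev := Lev.cons 3 20 [[14]] L7163
noncomputable def L7165 : Lev := Lev.cons 2 21 [[11],[12]] L7164
noncomputable def L7166 : Lev := Lev.cons 1 22 [[0],[1],[2],[3],[10]] L7165
noncomputable def L7167 : Lev := Lev.cons 0 23 [[8],[9]] L7166
noncomputable def L7168 : Lev := Lev.cons 23 24 [[4],[5],[6],[7]] L7167
theorem lc7169 : Lev.chk 24 2 x7160s vT 100 L7168 = true := by decide +kernel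
theorem lb7170 : 244823040 ≤ Nat.card (cl g24 cv24) := le_of_eq_of_le (by decide +kernel) (der7161.card_ge lc7169)
theorem based24 : Based 24 pt (⊤ : Subgroup ↥M24) [23,0,1,2,3,4,5] := der7161.based_top lc7169 card_M24 (by decide +kernel)
theorem simple24 : IsSimpleGroup ↥M24 := model24.simpleS based24 (top_of_card card_M24 lb852) (ws := [[5,3,10,0,8],[5,1,3,1,1,4]]) (r := 30) (p0 := 23) (A := 16777215) (k := 2) (n := 24) (l := [(9,[8])]) (by decide +kernel) (q := 9) (by decide +kernel) (simple_congr eM23.symm simple23) (by norm_num)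

end Cfsg.Agent.H6.SMat
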