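import Cfsg.Agent.H6.MtA
import Cfsg.Agent.H6.JtA
import Cfsg.Agent.H6.SimM1
set_option maxRecDepth 100000
set_option Elab.async false
namespace Cfsg.Agent.H6.SMat
open Cfsg.Agent.H6
universe u

theorem hf23 : ∀ u w, eqBc m500 [0,1,2,3,4,5] u w = true → wp g23 u = wp g23 w := based23.eqv model23.toIsPre
noncomputable def tsF (p k : ℕ) (w e : List ℕ) : Bool :=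
  match e with
  | 0 :: s => band (decide (s.Nodup ∧ s.length = k)) (lall (fun i => band (Nat.ble (Nat.succ i) 24) (Nat.beq (fnWc m500 w i) i)) s)
  | [1, q] => band (Nat.ble (Nat.succ q) 24) (beqb (Nat.beq (fnWc m500 (lpow w p) q) q) false)
  | _ => false
theorem tsF_spec {p k : ℕ} {w e : List ℕ} (h : tsF p k w e = true) (h1 : wp g23 w ^ p = 1) : Mt.Fx GolayPt (wp g23 w) k := by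
  unfold tsF at h
  split at h
  · rename_i s
    rw [band_eq, lall_eq, decide_eq_true_iff] at h
    have lt : ∀ i ∈ s, i < 24 := fun i hi => ble_eq.1 ((band_eq _ _).1 (h.2 i hi)).1
    refine ⟨s.toFinset.image pt, ?_, fun a ha => ?_⟩
    · rw [Finset.card_image_of_injOn fun i hi j hj e => model23.inj i (lt i (by simpa using hi)) j (lt j (by simpa using hj)) e,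
        List.toFinset_card_of_nodup h.1.1, h.1.2]
    · obtain ⟨i, hi, rfl⟩ := Finset.mem_image.1 ha
      exact model23.toIsPre.smul_of_ptc (h.2 i (List.mem_toFinset.1 hi))
  · exact absurd (by rw [wp_lpow']; exact h1) (model23.ne_one_of_mp h)
  · cases h
noncomputable def qsA : List (List ℕ) := [[4,9],[3,1,9,3,3,1,9,3,3,1,9,3],[0,8,1,8,0,8,1,8,0,8,1,8]]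
theorem der9001 : Der 24 pt (cl g23 qsA) (fun _ => Net.nil) := Der.zero model23.inj
noncomputable def x9002 : Net := (Net.cons (nat_lit 12) (nat_lit 200)
  (Net.cons (nat_lit 6) (nat_lit 0x20036)
  (Net.cons (nat_lit 3) (nat_lit 0x1821c4)
  (Net.cons (nat_lit 1) (nat_lit 0x40000)
  (Net.cons (nat_lit 1) (nat_lit 0x80480)
  (Net.cons (nat_lit 1) (nat_lit 0x48001)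
  (Net.cons (nat_lit 3) (nat_lit 0x102000)
  (Net.cons (nat_lit 6) (nat_lit 0x20036)
  (Net.cons (nat_lit 12) (nat_lit 200)
  Net.nil)))))))))
noncomputable def ns9003 : ℕ → Net := upd (fun _ => Net.nil) 0 x9002
theorem der9004 : Der 24 pt (cl g23 qsA) ns9003 := der9001.add (wp_mem_cl (w := [4,9]) (by decide)) (model23.toIsPre.rep_word (k := 5) (w := [4,9]) (n := x9002) (by decide +kernel)) 0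
noncomputable def x9005 : Net := (Net.cons (nat_lit 12) (nat_lit 2560)
  (Net.cons (nat_lit 6) (nat_lit 0x39010)
  (Net.cons (nat_lit 3) (nat_lit 0x82080)
  (Net.cons (nat_lit 1) (nat_lit 8)
  (Net.cons (nat_lit 1) (nat_lit 65682)
  (Net.cons (nat_lit 1) (nat_lit 0x41208)
  (Net.cons (nat_lit 3) (nat_lit 0x82080)
  (Net.cons (nat_lit 6) (nat_lit 0x20010)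
  (Net.cons (nat_lit 12) (nat_lit 2560)
  Net.nil)))))))))
noncomputable def ns9006 : ℕ → Net := upd ns9003 1 x9005
theorem der9007 : Der 24 pt (cl g23 qsA) ns9006 := der9004.add (wp_mem_cl (w := [3,1,9,3,3,1,9,3,3,1,9,3]) (by decide)) (model23.toIsPre.rep_word (k := 5) (w := [3,1,9,3,3,1,9,3,3,1,9,3]) (n := x9005) (by decide +kernel)) 1
noncomputable def x9008 : Net := (Net.cons (nat_lit 12) (nat_lit 548)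
  (Net.cons (nat_lit 6) (nat_lit 0x2800a)
  (Net.cons (nat_lit 3) (nat_lit 24962)
  (Net.cons (nat_lit 1) (nat_lit 0x208001)
  (Net.cons (nat_lit 1) (nat_lit 0x490002)
  (Net.cons (nat_lit 1) (nat_lit 0x209209)
  (Net.cons (nat_lit 3) (nat_lit 24706)
  (Net.cons (nat_lit 6) (nat_lit 0x28000)
  (Net.cons (nat_lit 12) (nat_lit 548)
  Net.nil)))))))))
noncomputable def ns9009 : ℕ → Net := upd ns9006 2 x9008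
theorem der9010 : Der 24 pt (cl g23 qsA) ns9009 := der9007.add (wp_mem_cl (w := [0,8,1,8,0,8,1,8,0,8,1,8]) (by decide)) (model23.toIsPre.rep_word (k := 5) (w := [0,8,1,8,0,8,1,8,0,8,1,8]) (n := x9008) (by decide +kernel)) 2
noncomputable def x9011 : Net := (Net.cons (nat_lit 12) (nat_lit 2306)
  (Net.cons (nat_lit 6) (nat_lit 0x24016)
  (Net.cons (nat_lit 3) (nat_lit 0x184182)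
  (Net.cons (nat_lit 1) (nat_lit 4609)
  (Net.cons (nat_lit 1) (nat_lit 0x412402)
  (Net.cons (nat_lit 1) (nat_lit 0x41209)
  (Net.cons (nat_lit 3) (nat_lit 0x184102)
  (Net.cons (nat_lit 6) (nat_lit 0x24016)
  (Net.cons (nat_lit 12) (nat_lit 2306)
  Net.nil)))))))))
noncomputable def x9011s : ℕ → Net := upd ns9009 3 x9011
theorem der9012 : Der 24 pt (cl g23 qsA) x9011s := der9010.ext (k := 5) (w := [2,1,2,0,1,2,1,0,1]) 3 (by decide +kernel)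
noncomputable def L9013 : Lev := Lev.cons 2 8 [[0],[3]] Lev.nil
noncomputable def L9014 : Lev := Lev.cons 21 16 [[1],[2]] L9013
theorem lc9015 : Lev.chk 24 2 x9011s vT 100 L9014 = true := by decide +kernel
theorem lb9016 : 128 ≤ Nat.card (cl g23 qsA) := le_of_eq_of_le (by decide +kernel) (der9012.card_ge lc9015)
noncomputable def WA : List (List ℕ) := [[],[4,9],[3,1,9,3,3,1,9,3,3,1,9,3],[0,8,1,8,0,8,1,8,0,8,1,8],[3,1,9,3,3,1,9,3,3,1,9,3,4,9],[0,8,1,8,0,8,1,8,0,8,1,8,4,9],[4,9,3,1,9,3,3,1,9,3,3,1,9,3],[0,8,1,8,0,8,1,8,0,8,1,8,3,1,9,3,3,1,9,3,3,1,9,3],[4,9,0,8,1,8,0,8,1,8,0,8,1,8],[3,1,9,3,3,1,9,3,3,1,9,3,0,8,1,8,0,8,1,8,0,8,1,8],[4,9,3,1,9,3,3,1,9,3,3,1,9,3,4,9],[0,8,1,8,0,8,1,8,0,8,1,8,3,1,9,3,3,1,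9,3,3,1,9,3,4,9],[4,9,0,8,1,8,0,8,1,8,0,8,1,8,4,9],[3,1,9,3,3,1,9,3,3,1,9,3,0,8,1,8,0,8,1,8,0,8,1,8,4,9],[3,1,9,3,3,1,9,3,3,1,9,3,4,9,3,1,9,3,3,1,9,3,3,1,9,3],[0,8,1,8,0,8,1,8,0,8,1,8,4,9,3,1,9,3,3,1,9,3,3,1,9,3],[4,9,0,8,1,8,0,8,1,8,0,8,1,8,3,1,9,3,3,1,9,3,3,1,9,3],[3,1,9,3,3,1,9,3,3,1,9,3,0,8,1,8,0,8,1,8,0,8,1,8,3,1,9,3,3,1,9,3,3,1,9,3],[3,1,9,3,3,1,9,3,3,1,9,3,4,9,0,8,1,8,0,8,1,8,0,8,1,8],[0,8,1,8,0,8,1,8,0,8,1,8,4,9,0,8,1,8,0,8,1,8,0,8,1,8],[4,9,3,1,9,3,3,1,9,3,3,1,9,3,0,8,1,8,0,8,1,8,0,8,1,8],[0,8,1,8,0,8,1,8,0,8,1,8,3,1,9,3,3,1,9,3,3,1,9,3,0,8,1,8,0,8,1,8,0,8,1,8],[3,1,9,3,3,1,9,3,3,1,9,3,4,9,3,1,9,3,3,1,9,3,3,1,9,3,4,9],[0,8,1,8,0,8,1,8,0,8,1,8,4,9,3,1,9,3,3,1,9,3,3,1,9,3,4,9],[4,9,0,8,1,8,0,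8,1,8,0,8,1,8,3,1,9,3,3,1,9,3,3,1,9,3,4,9],[3,1,9,3,3,1,9,3,3,1,9,3,0,8,1,8,0,8,1,8,0,8,1,8,3,1,9,3,3,1,9,3,3,1,9,3,4,9],[3,1,9,3,3,1,9,3,3,1,9,3,4,9,0,8,1,8,0,8,1,8,0,8,1,8,4,9],[0,8,1,8,0,8,1,8,0,8,1,8,4,9,0,8,1,8,0,8,1,8,0,8,1,8,4,9],[4,9,3,1,9,3,3,1,9,3,3,1,9,3,0,8,1,8,0,8,1,8,0,8,1,8,4,9],[0,8,1,8,0,8,1,8,0,8,1,8,3,1,9,3,3,1,9,3,3,1,9,3,0,8,1,8,0,8,1,8,0,8,1,8,4,9],[0,8,1,8,0,8,1,8,0,8,1,8,3,1,9,3,3,1,9,3,3,1,9,3,4,9,3,1,9,3,3,1,9,3,3,1,9,3],[4,9,0,8,1,8,0,8,1,8,0,8,1,8,4,9,3,1,9,3,3,1,9,3,3,1,9,3],[3,1,9,3,3,1,9,3,3,1,9,3,0,8,1,8,0,8,1,8,0,8,1,8,4,9,3,1,9,3,3,1,9,3,3,1,9,3],[3,1,9,3,3,1,9,3,3,1,9,3,4,9,0,8,1,8,0,8,1,8,0,8,1,8,3,1,9,3,3,1,9,3,3,1,9,3],[0,8,1,8,0,8,1,8,0,8,1,8,4,9,0,8,1,8,0,8,1,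8,0,8,1,8,3,1,9,3,3,1,9,3,3,1,9,3],[4,9,3,1,9,3,3,1,9,3,3,1,9,3,0,8,1,8,0,8,1,8,0,8,1,8,3,1,9,3,3,1,9,3,3,1,9,3],[0,8,1,8,0,8,1,8,0,8,1,8,3,1,9,3,3,1,9,3,3,1,9,3,0,8,1,8,0,8,1,8,0,8,1,8,3,1,9,3,3,1,9,3,3,1,9,3],[4,9,3,1,9,3,3,1,9,3,3,1,9,3,4,9,0,8,1,8,0,8,1,8,0,8,1,8],[0,8,1,8,0,8,1,8,0,8,1,8,3,1,9,3,3,1,9,3,3,1,9,3,4,9,0,8,1,8,0,8,1,8,0,8,1,8],[3,1,9,3,3,1,9,3,3,1,9,3,0,8,1,8,0,8,1,8,0,8,1,8,4,9,0,8,1,8,0,8,1,8,0,8,1,8],[3,1,9,3,3,1,9,3,3,1,9,3,4,9,3,1,9,3,3,1,9,3,3,1,9,3,0,8,1,8,0,8,1,8,0,8,1,8],[0,8,1,8,0,8,1,8,0,8,1,8,4,9,3,1,9,3,3,1,9,3,3,1,9,3,0,8,1,8,0,8,1,8,0,8,1,8],[4,9,0,8,1,8,0,8,1,8,0,8,1,8,3,1,9,3,3,1,9,3,3,1,9,3,0,8,1,8,0,8,1,8,0,8,1,8],[0,8,1,8,0,8,1,8,0,8,1,8,3,1,9,3,3,1,9,3,3,1,9,3,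4,9,3,1,9,3,3,1,9,3,3,1,9,3,4,9],[4,9,0,8,1,8,0,8,1,8,0,8,1,8,4,9,3,1,9,3,3,1,9,3,3,1,9,3,4,9],[3,1,9,3,3,1,9,3,3,1,9,3,0,8,1,8,0,8,1,8,0,8,1,8,4,9,3,1,9,3,3,1,9,3,3,1,9,3,4,9],[3,1,9,3,3,1,9,3,3,1,9,3,4,9,0,8,1,8,0,8,1,8,0,8,1,8,3,1,9,3,3,1,9,3,3,1,9,3,4,9],[0,8,1,8,0,8,1,8,0,8,1,8,4,9,0,8,1,8,0,8,1,8,0,8,1,8,3,1,9,3,3,1,9,3,3,1,9,3,4,9],[4,9,3,1,9,3,3,1,9,3,3,1,9,3,0,8,1,8,0,8,1,8,0,8,1,8,3,1,9,3,3,1,9,3,3,1,9,3,4,9],[0,8,1,8,0,8,1,8,0,8,1,8,3,1,9,3,3,1,9,3,3,1,9,3,0,8,1,8,0,8,1,8,0,8,1,8,3,1,9,3,3,1,9,3,3,1,9,3,4,9],[4,9,3,1,9,3,3,1,9,3,3,1,9,3,4,9,0,8,1,8,0,8,1,8,0,8,1,8,4,9],[0,8,1,8,0,8,1,8,0,8,1,8,3,1,9,3,3,1,9,3,3,1,9,3,4,9,0,8,1,8,0,8,1,8,0,8,1,8,4,9],[3,1,9,3,3,1,9,3,3,1,9,3,0,8,1,8,0,8,1,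8,0,8,1,8,4,9,0,8,1,8,0,8,1,8,0,8,1,8,4,9],[3,1,9,3,3,1,9,3,3,1,9,3,4,9,3,1,9,3,3,1,9,3,3,1,9,3,0,8,1,8,0,8,1,8,0,8,1,8,4,9],[0,8,1,8,0,8,1,8,0,8,1,8,4,9,3,1,9,3,3,1,9,3,3,1,9,3,0,8,1,8,0,8,1,8,0,8,1,8,4,9],[4,9,0,8,1,8,0,8,1,8,0,8,1,8,3,1,9,3,3,1,9,3,3,1,9,3,0,8,1,8,0,8,1,8,0,8,1,8,4,9],[4,9,0,8,1,8,0,8,1,8,0,8,1,8,3,1,9,3,3,1,9,3,3,1,9,3,4,9,3,1,9,3,3,1,9,3,3,1,9,3],[3,1,9,3,3,1,9,3,3,1,9,3,0,8,1,8,0,8,1,8,0,8,1,8,3,1,9,3,3,1,9,3,3,1,9,3,4,9,3,1,9,3,3,1,9,3,3,1,9,3],[3,1,9,3,3,1,9,3,3,1,9,3,4,9,0,8,1,8,0,8,1,8,0,8,1,8,4,9,3,1,9,3,3,1,9,3,3,1,9,3],[0,8,1,8,0,8,1,8,0,8,1,8,4,9,0,8,1,8,0,8,1,8,0,8,1,8,4,9,3,1,9,3,3,1,9,3,3,1,9,3],[4,9,3,1,9,3,3,1,9,3,3,1,9,3,0,8,1,8,0,8,1,8,0,8,1,8,4,9,3,1,9,3,3,1,9,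3,3,1,9,3],[0,8,1,8,0,8,1,8,0,8,1,8,3,1,9,3,3,1,9,3,3,1,9,3,0,8,1,8,0,8,1,8,0,8,1,8,4,9,3,1,9,3,3,1,9,3,3,1,9,3],[4,9,3,1,9,3,3,1,9,3,3,1,9,3,4,9,0,8,1,8,0,8,1,8,0,8,1,8,3,1,9,3,3,1,9,3,3,1,9,3],[0,8,1,8,0,8,1,8,0,8,1,8,3,1,9,3,3,1,9,3,3,1,9,3,4,9,0,8,1,8,0,8,1,8,0,8,1,8,3,1,9,3,3,1,9,3,3,1,9,3],[3,1,9,3,3,1,9,3,3,1,9,3,0,8,1,8,0,8,1,8,0,8,1,8,4,9,0,8,1,8,0,8,1,8,0,8,1,8,3,1,9,3,3,1,9,3,3,1,9,3],[3,1,9,3,3,1,9,3,3,1,9,3,4,9,3,1,9,3,3,1,9,3,3,1,9,3,0,8,1,8,0,8,1,8,0,8,1,8,3,1,9,3,3,1,9,3,3,1,9,3],[0,8,1,8,0,8,1,8,0,8,1,8,4,9,3,1,9,3,3,1,9,3,3,1,9,3,0,8,1,8,0,8,1,8,0,8,1,8,3,1,9,3,3,1,9,3,3,1,9,3],[3,1,9,3,3,1,9,3,3,1,9,3,4,9,3,1,9,3,3,1,9,3,3,1,9,3,4,9,0,8,1,8,0,8,1,8,0,8,1,8],[0,8,1,8,0,8,1,8,0,8,1,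8,4,9,3,1,9,3,3,1,9,3,3,1,9,3,4,9,0,8,1,8,0,8,1,8,0,8,1,8],[4,9,0,8,1,8,0,8,1,8,0,8,1,8,3,1,9,3,3,1,9,3,3,1,9,3,4,9,0,8,1,8,0,8,1,8,0,8,1,8],[4,9,3,1,9,3,3,1,9,3,3,1,9,3,0,8,1,8,0,8,1,8,0,8,1,8,4,9,0,8,1,8,0,8,1,8,0,8,1,8],[4,9,0,8,1,8,0,8,1,8,0,8,1,8,4,9,3,1,9,3,3,1,9,3,3,1,9,3,0,8,1,8,0,8,1,8,0,8,1,8],[4,9,0,8,1,8,0,8,1,8,0,8,1,8,3,1,9,3,3,1,9,3,3,1,9,3,4,9,3,1,9,3,3,1,9,3,3,1,9,3,4,9],[3,1,9,3,3,1,9,3,3,1,9,3,0,8,1,8,0,8,1,8,0,8,1,8,3,1,9,3,3,1,9,3,3,1,9,3,4,9,3,1,9,3,3,1,9,3,3,1,9,3,4,9],[3,1,9,3,3,1,9,3,3,1,9,3,4,9,0,8,1,8,0,8,1,8,0,8,1,8,4,9,3,1,9,3,3,1,9,3,3,1,9,3,4,9],[0,8,1,8,0,8,1,8,0,8,1,8,4,9,0,8,1,8,0,8,1,8,0,8,1,8,4,9,3,1,9,3,3,1,9,3,3,1,9,3,4,9],[4,9,3,1,9,3,3,1,9,3,3,1,9,3,0,8,1,8,0,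8,1,8,0,8,1,8,4,9,3,1,9,3,3,1,9,3,3,1,9,3,4,9],[0,8,1,8,0,8,1,8,0,8,1,8,3,1,9,3,3,1,9,3,3,1,9,3,0,8,1,8,0,8,1,8,0,8,1,8,4,9,3,1,9,3,3,1,9,3,3,1,9,3,4,9],[4,9,3,1,9,3,3,1,9,3,3,1,9,3,4,9,0,8,1,8,0,8,1,8,0,8,1,8,3,1,9,3,3,1,9,3,3,1,9,3,4,9],[0,8,1,8,0,8,1,8,0,8,1,8,3,1,9,3,3,1,9,3,3,1,9,3,4,9,0,8,1,8,0,8,1,8,0,8,1,8,3,1,9,3,3,1,9,3,3,1,9,3,4,9],[3,1,9,3,3,1,9,3,3,1,9,3,0,8,1,8,0,8,1,8,0,8,1,8,4,9,0,8,1,8,0,8,1,8,0,8,1,8,3,1,9,3,3,1,9,3,3,1,9,3,4,9],[3,1,9,3,3,1,9,3,3,1,9,3,4,9,3,1,9,3,3,1,9,3,3,1,9,3,0,8,1,8,0,8,1,8,0,8,1,8,3,1,9,3,3,1,9,3,3,1,9,3,4,9],[0,8,1,8,0,8,1,8,0,8,1,8,4,9,3,1,9,3,3,1,9,3,3,1,9,3,0,8,1,8,0,8,1,8,0,8,1,8,3,1,9,3,3,1,9,3,3,1,9,3,4,9],[3,1,9,3,3,1,9,3,3,1,9,3,4,9,3,1,9,3,3,1,9,3,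3,1,9,3,4,9,0,8,1,8,0,8,1,8,0,8,1,8,4,9],[0,8,1,8,0,8,1,8,0,8,1,8,4,9,3,1,9,3,3,1,9,3,3,1,9,3,4,9,0,8,1,8,0,8,1,8,0,8,1,8,4,9],[4,9,0,8,1,8,0,8,1,8,0,8,1,8,3,1,9,3,3,1,9,3,3,1,9,3,4,9,0,8,1,8,0,8,1,8,0,8,1,8,4,9],[4,9,3,1,9,3,3,1,9,3,3,1,9,3,0,8,1,8,0,8,1,8,0,8,1,8,4,9,0,8,1,8,0,8,1,8,0,8,1,8,4,9],[4,9,0,8,1,8,0,8,1,8,0,8,1,8,4,9,3,1,9,3,3,1,9,3,3,1,9,3,0,8,1,8,0,8,1,8,0,8,1,8,4,9],[3,1,9,3,3,1,9,3,3,1,9,3,4,9,0,8,1,8,0,8,1,8,0,8,1,8,3,1,9,3,3,1,9,3,3,1,9,3,4,9,3,1,9,3,3,1,9,3,3,1,9,3],[0,8,1,8,0,8,1,8,0,8,1,8,4,9,0,8,1,8,0,8,1,8,0,8,1,8,3,1,9,3,3,1,9,3,3,1,9,3,4,9,3,1,9,3,3,1,9,3,3,1,9,3],[4,9,3,1,9,3,3,1,9,3,3,1,9,3,0,8,1,8,0,8,1,8,0,8,1,8,3,1,9,3,3,1,9,3,3,1,9,3,4,9,3,1,9,3,3,1,9,3,3,1,9,3],[4,9,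3,1,9,3,3,1,9,3,3,1,9,3,4,9,0,8,1,8,0,8,1,8,0,8,1,8,4,9,3,1,9,3,3,1,9,3,3,1,9,3],[0,8,1,8,0,8,1,8,0,8,1,8,3,1,9,3,3,1,9,3,3,1,9,3,4,9,0,8,1,8,0,8,1,8,0,8,1,8,4,9,3,1,9,3,3,1,9,3,3,1,9,3],[3,1,9,3,3,1,9,3,3,1,9,3,0,8,1,8,0,8,1,8,0,8,1,8,4,9,0,8,1,8,0,8,1,8,0,8,1,8,4,9,3,1,9,3,3,1,9,3,3,1,9,3],[3,1,9,3,3,1,9,3,3,1,9,3,4,9,3,1,9,3,3,1,9,3,3,1,9,3,0,8,1,8,0,8,1,8,0,8,1,8,4,9,3,1,9,3,3,1,9,3,3,1,9,3],[0,8,1,8,0,8,1,8,0,8,1,8,4,9,3,1,9,3,3,1,9,3,3,1,9,3,0,8,1,8,0,8,1,8,0,8,1,8,4,9,3,1,9,3,3,1,9,3,3,1,9,3],[3,1,9,3,3,1,9,3,3,1,9,3,4,9,3,1,9,3,3,1,9,3,3,1,9,3,4,9,0,8,1,8,0,8,1,8,0,8,1,8,3,1,9,3,3,1,9,3,3,1,9,3],[0,8,1,8,0,8,1,8,0,8,1,8,4,9,3,1,9,3,3,1,9,3,3,1,9,3,4,9,0,8,1,8,0,8,1,8,0,8,1,8,3,1,9,3,3,1,9,3,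3,1,9,3],[0,8,1,8,0,8,1,8,0,8,1,8,3,1,9,3,3,1,9,3,3,1,9,3,4,9,3,1,9,3,3,1,9,3,3,1,9,3,4,9,0,8,1,8,0,8,1,8,0,8,1,8],[4,9,0,8,1,8,0,8,1,8,0,8,1,8,4,9,3,1,9,3,3,1,9,3,3,1,9,3,4,9,0,8,1,8,0,8,1,8,0,8,1,8],[3,1,9,3,3,1,9,3,3,1,9,3,4,9,0,8,1,8,0,8,1,8,0,8,1,8,3,1,9,3,3,1,9,3,3,1,9,3,4,9,3,1,9,3,3,1,9,3,3,1,9,3,4,9],[0,8,1,8,0,8,1,8,0,8,1,8,4,9,0,8,1,8,0,8,1,8,0,8,1,8,3,1,9,3,3,1,9,3,3,1,9,3,4,9,3,1,9,3,3,1,9,3,3,1,9,3,4,9],[4,9,3,1,9,3,3,1,9,3,3,1,9,3,0,8,1,8,0,8,1,8,0,8,1,8,3,1,9,3,3,1,9,3,3,1,9,3,4,9,3,1,9,3,3,1,9,3,3,1,9,3,4,9],[4,9,3,1,9,3,3,1,9,3,3,1,9,3,4,9,0,8,1,8,0,8,1,8,0,8,1,8,4,9,3,1,9,3,3,1,9,3,3,1,9,3,4,9],[0,8,1,8,0,8,1,8,0,8,1,8,3,1,9,3,3,1,9,3,3,1,9,3,4,9,0,8,1,8,0,8,1,8,0,8,1,8,4,9,3,1,9,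3,3,1,9,3,3,1,9,3,4,9],[3,1,9,3,3,1,9,3,3,1,9,3,0,8,1,8,0,8,1,8,0,8,1,8,4,9,0,8,1,8,0,8,1,8,0,8,1,8,4,9,3,1,9,3,3,1,9,3,3,1,9,3,4,9],[3,1,9,3,3,1,9,3,3,1,9,3,4,9,3,1,9,3,3,1,9,3,3,1,9,3,0,8,1,8,0,8,1,8,0,8,1,8,4,9,3,1,9,3,3,1,9,3,3,1,9,3,4,9],[0,8,1,8,0,8,1,8,0,8,1,8,4,9,3,1,9,3,3,1,9,3,3,1,9,3,0,8,1,8,0,8,1,8,0,8,1,8,4,9,3,1,9,3,3,1,9,3,3,1,9,3,4,9],[3,1,9,3,3,1,9,3,3,1,9,3,4,9,3,1,9,3,3,1,9,3,3,1,9,3,4,9,0,8,1,8,0,8,1,8,0,8,1,8,3,1,9,3,3,1,9,3,3,1,9,3,4,9],[0,8,1,8,0,8,1,8,0,8,1,8,4,9,3,1,9,3,3,1,9,3,3,1,9,3,4,9,0,8,1,8,0,8,1,8,0,8,1,8,3,1,9,3,3,1,9,3,3,1,9,3,4,9],[0,8,1,8,0,8,1,8,0,8,1,8,3,1,9,3,3,1,9,3,3,1,9,3,4,9,3,1,9,3,3,1,9,3,3,1,9,3,4,9,0,8,1,8,0,8,1,8,0,8,1,8,4,9],[4,9,0,8,1,8,0,8,1,8,0,8,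1,8,4,9,3,1,9,3,3,1,9,3,3,1,9,3,4,9,0,8,1,8,0,8,1,8,0,8,1,8,4,9],[4,9,3,1,9,3,3,1,9,3,3,1,9,3,4,9,0,8,1,8,0,8,1,8,0,8,1,8,3,1,9,3,3,1,9,3,3,1,9,3,4,9,3,1,9,3,3,1,9,3,3,1,9,3],[3,1,9,3,3,1,9,3,3,1,9,3,4,9,3,1,9,3,3,1,9,3,3,1,9,3,0,8,1,8,0,8,1,8,0,8,1,8,3,1,9,3,3,1,9,3,3,1,9,3,4,9,3,1,9,3,3,1,9,3,3,1,9,3],[3,1,9,3,3,1,9,3,3,1,9,3,4,9,3,1,9,3,3,1,9,3,3,1,9,3,4,9,0,8,1,8,0,8,1,8,0,8,1,8,4,9,3,1,9,3,3,1,9,3,3,1,9,3],[0,8,1,8,0,8,1,8,0,8,1,8,4,9,3,1,9,3,3,1,9,3,3,1,9,3,4,9,0,8,1,8,0,8,1,8,0,8,1,8,4,9,3,1,9,3,3,1,9,3,3,1,9,3],[0,8,1,8,0,8,1,8,0,8,1,8,3,1,9,3,3,1,9,3,3,1,9,3,4,9,3,1,9,3,3,1,9,3,3,1,9,3,4,9,0,8,1,8,0,8,1,8,0,8,1,8,3,1,9,3,3,1,9,3,3,1,9,3],[3,1,9,3,3,1,9,3,3,1,9,3,4,9,0,8,1,8,0,8,1,8,0,8,1,8,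4,9,3,1,9,3,3,1,9,3,3,1,9,3,4,9,0,8,1,8,0,8,1,8,0,8,1,8],[4,9,3,1,9,3,3,1,9,3,3,1,9,3,4,9,0,8,1,8,0,8,1,8,0,8,1,8,3,1,9,3,3,1,9,3,3,1,9,3,4,9,3,1,9,3,3,1,9,3,3,1,9,3,4,9],[3,1,9,3,3,1,9,3,3,1,9,3,4,9,3,1,9,3,3,1,9,3,3,1,9,3,0,8,1,8,0,8,1,8,0,8,1,8,3,1,9,3,3,1,9,3,3,1,9,3,4,9,3,1,9,3,3,1,9,3,3,1,9,3,4,9],[3,1,9,3,3,1,9,3,3,1,9,3,4,9,3,1,9,3,3,1,9,3,3,1,9,3,4,9,0,8,1,8,0,8,1,8,0,8,1,8,4,9,3,1,9,3,3,1,9,3,3,1,9,3,4,9],[0,8,1,8,0,8,1,8,0,8,1,8,4,9,3,1,9,3,3,1,9,3,3,1,9,3,4,9,0,8,1,8,0,8,1,8,0,8,1,8,4,9,3,1,9,3,3,1,9,3,3,1,9,3,4,9],[0,8,1,8,0,8,1,8,0,8,1,8,3,1,9,3,3,1,9,3,3,1,9,3,4,9,3,1,9,3,3,1,9,3,3,1,9,3,4,9,0,8,1,8,0,8,1,8,0,8,1,8,3,1,9,3,3,1,9,3,3,1,9,3,4,9],[3,1,9,3,3,1,9,3,3,1,9,3,4,9,0,8,1,8,0,8,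1,8,0,8,1,8,4,9,3,1,9,3,3,1,9,3,3,1,9,3,4,9,0,8,1,8,0,8,1,8,0,8,1,8,4,9],[3,1,9,3,3,1,9,3,3,1,9,3,4,9,3,1,9,3,3,1,9,3,3,1,9,3,4,9,0,8,1,8,0,8,1,8,0,8,1,8,3,1,9,3,3,1,9,3,3,1,9,3,4,9,3,1,9,3,3,1,9,3,3,1,9,3],[0,8,1,8,0,8,1,8,0,8,1,8,4,9,3,1,9,3,3,1,9,3,3,1,9,3,4,9,0,8,1,8,0,8,1,8,0,8,1,8,3,1,9,3,3,1,9,3,3,1,9,3,4,9,3,1,9,3,3,1,9,3,3,1,9,3],[3,1,9,3,3,1,9,3,3,1,9,3,4,9,3,1,9,3,3,1,9,3,3,1,9,3,4,9,0,8,1,8,0,8,1,8,0,8,1,8,3,1,9,3,3,1,9,3,3,1,9,3,4,9,3,1,9,3,3,1,9,3,3,1,9,3,4,9],[0,8,1,8,0,8,1,8,0,8,1,8,4,9,3,1,9,3,3,1,9,3,3,1,9,3,4,9,0,8,1,8,0,8,1,8,0,8,1,8,3,1,9,3,3,1,9,3,3,1,9,3,4,9,3,1,9,3,3,1,9,3,3,1,9,3,4,9]]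
theorem clA : ∀ x ∈ cl g23 qsA, ∃ w ∈ WA, wp g23 w = x := list_of_tab2 hf23 (tab := [[1,2,3],[0,4,5],[6,0,7],[8,9,0],[10,1,11],[12,13,1],[2,14,15],[16,17,2],[3,18,19],[20,3,21],[4,22,23],[24,25,4],[5,26,27],[28,5,29],[22,6,30],[31,32,6],[7,33,34],[35,7,36],[37,8,38],[27,39,8],[9,40,41],[42,36,9],[14,10,43],[44,45,10],[11,46,47],[48,11,49],[50,12,51],[19,52,12],[13,53,54],[55,49,13],[56,57,14],[15,58,59],[60,15,61],[62,16,63],[59,64,16],[17,65,66],[49,21,17],[18,67,68],[69,66,18],[70,19,65],[67,20,64],[71,63,20],[21,61,57],[72,73,22],[23,74,75],[76,23,77],[78,24,79],[75,80,24],[25,81,82],[36,29,25],[26,83,84],[85,82,26],[86,27,81],[83,28,80],[87,79,28],[29,77,73],[30,88,89],[90,30,42],[91,31,92],[34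,93,31],[32,94,95],[77,42,32],[33,96,97],[80,41,33],[79,34,40],[96,35,39],[82,38,35],[40,37,98],[99,97,37],[38,89,94],[39,95,88],[41,92,90],[43,100,101],[102,43,55],[103,44,104],[47,105,44],[45,106,107],[61,55,45],[46,108,109],[64,54,46],[63,47,53],[108,48,52],[66,51,48],[53,50,110],[111,109,50],[51,101,106],[52,107,100],[54,104,102],[112,56,70],[101,69,56],[57,113,71],[58,114,115],[105,71,58],[104,59,113],[114,60,69],[107,70,60],[65,62,116],[110,68,62],[109,116,67],[68,117,114],[118,72,86],[89,85,72],[73,119,87],[74,120,121],[93,87,74],[92,75,119],[120,76,85],[95,86,76],[81,78,122],[98,84,78],[97,122,83],[84,123,120],[88,124,125],[124,90,93],[94,91,99],[123,125,91],[125,98,96],[121,99,124],[100,126,127],[126,102,105],[106,103,111],[117,127,103],[127,110,108],[115,111,126],[113,112,117],[116,115,112],[119,118,123],[122,121,118]])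 List.mem_cons_self (by decide +kernel)
theorem tsA : lall2 (tsF 2 8) WA [[0,0,1,2,3,4,5,6,7],[0,10,12,14,15,16,20,21,23],[0,0,6,10,14,17,19,20,23],[0,4,6,10,13,17,18,22,23],[1,1],[1,0],[1,1],[1,1],[1,0],[1,1],[0,0,6,10,14,17,19,20,23],[1,0],[0,2,3,6,7,9,10,17,23],[1,0],[0,7,9,10,14,18,20,22,23],[1,0],[1,0],[0,6,8,10,11,12,16,17,23],[1,0],[0,0,1,5,10,12,16,19,23],[1,0],[0,0,6,10,14,17,19,20,23],[0,0,6,10,14,17,19,20,23],[1,1],[1,1],[1,0],[1,1],[0,6,8,10,11,12,16,17,23],[1,1],[1,1],[1,0],[1,1],[1,0],[1,0],[1,1],[1,0],[0,0,6,10,14,17,19,20,23],[1,1],[1,1],[1,1],[1,0],[1,1],[1,1],[1,1],[1,0],[1,1],[1,1],[1,1],[0,6,8,10,11,12,16,17,23],[0,1,5,8,10,11,14,20,23],[1,0],[1,1],[1,1],[1,1],[1,1],[0,0,6,10,14,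17,19,20,23],[1,1],[1,0],[0,1,5,6,10,15,17,21,23],[1,1],[1,1],[0,2,3,4,10,13,14,20,23],[1,1],[0,0,4,7,9,10,13,19,23],[0,0,2,3,10,18,19,22,23],[1,0],[0,0,8,10,11,15,19,21,23],[1,1],[0,0,6,10,14,17,19,20,23],[1,1],[1,1],[1,1],[1,0],[1,1],[1,0],[1,1],[1,0],[0,0,6,10,14,17,19,20,23],[1,0],[1,1],[1,1],[1,1],[0,1,5,6,10,15,17,21,23],[1,0],[1,1],[1,1],[1,1],[1,1],[1,1],[1,1],[1,1],[1,0],[0,2,3,6,7,9,10,17,23],[0,4,6,10,13,17,18,22,23],[1,1],[1,1],[1,1],[0,0,6,10,14,17,19,20,23],[0,0,6,10,14,17,19,20,23],[1,1],[1,0],[1,1],[1,0],[0,1,5,6,10,15,17,21,23],[1,1],[1,1],[1,0],[1,1],[1,0],[1,1],[1,1],[0,0,6,10,14,17,19,20,23],[1,0],[0,4,6,10,13,17,18,22,23],[1,0],[1,1],[0,0,6,10,14,17,19,20,23],[1,1],[1,1],[1,0],[1,1],[0,0,6,10,14,17,19,20,23],[1,1],[0,0,6,10,14,17,19,20,23],[1,0],[1,1],[0,2,3,6,7,9,10,17,23],[0,0,6,10,14,17,19,20,23]]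 = true := by decide +kernel
theorem fxA (x : Spor.M23) (hx : orderOf x = 2) : Mt.Fx GolayPt x 8 := by
  obtain ⟨w, hw, c, e⟩ := Mt.syl_conj (p := 2) (by norm_num) (k := 7) (by rw [card_M23]; exact (Nat.factorization_def _ (by norm_num)).trans (by decide +kernel)) clA (by decide +kernel) lb9016 x hx
  have := forall_of_lall2 (P := fun w => wp g23 w ^ 2 = 1 → Mt.Fx GolayPt (wp g23 w) 8) tsA (fun _ _ h => tsF_spec h) w hw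
    (by rw [e, conj_pow, ← hx, pow_orderOf_eq_one]; simp)
  rw [e] at this
  exact this.conj
noncomputable def qsB : List (List ℕ) := [[1,2,4,3,1,2,4,3],[0,9,2,2,0,9,2,2]]
theorem der9017 : Der 24 pt (cl g23 qsB) (fun _ => Net.nil) := Der.zero model23.inj
noncomputable def x9018 : Net := (Net.cons (nat_lit 12) (nat_lit 2068)
  (Net.cons (nat_lit 6) (nat_lit 73765)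
  (Net.cons (nat_lit 3) (nat_lit 0x1020c4)
  (Net.cons (nat_lit 1) (nat_lit 0x240000)
  (Net.cons (nat_lit 1) (nat_lit 0x482410)
  (Net.cons (nat_lit 1) (nat_lit 0x208008)
  (Net.cons (nat_lit 3) (nat_lit 4)
  (Net.cons (nat_lit 6) (nat_lit 0x1c024)
  (Net.cons (nat_lit 12) (nat_lit 2068)
  Net.nil)))))))))
noncomputable def ns9019 : ℕ → Net := upd (fun _ => Net.nil) 0 x9018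
theorem der9020 : Der 24 pt (cl g23 qsB) ns9019 := der9017.add (wp_mem_cl (w := [1,2,4,3,1,2,4,3]) (by decide)) (model23.toIsPre.rep_word (k := 5) (w := [1,2,4,3,1,2,4,3]) (n := x9018) (by decide +kernel)) 0
noncomputable def x9021 : Net := (Net.cons (nat_lit 12) (nat_lit 3364)
  (Net.cons (nat_lit 6) (nat_lit 0x24008)
  (Net.cons (nat_lit 3) (nat_lit 0x82106)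
  (Net.cons (nat_lit 1) (nat_lit 0x200000)
  (Net.cons (nat_lit 1) (nat_lit 0x490402)
  (Net.cons (nat_lit 1) (nat_lit 0x248200)
  (Net.cons (nat_lit 3) (nat_lit 0x104104)
  (Net.cons (nat_lit 6) (nat_lit 73736)
  (Net.cons (nat_lit 12) (nat_lit 2476)
  Net.nil)))))))))
noncomputable def ns9022 : ℕ → Net := upd ns9019 1 x9021
theorem der9023 : Der 24 pt (cl g23 qsB) ns9022 := der9020.add (wp_mem_cl (w := [0,9,2,2,0,9,2,2]) (by decide)) (model23.toIsPre.rep_word (k := 5) (w := [0,9,2,2,0,9,2,2]) (n := x9021) (by decide +kernel)) 1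
noncomputable def L9024 : Lev := Lev.cons 3 9 [[0],[1]] Lev.nil
theorem lc9025 : Lev.chk 24 2 ns9022 vT 100 L9024 = true := by decide +kernel
theorem lb9026 : 9 ≤ Nat.card (cl g23 qsB) := le_of_eq_of_le (by decide +kernel) (der9023.card_ge lc9025)
noncomputable def WB : List (List ℕ) := [[],[1,2,4,3,1,2,4,3],[0,9,2,2,0,9,2,2],[1,2,4,3,1,2,4,3,1,2,4,3,1,2,4,3],[0,9,2,2,0,9,2,2,1,2,4,3,1,2,4,3],[0,9,2,2,0,9,2,2,0,9,2,2,0,9,2,2],[0,9,2,2,0,9,2,2,1,2,4,3,1,2,4,3,1,2,4,3,1,2,4,3],[0,9,2,2,0,9,2,2,0,9,2,2,0,9,2,2,1,2,4,3,1,2,4,3],[0,9,2,2,0,9,2,2,0,9,2,2,0,9,2,2,1,2,4,3,1,2,4,3,1,2,4,3,1,2,4,3]]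
theorem clB : ∀ x ∈ cl g23 qsB, ∃ w ∈ WB, wp g23 w = x := list_of_tab2 hf23 (tab := [[1,2],[3,4],[4,5],[0,6],[6,7],[7,0],[2,8],[8,1],[5,3]]) List.mem_cons_self (by decide +kernel)
theorem tsB : lall2 (tsF 3 6) WB [[0,0,1,2,3,4,5],[0,1,4,12,14,17,23],[0,0,6,9,12,14,23],[0,1,4,12,14,17,23],[0,2,12,13,14,18,23],[0,0,6,9,12,14,23],[0,12,14,15,20,22,23],[0,12,14,15,20,22,23],[0,2,12,13,14,18,23]] = true := by decide +kernel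
theorem fxB (x : Spor.M23) (hx : orderOf x = 3) : Mt.Fx GolayPt x 6 := by
  obtain ⟨w, hw, c, e⟩ := Mt.syl_conj (p := 3) (by norm_num) (k := 2) (by rw [card_M23]; exact (Nat.factorization_def _ (by norm_num)).trans (by decide +kernel)) clB (by decide +kernel) lb9026 x hx
  have := forall_of_lall2 (P := fun w => wp g23 w ^ 3 = 1 → Mt.Fx GolayPt (wp g23 w) 6) tsB (fun _ _ h => tsF_spec h) w hw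
    (by rw [e, conj_pow, ← hx, pow_orderOf_eq_one]; simp)
  rw [e] at this
  exact this.conj
theorem trM (a : GolayPt) (ha : a ≠ none) : ∃ g : Spor.M23, g • pt 0 = a := by
  have h1 : ∀ a : GolayPt, a ≠ none → ∃ i < 23, pt i = a := by decide +kernel
  obtain ⟨i, hi, rfl⟩ := h1 a ha
  have h2 : nall (fun i => band (Nat.ble (Nat.succ 0) 24) (Nat.beq (fnWc m500 (lk [] [[],[4],[0,2,4],[2,4],[0,4],[8],[0,0,4],[0,2,8,4],[1,2,4],[2,0,4],[0,8,4],[1,8],[3,0,4],[3,4],[0,8],[2,8,4],[1,4],[2,8],[8,0,4],[8,4],[3,8,4],[3,0,8],[1,2,8]] i) 0) i)) 23 = true := by decide +kernel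
  exact ⟨_, model23.toIsPre.smul_of_ptc ((nall_eq _ _).1 h2 i hi)⟩
noncomputable def nz (w : List ℕ) (p q : ℕ) : Bool := band (eqBc m500 [0,1,2,3,4,5] (lpow w p) [])
  (band (Nat.ble (Nat.succ q) 24) (beqb (Nat.beq (fnWc m500 w q) q) false))
theorem nz_spec {w : List ℕ} {p q : ℕ} (hp : p.Prime) (h : nz w p q = true) : orderOf (wp g23 w) = p := by
  haveI := Fact.mk hp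
  rw [nz, band_eq] at h
  exact orderOf_eq_prime (pow_one_of hf23 h.1) (model23.ne_one_of_mp h.2)
noncomputable def cs (c : List (List ℕ)) : Bool :=
  match c with
  | [p, q, r, a, b, d] :: x :: x' :: y :: y' :: us => band (band (nz x p a) (band (nz y q b) (nz (lapp x y) r d)))
    (band (band (eqBc m500 [0,1,2,3,4,5] (lapp x x') []) (eqBc m500 [0,1,2,3,4,5] (lapp y y') []))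
      (lall2 (fun l u => eqBc m500 [0,1,2,3,4,5] (sel [x, x', y, y'] u) [l]) [0,1,2,3,4,5,8,9] us))
  | _ => false
def Gen (p q r : ℕ) : Prop := ∃ x y z : Spor.M23, orderOf x = p ∧ orderOf y = q ∧ orderOf z = r ∧ x * y * z = 1 ∧
  Subgroup.closure {x, y} = ⊤
theorem cs_spec {c : List (List ℕ)} (h : cs c = true) {p q r : ℕ} (e : (lk [] c 0).take 3 = [p, q, r]) (hp : p.Prime) (hq : q.Prime)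
    (hr : r.Prime) : Gen p q r := by
  unfold cs at h
  split at h
  · rename_i p' q' r' a b d x x' y y' us
    obtain ⟨rfl, rfl, rfl⟩ : p' = p ∧ q' = q ∧ r' = r := by simpa [lk_zero] using e
    simp only [band_eq] at h
    obtain ⟨⟨h1, h2, h3⟩, ⟨h4, h5⟩, h6⟩ := h
    refine ⟨wp g23 x, wp g23 y, (wp g23 x * wp g23 y)⁻¹, nz_spec hp h1, nz_spec hq h2,
      by rw [orderOf_inv, ← wp_lapp]; exact nz_spec hr h3, mul_inv_cancel _, eq_top_iff.2 ?_⟩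
    have mx : wp g23 x ∈ Subgroup.closure {wp g23 x, wp g23 y} := Subgroup.subset_closure (by simp)
    have my : wp g23 y ∈ Subgroup.closure {wp g23 x, wp g23 y} := Subgroup.subset_closure (by simp)
    have k : cl g23 [x, x', y, y'] ≤ Subgroup.closure {wp g23 x, wp g23 y} := cl_le.2 fun w hw => by
      simp only [List.mem_cons, List.not_mem_nil, or_false] at hw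
      rcases hw with rfl | rfl | rfl | rfl
      · exact mx
      · exact (Subgroup.mul_mem_cancel_left _ mx).1 (by rw [← wp_lapp, hf23 _ _ h4]; exact one_mem _)
      · exact my
      · exact (Subgroup.mul_mem_cancel_left _ my).1 (by rw [← wp_lapp, hf23 _ _ h5]; exact one_mem _)
    refine (top_of_card card_M23 lb694).ge.trans (cl_lw_le.2 (forall_of_lall2 h6 fun l u e => k ?_))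
    have := hf23 _ _ e
    simp only [wp_cons, wp_nil, mul_one] at this
    exact this ▸ wp_sel_mem _ u
  · cases h
noncomputable def csL : List (List (List ℕ)) := [[[2,5,11,0,0,0],[9,5],[4,8],[8,0,5,0,2,5,9,4,9,1,4,1,9],[8,0,5,0,8,5,8,4,3,1,4,1,9],[0,3,0,2,2,0,3,3,0,2,2,0,2,0,3,0,2,0,2,2,0,3,0,2,0,2],[3,0,3,0,2,0,3,3,0,3,0,2,0,3,0,3,3,0,2,2,0,3,3,0,2,0],[3,3,0,3,3,0,3,0,2,0,2,2,0,3,0,3,0,2,0,2,0,3,3,0,3],[2,0,2,2,0,3,0,3,0,2,0,2,0,3,3,0,3,0,2,0,2,2,0,2,2],[2,0,3,3,0,3,0,3,0,3,0,2,0,3,0,2,0,2,0,2,0,2,2,0,3,0],[2,0,3,3,0,3,0,3,0,3,0,2,0,3,0,2,0,2,0,2,0,2,2,0,3,0],[2,0,3,3,0,3,0,3,0,3,0,2,0,3,0,2,0,2,0,2,0,2,2,0,3],[2,0,3,3,0,3,0,3,0,3,0,2,0,3,0,2,0,2,0,2,0,2,2,0,3]],[[2,5,23,0,0,0],[9,2,9,2],[3,8,3,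8],[1,4,2],[3,5,0],[2,0,3,0,2,0,2,2,0,3,3,0,3,0,2,2,0,3,0,3,0,3,0,2,2,0,3,0,2,2],[0,2,0,2,0,2,0,3,3,0,3,0,2,2,0,2,2,0,3,0,2,0,3,0,2,0,2,0,2,2],[0,2,0,3,0,3,3,0,2,0,2,0,2,0,2,0,3,0,3,3,0,3,3,0,3,3,0],[0,2,2,0,2,2,0,2,2,0,2,0,3,0,3,0,3,0,3,0,2,2,0,2,0,3,0],[0,3,0,2,0,2,0,2,2,0,2,2,0,2,2,0,2,0,3,0,3,0,2,0,3,0,3,0],[0,3,0,2,0,2,0,2,2,0,2,2,0,2,2,0,2,0,3,0,3,0,2,0,3,0,3,0],[2,2,0,2,2,0,3,0,3,0,3,3,0,2,2,0,2,0,2,0,3,3,0,3,3],[2,2,0,2,2,0,3,0,3,0,3,3,0,2,2,0,2,0,2,0,3,3,0,3,3]],[[2,7,7,0,0,1],[4,9,5],[4,8,5],[2,2,5,8,0,8,2],[3,9,1,9,4,3,3],[0,3,3,0,2,2,0,2,0,2,2,0,2,2,0,2,0,3,3,0,3,0,2,0,2],[3,0,3,0,2,0,2,2,0,3,0,3,3,0,3,3,0,3,0,3,3,0,2,2,0],[3,3,0,3,0,2,2,2,0,3,0,2,0,3,0,2,0,3,0,3,3,0,3,3],[2,2,0,2,2,0,2,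0,3,0,2,0,3,0,2,0,3,3,3,0,2,0,2,2],[2,0,3,0,2,0,3,0,2,0,3],[2,0,3,0,2,0,3,0,2,0,3],[0],[0]],[[2,7,11,0,0,0],[4],[5],[8,5,1,5],[4,0,4,9],[0,3,3,3,0,2,0,3,0,2,0,3,3,3,0,2,2,0,2,2,0,3,0,2],[3,0,2,0,3,3,0,3,3,0,2,2,2,0,3,0,2,0,3,0,2,2,2,0],[3,0,2,0,3,3,3,0,2,0,2,0,3,3,0,3,3,3,0,2,2,2,0,3,3],[2,2,0,3,0,2,0,3,0,2,0,2,0,2,0,2,0,2,2,2,0,2,0,2,2],[0],[0],[3,3,0,2,0,3,0,2,0,3,3,3,0,2,2,0,2,2,0,3,0,2,0],[3,3,0,2,0,3,0,2,0,3,3,3,0,2,2,0,2,2,0,3,0,2,0]],[[2,7,23,0,0,0],[8,5],[4,9],[0,8,2,9,9],[8,8,3,9,1],[2,2,0,3,0,2,0,2,2,0,2,0,2,0,3,0,3,0,3,0],[0,2,0,2,0,2,0,3,0,3,0,3,3,0,3,0,2,0,3,3],[2,0,2,0,2,2,2,0,2,0,3,0,2,2,0,3,0,2,0,2,2,0,3,3,3],[2,2,2,0,3,3,0,3,0,2,0,3,3,0,2,0,3,0,3,3,3,0,3,0,3],[3,0,3,0,3,3,3,0,3,0,2,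0,2,2,2,0,2,0,2],[3,0,3,0,3,3,3,0,3,0,2,0,2,2,2,0,2,0,2],[0,3,0,3,0,3,3,3,0,3,0,2,0,2,2,2,0,2,0,2],[0,3,0,3,0,3,3,3,0,3,0,2,0,2,2,2,0,2,0,2]],[[2,11,11,0,0,0],[3,9,3,9],[8,2,8,2],[4,1,5,9,5],[4,8,4,0,5],[2,2,0,3,0,2,0,3,3,3,0,2,0,3,3,0,2,0,2,2,0,2],[3,0,3,3,0,3,0,2,2,0,3,0,2,2,2,0,3,0,2,0,3,3],[3,3,3,3,0,3,0,2,2,2,2,0,3,0,3,0,3,0,2,0,3,3,0],[0,2,2,0,3,0,2,0,2,0,2,0,3,3,3,3,0,2,0,2,2,2,2],[3,3,3,3,0,3,3,0,3,3,0,2,0,2,0,2,0,3,3,0,2],[3,3,3,3,0,3,3,0,3,3,0,2,0,2,0,2,0,3,3,0,2],[0,2,2,0,2,0,2,0,2,2,0,3,0,2,0,3,3,0,3,0,3,0,3,3,0],[0,2,2,0,2,0,2,0,2,2,0,3,0,2,0,3,3,0,3,0,3,0,3,3,0]],[[2,11,23,0,0,0],[4,9,2,5,4,9,2,5],[4,3,8,5,4,3,8,5],[5,9,0,8,5],[4,9,1,8,4],[2,2,2,0,2,2,2,0,2,0,2,0,2,2,2,2,0,3,0,2,2,2],[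3,3,3,0,2,0,3,3,3,3,0,3,0,3,0,3,3,3,0,3,3,3],[0,3,3,3,0,2,2,2,0,3,0,3,3,0,2,2,2,0,3,3,3],[2,2,2,0,3,3,3,0,2,2,0,2,0,3,3,3,0,2,2,2,0],[2,0,3,0,2,0,2,0,2,0,3,3,0,3,3,3,0,3,0,3,3,0],[2,0,3,0,2,0,2,0,2,0,3,3,0,3,3,3,0,3,0,3,3,0],[2,0,2,2,0,3,3,3,3,3,0,2,2,2,0,3,3,3,0,2,2,2,0,3],[2,0,2,2,0,3,3,3,3,3,0,2,2,2,0,3,3,3,0,2,2,2,0,3]],[[2,23,23,0,0,0],[0,5,1],[0,4,1],[8,3,0,9,3],[2,8,1,2,9],[3,0,2,2,0,2,2,0,2,0,3,3,0,3,0,2,0,3,0,3,0,2],[3,0,2,0,2,0,3,0,2,0,2,2,0,3,0,3,3,0,3,3,0,2],[0,3,3,0,3,0,2,0,2,2,2,0,2,0,3,3,3,0,2,2,0,2,0],[0,3,0,3,3,0,2,2,2,0,3,0,3,3,3,0,3,0,2,0,2,2,0],[0,3,3,3,3,0,3,3,0,2,2,2,0,2,0,3,3,3,3,3,3,0],[0,3,3,3,3,0,3,3,0,2,2,2,0,2,0,3,3,3,3,3,3,0],[2,0,2,2,2,0,2,2,0,3,0,2,2,0,2,2,2,0,2,2,0,3,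0,2],[2,0,2,2,2,0,2,2,0,3,0,2,2,0,2,2,2,0,2,2,0,3,0,2]],[[3,3,11,0,0,0],[9,2,2,5],[4,3,3,8],[4,1,4,2],[3,5,0,5],[1,3,0,3,1,2,0,3,1,3,0,2,0,2,0,2,1,3,1,2,1],[0,3,0,2,0,3,1,3,1,3,1,2,0,2,1,3,0,2,1,2,0],[2,0,2,0,3,1,3,0,2,0,3,0,3,1,3,0,3,1,3,1],[0,2,0,2,1,2,0,2,1,2,1,3,1,2,0,2,1,3,1,3],[0,2,0,2,0,3,0,3,0,2,1,2,1,3,0,3,1,3,0,3,0,3,0],[0,2,0,2,0,3,0,3,0,2,1,2,1,3,0,3,1,3,0,3,0,3,0],[2,1,3,1,2,1,2,0,3,0,2,0,2,1,2,0,3,1,2],[2,1,3,1,2,1,2,0,3,0,2,0,2,1,2,0,3,1,2]],[[3,3,23,1,0,0],[2,0,8,2,2,0,8,2],[3,9,1,3,3,9,1,3],[2,5],[4,3],[3,0,3,1,2,0,3,0,2,1,2,1,2,0,3,1,3],[2,0,2,1,3,0,3,0,3,1,2,1,3,0,2,1,2],[1,2,1,2,0,3,0,3,0,2,1,3,1,3,1,2,0,2,0,3],[2,1,3,1,3,0,2,0,2,0,3,1,2,1,2,1,3,0,3,0],[2,1,3,1,3,0,2,0,2,0,3,1,2,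1,2,1,3,0,3,0,2],[2,1,3,1,3,0,2,0,2,0,3,1,2,1,2,1,3,0,3,0,2],[1,3,0,2,0,2,1,2,1,2,0,3,0,3,0,2,1,3,1,3,1,3,0],[1,3,0,2,0,2,1,2,1,2,0,3,0,3,0,2,1,3,1,3,1,3,0]],[[3,5,5,0,0,0],[3,4],[5,2],[1,4,8,2,9,9,9,5,0],[1,4,8,8,8,3,9,5,0],[2,1,2,2,0,2,2,0,3,0,3,1,3,1,2,0,3],[2,1,3,0,2,0,2,1,2,1,3,3,1,3,3,0,3],[2,1,2,0,3,0,2,2,1,2,0,3,0,2,2,1],[0,3,3,1,2,1,3,0,3,3,1,2,1,3,0,3],[3,3,1,2,1,3,0,3,3,1,2,1,3,0,3],[3,3,1,2,1,3,0,3,3,1,2,1,3,0,3],[3,3,0,3,0,2,1,2,1,2,2,0],[3,3,0,3,0,2,1,2,1,2,2,0]],[[3,5,7,0,0,0],[1,5,2,2,1,5,2,2],[3,3,4,0,3,3,4,0],[9,3,5],[4,2,8],[1,2,2,1,2,0,3,0,3,0,2,0,2,1,3],[2,0,3,1,3,1,2,1,2,1,3,0,3,3,0],[3,1,2,1,3,1,2,1,2,1,2,1,3,0,3,1,3,0],[0,2,1,3,0,3,1,2,0,2,0,3,3,1,3,3,1,3],[2,1,3,3,1,2,2,0,3,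3,0,2,2,0,3,1,3,0],[2,1,3,3,1,2,2,0,3,3,0,2,2,0,3,1,3,0],[3,0,3,0,2,0,2,0,2,2,1,3,3,1,3,0],[3,0,3,0,2,0,2,0,2,2,1,3,3,1,3,0]],[[3,5,11,0,0,0],[2,4,0,4,8,3,4],[5,2,9,5,1,5,3],[0,8,0,5],[4,1,9,1],[0,2,2,1,2,2,0,2,2,1,2,0,2,1,2,1,2],[3,0,3,0,3,1,3,0,3,3,1,3,3,0,3,3,1],[0,3,1,2,2,0,2,2,1,2,1,2,1,2,1,3,0,2,1],[0,3,1,2,0,3,0,3,0,3,0,3,3,1,3,3,0,2,1],[0,3,1,3,3,0,3,3,0,2,1,2,1,2,0],[0,3,1,3,3,0,3,3,0,2,1,2,1,2,0],[1,2,0,2,2,0,3,0,3,1,2,1,3,1,2,0,2,1],[1,2,0,2,2,0,3,0,3,1,2,1,3,1,2,0,2,1]],[[3,5,23,0,0,0],[4,0,2,0,0],[1,1,3,1,5],[8,1,2,4,9],[8,5,3,0,9],[2,1,2,0,2,1,2,0,3,0,3,3,0,3,1,2,1],[0,3,0,2,1,2,2,1,2,1,3,0,3,1,3,0,3],[0,2,0,3,1,3,3,0,2],[2,0,3,1,3,3,0,2,1],[0,2,0,3,1,3,3,0,2,1],[0,2,0,3,1,3,3,0,2,1],[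2,1,2,0,2,0,2,1,3,0,3,1,2,0,3,0,3],[2,1,2,0,2,0,2,1,3,0,3,1,2,0,3,0,3]],[[3,7,7,0,0,0],[3,4],[5,2],[9,1],[0,8],[1,2,1,2,2,2,0,3,3,0,2,2,1,2,2,0,2],[3,3,3,0,3,0,2,2,1,2,1,2,1,2,0,3,1],[3,1,2,1,3,0,3,3,3,1,2,1,2,1,2,0,3,0],[1,2,1,3,0,3,0,3,0,2,2,2,1,2,0,3,0,2],[0,2,1,3,0,3,0,3,0,2,2,2,1,2,0,3,0,2],[0,2,1,3,0,3,0,3,0,2,2,2,1,2,0,3,0,2],[3,3,0,3,3,1,2,0,3,0,2,1,2,2,2,0,3,0],[3,3,0,3,3,1,2,0,3,0,2,1,2,2,2,0,3,0]],[[3,7,11,0,0,0],[5,5,3,5],[4,2,4,4],[4,1,8,3,4,1,8,3],[2,9,0,5,2,9,0,5],[2,2,2,1,3,3,0,2,1,3,1,3,3,0,3,0,2],[2,0,2,1,3,1,2,2,2,0,3,1,3,0,3,3,1],[3,0,2,1,3,3,3,1,3,0,3,0,3,1,3,0,2],[3,1,2,0,2,1,2,1,2,0,2,2,2,0,3,1,2],[3,0,2,1,3,3,3,1,3,0,3,0,3,1,3,0,2,0],[3,0,2,1,3,3,3,1,3,0,3,0,3,1,3,0,2,0],[1,3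,3,3,1,2,2,1,3,1,3,3,3,1,3,3,3,0],[1,3,3,3,1,2,2,1,3,1,3,3,3,1,3,3,3,0]],[[3,7,23,0,0,0],[4,3],[2,5],[1,9],[8,0],[0,2,0,3,3,0,2,0,2,0,2,1,3,3,0,3,0],[1,2,1,2,2,0,3,1,3,1,3,1,2,2,1,3,1],[3,1,3,1,2,2,1,2,2,1,2,0,2,2,2,0,2,0],[2,1,3,3,1,3,1,3,3,1,3,1,2,0,2,2,0,2],[3,3,1,3,3,0,2,2,0,2,2,0,3,3,0,2,1,3,0],[3,3,1,3,3,0,2,2,0,2,2,0,3,3,0,2,1,3,0],[0,2,0,3,3,0,2,0,2,0,2,1,3,3,0,3,0,2],[0,2,0,3,3,0,2,0,2,0,2,1,3,3,0,3,0,2]],[[3,11,11,0,0,0],[1,1,4,1,1,1,4,1],[0,5,0,0,0,5,0,0],[9,0,2,5,3,4,0],[1,5,2,4,3,1,8],[2,1,2,1,3,3,1,3,1,3,1,3,3,3,0,2,2],[3,3,1,2,2,2,0,2,0,2,0,2,2,0,3,0,3],[2,1,3,0,2,0,3,3,0,3,3,3,3,1,3,0],[1,2,1,3,0,2,0,3,3,0,3,3,3,3,1,3],[2,2,0,3,0,3,3,0,3,0,2,0,3,0,2,0,3],[2,2,0,3,0,3,3,0,3,0,2,0,3,0,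2,0,3],[1,3,3,0,2,0,2,1,2,0,3,3,0,3,1,3,0],[1,3,3,0,2,0,2,1,2,0,3,3,0,3,1,3,0]],[[3,11,23,0,1,0],[2,4,8,8],[9,9,5,3],[5,2,2,0,8,2,8],[9,3,9,1,3,3,4],[1,2,2,1,3,1,2,1,2,0,2,0,2,1,3,1,2,1],[3,0,2,2,2,0,2,1,2,2,1,3,0,3,0,2,2,0],[1,3,0,3,0,3,0,3,0,3,0,3,0,3],[2,1,2,1,2,1,2,1,2,1,2,1,2,0],[2,1,2,1,2,1,2,1,2,1,2,1,2,1],[2,1,2,1,2,1,2,1,2,1,2,1,2,1],[3,0,3,3,1,3,3,0,2,0,2,0,2,2,2,0],[3,0,3,3,1,3,3,0,2,0,2,0,2,2,2,0]],[[3,23,23,0,0,0],[3,5],[4,2],[1,8,4,3],[2,5,9,0],[2,2,2,2,2,0,2,0,3,1,2,2,2,0,2,1,3],[2,0,3,1,3,3,3,0,2,1,3,1,3,3,3,3,3],[3,0,2,1,2,2,1,3,0,3,3,1,2,0,3],[2,1,3,0,2,2,1,2,0,3,3,0,3,1,2],[3,0,2,0,2,2,2,1,3,3,1,2,0,3,3,1],[3,0,2,0,2,2,2,1,3,3,1,2,0,3,3,1],[2,1,2,2,1,2,2,0,3,1,3,0,2,2,0],[2,1,2,2,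1,2,2,0,3,1,3,0,2,2,0]],[[5,5,5,0,1,0],[0,8,5,1,9,5,3],[2,4,8,0,4,9,1],[2],[3],[3,3,1,2,2,0,3,0,0,3,1,3,1,2,1],[2,1,1,3,1,1,2,2,1,3,1,2,0,3,1],[2],[3],[2,1,3,3,0,2,1,1,3,3,1,2,0,2,0,0],[2,1,3,3,0,2,1,1,3,3,1,2,0,2,0,0],[2,0,2,1,2,2,0,3,0,0,2,0,3,3,0,0],[2,0,2,1,2,2,0,3,0,0,2,0,3,3,0,0]],[[5,5,7,0,0,0],[3,9,4],[5,8,2],[3,0,4],[5,1,2],[1,3,0,3,1,1,2,1,2,1,1,3,1,2,0,2],[3,1,3,0,2,0,0,3,0,3,0,0,2,1,2,0],[0,3,0,3,0,0,3,1,2,0,0,3,1,3,1],[0,0,3,0,3,0,0,3,1,2,0,0,3,1,3],[3,0,0,2,0,0,2,0,2,0,0,3,3,1,3],[3,0,0,2,0,0,2,0,2,0,0,3,3,1,3],[0,3,1,2,2,1,2,0,0,3,0,0,2,1,3,1,2],[0,3,1,2,2,1,2,0,0,3,0,0,2,1,3,1,2]],[[5,5,11,0,0,0],[4,1,8,1],[0,9,0,5],[9,3,8,2,2,2],[3,3,3,9,2,8],[2,1,1,3,0,3,3,0,2,1,1,3,3,0],[1,2,2,0,0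,3,1,2,2,1,2,0,0,3],[2,1,2,1,3,0,3,0,0,2,1,3,1,1,3],[2,0,0,2,0,3,1,1,2,1,2,0,3,0,3],[2,1,2,0,3,1,2,0,0,2,0,0,3,0,3,1],[2,1,2,0,3,1,2,0,0,2,0,0,3,0,3,1],[3,1,2,0,0,3,3,0,3,0,0,3,1,3,3,1,1],[3,1,2,0,0,3,3,0,3,0,0,3,1,3,3,1,1]],[[5,5,23,0,1,0],[8,2,5],[4,3,9],[9,1,8,2,8,4],[5,9,3,9,0,8],[1,3,1,2,0,3,1,2,1,2],[3,0,3,0,2,1,3,0,2,0],[1,1,2,1,2,1,1,3,0,2,1,1,3,3,0],[1,2,2,0,0,3,1,2,0,0,3,0,3,0,0],[0,2,0,2,0,3,1,3,1,1,2,1,1,2],[0,2,0,2,0,3,1,3,1,1,2,1,1,2],[3,0,3,3,0,0,2,2,0,2,1,2,1,3,0],[3,0,3,3,0,0,2,2,0,2,1,2,1,3,0]],[[5,7,7,1,0,0],[2],[3],[0,8],[9,1],[1,2,2,0,2,1,1,3,1,3,3,3,1,3,0],[1,3,3,1,1,2,2,0,2,2,2,1,2,1,1],[0],[1],[3,1,1,3,3,3,1,1,3,3,1],[3,1,1,3,3,3,1,1,3,3,1],[1,2,0,2,2,2,0,2,0,0,3,1,3,3,0,2],[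1,2,0,2,2,2,0,2,0,0,3,1,3,3,0,2]],[[5,7,11,0,0,0],[2,4,2],[3,5,3],[9,1],[0,8],[2,2,1,2,1,3,3,3,0,2,1,2,1,1],[0,0,3,0,3,1,2,2,2,0,3,0,3,3],[1,2,0,3,1,1,3,1,2,1,2,1,2,0,2,0],[1,3,1,3,0,3,0,3,0,2,0,0,2,1,3,0],[1,1,2,0,3,1,1,3,1,2,1,2,1,2,0,2],[1,1,2,0,3,1,1,3,1,2,1,2,1,2,0,2],[2,2,2,1,2,1,3,3,3,0,2,1,2,1,1],[2,2,2,1,2,1,3,3,3,0,2,1,2,1,1]],[[5,7,23,0,0,0],[2,5,1],[0,4,3],[3,1,9,2],[3,8,0,2],[1,1,2,2,1,2,2,2,1,2,2,0,2,2],[3,3,1,3,3,0,3,3,3,0,3,3,0,0],[0,2,0,0,2,2,2,0,0,2,2],[3,3,1,1,3,3,3,1,1,3,1],[1,2,0,3,1,3,1,2,1,3,0,2,2,2,1,1],[1,2,0,3,1,3,1,2,1,3,0,2,2,2,1,1],[3,3,0,2,2,0,3,0,0,3,1,2,2,1,1],[3,3,0,2,2,0,3,0,0,3,1,2,2,1,1]],[[5,11,11,1,0,0],[3,0,3],[2,1,2],[1,9,5],[4,8,0],[1,2,1,3,0,3,1,2,2,0,3,0,0,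3,3],[2,2,1,1,2,1,3,3,0,2,1,2,0,3,0],[2,0,3,3,1,2,1,3,0,2,2,0,2,0,2,0],[3,3,1,2,1,2,1,3,3,0,3,0,3,1,2,1],[1,3,1,1,2,1,3,0,3,3,0,2,1,3,0],[1,3,1,1,2,1,3,0,3,3,0,2,1,3,0],[3,3,0,2,1,3,1,3,1,2,0,0,2,0],[3,3,0,2,1,3,1,3,1,2,0,0,2,0]],[[5,11,23,0,1,0],[8,5,3],[2,4,9],[1],[0],[3],[2],[3,1,2,1,3,0,3,0,2,0,3,0,0,2,1,2,1],[2,1,3,3,3,0,0,2,0,3,3,3,1,2,1,2,1],[3,3,1,2,0,3,3,1,1,2,0,2,0,2],[3,3,1,2,0,3,3,1,1,2,0,2,0,2],[2,2,2,2,0,3,1,1,2,2,2,0,3,1,1,3],[2,2,2,2,0,3,1,1,2,2,2,0,3,1,1,3]],[[5,23,23,1,0,0],[1,3],[2,0],[4,3,4,0,2,2,8],[9,3,3,1,5,2,5],[3,0,2,0,2,2,2,2,0,2,0,2,1],[0,3,1,3,1,3,3,3,3,1,3,1,2],[3,1,3,1,3,3,3,3,1,3,1,2],[3,0,2,0,2,2,2,2,0,2,0,2],[3,1,2,2,1,2,0,2,2,1,1,2,1,3,0],[3,1,2,2,1,2,0,2,2,1,1,2,1,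3,0],[2,1,2,0,0,3,0,3,0,3,3,1,3,1,1],[2,1,2,0,0,3,0,3,0,3,3,1,3,1,1]],[[7,7,7,0,0,1],[1,3,4,8,3,5],[4,2,9,5,2,0],[0,9,2],[3,8,1],[3,3,0,3,3,1,3,0,3,0,2,0,0,2,0,2],[3,1,3,1,1,3,1,2,1,2,0,2,2,1,2,2],[0,2,0,3,1,3,0,2,1,3,3],[2,2,0,3,1,2,0,2,1,3,1],[3,0,2,1,3,3,1,3,1,2,2,0,2,0,0,0],[3,0,2,1,3,3,1,3,1,2,2,0,2,0,0,0],[2,0,3,3,1,2,0,2,0,2,2,1,1,2,0],[2,0,3,3,1,2,0,2,0,2,2,1,1,2,0]],[[7,7,11,0,0,0],[8,1],[0,9],[4,8,1,4],[5,0,9,5],[1,1,3,0,3,0,0,3,3,0,0,3,1,2,0],[1,3,0,3,0,0,3,3,0,0,3,1,2,0,0],[0,2,0,2,0,3,0,2,0,0,3,1,1,3],[2,0,0,2,1,1,3,1,2,1,3,1,3,1],[0,2,0,2,0,2,0,2,0,2,0],[0,2,0,2,0,2,0,2,0,2,0],[1,3,0,3,0,0,3,3,0,0,3,1,2,0],[1,3,0,3,0,0,3,3,0,0,3,1,2,0]],[[7,7,23,0,0,0],[5,8,0,5],[4,1,9,4],[9,0,8,0],[1,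9,1,8],[2,0,0,3,1,1,3,3,3,0,2,1,1,3,0],[1,2,0,0,3,1,2,2,2,0,0,2,1,1,3],[1,1,1,3,3,1,2,1,2,1,1,2,2,1],[0,3,3,0,0,3,0,3,0,2,2,0,0,0],[2,0,0,2,0,0,2,0,0,2,0,0,2,0,0,2],[2,0,0,2,0,0,2,0,0,2,0,0,2,0,0,2],[2,0,3,1,2,0,2,1,2,0,0,2,2,0,2],[2,0,3,1,2,0,2,1,2,0,0,2,2,0,2]],[[7,11,11,0,0,0],[3,4,0,0,9],[8,1,1,5,2],[8,4,4,2,1,3,9],[8,2,0,3,5,5,9],[0,2,1,3,0,0,3,3,0,0,0,2,2,0,2],[2,0,0,3,1,2,0,0,2,0,2,1,2,1,3],[3,0,2,0,3,1,3,3,3,0,0,3,1,3],[2,0,2,1,1,2,2,2,0,2,1,3,1,2],[2,0,2,1,2,1,2,1,2,0,2,1,3,3,0],[2,0,2,1,2,1,2,1,2,0,2,1,3,3,0],[1,3,3,1,2,2,1,3,0,2,2,2,0,2,2,0],[1,3,3,1,2,2,1,3,0,2,2,2,0,2,2,0]],[[7,11,23,0,1,0],[9,1],[0,8],[1],[0],[3],[2],[2,0,0,2,0,2,2,1,3,1,3,3,1,1,3,3,3,1,3],[2,0,2,2,2,0,0,2,2,0,2,2,1,3,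1,3,1,1,3],[0,3,1,3,0,0,2,1,1,3,0,0],[0,3,1,3,0,0,2,1,1,3,0,0],[2,1],[2,1]],[[7,23,23,0,0,0],[1,2,8,3,9],[8,2,9,3,0],[8,0,0],[1,1,9],[1,2,2,0,2,0,3,0,0,0,2,0,0,2,1],[0,3,1,1,3,1,1,1,2,1,3,1,3,3,0],[3,0,2,0,0,3,3,1,2,0,0,3,3],[2,2,1,1,3,0,2,2,1,1,3,1,2],[0,3,3,0,2,2,2,0,2,1,2,2,1,3,3],[0,3,3,0,2,2,2,0,2,1,2,2,1,3,3],[3,3,1,2,1,3,0,0,2,2,1,1,2,1],[3,3,1,2,1,3,0,0,2,2,1,1,2,1]],[[11,11,11,1,0,0],[0],[1],[8,0,5,8,2],[3,9,4,1,9],[0],[1],[2,0,2,2,2,1,2,2,2,0,3,3,3,3,1],[0,2,2,2,2,1,3,3,3,0,3,3,3,1,3],[0,3,3,0,0,3,0,2,0,3,0,2,1,2,0],[0,3,3,0,0,3,0,2,0,3,0,2,1,2,0],[1,3,1,3,0,0,3,1,2,0,3,0,2,0],[1,3,1,3,0,0,3,1,2,0,3,0,2,0]],[[11,11,23,0,1,0],[8,1,4,3,5,0,4],[5,1,4,2,5,0,9],[1],[0],[3],[2],[1,2,0,0,2,0,3,3,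0,0,0,3,1,3,1],[0,2,0,2,1,1,1,2,2,1,3,1,1,3,0],[1,1,3,1,1,2,2,2,1,3,3,0,2,2,2,0],[1,1,3,1,1,2,2,2,1,3,3,0,2,2,2,0],[2,0,0,3,1,2,0,3,0,2,1,1,3,0],[2,0,0,3,1,2,0,3,0,2,1,1,3,0]],[[11,23,23,0,0,0],[0,0,5,0,9,2,2],[3,3,8,1,4,1,1],[5,0,2,9],[8,3,1,4],[3,0,3,1,3,0,0,3,1,2,1,3,0,0],[1,1,2,0,3,0,2,1,1,2,0,2,1,2],[1,2,0,0,3,1,1,3,3,3,0,2,2,0,0],[2,2,0,3,3,0,3,1,3,3,3,3,3,3,0],[0,2,2,2,2,1,2,1,3,3,3,1],[0,2,2,2,2,1,2,1,3,3,3,1],[3,0,2,0,3,0,3,3,0,2,2,1,2,1],[3,0,2,0,3,0,3,3,0,2,2,1,2,1]],[[23,23,23,0,0,0],[1,4,1,9,9,1,9],[8,0,8,8,0,5,0],[4,2,8,1,1,3,4],[5,2,0,0,9,3,5],[2,0,2,2,0,0,0,3,0,3,0,0,0,2],[3,1,1,1,2,1,2,1,1,1,3,3,1,3],[3,1,2,0,0,0,2,2,1,3,3,3],[2,2,2,0,3,3,1,1,1,3,0,2],[3,0,0,2,2,0,0,3,0,2,1,3,0,0,2],[3,0,0,2,2,0,0,3,0,2,1,3,0,0,2],[3,0,0,2,2,1,3,0,3,3,0,0,2,2],[3,0,0,2,2,1,3,0,3,3,0,0,2,2]]]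
theorem csOk : lall cs csL = true := by decide +kernel
theorem csAll : ∀ p ∈ [2,3,5,7,11,23], ∀ q ∈ [2,3,5,7,11,23], ∀ r ∈ [2,3,5,7,11,23], p ≤ q → q ≤ r → ¬ (p = 2 ∧ q = 2) →
    ¬ ((p = 2 ∧ q = 3) ∨ (p = 2 ∧ q = 5 ∧ r = 5) ∨ (p = 2 ∧ q = 5 ∧ r = 7) ∨ (p = 3 ∧ q = 3 ∧ r ≤ 7)) →
    ∃ c ∈ csL, (lk [] c 0).take 3 = [p, q, r] := by decide +kernel
theorem prM {p : ℕ} (hp : p.Prime) (h : p ∣ 10200960) : p ∈ [2,3,5,7,11,23] := by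
  have : p ∈ Nat.primeFactorsList 10200960 := (Nat.mem_primeFactorsList (by norm_num)).2 ⟨hp, h⟩
  have e : Nat.primeFactorsList 10200960 = [2,2,2,2,2,2,2,3,3,5,7,11,23] := by simp
  rw [e] at this
  simp only [List.mem_cons, List.not_mem_nil, or_false] at this ⊢
  omega
theorem cyc (x : Spor.M23) {p : ℕ} (hp : p ∈ [2,3,5,7,11,23]) (h : orderOf x = p) :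
    (if p = 2 then 16 else if p = 3 then 12 else if p = 5 then 8 else if p = 7 then 6 else 2) ≤ Mt.fx GolayPt x := by
  have c : Fintype.card GolayPt = 24 := by decide +kernel
  simp only [List.mem_cons, List.not_mem_nil, or_false] at hp
  rcases hp with rfl | rfl | rfl | rfl | rfl | rfl
  · have := Mt.fx_ge h (fxA x h); rw [c] at this; simp; omega
  · have := Mt.fx_ge h (fxB x h); rw [c] at this; simp; omega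
  all_goals
    have := Mt.fx_ge h (Mt.Fx_mod (α := GolayPt) (by norm_num) h); rw [c] at this; simp; omega

end Cfsg.Agent.H6.SMat
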