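import Cfsg.Agent.H6.OFi22x2
set_option maxRecDepth 100000
set_option Elab.async false
namespace Cfsg.Agent.H6.Fi
open Cfsg.Agent.H6
universe u

noncomputable def cm600057T : BT := (BT.br [[0]] (BT.kid 0 [] (BT.frc 0 [0,0] [] (BT.frc 1 [0] [] (BT.frc 1 [0,0,0,0,0] [] (BT.frc 2 [0,0,0] [] (BT.frc 3 [0] [] BT.live))))) (BT.kid 242 [1] (BT.frc 0 [0,0] [3,5,9,11] (BT.frc 1 [0] [5,5,7,10,5,8] (BT.out 1 [0,0,0,0,0]))) (BT.kid 708 [2] (BT.out 0 [0,0]) (BT.kid 3326 [0,2] (BT.out 0 [0,0]) (BT.kid 3037 [0,4] (BT.out 0 [0,0]) (BT.kid 316 [0,5] (BT.out 0 [0,0]) (BT.kid 1108 [0,6] (BT.out 0 [0,0]) (BT.kid 1821 [0,7] (BT.out 0 [0,0]) (BT.kid 21 [0,9] (BT.out 0 [0,0]) (BT.kid 58 [0,11] (BT.frc 0 [0,0] [3,9,11,3] (BT.out 1 [0])) (BT.kid 24 [0,12] (BT.frc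 0 [0,0] [3,4,11,3,6] (BT.out 1 [0])) (BT.kid 151 [1,1] (BT.out 0 [0,0]) (BT.kid 121 [1,2] (BT.frc 0 [0,0] [4,9,7,7] (BT.out 1 [0])) (BT.kid 916 [1,4] (BT.out 0 [0,0]) (BT.kid 3259 [1,5] (BT.out 0 [0,0]) (BT.kid 2871 [1,6] (BT.frc 0 [0,0] [3,7,4] (BT.frc 1 [0] [6,9,10,5,5] (BT.out 1 [0,0,0,0,0]))) (BT.kid 1748 [1,7] (BT.out 0 [0,0]) (BT.kid 182 [1,8] (BT.out 0 [0,0]) (BT.kid 668 [1,9] (BT.out 0 [0,0]) (BT.kid 607 [1,10] (BT.out 0 [0,0]) (BT.kid 484 [1,11] (BT.out 0 [0,0]) (BT.kid 3401 [2,1] (BT.out 0 [0,0]) (BT.kid 1062 [2,3] (BT.out 0 [0,0]) (BT.kid 2874 [2,5] (BT.out 0 [0,0]) (BT.kid 1470 [2,6] (BT.out 0 [0,0]) (BT.kid 1198 [2,7] (BT.out 0 [0,0]) (BT.kid 830 [2,8] (BT.frc 0 [0,0] [4,4,3,4] (BT.out 1 [0])) (BT.kid 868 [2,9] (BT.out 0 [0,0])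 (BT.kid 1205 [2,10] (BT.frc 0 [0,0] [3,12,3,5] (BT.frc 1 [0] [5,8,12,11,8] (BT.out 1 [0,0,0,0,0]))) (BT.kid 347 [2,11] (BT.out 0 [0,0]) (BT.kid 1421 [2,12] (BT.out 0 [0,0]) (BT.kid 1347 [0,0,4] (BT.out 0 [0,0]) (BT.kid 296 [0,0,5] (BT.out 0 [0,0]) (BT.kid 1213 [0,0,6] (BT.out 0 [0,0]) (BT.kid 48 [0,0,8] (BT.out 0 [0,0]) (BT.kid 619 [0,0,9] (BT.out 0 [0,0]) (BT.kid 473 [0,0,12] (BT.out 0 [0,0]) (BT.kid 1634 [0,1,2] (BT.frc 0 [0,0] [3,4,3,5] (BT.frc 1 [0] [5,6,7,6,10,5] (BT.out 1 [0,0,0,0,0]))) (BT.kid 1103 [0,1,4] (BT.frc 0 [0,0] [3,7,7,7,3] (BT.frc 1 [0] [6,6,6,5,6] (BT.out 1 [0,0,0,0,0]))) (BT.kid 3351 [0,1,5] (BT.out 0 [0,0]) (BT.kid 1558 [0,1,7] (BT.out 0 [0,0]) (BT.kid 206 [0,1,8] (BT.frc 0 [0,0] [4,11,4] (BT.frc 1 [0] [6,7,8,12,7] (BT.out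 1 [0,0,0,0,0]))) (BT.kid 530 [0,1,12] (BT.out 0 [0,0]) (BT.kid 581 [0,2,1] (BT.out 0 [0,0]) (BT.kid 3443 [0,2,3] (BT.out 0 [0,0]) (BT.kid 360 [0,2,4] (BT.out 0 [0,0]) (BT.kid 2764 [0,2,5] (BT.out 0 [0,0]) (BT.kid 1138 [0,2,7] (BT.out 0 [0,0]) (BT.kid 2384 [0,2,8] (BT.out 0 [0,0]) (BT.kid 2474 [0,2,9] (BT.frc 0 [0,0] [3,4,7,11,3] (BT.out 1 [0])) (BT.kid 2917 [0,2,10] (BT.out 0 [0,0]) (BT.kid 3303 [0,2,11] (BT.out 0 [0,0]) (BT.kid 3182 [0,2,12] (BT.out 0 [0,0]) (BT.kid 2193 [0,3,2] (BT.frc 0 [0,0] [3,8,5,9] (BT.frc 1 [0] [5,9,5,10] (BT.out 1 [0,0,0,0,0]))) (BT.kid 2024 [0,3,4] (BT.out 0 [0,0]) (BT.kid 2901 [0,3,5] (BT.out 0 [0,0]) (BT.kid 2731 [0,3,6] (BT.frc 0 [0,0] [3,4] (BT.frc 1 [0] [6,12,11,6] (BT.out 1 [0,0,0,0,0]))) (BT.kid 3084 [0,4,1]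 (BT.frc 0 [0,0] [3,7,5,12] (BT.out 1 [0])) (BT.kid 2875 [0,4,5] (BT.out 0 [0,0]) (BT.kid 1758 [0,4,11] (BT.out 0 [0,0]) (BT.kid 1033 [0,4,12] (BT.out 0 [0,0]) (BT.kid 279 [0,5,3] (BT.out 0 [0,0]) (BT.kid 3080 [0,5,5] (BT.out 0 [0,0]) (BT.kid 750 [0,5,6] (BT.out 0 [0,0]) (BT.kid 315 [0,5,8] (BT.out 0 [0,0]) (BT.kid 2435 [0,5,9] (BT.frc 0 [0,0] [3,9,5,5,6] (BT.out 1 [0])) (BT.kid 163 [0,5,10] (BT.out 0 [0,0]) (BT.kid 55 [0,5,11] (BT.out 0 [0,0]) (BT.kid 1319 [0,5,12] (BT.out 0 [0,0]) (BT.kid 3039 [0,6,1] (BT.out 0 [0,0]) (BT.kid 732 [0,6,2] (BT.out 0 [0,0]) (BT.kid 662 [0,6,3] (BT.out 0 [0,0]) (BT.kid 2742 [0,6,5] (BT.out 0 [0,0]) (BT.kid 1874 [0,6,7] (BT.out 0 [0,0]) (BT.kid 3166 [0,6,8] (BT.out 0 [0,0]) (BT.kid 1075 [0,6,9] (BT.frc 0 [0,0]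 [3,11,5,3] (BT.frc 1 [0] [6,10,11,6,10] (BT.out 1 [0,0,0,0,0]))) (BT.kid 727 [0,6,10] (BT.out 0 [0,0]) (BT.kid 2273 [0,6,11] (BT.frc 0 [0,0] [4,5,7,9] (BT.frc 1 [0] [5,6,5,7,5] (BT.frc 1 [0,0,0,0,0] [8,7,8,11] (BT.out 2 [0,0,0])))) (BT.kid 1753 [0,7,1] (BT.out 0 [0,0]) (BT.kid 1367 [0,7,3] (BT.out 0 [0,0]) (BT.kid 986 [0,7,4] (BT.frc 0 [0,0] [3,6,7,4,9] (BT.frc 1 [0] [6,5,7,12,12] (BT.out 1 [0,0,0,0,0]))) (BT.kid 2900 [0,7,6] (BT.out 0 [0,0]) (BT.kid 495 [0,7,7] (BT.out 0 [0,0]) (BT.kid 355 [0,7,8] (BT.out 0 [0,0]) (BT.kid 460 [0,7,9] (BT.out 0 [0,0]) (BT.kid 2183 [0,7,11] (BT.out 0 [0,0]) (BT.kid 11 [0,8,7] (BT.out 0 [0,0]) (BT.kid 1129 [0,8,9] (BT.frc 0 [0,0] [3,7,4,6,6] (BT.out 1 [0])) (BT.kid 148 [0,8,12] (BT.frc 0 [0,0] [4,5,7] (BT.frc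 1 [0] [6,10,12,6] (BT.out 1 [0,0,0,0,0]))) (BT.kid 2330 [0,9,4] (BT.out 0 [0,0]) (BT.kid 119 [0,9,7] (BT.frc 0 [0,0] [4,4,4,8] (BT.frc 1 [0] [5,12,11,9,8] (BT.out 1 [0,0,0,0,0]))) (BT.kid 331 [0,11,1] (BT.out 0 [0,0]) (BT.kid 2254 [0,11,4] (BT.out 0 [0,0]) (BT.kid 2802 [0,11,5] (BT.frc 0 [0,0] [3,11,5] (BT.frc 1 [0] [5,7,5,8,5] (BT.out 1 [0,0,0,0,0]))) (BT.kid 80 [0,11,7] (BT.frc 0 [0,0] [4,3,6,3,11] (BT.out 1 [0])) (BT.kid 415 [0,12,1] (BT.out 0 [0,0]) (BT.kid 1107 [0,12,6] (BT.out 0 [0,0]) (BT.kid 306 [0,12,7] (BT.out 0 [0,0]) (BT.kid 20 [0,12,8] (BT.frc 0 [0,0] [3,6,11,6,5] (BT.frc 1 [0] [6,6,7,6,8] (BT.frc 1 [0,0,0,0,0] [7,11,7,11,7] (BT.out 2 [0,0,0])))) (BT.kid 2526 [1,0,4] (BT.out 0 [0,0]) (BT.kid 2618 [1,0,5] (BT.out 0 [0,0]) (BT.kid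 1056 [1,0,7] (BT.out 0 [0,0]) (BT.kid 1047 [1,0,8] (BT.out 0 [0,0]) (BT.kid 1465 [1,1,2] (BT.out 0 [0,0]) (BT.kid 3016 [1,1,4] (BT.out 0 [0,0]) (BT.kid 1962 [1,1,5] (BT.out 0 [0,0]) (BT.kid 2199 [1,1,7] (BT.out 0 [0,0]) (BT.kid 570 [1,2,4] (BT.out 0 [0,0]) (BT.kid 1829 [1,2,5] (BT.out 0 [0,0]) (BT.kid 1667 [1,2,6] (BT.frc 0 [0,0] [4,9,4,10] (BT.frc 1 [0] [6,7,8,12,7] (BT.out 1 [0,0,0,0,0]))) (BT.kid 682 [1,2,12] (BT.frc 0 [0,0] [4,9,7,7] (BT.frc 1 [0] [5,9,12,6,5] (BT.out 1 [0,0,0,0,0]))) (BT.kid 2099 [1,4,2] (BT.frc 0 [0,0] [3,6,4] (BT.frc 1 [0] [5,7,6,7] (BT.out 1 [0,0,0,0,0]))) (BT.kid 2644 [1,4,5] (BT.out 0 [0,0]) (BT.kid 1934 [1,4,6] (BT.frc 0 [0,0] [3,6,5,6,3] (BT.frc 1 [0] [5,11,9,9,6] (BT.out 1 [0,0,0,0,0]))) (BT.kid 1666 [1,4,9]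 (BT.out 0 [0,0]) (BT.kid 1193 [1,4,10] (BT.frc 0 [0,0] [4,3,6,5] (BT.out 1 [0])) (BT.kid 1385 [1,4,12] (BT.out 0 [0,0]) (BT.kid 2097 [1,5,1] (BT.out 0 [0,0]) (BT.kid 2841 [1,5,2] (BT.out 0 [0,0]) (BT.kid 2310 [1,5,3] (BT.out 0 [0,0]) (BT.kid 1234 [1,5,4] (BT.out 0 [0,0]) (BT.kid 1242 [1,5,5] (BT.out 0 [0,0]) (BT.kid 3043 [1,5,6] (BT.out 0 [0,0]) (BT.kid 2983 [1,5,7] (BT.out 0 [0,0]) (BT.kid 2021 [1,5,10] (BT.out 0 [0,0]) (BT.kid 3330 [1,5,11] (BT.out 0 [0,0]) (BT.kid 1286 [1,5,12] (BT.out 0 [0,0]) (BT.kid 3399 [1,6,1] (BT.out 0 [0,0]) (BT.kid 1016 [1,6,2] (BT.out 0 [0,0]) (BT.kid 2595 [1,6,4] (BT.out 0 [0,0]) (BT.kid 872 [1,6,5] (BT.out 0 [0,0]) (BT.kid 3227 [1,6,7] (BT.out 0 [0,0]) (BT.kid 3140 [1,6,8] (BT.out 0 [0,0]) (BT.kid 2791 [1,6,11]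 (BT.out 0 [0,0]) (BT.kid 3331 [1,6,12] (BT.out 0 [0,0]) (BT.kid 2774 [1,7,2] (BT.out 0 [0,0]) (BT.kid 2195 [1,7,3] (BT.out 0 [0,0]) (BT.kid 3074 [1,7,4] (BT.frc 0 [0,0] [4,3,12] (BT.out 1 [0])) (BT.kid 109 [1,7,6] (BT.frc 0 [0,0] [3,8,4,3] (BT.frc 1 [0] [5,9,12,7,5] (BT.out 1 [0,0,0,0,0]))) (BT.kid 701 [1,7,9] (BT.out 0 [0,0]) (BT.kid 3381 [1,8,1] (BT.out 0 [0,0]) (BT.kid 357 [1,8,10] (BT.out 0 [0,0]) (BT.kid 2495 [1,8,12] (BT.out 0 [0,0]) (BT.kid 3177 [1,9,2] (BT.out 0 [0,0]) (BT.kid 2822 [1,9,4] (BT.out 0 [0,0]) (BT.kid 599 [1,9,6] (BT.out 0 [0,0]) (BT.kid 2332 [1,9,7] (BT.out 0 [0,0]) (BT.kid 485 [1,10,1] (BT.out 0 [0,0]) (BT.kid 3246 [1,10,2] (BT.out 0 [0,0]) (BT.kid 2406 [1,10,6] (BT.out 0 [0,0]) (BT.kid 1984 [1,11,5] (BT.out 0 [0,0])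 (BT.kid 3328 [1,11,6] (BT.out 0 [0,0]) (BT.kid 286 [1,11,8] (BT.frc 0 [0,0] [3,9,11,3] (BT.frc 1 [0] [5,11,5,12,7] (BT.out 1 [0,0,0,0,0]))) (BT.kid 1819 [1,12,4] (BT.out 0 [0,0]) (BT.kid 3031 [1,12,6] (BT.out 0 [0,0]) (BT.kid 1785 [1,12,7] (BT.out 0 [0,0]) (BT.kid 651 [1,12,8] (BT.out 0 [0,0]) (BT.kid 100 [2,0,2] (BT.frc 0 [0,0] [3,5,3,11,6] (BT.frc 1 [0] [5,7,12,12,6] (BT.out 1 [0,0,0,0,0]))) (BT.kid 2130 [2,0,6] (BT.out 0 [0,0]) (BT.kid 3175 [2,0,7] (BT.out 0 [0,0]) (BT.kid 1520 [2,0,9] (BT.out 0 [0,0]) (BT.kid 3422 [2,0,11] (BT.frc 0 [0,0] [4,9,7,10] (BT.frc 1 [0] [6,5,5,7,12] (BT.out 1 [0,0,0,0,0]))) (BT.kid 2412 [2,0,12] (BT.frc 0 [0,0] [3,4,8,9,4] (BT.out 1 [0])) (BT.kid 3003 [2,1,5] (BT.out 0 [0,0]) (BT.kid 641 [2,1,9] (BT.out 0 [0,0])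 (BT.kid 2451 [2,1,10] (BT.frc 0 [0,0] [3,4,9,12] (BT.frc 1 [0] [6,5,11,5,5] (BT.out 1 [0,0,0,0,0]))) (BT.kid 1651 [2,1,12] (BT.out 0 [0,0]) (BT.kid 322 [2,3,2] (BT.out 0 [0,0]) (BT.kid 1524 [2,3,6] (BT.out 0 [0,0]) (BT.kid 486 [2,3,7] (BT.out 0 [0,0]) (BT.kid 694 [2,3,10] (BT.frc 0 [0,0] [3,5,9,6] (BT.frc 1 [0] [5,7,6,7,9] (BT.out 1 [0,0,0,0,0]))) (BT.kid 1614 [2,3,12] (BT.frc 0 [0,0] [3,4,11,7] (BT.frc 1 [0] [5,7,6,11,9,6] (BT.out 1 [0,0,0,0,0]))) (BT.kid 2089 [2,4,2] (BT.out 0 [0,0]) (BT.kid 714 [2,4,5] (BT.out 0 [0,0]) (BT.kid 3004 [2,4,6] (BT.out 0 [0,0]) (BT.kid 3270 [2,4,8] (BT.out 0 [0,0]) (BT.kid 2295 [2,4,11] (BT.out 0 [0,0]) (BT.kid 1272 [2,4,12] (BT.out 0 [0,0]) (BT.kid 1761 [2,5,5] (BT.out 0 [0,0]) (BT.kid 689 [2,5,6] (BT.out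 0 [0,0]) (BT.kid 1564 [2,5,8] (BT.out 0 [0,0]) (BT.kid 1921 [2,5,9] (BT.out 0 [0,0]) (BT.kid 1264 [2,5,11] (BT.out 0 [0,0]) (BT.kid 1578 [2,5,12] (BT.out 0 [0,0]) (BT.kid 1313 [2,6,1] (BT.out 0 [0,0]) (BT.kid 1262 [2,6,3] (BT.out 0 [0,0]) (BT.kid 445 [2,6,12] (BT.out 0 [0,0]) (BT.kid 568 [2,7,7] (BT.out 0 [0,0]) (BT.kid 1436 [2,7,9] (BT.frc 0 [0,0] [4,3,7,7] (BT.frc 1 [0] [6,10,9,5,11] (BT.out 1 [0,0,0,0,0]))) (BT.kid 1191 [2,7,11] (BT.out 0 [0,0]) (BT.kid 846 [2,8,1] (BT.out 0 [0,0]) (BT.kid 1413 [2,8,5] (BT.out 0 [0,0]) (BT.kid 1551 [2,8,10] (BT.frc 0 [0,0] [3,5,12,5,8] (BT.frc 1 [0] [5,7,6,9,12] (BT.out 1 [0,0,0,0,0]))) (BT.kid 1935 [2,9,1] (BT.frc 0 [0,0] [4,11,7,12] (BT.frc 1 [0] [5,5,7,12,6,12] (BT.frc 1 [0,0,0,0,0] [7,12,7,12] (BT.out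 2 [0,0,0])))) (BT.kid 3283 [2,9,5] (BT.out 0 [0,0]) (BT.kid 425 [2,9,12] (BT.out 0 [0,0]) (BT.kid 3274 [2,10,1] (BT.out 0 [0,0]) (BT.kid 2374 [2,11,1] (BT.out 0 [0,0]) (BT.kid 1999 [2,11,7] (BT.out 0 [0,0]) (BT.kid 692 [2,11,8] (BT.out 0 [0,0]) (BT.kid 869 [2,12,5] (BT.out 0 [0,0]) (BT.kid 1669 [2,12,7] (BT.frc 0 [0,0] [3,5,12,5,8] (BT.frc 1 [0] [5,7,10,9] (BT.out 1 [0,0,0,0,0]))) (BT.kid 1411 [0,0,0,4] (BT.out 0 [0,0]) (BT.kid 531 [0,0,1,11] (BT.out 0 [0,0]) (BT.kid 2483 [0,0,2,6] (BT.out 0 [0,0]) (BT.kid 2491 [0,0,2,12] (BT.out 0 [0,0]) (BT.kid 1986 [0,0,4,7] (BT.frc 0 [0,0] [3,6,9] (BT.frc 1 [0] [5,12,7,12] (BT.out 1 [0,0,0,0,0]))) (BT.kid 554 [0,0,4,8] (BT.out 0 [0,0]) (BT.kid 2752 [0,0,6,1] (BT.out 0 [0,0]) (BT.kid 1398 [0,0,6,3] (BT.out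 0 [0,0]) (BT.kid 1729 [0,0,6,7] (BT.frc 0 [0,0] [3,6,7,11,4] (BT.frc 1 [0] [6,5,9,9,5] (BT.out 1 [0,0,0,0,0]))) (BT.kid 1912 [0,0,6,11] (BT.out 0 [0,0]) (BT.kid 217 [0,0,7,5] (BT.frc 0 [0,0] [3,5,12] (BT.frc 1 [0] [5,7,6,5,11,10] (BT.out 1 [0,0,0,0,0]))) (BT.kid 2804 [0,0,8,2] (BT.frc 0 [0,0] [4,8,10] (BT.frc 1 [0] [5,5,8,6,5] (BT.out 1 [0,0,0,0,0]))) (BT.kid 1019 [0,0,8,6] (BT.out 0 [0,0]) (BT.kid 1987 [0,0,11,4] (BT.out 0 [0,0]) (BT.kid 3228 [0,1,0,2] (BT.out 0 [0,0]) (BT.kid 947 [0,1,0,5] (BT.frc 0 [0,0] [3,12,5] (BT.frc 1 [0] [5,7,6,12,12] (BT.frc 1 [0,0,0,0,0] [8,7] (BT.out 2 [0,0,0])))) (BT.kid 3279 [0,1,0,6] (BT.out 0 [0,0]) (BT.kid 2354 [0,1,0,7] (BT.out 0 [0,0]) (BT.kid 788 [0,1,0,8] (BT.out 0 [0,0]) (BT.kid 3383 [0,1,4,2] (BT.out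 0 [0,0]) (BT.kid 2156 [0,1,4,6] (BT.out 0 [0,0]) (BT.kid 1012 [0,1,4,10] (BT.frc 0 [0,0] [4,8,4,11] (BT.out 1 [0])) (BT.kid 227 [0,1,4,11] (BT.out 0 [0,0]) (BT.kid 1480 [0,1,5,1] (BT.out 0 [0,0]) (BT.kid 1803 [0,1,5,10] (BT.out 0 [0,0]) (BT.kid 2811 [0,1,7,10] (BT.out 0 [0,0]) (BT.kid 2309 [0,1,8,12] (BT.out 0 [0,0]) (BT.kid 1599 [0,1,9,2] (BT.frc 0 [0,0] [3,9,6,4] (BT.out 1 [0])) (BT.kid 408 [0,1,9,8] (BT.out 0 [0,0]) (BT.kid 2172 [0,1,10,6] (BT.out 0 [0,0]) (BT.kid 2747 [0,1,10,7] (BT.out 0 [0,0]) (BT.kid 3120 [0,2,0,5] (BT.out 0 [0,0]) (BT.kid 1307 [0,2,1,10] (BT.out 0 [0,0]) (BT.kid 589 [0,2,4,1] (BT.out 0 [0,0]) (BT.kid 1305 [0,2,5,7] (BT.out 0 [0,0]) (BT.kid 264 [0,2,6,12] (BT.out 0 [0,0]) (BT.kid 2318 [0,2,7,2] (BT.out 0 [0,0]) (BT.kid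 2298 [0,2,7,5] (BT.out 0 [0,0]) (BT.kid 2920 [0,2,7,6] (BT.out 0 [0,0]) (BT.kid 1871 [0,2,11,6] (BT.out 0 [0,0]) (BT.kid 1713 [0,2,12,4] (BT.frc 0 [0,0] [4,3,4,4] (BT.frc 1 [0] [5,10,7,6,6] (BT.out 1 [0,0,0,0,0]))) (BT.kid 2529 [0,2,12,8] (BT.out 0 [0,0]) (BT.kid 2151 [0,3,4,4] (BT.out 0 [0,0]) (BT.kid 3010 [0,3,4,10] (BT.frc 0 [0,0] [4,6,9] (BT.frc 1 [0] [5,5,5,7,10,5] (BT.frc 1 [0,0,0,0,0] [8,9,8] (BT.frc 2 [0,0,0] [9,11,10] (BT.out 3 [0]))))) (BT.kid 2699 [0,4,0,6] (BT.out 0 [0,0]) (BT.kid 2488 [0,4,0,8] (BT.out 0 [0,0]) (BT.kid 1946 [0,4,1,4] (BT.frc 0 [0,0] [3,8,4,5] (BT.frc 1 [0] [5,5,6,6,12,5] (BT.out 1 [0,0,0,0,0]))) (BT.kid 2552 [0,4,1,8] (BT.out 0 [0,0]) (BT.kid 562 [0,4,2,6] (BT.out 0 [0,0]) (BT.kid 276 [0,4,2,10] (BT.out 0 [0,0])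 (BT.kid 2182 [0,4,4,12] (BT.out 0 [0,0]) (BT.kid 1959 [0,4,5,6] (BT.out 0 [0,0]) (BT.kid 2018 [0,4,8,4] (BT.out 0 [0,0]) (BT.kid 973 [0,4,11,7] (BT.out 0 [0,0]) (BT.kid 1369 [0,5,0,8] (BT.out 0 [0,0]) (BT.kid 3129 [0,5,2,6] (BT.out 0 [0,0]) (BT.kid 959 [0,5,9,8] (BT.out 0 [0,0]) (BT.kid 1285 [0,6,1,4] (BT.out 0 [0,0]) (BT.kid 3453 [0,6,3,2] (BT.frc 0 [0,0] [4,5,8,3] (BT.frc 1 [0] [5,8,5,7,6] (BT.out 1 [0,0,0,0,0]))) (BT.kid 2188 [0,6,3,4] (BT.out 0 [0,0]) (BT.kid 3278 [0,6,8,2] (BT.out 0 [0,0]) (BT.kid 3376 [0,6,9,12] (BT.out 0 [0,0]) (BT.kid 920 [0,6,12,5] (BT.out 0 [0,0]) (BT.kid 1555 [0,7,2,4] (BT.out 0 [0,0]) (BT.kid 1010 [0,7,3,6] (BT.out 0 [0,0]) (BT.kid 580 [0,7,9,7] (BT.out 0 [0,0]) (BT.kid 336 [0,8,0,4] (BT.out 0 [0,0]) (BT.kid 2946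 [1,4,7,4] (BT.out 0 [0,0]) BT.nil)))))))))))))))))))))))))))))))))))))))))))))))))))))))))))))))))))))))))))))))))))))))))))))))))))))))))))))))))))))))))))))))))))))))))))))))))))))))))))))))))))))))))))))))))))))))))))))))))))))))))))))))))))))))))))))))))))))))))))))))))))))))))))))))))))))))))))))))
theorem cm600057 : (spA 3510 x600055s fAFi22).Clm Spor.Fi22 (finX 3510) false 0 chAFi220 [] [] := SP.Clm.ofN (T := cm600057T) (by decide +kernel)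
noncomputable def cm600058T : BT := (BT.br [[0],[1],[2],[3]] (BT.kid 3488 [] (BT.frc 0 [1] [] (BT.frc 0 [1] [] (BT.br [[3]] (BT.kid 10 [] (BT.frc 0 [1] [] (BT.br [[0,0,0]] (BT.kid 0 [] (BT.frc 0 [1] [] (BT.frc 0 [1] [] BT.live)) (BT.kid 2724 [20] (BT.out 0 [1]) (BT.kid 827 [21] (BT.out 0 [1]) (BT.kid 2025 [23] (BT.out 0 [1]) BT.nil)))))) (BT.kid 50 [16,17] (BT.frc 0 [1] [18,19] (BT.br [[0,0,0]] (BT.kid 1482 [] (BT.out 0 [1]) (BT.kid 2081 [20] (BT.out 0 [1]) (BT.kid 2552 [22] (BT.out 0 [1]) (BT.kid 700 [24] (BT.out 0 [1]) BT.nil)))))) BT.nil))))) (BT.kid 1779 [1,15,14] (BT.frc 0 [1] [2,13,23,13,19] (BT.out 0 [1])) (BT.kid 198 [0,0,2,13,17] (BT.out 0 [1]) (BT.kid 2263 [0,0,16,13,15] (BT.out 0 [1]) BT.nil)))))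
theorem cm600058 : (spB 3510 x600055s cwFi22 fBFi22).Clm Spor.Fi22 (finX 3510) false 0 chBFi220 [] [] := SP.Clm.ofN (T := cm600058T) (by decide +kernel)

end Cfsg.Agent.H6.Fi
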