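import Cfsg.Agent.H6.OFi23x2
set_option maxRecDepth 100000
set_option Elab.async false
namespace Cfsg.Agent.H6.Fi
open Cfsg.Agent.H6
universe u

noncomputable def cm610049T : BT := (BT.br [[0]] (BT.kid 0 [] (BT.frc 0 [0,0] [] (BT.frc 1 [0] [] (BT.frc 1 [0,0,0,0] [] (BT.frc 2 [0] [] BT.live)))) (BT.kid 7974 [1] (BT.out 0 [0,0]) (BT.kid 30520 [2] (BT.out 0 [0,0]) (BT.kid 22849 [0,2] (BT.out 0 [0,0]) (BT.kid 16650 [0,3] (BT.frc 0 [0,0] [3,3,6,8,4] (BT.out 1 [0])) (BT.kid 624 [0,4] (BT.out 0 [0,0]) (BT.kid 1471 [0,5] (BT.out 0 [0,0]) (BT.kid 8719 [0,6] (BT.frc 0 [0,0] [3,3,10,5,7] (BT.frc 1 [0] [5,6,11,8,9,5,6] (BT.out 1 [0,0,0,0]))) (BT.kid 3635 [0,7] (BT.out 0 [0,0]) (BT.kid 1776 [0,8] (BT.out 0 [0,0]) (BT.kid 602 [0,9] (BT.out 0 [0,0]) (BT.kid 20226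 [0,10] (BT.frc 0 [0,0] [3,3,3,8,9,9] (BT.frc 1 [0] [5,9,5,7,5,8] (BT.out 1 [0,0,0,0]))) (BT.kid 23332 [0,11] (BT.out 0 [0,0]) (BT.kid 25654 [1,1] (BT.frc 0 [0,0] [4,8,10] (BT.frc 1 [0] [5,10,10,7,10,8] (BT.out 1 [0,0,0,0]))) (BT.kid 29334 [1,2] (BT.out 0 [0,0]) (BT.kid 18012 [1,3] (BT.out 0 [0,0]) (BT.kid 6138 [1,4] (BT.frc 0 [0,0] [3,3,4,3,9] (BT.frc 1 [0] [6,10,7,8,7,10] (BT.frc 1 [0,0,0,0] [7,10,8,11,8,7] (BT.out 2 [0])))) (BT.kid 15404 [1,5] (BT.out 0 [0,0]) (BT.kid 2495 [1,6] (BT.out 0 [0,0]) (BT.kid 15080 [1,7] (BT.out 0 [0,0]) (BT.kid 12280 [1,9] (BT.out 0 [0,0]) (BT.kid 7998 [1,10] (BT.out 0 [0,0]) (BT.kid 20400 [1,11] (BT.out 0 [0,0]) (BT.kid 5222 [2,1] (BT.out 0 [0,0]) (BT.kid 29636 [2,3] (BT.out 0 [0,0]) (BT.kid 5979 [2,4] (BT.out 0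 [0,0]) (BT.kid 28640 [2,5] (BT.out 0 [0,0]) (BT.kid 20385 [2,6] (BT.out 0 [0,0]) (BT.kid 9047 [2,8] (BT.out 0 [0,0]) (BT.kid 25034 [2,9] (BT.out 0 [0,0]) (BT.kid 11896 [2,10] (BT.out 0 [0,0]) (BT.kid 21769 [2,11] (BT.out 0 [0,0]) (BT.kid 23162 [0,0,3] (BT.out 0 [0,0]) (BT.kid 1265 [0,0,4] (BT.out 0 [0,0]) (BT.kid 434 [0,0,5] (BT.out 0 [0,0]) (BT.kid 2095 [0,0,6] (BT.out 0 [0,0]) (BT.kid 12296 [0,0,7] (BT.out 0 [0,0]) (BT.kid 8710 [0,0,8] (BT.out 0 [0,0]) (BT.kid 14294 [0,0,10] (BT.out 0 [0,0]) (BT.kid 8841 [0,0,11] (BT.out 0 [0,0]) (BT.kid 16346 [0,1,2] (BT.out 0 [0,0]) (BT.kid 19258 [0,1,3] (BT.out 0 [0,0]) (BT.kid 13528 [0,1,4] (BT.out 0 [0,0]) (BT.kid 27001 [0,1,5] (BT.out 0 [0,0]) (BT.kid 17619 [0,1,6] (BT.out 0 [0,0]) (BT.kid 23204 [0,1,7]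 (BT.out 0 [0,0]) (BT.kid 7487 [0,1,8] (BT.frc 0 [0,0] [3,10,8,3] (BT.frc 1 [0] [5,5,7,5,6,11,8] (BT.frc 1 [0,0,0,0] [8,9,11,7,9,8] (BT.out 2 [0])))) (BT.kid 9960 [0,1,10] (BT.frc 0 [0,0] [4,4,8,3,8] (BT.frc 1 [0] [5,7,5,11,5,5] (BT.out 1 [0,0,0,0]))) (BT.kid 4083 [0,1,11] (BT.out 0 [0,0]) (BT.kid 760 [0,2,1] (BT.out 0 [0,0]) (BT.kid 8850 [0,2,3] (BT.out 0 [0,0]) (BT.kid 28919 [0,2,4] (BT.out 0 [0,0]) (BT.kid 15826 [0,2,5] (BT.out 0 [0,0]) (BT.kid 3724 [0,2,6] (BT.out 0 [0,0]) (BT.kid 26399 [0,2,7] (BT.out 0 [0,0]) (BT.kid 15922 [0,2,8] (BT.out 0 [0,0]) (BT.kid 29346 [0,2,9] (BT.out 0 [0,0]) (BT.kid 21116 [0,2,11] (BT.out 0 [0,0]) (BT.kid 10353 [0,3,1] (BT.out 0 [0,0]) (BT.kid 10770 [0,3,2] (BT.out 0 [0,0]) (BT.kid 12104 [0,3,3] (BT.out 0 [0,0])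 (BT.kid 9359 [0,3,4] (BT.out 0 [0,0]) (BT.kid 2105 [0,3,5] (BT.frc 0 [0,0] [3,5,9,4,6] (BT.frc 1 [0] [5,8,11,10,6,7,11] (BT.out 1 [0,0,0,0]))) (BT.kid 25311 [0,3,6] (BT.out 0 [0,0]) (BT.kid 2912 [0,3,8] (BT.out 0 [0,0]) (BT.kid 24856 [0,3,9] (BT.out 0 [0,0]) (BT.kid 12962 [0,3,10] (BT.out 0 [0,0]) (BT.kid 3078 [0,3,11] (BT.out 0 [0,0]) (BT.kid 12950 [0,4,1] (BT.out 0 [0,0]) (BT.kid 2125 [0,4,2] (BT.out 0 [0,0]) (BT.kid 21707 [0,4,3] (BT.out 0 [0,0]) (BT.kid 14386 [0,4,4] (BT.frc 0 [0,0] [3,4,6,6,8] (BT.frc 1 [0] [6,5,8,7,11,6] (BT.frc 1 [0,0,0,0] [7,10,9,8,9,7,8] (BT.out 2 [0])))) (BT.kid 27085 [0,4,5] (BT.out 0 [0,0]) (BT.kid 16549 [0,4,6] (BT.out 0 [0,0]) (BT.kid 2973 [0,4,7] (BT.out 0 [0,0]) (BT.kid 25095 [0,4,8] (BT.out 0 [0,0]) (BT.kid 6476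 [0,4,9] (BT.out 0 [0,0]) (BT.kid 4947 [0,4,10] (BT.frc 0 [0,0] [3,7,4,7,10] (BT.frc 1 [0] [5,7,7,9,10,5,5] (BT.out 1 [0,0,0,0]))) (BT.kid 1185 [0,4,11] (BT.out 0 [0,0]) (BT.kid 23443 [0,5,1] (BT.frc 0 [0,0] [3,5,3] (BT.frc 1 [0] [5,8,8,11,9,8] (BT.out 1 [0,0,0,0]))) (BT.kid 22504 [0,5,2] (BT.out 0 [0,0]) (BT.kid 3048 [0,5,3] (BT.out 0 [0,0]) (BT.kid 22302 [0,5,4] (BT.out 0 [0,0]) (BT.kid 21445 [0,5,6] (BT.out 0 [0,0]) (BT.kid 27675 [0,5,7] (BT.out 0 [0,0]) (BT.kid 1269 [0,5,8] (BT.out 0 [0,0]) (BT.kid 2880 [0,5,9] (BT.out 0 [0,0]) (BT.kid 18168 [0,5,10] (BT.out 0 [0,0]) (BT.kid 24560 [0,5,11] (BT.frc 0 [0,0] [4,4,10,10,8] (BT.frc 1 [0] [5,5,6,5,7,8] (BT.frc 1 [0,0,0,0] [7,9,11,8,11,9,8,8] (BT.out 2 [0])))) (BT.kid 10965 [0,6,2] (BT.out 0 [0,0])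 (BT.kid 15929 [0,6,3] (BT.out 0 [0,0]) (BT.kid 8786 [0,6,5] (BT.out 0 [0,0]) (BT.kid 5054 [0,6,6] (BT.out 0 [0,0]) (BT.kid 10611 [0,6,8] (BT.frc 0 [0,0] [4,11,7] (BT.frc 1 [0] [5,6,9,10,5] (BT.out 1 [0,0,0,0]))) (BT.kid 18598 [0,6,9] (BT.frc 0 [0,0] [4,7,4,3] (BT.frc 1 [0] [6,7,9,8,5,7] (BT.out 1 [0,0,0,0]))) (BT.kid 145 [0,6,10] (BT.out 0 [0,0]) (BT.kid 5426 [0,6,11] (BT.frc 0 [0,0] [3,6,10,4,4] (BT.frc 1 [0] [5,5,6,8,6,9,5] (BT.out 1 [0,0,0,0]))) (BT.kid 18518 [0,7,1] (BT.frc 0 [0,0] [3,10,5,11,10] (BT.frc 1 [0] [5,7,8,7,9,9] (BT.frc 1 [0,0,0,0] [7,9,7,9,9,7,9,8] (BT.out 2 [0])))) (BT.kid 16085 [0,7,2] (BT.out 0 [0,0]) (BT.kid 24281 [0,7,3] (BT.out 0 [0,0]) (BT.kid 14516 [0,7,4] (BT.out 0 [0,0]) (BT.kid 25682 [0,7,5] (BT.out 0 [0,0]) (BT.kid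 27828 [0,7,6] (BT.out 0 [0,0]) (BT.kid 2057 [0,7,7] (BT.out 0 [0,0]) (BT.kid 19046 [0,7,8] (BT.frc 0 [0,0] [4,11,10,10,6] (BT.frc 1 [0] [6,7,11,6,9,11] (BT.out 1 [0,0,0,0]))) (BT.kid 138 [0,7,9] (BT.out 0 [0,0]) (BT.kid 11161 [0,7,10] (BT.out 0 [0,0]) (BT.kid 65 [0,7,11] (BT.out 0 [0,0]) (BT.kid 11191 [0,8,1] (BT.out 0 [0,0]) (BT.kid 2829 [0,8,2] (BT.frc 0 [0,0] [3,4,6,11,10] (BT.frc 1 [0] [5,5,6,9,6,5,7] (BT.out 1 [0,0,0,0]))) (BT.kid 28713 [0,8,3] (BT.out 0 [0,0]) (BT.kid 663 [0,8,4] (BT.frc 0 [0,0] [4,6,6,5,4] (BT.frc 1 [0] [5,5,10,7,8,11,6] (BT.out 1 [0,0,0,0]))) (BT.kid 16023 [0,8,5] (BT.out 0 [0,0]) (BT.kid 17170 [0,8,6] (BT.out 0 [0,0]) (BT.kid 7501 [0,8,7] (BT.frc 0 [0,0] [3,3,9,7,6] (BT.frc 1 [0] [5,8,8,9,9] (BT.frc 1 [0,0,0,0] [8,8,7,7,10,8,9]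 (BT.out 2 [0])))) (BT.kid 5574 [0,8,8] (BT.out 0 [0,0]) (BT.kid 14343 [0,8,9] (BT.out 0 [0,0]) (BT.kid 8133 [0,8,11] (BT.out 0 [0,0]) (BT.kid 9179 [0,9,1] (BT.out 0 [0,0]) (BT.kid 16039 [0,9,2] (BT.out 0 [0,0]) (BT.kid 5187 [0,9,3] (BT.out 0 [0,0]) (BT.kid 4824 [0,9,4] (BT.out 0 [0,0]) (BT.kid 2079 [0,9,5] (BT.out 0 [0,0]) (BT.kid 23477 [0,9,6] (BT.out 0 [0,0]) (BT.kid 19168 [0,9,7] (BT.out 0 [0,0]) (BT.kid 3239 [0,9,8] (BT.out 0 [0,0]) (BT.kid 9970 [0,9,9] (BT.out 0 [0,0]) (BT.kid 19134 [0,9,10] (BT.out 0 [0,0]) (BT.kid 6980 [0,9,11] (BT.out 0 [0,0]) (BT.kid 24827 [0,10,1] (BT.out 0 [0,0]) (BT.kid 13376 [0,10,2] (BT.out 0 [0,0]) (BT.kid 6112 [0,10,3] (BT.frc 0 [0,0] [3,5,11,4,4] (BT.out 1 [0])) (BT.kid 18138 [0,10,4] (BT.out 0 [0,0]) (BT.kid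 23640 [0,10,5] (BT.out 0 [0,0]) (BT.kid 16453 [0,10,6] (BT.out 0 [0,0]) (BT.kid 16976 [0,10,7] (BT.out 0 [0,0]) (BT.kid 23882 [0,10,8] (BT.out 0 [0,0]) (BT.kid 17964 [0,10,9] (BT.out 0 [0,0]) (BT.kid 1744 [0,10,10] (BT.out 0 [0,0]) (BT.kid 26839 [0,10,11] (BT.out 0 [0,0]) (BT.kid 25501 [0,11,1] (BT.out 0 [0,0]) (BT.kid 6573 [0,11,2] (BT.out 0 [0,0]) (BT.kid 26186 [0,11,3] (BT.out 0 [0,0]) (BT.kid 29453 [0,11,4] (BT.out 0 [0,0]) (BT.kid 28597 [0,11,5] (BT.out 0 [0,0]) (BT.kid 11764 [0,11,6] (BT.out 0 [0,0]) (BT.kid 25001 [0,11,7] (BT.out 0 [0,0]) (BT.kid 3220 [0,11,9] (BT.out 0 [0,0]) (BT.kid 755 [0,11,10] (BT.frc 0 [0,0] [3,10,3,6,7] (BT.out 1 [0])) (BT.kid 16064 [0,11,11] (BT.out 0 [0,0]) (BT.kid 19792 [1,0,2] (BT.out 0 [0,0]) (BT.kid 27491 [1,0,3]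 (BT.out 0 [0,0]) (BT.kid 10950 [1,0,4] (BT.out 0 [0,0]) (BT.kid 16087 [1,0,5] (BT.out 0 [0,0]) (BT.kid 4613 [1,0,6] (BT.out 0 [0,0]) (BT.kid 4403 [1,0,8] (BT.out 0 [0,0]) (BT.kid 28811 [1,0,9] (BT.out 0 [0,0]) (BT.kid 3634 [1,0,10] (BT.out 0 [0,0]) (BT.kid 20446 [1,1,1] (BT.out 0 [0,0]) (BT.kid 25348 [1,1,2] (BT.frc 0 [0,0] [3,3,6,9,9] (BT.frc 1 [0] [5,5,11,5,7,9,5] (BT.frc 1 [0,0,0,0] [7,7,11,7,10,10,9] (BT.out 2 [0])))) (BT.kid 4236 [1,1,3] (BT.frc 0 [0,0] [3,6,3,4,3] (BT.frc 1 [0] [5,5,8,5,10,11,6] (BT.out 1 [0,0,0,0]))) (BT.kid 19227 [1,1,4] (BT.out 0 [0,0]) (BT.kid 16354 [1,1,5] (BT.out 0 [0,0]) (BT.kid 21470 [1,1,6] (BT.out 0 [0,0]) (BT.kid 27475 [1,1,7] (BT.out 0 [0,0]) (BT.kid 6093 [1,1,8] (BT.out 0 [0,0]) (BT.kid 22385 [1,2,3] (BT.out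 0 [0,0]) (BT.kid 8290 [1,2,5] (BT.out 0 [0,0]) (BT.kid 15426 [1,2,6] (BT.out 0 [0,0]) (BT.kid 25832 [1,2,7] (BT.out 0 [0,0]) (BT.kid 1027 [1,2,8] (BT.out 0 [0,0]) (BT.kid 23688 [1,2,9] (BT.out 0 [0,0]) (BT.kid 6170 [1,2,10] (BT.frc 0 [0,0] [3,5,10,5,9] (BT.frc 1 [0] [5,9,7,11,5,7] (BT.frc 1 [0,0,0,0] [7,8,7,11,8,8,7,10] (BT.out 2 [0])))) (BT.kid 5322 [1,2,11] (BT.out 0 [0,0]) (BT.kid 30975 [1,3,1] (BT.out 0 [0,0]) (BT.kid 5557 [1,3,2] (BT.frc 0 [0,0] [3,4,5,4,10] (BT.frc 1 [0] [6,11,9,8,10] (BT.out 1 [0,0,0,0]))) (BT.kid 9876 [1,3,4] (BT.out 0 [0,0]) (BT.kid 12121 [1,3,5] (BT.out 0 [0,0]) (BT.kid 19323 [1,3,6] (BT.out 0 [0,0]) (BT.kid 17672 [1,3,7] (BT.out 0 [0,0]) (BT.kid 2676 [1,3,8] (BT.out 0 [0,0]) (BT.kid 5720 [1,3,9] (BT.out 0 [0,0]) (BT.kid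 12335 [1,3,11] (BT.frc 0 [0,0] [3,6,10,10,5] (BT.frc 1 [0] [6,8,5,10,5,10] (BT.frc 1 [0,0,0,0] [7,8,7,10,8,8,10] (BT.out 2 [0])))) (BT.kid 19668 [1,4,1] (BT.out 0 [0,0]) (BT.kid 13908 [1,4,2] (BT.out 0 [0,0]) (BT.kid 9003 [1,4,3] (BT.out 0 [0,0]) (BT.kid 7717 [1,4,4] (BT.out 0 [0,0]) (BT.kid 6680 [1,4,5] (BT.out 0 [0,0]) (BT.kid 6511 [1,4,6] (BT.out 0 [0,0]) (BT.kid 1695 [1,4,7] (BT.out 0 [0,0]) (BT.kid 17568 [1,4,8] (BT.out 0 [0,0]) (BT.kid 1009 [1,4,9] (BT.out 0 [0,0]) (BT.kid 9060 [1,4,11] (BT.frc 0 [0,0] [4,10,8,6] (BT.frc 1 [0] [5,5,6,5,11,6,6] (BT.out 1 [0,0,0,0]))) (BT.kid 5116 [1,5,3] (BT.out 0 [0,0]) (BT.kid 11615 [1,5,4] (BT.out 0 [0,0]) (BT.kid 9850 [1,5,5] (BT.out 0 [0,0]) (BT.kid 4978 [1,5,6] (BT.out 0 [0,0]) (BT.kid 1577 [1,5,7]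 (BT.out 0 [0,0]) (BT.kid 13954 [1,5,8] (BT.out 0 [0,0]) (BT.kid 1384 [1,5,10] (BT.out 0 [0,0]) (BT.kid 1862 [1,5,11] (BT.out 0 [0,0]) (BT.kid 2308 [1,6,1] (BT.out 0 [0,0]) (BT.kid 24021 [1,6,2] (BT.out 0 [0,0]) (BT.kid 4394 [1,6,3] (BT.out 0 [0,0]) (BT.kid 9154 [1,6,5] (BT.out 0 [0,0]) (BT.kid 7706 [1,6,6] (BT.out 0 [0,0]) (BT.kid 14316 [1,6,8] (BT.frc 0 [0,0] [3,4,3,4,8] (BT.frc 1 [0] [5,8,11,8,7,7] (BT.frc 1 [0,0,0,0] [8,8,9,7,11,11] (BT.out 2 [0])))) (BT.kid 2173 [1,6,9] (BT.out 0 [0,0]) (BT.kid 4132 [1,6,10] (BT.out 0 [0,0]) (BT.kid 15056 [1,6,11] (BT.frc 0 [0,0] [3,5,4,3,11] (BT.frc 1 [0] [5,6,10,11,11,10] (BT.frc 1 [0,0,0,0] [7,10,7,11,11,10,7,9] (BT.out 2 [0])))) (BT.kid 19303 [1,7,1] (BT.out 0 [0,0]) (BT.kid 11423 [1,7,3] (BT.out 0 [0,0])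 (BT.kid 9906 [1,7,4] (BT.out 0 [0,0]) (BT.kid 1270 [1,7,5] (BT.out 0 [0,0]) (BT.kid 9897 [1,7,6] (BT.frc 0 [0,0] [4,10,11,8,4] (BT.frc 1 [0] [6,7,6,9,7,8] (BT.frc 1 [0,0,0,0] [8,7,8,8,8,11] (BT.out 2 [0])))) (BT.kid 8071 [1,7,7] (BT.out 0 [0,0]) (BT.kid 812 [1,7,9] (BT.out 0 [0,0]) (BT.kid 12100 [1,7,10] (BT.out 0 [0,0]) (BT.kid 13065 [1,7,11] (BT.out 0 [0,0]) (BT.kid 5581 [1,8,2] (BT.out 0 [0,0]) (BT.kid 9638 [1,8,5] (BT.out 0 [0,0]) (BT.kid 6664 [1,8,6] (BT.out 0 [0,0]) (BT.kid 4081 [1,8,7] (BT.out 0 [0,0]) (BT.kid 16744 [1,8,8] (BT.out 0 [0,0]) (BT.kid 10672 [1,8,9] (BT.out 0 [0,0]) (BT.kid 9430 [1,8,10] (BT.out 0 [0,0]) (BT.kid 10664 [1,8,11] (BT.frc 0 [0,0] [4,4,3,11] (BT.out 1 [0])) (BT.kid 22708 [1,9,1] (BT.out 0 [0,0]) (BT.kid 2054 [1,9,2]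 (BT.out 0 [0,0]) (BT.kid 135 [1,9,3] (BT.frc 0 [0,0] [4,3,6,11] (BT.out 1 [0])) (BT.kid 3191 [1,9,4] (BT.out 0 [0,0]) (BT.kid 15026 [1,9,5] (BT.out 0 [0,0]) (BT.kid 8160 [1,9,6] (BT.out 0 [0,0]) (BT.kid 9860 [1,9,7] (BT.out 0 [0,0]) (BT.kid 12054 [1,9,9] (BT.out 0 [0,0]) (BT.kid 16484 [1,9,10] (BT.out 0 [0,0]) (BT.kid 8419 [1,9,11] (BT.out 0 [0,0]) (BT.kid 19507 [1,10,1] (BT.out 0 [0,0]) (BT.kid 12576 [1,10,2] (BT.out 0 [0,0]) (BT.kid 1665 [1,10,3] (BT.out 0 [0,0]) (BT.kid 308 [1,10,4] (BT.out 0 [0,0]) (BT.kid 7114 [1,10,5] (BT.out 0 [0,0]) (BT.kid 4076 [1,10,6] (BT.out 0 [0,0]) (BT.kid 16733 [1,10,8] (BT.frc 0 [0,0] [3,3,9,3,5] (BT.out 1 [0])) (BT.kid 3547 [1,10,9] (BT.frc 0 [0,0] [3,10,3,8,6] (BT.out 1 [0])) (BT.kid 6861 [1,10,10] (BT.out 0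 [0,0]) (BT.kid 27433 [1,11,1] (BT.out 0 [0,0]) (BT.kid 23373 [1,11,2] (BT.out 0 [0,0]) (BT.kid 11084 [1,11,3] (BT.out 0 [0,0]) (BT.kid 6173 [1,11,4] (BT.out 0 [0,0]) (BT.kid 18693 [1,11,5] (BT.out 0 [0,0]) (BT.kid 16418 [1,11,6] (BT.out 0 [0,0]) (BT.kid 17585 [1,11,7] (BT.out 0 [0,0]) (BT.kid 12278 [1,11,8] (BT.out 0 [0,0]) (BT.kid 4390 [1,11,10] (BT.out 0 [0,0]) (BT.kid 20950 [2,0,2] (BT.out 0 [0,0]) (BT.kid 28321 [2,0,3] (BT.out 0 [0,0]) (BT.kid 9510 [2,0,4] (BT.out 0 [0,0]) (BT.kid 24477 [2,0,6] (BT.out 0 [0,0]) (BT.kid 26015 [2,0,7] (BT.out 0 [0,0]) (BT.kid 31461 [2,0,8] (BT.out 0 [0,0]) (BT.kid 28058 [2,0,10] (BT.out 0 [0,0]) (BT.kid 23436 [2,0,11] (BT.out 0 [0,0]) (BT.kid 6722 [2,1,1] (BT.out 0 [0,0]) (BT.kid 1129 [2,1,3] (BT.out 0 [0,0])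 (BT.kid 7429 [2,1,4] (BT.out 0 [0,0]) (BT.kid 13808 [2,1,6] (BT.out 0 [0,0]) (BT.kid 3871 [2,1,8] (BT.out 0 [0,0]) (BT.kid 2141 [2,1,9] (BT.out 0 [0,0]) (BT.kid 13659 [2,1,10] (BT.out 0 [0,0]) (BT.kid 15090 [2,1,11] (BT.out 0 [0,0]) (BT.kid 14497 [2,3,1] (BT.out 0 [0,0]) (BT.kid 26814 [2,3,2] (BT.out 0 [0,0]) (BT.kid 21166 [2,3,3] (BT.out 0 [0,0]) (BT.kid 31616 [2,3,4] (BT.out 0 [0,0]) (BT.kid 26652 [2,3,5] (BT.out 0 [0,0]) (BT.kid 22801 [2,3,6] (BT.out 0 [0,0]) (BT.kid 28039 [2,3,7] (BT.out 0 [0,0]) (BT.kid 11652 [2,3,10] (BT.out 0 [0,0]) (BT.kid 14761 [2,3,11] (BT.out 0 [0,0]) (BT.kid 12608 [2,4,1] (BT.frc 0 [0,0] [3,6,3,4,3] (BT.frc 1 [0] [5,11,11,7,6,11] (BT.out 1 [0,0,0,0]))) (BT.kid 31609 [2,4,5] (BT.out 0 [0,0]) (BT.kid 24098 [2,4,6] (BT.out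 0 [0,0]) (BT.kid 22211 [2,4,8] (BT.out 0 [0,0]) (BT.kid 26861 [2,4,9] (BT.out 0 [0,0]) (BT.kid 17075 [2,4,10] (BT.out 0 [0,0]) (BT.kid 5920 [2,4,11] (BT.out 0 [0,0]) (BT.kid 11186 [2,5,1] (BT.out 0 [0,0]) (BT.kid 8924 [2,5,2] (BT.out 0 [0,0]) (BT.kid 22609 [2,5,3] (BT.out 0 [0,0]) (BT.kid 774 [2,5,4] (BT.out 0 [0,0]) (BT.kid 30286 [2,5,6] (BT.out 0 [0,0]) (BT.kid 2492 [2,5,7] (BT.out 0 [0,0]) (BT.kid 8607 [2,5,9] (BT.out 0 [0,0]) (BT.kid 17337 [2,5,11] (BT.out 0 [0,0]) (BT.kid 15838 [2,6,1] (BT.out 0 [0,0]) (BT.kid 27352 [2,6,3] (BT.out 0 [0,0]) (BT.kid 15112 [2,6,4] (BT.out 0 [0,0]) (BT.kid 19759 [2,6,6] (BT.out 0 [0,0]) (BT.kid 23364 [2,6,7] (BT.out 0 [0,0]) (BT.kid 19857 [2,6,8] (BT.out 0 [0,0]) (BT.kid 10784 [2,6,9] (BT.out 0 [0,0]) (BT.kid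 28622 [2,6,10] (BT.out 0 [0,0]) (BT.kid 19704 [2,6,11] (BT.out 0 [0,0]) (BT.kid 31095 [2,7,2] (BT.out 0 [0,0]) (BT.kid 28423 [2,7,4] (BT.out 0 [0,0]) (BT.kid 11902 [2,7,6] (BT.out 0 [0,0]) (BT.kid 26826 [2,7,7] (BT.out 0 [0,0]) (BT.kid 28327 [2,7,8] (BT.out 0 [0,0]) (BT.kid 28116 [2,7,9] (BT.out 0 [0,0]) (BT.kid 21665 [2,7,10] (BT.out 0 [0,0]) (BT.kid 26665 [2,7,11] (BT.out 0 [0,0]) (BT.kid 24948 [2,8,1] (BT.out 0 [0,0]) (BT.kid 24043 [2,8,3] (BT.out 0 [0,0]) (BT.kid 4943 [2,8,4] (BT.out 0 [0,0]) (BT.kid 24468 [2,8,5] (BT.out 0 [0,0]) (BT.kid 2118 [2,8,6] (BT.out 0 [0,0]) (BT.kid 19283 [2,8,7] (BT.out 0 [0,0]) (BT.kid 7646 [2,8,8] (BT.out 0 [0,0]) (BT.kid 9298 [2,8,9] (BT.out 0 [0,0]) (BT.kid 14674 [2,8,11] (BT.out 0 [0,0]) (BT.kid 26603 [2,9,2]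 (BT.out 0 [0,0]) (BT.kid 14844 [2,9,3] (BT.out 0 [0,0]) (BT.kid 20232 [2,9,4] (BT.out 0 [0,0]) (BT.kid 19388 [2,9,6] (BT.out 0 [0,0]) (BT.kid 24323 [2,9,7] (BT.out 0 [0,0]) (BT.kid 7709 [2,9,8] (BT.out 0 [0,0]) (BT.kid 23531 [2,9,9] (BT.out 0 [0,0]) (BT.kid 4432 [2,9,10] (BT.out 0 [0,0]) (BT.kid 7821 [2,9,11] (BT.out 0 [0,0]) (BT.kid 11235 [2,10,1] (BT.out 0 [0,0]) (BT.kid 9351 [2,10,4] (BT.out 0 [0,0]) (BT.kid 8619 [2,10,5] (BT.out 0 [0,0]) (BT.kid 3495 [2,10,6] (BT.out 0 [0,0]) (BT.kid 1182 [2,10,7] (BT.out 0 [0,0]) (BT.kid 16266 [2,10,8] (BT.out 0 [0,0]) (BT.kid 29738 [2,10,9] (BT.out 0 [0,0]) (BT.kid 23333 [2,10,11] (BT.out 0 [0,0]) (BT.kid 50 [2,11,1] (BT.out 0 [0,0]) (BT.kid 4741 [2,11,2] (BT.out 0 [0,0]) (BT.kid 7940 [2,11,3] (BT.out 0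 [0,0]) (BT.kid 18062 [2,11,4] (BT.frc 0 [0,0] [3,8,6,6,3] (BT.frc 1 [0] [5,8,7,5,8,6,9] (BT.out 1 [0,0,0,0]))) (BT.kid 2945 [2,11,5] (BT.out 0 [0,0]) (BT.kid 16371 [2,11,6] (BT.out 0 [0,0]) (BT.kid 12979 [2,11,7] (BT.frc 0 [0,0] [4,3,10,10] (BT.out 1 [0])) (BT.kid 12896 [2,11,8] (BT.out 0 [0,0]) (BT.kid 19925 [2,11,9] (BT.out 0 [0,0]) (BT.kid 22520 [2,11,11] (BT.out 0 [0,0]) (BT.kid 14432 [0,0,0,2] (BT.out 0 [0,0]) (BT.kid 7697 [0,0,0,3] (BT.out 0 [0,0]) (BT.kid 6376 [0,0,0,5] (BT.frc 0 [0,0] [4,10,7,5] (BT.frc 1 [0] [6,6,6,7,5,6] (BT.out 1 [0,0,0,0]))) (BT.kid 6922 [0,0,0,6] (BT.out 0 [0,0]) (BT.kid 7426 [0,0,0,7] (BT.out 0 [0,0]) (BT.kid 7970 [0,0,0,8] (BT.frc 0 [0,0] [3,8,6,11,9] (BT.frc 1 [0] [6,5,10,9,11,10] (BT.out 1 [0,0,0,0]))) (BT.kid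 19420 [0,0,0,9] (BT.frc 0 [0,0] [4,11,6,7] (BT.frc 1 [0] [6,8,5,8,6,11] (BT.out 1 [0,0,0,0]))) (BT.kid 25587 [0,0,0,10] (BT.out 0 [0,0]) (BT.kid 26341 [0,0,0,11] (BT.out 0 [0,0]) (BT.kid 4727 [0,0,2,4] (BT.out 0 [0,0]) (BT.kid 17729 [0,0,2,7] (BT.out 0 [0,0]) (BT.kid 23611 [0,0,2,8] (BT.out 0 [0,0]) (BT.kid 9233 [0,0,2,10] (BT.out 0 [0,0]) (BT.kid 21975 [0,0,2,11] (BT.out 0 [0,0]) (BT.kid 6233 [0,0,3,1] (BT.out 0 [0,0]) (BT.kid 18846 [0,0,3,2] (BT.out 0 [0,0]) (BT.kid 1367 [0,0,3,3] (BT.out 0 [0,0]) (BT.kid 1272 [0,0,3,6] (BT.out 0 [0,0]) (BT.kid 18669 [0,0,3,11] (BT.out 0 [0,0]) (BT.kid 20992 [0,0,4,1] (BT.out 0 [0,0]) (BT.kid 30235 [0,0,4,2] (BT.out 0 [0,0]) (BT.kid 8371 [0,0,4,3] (BT.out 0 [0,0]) (BT.kid 4995 [0,0,4,4] (BT.out 0 [0,0]) (BT.kid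 15485 [0,0,4,6] (BT.out 0 [0,0]) (BT.kid 9840 [0,0,4,7] (BT.out 0 [0,0]) (BT.kid 1871 [0,0,4,8] (BT.out 0 [0,0]) (BT.kid 3314 [0,0,4,9] (BT.frc 0 [0,0] [3,5,5] (BT.frc 1 [0] [5,6,8,7,10] (BT.out 1 [0,0,0,0]))) (BT.kid 25582 [0,0,5,1] (BT.out 0 [0,0]) (BT.kid 1285 [0,0,5,3] (BT.out 0 [0,0]) (BT.kid 5125 [0,0,5,5] (BT.out 0 [0,0]) (BT.kid 13664 [0,0,5,6] (BT.out 0 [0,0]) (BT.kid 1453 [0,0,5,7] (BT.out 0 [0,0]) (BT.kid 12843 [0,0,5,8] (BT.out 0 [0,0]) (BT.kid 10943 [0,0,5,11] (BT.out 0 [0,0]) (BT.kid 2089 [0,0,6,1] (BT.out 0 [0,0]) (BT.kid 31245 [0,0,6,2] (BT.out 0 [0,0]) (BT.kid 922 [0,0,6,3] (BT.out 0 [0,0]) (BT.kid 2209 [0,0,6,5] (BT.out 0 [0,0]) (BT.kid 1901 [0,0,6,7] (BT.out 0 [0,0]) (BT.kid 20611 [0,0,6,8] (BT.out 0 [0,0]) (BT.kid 612 [0,0,6,9]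 (BT.out 0 [0,0]) (BT.kid 4118 [0,0,6,10] (BT.out 0 [0,0]) (BT.kid 4874 [0,0,6,11] (BT.out 0 [0,0]) (BT.kid 23629 [0,0,7,1] (BT.out 0 [0,0]) (BT.kid 8799 [0,0,7,2] (BT.out 0 [0,0]) (BT.kid 6550 [0,0,7,3] (BT.frc 0 [0,0] [3,4,11,6,8] (BT.frc 1 [0] [6,6,7,6,7,9] (BT.out 1 [0,0,0,0]))) (BT.kid 8420 [0,0,7,6] (BT.out 0 [0,0]) (BT.kid 13122 [0,0,7,8] (BT.out 0 [0,0]) (BT.kid 6326 [0,0,7,9] (BT.out 0 [0,0]) (BT.kid 18667 [0,0,7,10] (BT.out 0 [0,0]) (BT.kid 8340 [0,0,7,11] (BT.out 0 [0,0]) (BT.kid 29935 [0,0,8,1] (BT.out 0 [0,0]) (BT.kid 17823 [0,0,8,2] (BT.out 0 [0,0]) (BT.kid 5004 [0,0,8,4] (BT.frc 0 [0,0] [3,4,4,9] (BT.frc 1 [0] [5,11,11,5,5,10] (BT.frc 1 [0,0,0,0] [7,10,11,7,7,7] (BT.out 2 [0])))) (BT.kid 10637 [0,0,8,5] (BT.out 0 [0,0]) (BT.kid 3865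 [0,0,8,6] (BT.out 0 [0,0]) (BT.kid 2223 [0,0,8,8] (BT.out 0 [0,0]) (BT.kid 5809 [0,0,8,9] (BT.out 0 [0,0]) (BT.kid 8159 [0,0,8,11] (BT.out 0 [0,0]) (BT.kid 7239 [0,0,9,2] (BT.out 0 [0,0]) (BT.kid 3777 [0,0,9,3] (BT.out 0 [0,0]) (BT.kid 4396 [0,0,9,5] (BT.out 0 [0,0]) (BT.kid 1841 [0,0,9,7] (BT.out 0 [0,0]) (BT.kid 18654 [0,0,9,10] (BT.out 0 [0,0]) (BT.kid 6795 [0,0,9,11] (BT.out 0 [0,0]) (BT.kid 1170 [0,0,10,1] (BT.out 0 [0,0]) (BT.kid 3335 [0,0,10,2] (BT.out 0 [0,0]) (BT.kid 16621 [0,0,10,4] (BT.out 0 [0,0]) (BT.kid 5003 [0,0,10,5] (BT.out 0 [0,0]) (BT.kid 130 [0,0,10,6] (BT.out 0 [0,0]) (BT.kid 12154 [0,0,10,7] (BT.out 0 [0,0]) (BT.kid 8317 [0,0,10,8] (BT.out 0 [0,0]) (BT.kid 14447 [0,0,10,10] (BT.out 0 [0,0]) (BT.kid 23690 [0,0,11,1] (BT.out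 0 [0,0]) (BT.kid 1540 [0,0,11,2] (BT.out 0 [0,0]) (BT.kid 17721 [0,0,11,3] (BT.out 0 [0,0]) (BT.kid 1787 [0,0,11,4] (BT.out 0 [0,0]) (BT.kid 995 [0,0,11,5] (BT.out 0 [0,0]) (BT.kid 13136 [0,0,11,8] (BT.out 0 [0,0]) (BT.kid 6884 [0,0,11,10] (BT.out 0 [0,0]) (BT.kid 19352 [0,1,0,2] (BT.out 0 [0,0]) (BT.kid 27823 [0,1,0,4] (BT.out 0 [0,0]) (BT.kid 620 [0,1,0,5] (BT.frc 0 [0,0] [3,4,3,6,3] (BT.frc 1 [0] [5,5,6,9,7,5] (BT.frc 1 [0,0,0,0] [7,7,8,7,8,9,8,11] (BT.frc 2 [0] [9,11,9,10,10] (BT.nc 0 0))))) (BT.kid 15971 [0,1,0,6] (BT.out 0 [0,0]) (BT.kid 30156 [0,1,0,7] (BT.out 0 [0,0]) (BT.kid 15174 [0,1,0,8] (BT.out 0 [0,0]) (BT.kid 24768 [0,1,0,9] (BT.out 0 [0,0]) (BT.kid 13698 [0,1,0,10] (BT.out 0 [0,0]) (BT.kid 10925 [0,1,1,2] (BT.out 0 [0,0]) (BT.kid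 9912 [0,1,1,3] (BT.out 0 [0,0]) (BT.kid 17959 [0,1,1,4] (BT.out 0 [0,0]) (BT.kid 15092 [0,1,1,5] (BT.out 0 [0,0]) (BT.kid 7198 [0,1,1,6] (BT.out 0 [0,0]) (BT.kid 6015 [0,1,1,8] (BT.out 0 [0,0]) (BT.kid 10255 [0,1,1,9] (BT.out 0 [0,0]) (BT.kid 6906 [0,1,1,11] (BT.out 0 [0,0]) (BT.kid 23648 [0,1,2,3] (BT.out 0 [0,0]) (BT.kid 9886 [0,1,2,4] (BT.out 0 [0,0]) (BT.kid 31184 [0,1,2,5] (BT.out 0 [0,0]) (BT.kid 15950 [0,1,2,6] (BT.out 0 [0,0]) (BT.kid 21579 [0,1,2,7] (BT.out 0 [0,0]) (BT.kid 17019 [0,1,2,8] (BT.out 0 [0,0]) (BT.kid 26731 [0,1,2,10] (BT.out 0 [0,0]) (BT.kid 11852 [0,1,2,11] (BT.out 0 [0,0]) (BT.kid 5206 [0,1,3,1] (BT.out 0 [0,0]) (BT.kid 12301 [0,1,3,2] (BT.out 0 [0,0]) (BT.kid 15380 [0,1,3,4] (BT.out 0 [0,0]) (BT.kid 25975 [0,1,3,6] (BT.out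 0 [0,0]) (BT.kid 17804 [0,1,3,7] (BT.out 0 [0,0]) (BT.kid 10704 [0,1,3,8] (BT.out 0 [0,0]) (BT.kid 2248 [0,1,3,10] (BT.out 0 [0,0]) (BT.kid 3463 [0,1,3,11] (BT.out 0 [0,0]) (BT.kid 102 [0,1,4,2] (BT.out 0 [0,0]) (BT.kid 16344 [0,1,4,3] (BT.out 0 [0,0]) (BT.kid 24972 [0,1,4,4] (BT.out 0 [0,0]) (BT.kid 28670 [0,1,4,5] (BT.out 0 [0,0]) (BT.kid 11763 [0,1,4,6] (BT.out 0 [0,0]) (BT.kid 27274 [0,1,4,7] (BT.out 0 [0,0]) (BT.kid 20703 [0,1,4,8] (BT.out 0 [0,0]) (BT.kid 26575 [0,1,4,9] (BT.out 0 [0,0]) (BT.kid 3476 [0,1,4,10] (BT.out 0 [0,0]) (BT.kid 4024 [0,1,4,11] (BT.out 0 [0,0]) (BT.kid 5084 [0,1,5,1] (BT.out 0 [0,0]) (BT.kid 2345 [0,1,5,2] (BT.out 0 [0,0]) (BT.kid 5273 [0,1,5,4] (BT.out 0 [0,0]) (BT.kid 21211 [0,1,5,5] (BT.out 0 [0,0]) (BT.kid 7660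 [0,1,5,7] (BT.out 0 [0,0]) (BT.kid 27090 [0,1,5,8] (BT.out 0 [0,0]) (BT.kid 19026 [0,1,5,9] (BT.out 0 [0,0]) (BT.kid 17429 [0,1,6,1] (BT.out 0 [0,0]) (BT.kid 17558 [0,1,6,2] (BT.out 0 [0,0]) (BT.kid 21194 [0,1,6,3] (BT.out 0 [0,0]) (BT.kid 21855 [0,1,6,4] (BT.frc 0 [0,0] [4,4,9,11] (BT.frc 1 [0] [6,5,10,7,5,10] (BT.frc 1 [0,0,0,0] [7,8,7,7,8,7,10] (BT.frc 2 [0] [9,9,10,10] (BT.nc 0 0))))) (BT.kid 10352 [0,1,6,5] (BT.out 0 [0,0]) (BT.kid 22949 [0,1,6,6] (BT.out 0 [0,0]) (BT.kid 11276 [0,1,6,7] (BT.out 0 [0,0]) (BT.kid 27369 [0,1,6,9] (BT.out 0 [0,0]) (BT.kid 22783 [0,1,6,10] (BT.out 0 [0,0]) (BT.kid 14513 [0,1,6,11] (BT.out 0 [0,0]) (BT.kid 29066 [0,1,7,1] (BT.out 0 [0,0]) (BT.kid 19960 [0,1,7,2] (BT.out 0 [0,0]) (BT.kid 22 [0,1,7,3] (BT.out 0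 [0,0]) (BT.kid 30850 [0,1,7,4] (BT.out 0 [0,0]) (BT.kid 13392 [0,1,7,7] (BT.frc 0 [0,0] [4,5,4,11] (BT.frc 1 [0] [6,11,8,9,10] (BT.out 1 [0,0,0,0]))) (BT.kid 5030 [0,1,7,11] (BT.out 0 [0,0]) (BT.kid 2954 [0,1,8,3] (BT.out 0 [0,0]) (BT.kid 3806 [0,1,8,4] (BT.out 0 [0,0]) (BT.kid 16721 [0,1,8,5] (BT.out 0 [0,0]) (BT.kid 15758 [0,1,8,6] (BT.out 0 [0,0]) (BT.kid 20444 [0,1,8,7] (BT.out 0 [0,0]) (BT.kid 24515 [0,1,8,9] (BT.frc 0 [0,0] [3,4,4,6,10] (BT.frc 1 [0] [5,6,6,6,6,9,9] (BT.frc 1 [0,0,0,0] [7,7,10,8,7,8] (BT.out 2 [0])))) (BT.kid 11357 [0,1,8,10] (BT.out 0 [0,0]) (BT.kid 8839 [0,1,8,11] (BT.out 0 [0,0]) (BT.kid 20765 [0,1,9,2] (BT.out 0 [0,0]) (BT.kid 29058 [0,1,9,3] (BT.out 0 [0,0]) (BT.kid 31354 [0,1,9,5] (BT.frc 0 [0,0] [3,4,6,4,9] (BT.frc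 1 [0] [5,5,7,11,10,10,9] (BT.frc 1 [0,0,0,0] [7,7,10,10,7,11,7,7] (BT.out 2 [0])))) (BT.kid 5231 [0,1,9,6] (BT.out 0 [0,0]) (BT.kid 13891 [0,1,9,7] (BT.out 0 [0,0]) (BT.kid 12350 [0,1,9,8] (BT.out 0 [0,0]) (BT.kid 17768 [0,1,9,9] (BT.out 0 [0,0]) (BT.kid 8113 [0,1,9,10] (BT.out 0 [0,0]) (BT.kid 11752 [0,1,9,11] (BT.out 0 [0,0]) (BT.kid 30593 [0,1,10,1] (BT.out 0 [0,0]) (BT.kid 11520 [0,1,10,2] (BT.out 0 [0,0]) (BT.kid 1080 [0,1,10,4] (BT.out 0 [0,0]) (BT.kid 16974 [0,1,10,5] (BT.out 0 [0,0]) (BT.kid 5061 [0,1,10,7] (BT.out 0 [0,0]) (BT.kid 15427 [0,1,10,8] (BT.frc 0 [0,0] [3,10,3,3,7] (BT.frc 1 [0] [5,10,5,6,9,10] (BT.frc 1 [0,0,0,0] [7,7,9,8,8,10,10] (BT.out 2 [0])))) (BT.kid 12356 [0,1,11,3] (BT.out 0 [0,0]) (BT.kid 118 [0,1,11,4] (BT.frc 0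 [0,0] [4,10,7,8] (BT.frc 1 [0] [6,6,5,10,7] (BT.frc 1 [0,0,0,0] [7,8,7,7,8,11,7,10] (BT.out 2 [0])))) (BT.kid 22191 [0,1,11,5] (BT.out 0 [0,0]) (BT.kid 8258 [0,1,11,7] (BT.out 0 [0,0]) (BT.kid 25490 [0,1,11,9] (BT.out 0 [0,0]) (BT.kid 20035 [0,1,11,10] (BT.out 0 [0,0]) (BT.kid 6766 [0,1,11,11] (BT.out 0 [0,0]) (BT.kid 29099 [0,2,0,4] (BT.out 0 [0,0]) (BT.kid 15900 [0,2,0,5] (BT.out 0 [0,0]) (BT.kid 4371 [0,2,0,6] (BT.out 0 [0,0]) (BT.kid 14159 [0,2,0,7] (BT.frc 0 [0,0] [3,6,3,5] (BT.frc 1 [0] [5,9,7,10,5,10] (BT.out 1 [0,0,0,0]))) (BT.kid 11688 [0,2,0,9] (BT.out 0 [0,0]) (BT.kid 16923 [0,2,0,10] (BT.out 0 [0,0]) (BT.kid 20649 [0,2,1,5] (BT.out 0 [0,0]) (BT.kid 1241 [0,2,1,7] (BT.frc 0 [0,0] [3,3,6,4,3] (BT.out 1 [0])) (BT.kid 994 [0,2,1,8] (BT.out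 0 [0,0]) (BT.kid 6382 [0,2,1,10] (BT.out 0 [0,0]) (BT.kid 3965 [0,2,1,11] (BT.out 0 [0,0]) (BT.kid 9605 [0,2,3,2] (BT.frc 0 [0,0] [3,3,4,5,6,5] (BT.frc 1 [0] [5,5,8,8,8,6,7] (BT.frc 1 [0,0,0,0] [7,8,11,8,7,11,11] (BT.out 2 [0])))) (BT.kid 11723 [0,2,3,3] (BT.frc 0 [0,0] [4,11,4,4] (BT.frc 1 [0] [5,6,9,10,10,8] (BT.frc 1 [0,0,0,0] [7,8,10,10,8,7,9] (BT.out 2 [0])))) (BT.kid 24243 [0,2,3,5] (BT.out 0 [0,0]) (BT.kid 30623 [0,2,3,6] (BT.frc 0 [0,0] [4,7,6,8,8] (BT.out 1 [0])) (BT.kid 30745 [0,2,3,9] (BT.out 0 [0,0]) (BT.kid 20472 [0,2,3,10] (BT.out 0 [0,0]) (BT.kid 21621 [0,2,3,11] (BT.frc 0 [0,0] [4,7,5,9] (BT.frc 1 [0] [5,10,6,7,5] (BT.out 1 [0,0,0,0]))) (BT.kid 30138 [0,2,4,3] (BT.out 0 [0,0]) (BT.kid 1205 [0,2,4,4] (BT.out 0 [0,0]) (BT.kid 26123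 [0,2,4,5] (BT.out 0 [0,0]) (BT.kid 9931 [0,2,4,6] (BT.out 0 [0,0]) (BT.kid 22937 [0,2,4,7] (BT.out 0 [0,0]) (BT.kid 17435 [0,2,4,8] (BT.out 0 [0,0]) (BT.kid 24144 [0,2,4,9] (BT.out 0 [0,0]) (BT.kid 25814 [0,2,4,10] (BT.out 0 [0,0]) (BT.kid 10044 [0,2,4,11] (BT.out 0 [0,0]) (BT.kid 1356 [0,2,5,1] (BT.out 0 [0,0]) (BT.kid 19463 [0,2,5,2] (BT.out 0 [0,0]) (BT.kid 21556 [0,2,5,4] (BT.out 0 [0,0]) (BT.kid 20179 [0,2,5,5] (BT.frc 0 [0,0] [3,10,3,9] (BT.out 1 [0])) (BT.kid 25842 [0,2,5,6] (BT.out 0 [0,0]) (BT.kid 3338 [0,2,5,7] (BT.out 0 [0,0]) (BT.kid 21498 [0,2,5,11] (BT.out 0 [0,0]) (BT.kid 21853 [0,2,6,2] (BT.out 0 [0,0]) (BT.kid 6053 [0,2,6,3] (BT.out 0 [0,0]) (BT.kid 20713 [0,2,6,4] (BT.out 0 [0,0]) (BT.kid 24542 [0,2,6,6] (BT.out 0 [0,0]) (BT.kid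 2808 [0,2,6,8] (BT.out 0 [0,0]) (BT.kid 7637 [0,2,6,10] (BT.out 0 [0,0]) (BT.kid 29577 [0,2,7,1] (BT.out 0 [0,0]) (BT.kid 25734 [0,2,7,2] (BT.frc 0 [0,0] [4,5,3,9] (BT.frc 1 [0] [5,6,10,6,10,11] (BT.frc 1 [0,0,0,0] [8,11,11,7,8,11] (BT.out 2 [0])))) (BT.kid 11183 [0,2,7,3] (BT.out 0 [0,0]) (BT.kid 26335 [0,2,7,4] (BT.out 0 [0,0]) (BT.kid 16325 [0,2,7,5] (BT.frc 0 [0,0] [3,3,7,10,9] (BT.frc 1 [0] [5,11,6,11,10] (BT.frc 1 [0,0,0,0] [8,9,7,10,9,9] (BT.out 2 [0])))) (BT.kid 1582 [0,2,7,6] (BT.out 0 [0,0]) (BT.kid 5915 [0,2,7,7] (BT.out 0 [0,0]) (BT.kid 22848 [0,2,7,8] (BT.out 0 [0,0]) (BT.kid 26246 [0,2,7,9] (BT.out 0 [0,0]) (BT.kid 28069 [0,2,7,11] (BT.out 0 [0,0]) (BT.kid 2274 [0,2,8,2] (BT.out 0 [0,0]) (BT.kid 19790 [0,2,8,3] (BT.out 0 [0,0]) (BT.kid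 29679 [0,2,8,4] (BT.out 0 [0,0]) (BT.kid 21829 [0,2,8,7] (BT.out 0 [0,0]) (BT.kid 9830 [0,2,8,9] (BT.out 0 [0,0]) (BT.kid 26040 [0,2,9,4] (BT.out 0 [0,0]) (BT.kid 25846 [0,2,9,5] (BT.out 0 [0,0]) (BT.kid 26782 [0,2,9,6] (BT.out 0 [0,0]) (BT.kid 31521 [0,2,9,9] (BT.out 0 [0,0]) (BT.kid 21240 [0,2,9,10] (BT.out 0 [0,0]) (BT.kid 16222 [0,2,9,11] (BT.out 0 [0,0]) (BT.kid 25536 [0,2,10,4] (BT.out 0 [0,0]) (BT.kid 11581 [0,2,10,5] (BT.out 0 [0,0]) (BT.kid 52 [0,2,10,6] (BT.out 0 [0,0]) (BT.kid 14866 [0,2,10,8] (BT.out 0 [0,0]) (BT.kid 27363 [0,2,10,10] (BT.frc 0 [0,0] [3,6,11,6,9] (BT.frc 1 [0] [6,9,8,8,10,11] (BT.out 1 [0,0,0,0]))) (BT.kid 21538 [0,2,10,11] (BT.out 0 [0,0]) (BT.kid 29173 [0,2,11,3] (BT.out 0 [0,0]) (BT.kid 4954 [0,2,11,5] (BT.out 0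 [0,0]) (BT.kid 21699 [0,2,11,6] (BT.out 0 [0,0]) (BT.kid 23972 [0,2,11,9] (BT.out 0 [0,0]) (BT.kid 2865 [0,2,11,11] (BT.frc 0 [0,0] [3,10,4,7] (BT.frc 1 [0] [6,6,10,6,7,11] (BT.frc 1 [0,0,0,0] [7,8,7,7,9,7,10] (BT.out 2 [0])))) (BT.kid 30547 [0,3,0,2] (BT.out 0 [0,0]) (BT.kid 23979 [0,3,0,4] (BT.out 0 [0,0]) (BT.kid 6178 [0,3,0,5] (BT.out 0 [0,0]) (BT.kid 24751 [0,3,0,6] (BT.out 0 [0,0]) (BT.kid 5940 [0,3,0,9] (BT.out 0 [0,0]) (BT.kid 6349 [0,3,0,11] (BT.out 0 [0,0]) (BT.kid 10709 [0,3,1,2] (BT.out 0 [0,0]) (BT.kid 26741 [0,3,1,3] (BT.out 0 [0,0]) (BT.kid 16449 [0,3,1,4] (BT.out 0 [0,0]) (BT.kid 6997 [0,3,1,5] (BT.out 0 [0,0]) (BT.kid 14298 [0,3,1,7] (BT.out 0 [0,0]) (BT.kid 25984 [0,3,1,8] (BT.out 0 [0,0]) (BT.kid 28974 [0,3,1,11] (BT.out 0 [0,0])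 (BT.kid 29712 [0,3,2,3] (BT.out 0 [0,0]) (BT.kid 3949 [0,3,2,4] (BT.out 0 [0,0]) (BT.kid 5592 [0,3,2,5] (BT.out 0 [0,0]) (BT.kid 27998 [0,3,2,7] (BT.out 0 [0,0]) (BT.kid 3570 [0,3,2,8] (BT.out 0 [0,0]) (BT.kid 21600 [0,3,2,11] (BT.out 0 [0,0]) (BT.kid 3541 [0,3,3,1] (BT.frc 0 [0,0] [4,11,8,11] (BT.frc 1 [0] [6,9,5,6,8] (BT.out 1 [0,0,0,0]))) (BT.kid 3175 [0,3,3,2] (BT.out 0 [0,0]) (BT.kid 12791 [0,3,3,3] (BT.frc 0 [0,0] [3,8,4,4,8] (BT.out 1 [0])) (BT.kid 29912 [0,3,3,4] (BT.out 0 [0,0]) (BT.kid 19750 [0,3,3,5] (BT.out 0 [0,0]) (BT.kid 14825 [0,3,3,7] (BT.out 0 [0,0]) (BT.kid 15825 [0,3,3,9] (BT.out 0 [0,0]) (BT.kid 18972 [0,3,3,10] (BT.out 0 [0,0]) (BT.kid 10661 [0,3,4,1] (BT.out 0 [0,0]) (BT.kid 7587 [0,3,4,4] (BT.out 0 [0,0]) (BT.kid 10222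 [0,3,4,5] (BT.out 0 [0,0]) (BT.kid 14445 [0,3,4,7] (BT.out 0 [0,0]) (BT.kid 10189 [0,3,4,9] (BT.frc 0 [0,0] [3,4,10,10,6] (BT.frc 1 [0] [5,8,10,6,8] (BT.out 1 [0,0,0,0]))) (BT.kid 27770 [0,3,4,10] (BT.out 0 [0,0]) (BT.kid 20637 [0,3,5,2] (BT.frc 0 [0,0] [3,5,8,5,9] (BT.frc 1 [0] [5,8,7,11,6,8] (BT.out 1 [0,0,0,0]))) (BT.kid 19746 [0,3,5,4] (BT.out 0 [0,0]) (BT.kid 24308 [0,3,5,5] (BT.out 0 [0,0]) (BT.kid 3060 [0,3,5,7] (BT.out 0 [0,0]) (BT.kid 21387 [0,3,5,10] (BT.out 0 [0,0]) (BT.kid 21319 [0,3,5,11] (BT.out 0 [0,0]) (BT.kid 18576 [0,3,6,5] (BT.out 0 [0,0]) (BT.kid 22446 [0,3,6,7] (BT.out 0 [0,0]) (BT.kid 11648 [0,3,6,9] (BT.out 0 [0,0]) (BT.kid 15292 [0,3,7,2] (BT.out 0 [0,0]) (BT.kid 26596 [0,3,7,4] (BT.out 0 [0,0]) (BT.kid 7738 [0,3,7,5] (BT.out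 0 [0,0]) (BT.kid 23426 [0,3,7,7] (BT.out 0 [0,0]) (BT.kid 11530 [0,3,7,8] (BT.out 0 [0,0]) (BT.kid 27461 [0,3,7,9] (BT.out 0 [0,0]) (BT.kid 1031 [0,3,7,10] (BT.out 0 [0,0]) (BT.kid 20745 [0,3,7,11] (BT.out 0 [0,0]) (BT.kid 20326 [0,3,8,3] (BT.out 0 [0,0]) (BT.kid 26229 [0,3,8,7] (BT.out 0 [0,0]) (BT.kid 4882 [0,3,8,10] (BT.out 0 [0,0]) (BT.kid 13456 [0,3,9,5] (BT.out 0 [0,0]) (BT.kid 25487 [0,3,9,6] (BT.frc 0 [0,0] [3,6,10] (BT.frc 1 [0] [5,9,5,5,5,7] (BT.out 1 [0,0,0,0]))) (BT.kid 15680 [0,3,9,7] (BT.out 0 [0,0]) (BT.kid 29288 [0,3,9,8] (BT.out 0 [0,0]) (BT.kid 23115 [0,3,9,9] (BT.out 0 [0,0]) (BT.kid 27383 [0,3,9,10] (BT.out 0 [0,0]) (BT.kid 23120 [0,3,9,11] (BT.out 0 [0,0]) (BT.kid 21692 [0,3,10,5] (BT.out 0 [0,0]) (BT.kid 6676 [0,3,10,6] (BT.out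 0 [0,0]) (BT.kid 27814 [0,3,10,7] (BT.out 0 [0,0]) (BT.kid 21261 [0,3,10,8] (BT.out 0 [0,0]) (BT.kid 29724 [0,3,10,11] (BT.frc 0 [0,0] [3,6,3,8,7] (BT.frc 1 [0] [5,9,7,11,9,10] (BT.frc 1 [0,0,0,0] [7,7,8,8,7,8,8,8] (BT.out 2 [0])))) (BT.kid 21392 [0,3,11,1] (BT.out 0 [0,0]) (BT.kid 28955 [0,3,11,3] (BT.out 0 [0,0]) (BT.kid 4664 [0,3,11,4] (BT.frc 0 [0,0] [4,3,5,9,11] (BT.frc 1 [0] [5,5,6,5,5,5] (BT.out 1 [0,0,0,0]))) (BT.kid 7937 [0,3,11,5] (BT.frc 0 [0,0] [3,6,10,10] (BT.frc 1 [0] [5,5,5,7,7,7,10] (BT.out 1 [0,0,0,0]))) (BT.kid 1830 [0,3,11,6] (BT.out 0 [0,0]) (BT.kid 30696 [0,3,11,7] (BT.out 0 [0,0]) (BT.kid 17423 [0,3,11,9] (BT.frc 0 [0,0] [3,5,7,11,9] (BT.out 1 [0])) (BT.kid 13467 [0,4,0,2] (BT.out 0 [0,0]) (BT.kid 4539 [0,4,0,3] (BT.out 0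 [0,0]) (BT.kid 12814 [0,4,0,4] (BT.frc 0 [0,0] [3,5,11,10] (BT.out 1 [0])) (BT.kid 12228 [0,4,0,6] (BT.out 0 [0,0]) (BT.kid 1855 [0,4,0,8] (BT.out 0 [0,0]) (BT.kid 9410 [0,4,0,10] (BT.out 0 [0,0]) (BT.kid 8027 [0,4,0,11] (BT.out 0 [0,0]) (BT.kid 27882 [0,4,1,2] (BT.out 0 [0,0]) (BT.kid 26438 [0,4,1,7] (BT.out 0 [0,0]) (BT.kid 5878 [0,4,1,8] (BT.frc 0 [0,0] [4,10,6,7,10] (BT.frc 1 [0] [5,5,6,5,8,9,6] (BT.frc 1 [0,0,0,0] [8,9,10,7,9,7] (BT.out 2 [0])))) (BT.kid 24411 [0,4,1,11] (BT.out 0 [0,0]) (BT.kid 22920 [0,4,2,1] (BT.out 0 [0,0]) (BT.kid 5182 [0,4,2,3] (BT.out 0 [0,0]) (BT.kid 13605 [0,4,2,6] (BT.out 0 [0,0]) (BT.kid 26396 [0,4,2,10] (BT.out 0 [0,0]) (BT.kid 24949 [0,4,3,1] (BT.out 0 [0,0]) (BT.kid 18738 [0,4,3,2] (BT.out 0 [0,0]) (BT.kid 18473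 [0,4,3,3] (BT.out 0 [0,0]) (BT.kid 6614 [0,4,3,7] (BT.out 0 [0,0]) (BT.kid 16178 [0,4,3,9] (BT.out 0 [0,0]) (BT.kid 28029 [0,4,3,10] (BT.out 0 [0,0]) (BT.kid 16803 [0,4,4,3] (BT.out 0 [0,0]) (BT.kid 5849 [0,4,4,6] (BT.out 0 [0,0]) (BT.kid 12372 [0,4,4,8] (BT.out 0 [0,0]) (BT.kid 25236 [0,4,4,10] (BT.out 0 [0,0]) (BT.kid 28673 [0,4,5,1] (BT.out 0 [0,0]) (BT.kid 16796 [0,4,5,2] (BT.out 0 [0,0]) (BT.kid 4895 [0,4,5,3] (BT.out 0 [0,0]) (BT.kid 22202 [0,4,5,7] (BT.out 0 [0,0]) (BT.kid 31478 [0,4,5,8] (BT.out 0 [0,0]) (BT.kid 4113 [0,4,5,10] (BT.out 0 [0,0]) (BT.kid 10443 [0,4,6,2] (BT.out 0 [0,0]) (BT.kid 3023 [0,4,6,3] (BT.out 0 [0,0]) (BT.kid 27818 [0,4,6,6] (BT.out 0 [0,0]) (BT.kid 6756 [0,4,6,7] (BT.out 0 [0,0]) (BT.kid 25079 [0,4,6,9] (BT.out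 0 [0,0]) (BT.kid 9991 [0,4,6,10] (BT.out 0 [0,0]) (BT.kid 13568 [0,4,7,2] (BT.out 0 [0,0]) (BT.kid 27951 [0,4,7,3] (BT.out 0 [0,0]) (BT.kid 4800 [0,4,7,4] (BT.out 0 [0,0]) (BT.kid 13734 [0,4,7,9] (BT.out 0 [0,0]) (BT.kid 4164 [0,4,7,10] (BT.out 0 [0,0]) (BT.kid 7282 [0,4,7,11] (BT.out 0 [0,0]) (BT.kid 810 [0,4,8,1] (BT.out 0 [0,0]) (BT.kid 1447 [0,4,8,2] (BT.out 0 [0,0]) (BT.kid 25109 [0,4,8,6] (BT.out 0 [0,0]) (BT.kid 17357 [0,4,8,9] (BT.out 0 [0,0]) (BT.kid 26598 [0,4,9,2] (BT.out 0 [0,0]) (BT.kid 20783 [0,4,9,5] (BT.out 0 [0,0]) (BT.kid 5310 [0,4,9,6] (BT.out 0 [0,0]) (BT.kid 9508 [0,4,9,8] (BT.out 0 [0,0]) (BT.kid 1777 [0,4,10,3] (BT.out 0 [0,0]) (BT.kid 12436 [0,4,10,4] (BT.out 0 [0,0]) (BT.kid 18769 [0,4,10,5] (BT.frc 0 [0,0] [3,9,10,6]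 (BT.frc 1 [0] [5,8,7,8,7,10] (BT.frc 1 [0,0,0,0] [8,8,10,9,7,8,11] (BT.out 2 [0])))) (BT.kid 24060 [0,4,10,6] (BT.out 0 [0,0]) (BT.kid 28201 [0,4,10,7] (BT.frc 0 [0,0] [3,6,9,3,6] (BT.frc 1 [0] [5,5,5,8,7,10,6] (BT.frc 1 [0,0,0,0] [7,9,9,7,8,7,11] (BT.out 2 [0])))) (BT.kid 27544 [0,4,10,9] (BT.out 0 [0,0]) (BT.kid 26282 [0,4,10,10] (BT.out 0 [0,0]) (BT.kid 7377 [0,4,11,1] (BT.out 0 [0,0]) (BT.kid 22752 [0,4,11,3] (BT.out 0 [0,0]) (BT.kid 24819 [0,4,11,5] (BT.frc 0 [0,0] [4,7,3,3,9] (BT.frc 1 [0] [6,9,9,8,6] (BT.frc 1 [0,0,0,0] [7,9,9,8,8,10,11,10] (BT.out 2 [0])))) (BT.kid 11290 [0,4,11,9] (BT.out 0 [0,0]) (BT.kid 6462 [0,4,11,10] (BT.out 0 [0,0]) (BT.kid 12999 [0,4,11,11] (BT.out 0 [0,0]) (BT.kid 27718 [0,5,0,2] (BT.frc 0 [0,0] [4,10,8,9,9] (BT.out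 1 [0])) (BT.kid 24140 [0,5,0,3] (BT.frc 0 [0,0] [4,3,9,6,9] (BT.frc 1 [0] [6,11,7,7,11] (BT.frc 1 [0,0,0,0] [8,8,11,11,8,7,11] (BT.out 2 [0])))) (BT.kid 30805 [0,5,0,4] (BT.out 0 [0,0]) (BT.kid 21589 [0,5,0,6] (BT.out 0 [0,0]) (BT.kid 30438 [0,5,0,9] (BT.out 0 [0,0]) (BT.kid 23961 [0,5,1,2] (BT.out 0 [0,0]) (BT.kid 3244 [0,5,1,3] (BT.out 0 [0,0]) (BT.kid 14300 [0,5,1,6] (BT.out 0 [0,0]) (BT.kid 30814 [0,5,1,7] (BT.out 0 [0,0]) (BT.kid 23514 [0,5,1,9] (BT.out 0 [0,0]) (BT.kid 14150 [0,5,1,10] (BT.out 0 [0,0]) (BT.kid 23908 [0,5,1,11] (BT.out 0 [0,0]) (BT.kid 19312 [0,5,2,1] (BT.out 0 [0,0]) (BT.kid 26221 [0,5,2,5] (BT.out 0 [0,0]) (BT.kid 6725 [0,5,2,7] (BT.out 0 [0,0]) (BT.kid 22095 [0,5,2,9] (BT.out 0 [0,0]) (BT.kid 5090 [0,5,2,10] (BT.out 0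 [0,0]) (BT.kid 3354 [0,5,3,4] (BT.out 0 [0,0]) (BT.kid 28567 [0,5,3,5] (BT.out 0 [0,0]) (BT.kid 12619 [0,5,3,7] (BT.out 0 [0,0]) (BT.kid 13519 [0,5,3,8] (BT.out 0 [0,0]) (BT.kid 10419 [0,5,3,10] (BT.out 0 [0,0]) (BT.kid 20890 [0,5,4,3] (BT.out 0 [0,0]) (BT.kid 27368 [0,5,4,4] (BT.out 0 [0,0]) (BT.kid 13374 [0,5,4,9] (BT.out 0 [0,0]) (BT.kid 24430 [0,5,4,11] (BT.out 0 [0,0]) (BT.kid 2778 [0,5,5,2] (BT.out 0 [0,0]) (BT.kid 5941 [0,5,5,3] (BT.out 0 [0,0]) (BT.kid 8564 [0,5,5,5] (BT.out 0 [0,0]) (BT.kid 18613 [0,5,5,8] (BT.out 0 [0,0]) (BT.kid 19744 [0,5,5,10] (BT.out 0 [0,0]) (BT.kid 23760 [0,5,6,5] (BT.out 0 [0,0]) (BT.kid 7573 [0,5,6,8] (BT.out 0 [0,0]) (BT.kid 27486 [0,5,7,1] (BT.frc 0 [0,0] [3,8,7,7] (BT.frc 1 [0] [6,5,7,6,6,10] (BT.out 1 [0,0,0,0])))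 (BT.kid 22892 [0,5,7,5] (BT.frc 0 [0,0] [3,3,6,3,8,4] (BT.out 1 [0])) (BT.kid 26200 [0,5,7,6] (BT.out 0 [0,0]) (BT.kid 7020 [0,5,7,8] (BT.out 0 [0,0]) (BT.kid 14679 [0,5,7,11] (BT.out 0 [0,0]) (BT.kid 7807 [0,5,8,1] (BT.out 0 [0,0]) (BT.kid 2429 [0,5,8,5] (BT.out 0 [0,0]) (BT.kid 5458 [0,5,8,6] (BT.out 0 [0,0]) (BT.kid 9862 [0,5,8,9] (BT.out 0 [0,0]) (BT.kid 25823 [0,5,9,3] (BT.out 0 [0,0]) (BT.kid 3866 [0,5,9,5] (BT.out 0 [0,0]) (BT.kid 28007 [0,5,9,8] (BT.out 0 [0,0]) (BT.kid 10497 [0,5,9,9] (BT.out 0 [0,0]) (BT.kid 24309 [0,5,9,11] (BT.out 0 [0,0]) (BT.kid 3225 [0,5,10,1] (BT.out 0 [0,0]) (BT.kid 26179 [0,5,10,2] (BT.out 0 [0,0]) (BT.kid 25361 [0,5,10,8] (BT.out 0 [0,0]) (BT.kid 10201 [0,5,10,9] (BT.out 0 [0,0]) (BT.kid 27288 [0,5,10,10] (BT.out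 0 [0,0]) (BT.kid 7090 [0,5,10,11] (BT.out 0 [0,0]) (BT.kid 4089 [0,5,11,2] (BT.out 0 [0,0]) (BT.kid 20811 [0,5,11,3] (BT.frc 0 [0,0] [3,3,7,6,5] (BT.out 1 [0])) (BT.kid 6949 [0,5,11,5] (BT.out 0 [0,0]) (BT.kid 30635 [0,5,11,7] (BT.out 0 [0,0]) (BT.kid 5620 [0,5,11,10] (BT.out 0 [0,0]) (BT.kid 29818 [0,5,11,11] (BT.out 0 [0,0]) (BT.kid 6110 [0,6,0,2] (BT.out 0 [0,0]) (BT.kid 22099 [0,6,0,5] (BT.out 0 [0,0]) (BT.kid 29494 [0,6,0,7] (BT.out 0 [0,0]) (BT.kid 14757 [0,6,0,8] (BT.out 0 [0,0]) (BT.kid 12442 [0,6,1,2] (BT.out 0 [0,0]) (BT.kid 29763 [0,6,1,4] (BT.out 0 [0,0]) (BT.kid 7586 [0,6,1,5] (BT.out 0 [0,0]) (BT.kid 7596 [0,6,1,6] (BT.out 0 [0,0]) (BT.kid 23318 [0,6,1,7] (BT.out 0 [0,0]) (BT.kid 9857 [0,6,1,8] (BT.out 0 [0,0]) (BT.kid 27019 [0,6,1,10]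 (BT.frc 0 [0,0] [3,10,3,10] (BT.frc 1 [0] [5,6,6,10] (BT.out 1 [0,0,0,0]))) (BT.kid 27778 [0,6,1,11] (BT.out 0 [0,0]) (BT.kid 19237 [0,6,2,1] (BT.out 0 [0,0]) (BT.kid 21654 [0,6,2,3] (BT.out 0 [0,0]) (BT.kid 12989 [0,6,2,10] (BT.out 0 [0,0]) (BT.kid 28315 [0,6,2,11] (BT.out 0 [0,0]) (BT.kid 16990 [0,6,3,2] (BT.out 0 [0,0]) (BT.kid 29490 [0,6,3,3] (BT.out 0 [0,0]) (BT.kid 29967 [0,6,3,4] (BT.out 0 [0,0]) (BT.kid 10531 [0,6,3,6] (BT.frc 0 [0,0] [3,5,9,3,9] (BT.frc 1 [0] [5,6,9,5,7,8,9] (BT.out 1 [0,0,0,0]))) (BT.kid 27014 [0,6,3,9] (BT.out 0 [0,0]) (BT.kid 1196 [0,6,4,3] (BT.out 0 [0,0]) (BT.kid 31538 [0,6,4,4] (BT.out 0 [0,0]) (BT.kid 7638 [0,6,4,8] (BT.out 0 [0,0]) (BT.kid 5082 [0,6,4,11] (BT.out 0 [0,0]) (BT.kid 4104 [0,6,5,1] (BT.out 0 [0,0])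 (BT.kid 21420 [0,6,5,2] (BT.out 0 [0,0]) (BT.kid 30036 [0,6,5,5] (BT.out 0 [0,0]) (BT.kid 29278 [0,6,5,6] (BT.out 0 [0,0]) (BT.kid 29880 [0,6,5,7] (BT.out 0 [0,0]) (BT.kid 18445 [0,6,5,9] (BT.out 0 [0,0]) (BT.kid 5831 [0,6,6,1] (BT.out 0 [0,0]) (BT.kid 24776 [0,6,6,2] (BT.frc 0 [0,0] [3,4,5,9,9] (BT.frc 1 [0] [5,8,6,7,11,7] (BT.out 1 [0,0,0,0]))) (BT.kid 14734 [0,6,6,3] (BT.out 0 [0,0]) (BT.kid 11200 [0,6,6,4] (BT.out 0 [0,0]) (BT.kid 18129 [0,6,6,5] (BT.frc 0 [0,0] [3,4,8,11,5] (BT.frc 1 [0] [5,7,10,9,7,10,6] (BT.frc 1 [0,0,0,0] [8,9,8,7,7,8,7] (BT.out 2 [0])))) (BT.kid 10887 [0,6,6,6] (BT.out 0 [0,0]) (BT.kid 19453 [0,6,7,5] (BT.frc 0 [0,0] [4,10,3,9] (BT.frc 1 [0] [5,5,7,5,7,5] (BT.out 1 [0,0,0,0]))) (BT.kid 25580 [0,6,7,6] (BT.out 0 [0,0])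 (BT.kid 21592 [0,6,7,8] (BT.out 0 [0,0]) (BT.kid 14241 [0,6,7,10] (BT.out 0 [0,0]) (BT.kid 13316 [0,6,8,1] (BT.frc 0 [0,0] [3,8,5,8,10] (BT.out 1 [0])) (BT.kid 11949 [0,6,8,4] (BT.frc 0 [0,0] [3,6,7,7,3] (BT.frc 1 [0] [5,10,10,6,11,10] (BT.out 1 [0,0,0,0]))) (BT.kid 1528 [0,6,8,6] (BT.out 0 [0,0]) (BT.kid 27869 [0,6,8,9] (BT.frc 0 [0,0] [4,6,5,8,8] (BT.frc 1 [0] [5,6,6,7,10,7,7] (BT.out 1 [0,0,0,0]))) (BT.kid 30762 [0,6,9,1] (BT.out 0 [0,0]) (BT.kid 29904 [0,6,9,6] (BT.out 0 [0,0]) (BT.kid 19583 [0,6,10,1] (BT.frc 0 [0,0] [3,4,11,7,10] (BT.frc 1 [0] [5,8,6,10,5,9,10] (BT.out 1 [0,0,0,0]))) (BT.kid 22820 [0,6,10,2] (BT.out 0 [0,0]) (BT.kid 22915 [0,6,10,3] (BT.frc 0 [0,0] [3,7,8,6,5] (BT.frc 1 [0] [6,7,10,5,11,7] (BT.out 1 [0,0,0,0]))) (BT.kid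 6439 [0,6,10,7] (BT.out 0 [0,0]) (BT.kid 28725 [0,6,11,1] (BT.out 0 [0,0]) (BT.kid 20924 [0,6,11,2] (BT.out 0 [0,0]) (BT.kid 8031 [0,6,11,6] (BT.out 0 [0,0]) (BT.kid 6832 [0,7,0,3] (BT.out 0 [0,0]) (BT.kid 12216 [0,7,0,4] (BT.out 0 [0,0]) (BT.kid 16675 [0,7,0,9] (BT.out 0 [0,0]) (BT.kid 2155 [0,7,0,10] (BT.out 0 [0,0]) (BT.kid 10677 [0,7,1,4] (BT.frc 0 [0,0] [3,5,3,10,7] (BT.frc 1 [0] [5,6,9,5,8,11] (BT.out 1 [0,0,0,0]))) (BT.kid 6258 [0,7,1,8] (BT.out 0 [0,0]) (BT.kid 8062 [0,7,2,1] (BT.out 0 [0,0]) (BT.kid 10859 [0,7,2,4] (BT.out 0 [0,0]) (BT.kid 27141 [0,7,2,5] (BT.out 0 [0,0]) (BT.kid 20108 [0,7,2,6] (BT.out 0 [0,0]) (BT.kid 13099 [0,7,2,7] (BT.out 0 [0,0]) (BT.kid 22974 [0,7,3,1] (BT.out 0 [0,0]) (BT.kid 31655 [0,7,3,5] (BT.out 0 [0,0]) (BT.kid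 17329 [0,7,3,6] (BT.out 0 [0,0]) (BT.kid 17154 [0,7,4,2] (BT.out 0 [0,0]) (BT.kid 7945 [0,7,4,3] (BT.out 0 [0,0]) (BT.kid 16738 [0,7,4,9] (BT.out 0 [0,0]) (BT.kid 25980 [0,7,4,10] (BT.out 0 [0,0]) (BT.kid 992 [0,7,5,2] (BT.out 0 [0,0]) (BT.kid 26682 [0,7,5,3] (BT.out 0 [0,0]) (BT.kid 17684 [0,7,5,5] (BT.out 0 [0,0]) (BT.kid 28448 [0,7,5,8] (BT.out 0 [0,0]) (BT.kid 7013 [0,7,7,2] (BT.out 0 [0,0]) (BT.kid 15296 [0,7,7,6] (BT.out 0 [0,0]) (BT.kid 19921 [0,7,7,9] (BT.out 0 [0,0]) (BT.kid 8579 [0,7,7,10] (BT.out 0 [0,0]) (BT.kid 8894 [0,7,8,3] (BT.out 0 [0,0]) (BT.kid 5702 [0,7,8,4] (BT.out 0 [0,0]) (BT.kid 21440 [0,7,8,6] (BT.frc 0 [0,0] [4,8,5,5] (BT.frc 1 [0] [5,10,5,11,9] (BT.frc 1 [0,0,0,0] [7,9,10,8,9,11] (BT.out 2 [0])))) (BT.kid 17905 [0,7,8,9]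 (BT.out 0 [0,0]) (BT.kid 19338 [0,7,9,1] (BT.out 0 [0,0]) (BT.kid 17414 [0,7,9,2] (BT.out 0 [0,0]) (BT.kid 3135 [0,7,9,4] (BT.out 0 [0,0]) (BT.kid 27216 [0,7,9,5] (BT.out 0 [0,0]) (BT.kid 21694 [0,7,9,6] (BT.out 0 [0,0]) (BT.kid 535 [0,7,9,9] (BT.out 0 [0,0]) (BT.kid 3564 [0,7,10,1] (BT.out 0 [0,0]) (BT.kid 27756 [0,7,10,5] (BT.out 0 [0,0]) (BT.kid 2721 [0,7,10,6] (BT.frc 0 [0,0] [3,6,7] (BT.frc 1 [0] [5,5,6,11,7,10,6] (BT.out 1 [0,0,0,0]))) (BT.kid 23216 [0,7,10,7] (BT.out 0 [0,0]) (BT.kid 24465 [0,7,10,9] (BT.out 0 [0,0]) (BT.kid 30729 [0,7,11,4] (BT.out 0 [0,0]) (BT.kid 16488 [0,7,11,6] (BT.out 0 [0,0]) (BT.kid 5527 [0,7,11,8] (BT.out 0 [0,0]) (BT.kid 9096 [0,8,0,10] (BT.out 0 [0,0]) (BT.kid 14391 [0,8,0,11] (BT.out 0 [0,0]) (BT.kid 27645 [0,8,1,3]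 (BT.out 0 [0,0]) (BT.kid 12275 [0,8,1,5] (BT.out 0 [0,0]) (BT.kid 4960 [0,8,2,1] (BT.out 0 [0,0]) (BT.kid 25339 [0,8,2,7] (BT.out 0 [0,0]) (BT.kid 11666 [0,8,2,9] (BT.out 0 [0,0]) (BT.kid 7938 [0,8,2,10] (BT.out 0 [0,0]) (BT.kid 29469 [0,8,3,4] (BT.out 0 [0,0]) (BT.kid 18206 [0,8,3,5] (BT.frc 0 [0,0] [3,5,11,3,8] (BT.out 1 [0])) (BT.kid 12378 [0,8,3,6] (BT.out 0 [0,0]) (BT.kid 8613 [0,8,3,9] (BT.out 0 [0,0]) (BT.kid 25693 [0,8,4,5] (BT.out 0 [0,0]) (BT.kid 19516 [0,8,4,6] (BT.frc 0 [0,0] [3,8,4,11,6] (BT.out 1 [0])) (BT.kid 13780 [0,8,4,7] (BT.out 0 [0,0]) (BT.kid 4821 [0,8,4,9] (BT.out 0 [0,0]) (BT.kid 10815 [0,8,5,1] (BT.out 0 [0,0]) (BT.kid 21789 [0,8,5,5] (BT.out 0 [0,0]) (BT.kid 10845 [0,8,5,6] (BT.out 0 [0,0]) (BT.kid 14099 [0,8,5,11] (BT.out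 0 [0,0]) (BT.kid 22922 [0,8,6,2] (BT.out 0 [0,0]) (BT.kid 13424 [0,8,6,4] (BT.out 0 [0,0]) (BT.kid 2805 [0,8,6,7] (BT.out 0 [0,0]) (BT.kid 22021 [0,8,6,8] (BT.frc 0 [0,0] [3,10,4,4,9] (BT.frc 1 [0] [6,8,8,9,9] (BT.out 1 [0,0,0,0]))) (BT.kid 11233 [0,8,7,5] (BT.out 0 [0,0]) (BT.kid 5135 [0,8,7,6] (BT.out 0 [0,0]) (BT.kid 7310 [0,8,8,4] (BT.out 0 [0,0]) (BT.kid 75 [0,8,8,7] (BT.out 0 [0,0]) (BT.kid 6879 [0,8,8,8] (BT.out 0 [0,0]) (BT.kid 25450 [0,8,9,1] (BT.out 0 [0,0]) (BT.kid 24318 [0,8,9,3] (BT.out 0 [0,0]) (BT.kid 3219 [0,8,9,10] (BT.out 0 [0,0]) (BT.kid 8657 [0,8,10,4] (BT.out 0 [0,0]) (BT.kid 4029 [0,8,10,5] (BT.frc 0 [0,0] [3,3,5,11,4] (BT.frc 1 [0] [5,10,11,6,10,7] (BT.out 1 [0,0,0,0]))) (BT.kid 4027 [0,8,10,7] (BT.out 0 [0,0]) (BT.kid 12438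 [0,8,10,10] (BT.out 0 [0,0]) (BT.kid 19426 [0,8,11,1] (BT.out 0 [0,0]) (BT.kid 5847 [0,8,11,11] (BT.out 0 [0,0]) (BT.kid 30160 [0,9,0,2] (BT.out 0 [0,0]) (BT.kid 6665 [0,9,0,5] (BT.out 0 [0,0]) (BT.kid 497 [0,9,0,6] (BT.out 0 [0,0]) (BT.kid 12066 [0,9,0,8] (BT.out 0 [0,0]) (BT.kid 15006 [0,9,0,10] (BT.out 0 [0,0]) (BT.kid 11025 [0,9,0,11] (BT.out 0 [0,0]) (BT.kid 17498 [0,9,1,1] (BT.out 0 [0,0]) (BT.kid 28898 [0,9,1,4] (BT.out 0 [0,0]) (BT.kid 14521 [0,9,2,9] (BT.out 0 [0,0]) (BT.kid 2885 [0,9,2,10] (BT.out 0 [0,0]) (BT.kid 16967 [0,9,3,7] (BT.out 0 [0,0]) (BT.kid 11430 [0,9,3,8] (BT.out 0 [0,0]) (BT.kid 15420 [0,9,4,5] (BT.out 0 [0,0]) (BT.kid 28057 [0,9,4,6] (BT.out 0 [0,0]) (BT.kid 10362 [0,9,4,8] (BT.out 0 [0,0]) (BT.kid 21138 [0,9,5,2] (BT.out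 0 [0,0]) (BT.kid 30543 [0,9,5,6] (BT.out 0 [0,0]) (BT.kid 11338 [0,9,5,8] (BT.out 0 [0,0]) (BT.kid 27805 [0,9,6,6] (BT.out 0 [0,0]) (BT.kid 3415 [0,9,6,10] (BT.out 0 [0,0]) (BT.kid 31113 [0,9,7,1] (BT.out 0 [0,0]) (BT.kid 25514 [0,9,7,3] (BT.out 0 [0,0]) (BT.kid 29635 [0,9,7,4] (BT.frc 0 [0,0] [3,10,3,11,4] (BT.out 1 [0])) (BT.kid 8961 [0,9,7,5] (BT.out 0 [0,0]) (BT.kid 6253 [0,9,7,6] (BT.out 0 [0,0]) (BT.kid 13040 [0,9,7,8] (BT.out 0 [0,0]) (BT.kid 11376 [0,9,7,11] (BT.out 0 [0,0]) (BT.kid 27801 [0,9,8,1] (BT.out 0 [0,0]) (BT.kid 286 [0,9,8,2] (BT.out 0 [0,0]) (BT.kid 25324 [0,9,8,5] (BT.out 0 [0,0]) (BT.kid 8885 [0,9,8,8] (BT.out 0 [0,0]) (BT.kid 9122 [0,9,9,2] (BT.frc 0 [0,0] [4,8,9,4] (BT.frc 1 [0] [6,5,11,6,6,6] (BT.out 1 [0,0,0,0]))) (BT.kid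 14560 [0,9,9,5] (BT.out 0 [0,0]) (BT.kid 17133 [0,9,9,7] (BT.out 0 [0,0]) (BT.kid 12870 [0,9,9,11] (BT.frc 0 [0,0] [3,3,8,7,11] (BT.frc 1 [0] [5,5,7,10,5,8,9] (BT.out 1 [0,0,0,0]))) (BT.kid 19815 [0,9,10,2] (BT.frc 0 [0,0] [4,8,4,10] (BT.frc 1 [0] [6,6,6,8,9,9] (BT.frc 1 [0,0,0,0] [7,8,11,10,10,11] (BT.out 2 [0])))) (BT.kid 6738 [0,9,10,6] (BT.out 0 [0,0]) (BT.kid 6044 [0,9,10,7] (BT.out 0 [0,0]) (BT.kid 25652 [0,9,10,8] (BT.out 0 [0,0]) (BT.kid 8796 [0,9,11,1] (BT.out 0 [0,0]) (BT.kid 7067 [0,9,11,2] (BT.out 0 [0,0]) (BT.kid 27781 [0,9,11,4] (BT.out 0 [0,0]) (BT.kid 15125 [0,9,11,7] (BT.out 0 [0,0]) (BT.kid 3277 [0,9,11,11] (BT.out 0 [0,0]) (BT.kid 21824 [0,10,0,2] (BT.out 0 [0,0]) (BT.kid 6172 [0,10,0,5] (BT.out 0 [0,0]) (BT.kid 7975 [0,10,1,5]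 (BT.out 0 [0,0]) (BT.kid 20974 [0,10,1,6] (BT.frc 0 [0,0] [4,6,9,11,7] (BT.frc 1 [0] [5,7,10,9,11,7] (BT.out 1 [0,0,0,0]))) (BT.kid 12513 [0,10,1,8] (BT.out 0 [0,0]) (BT.kid 20183 [0,10,2,1] (BT.out 0 [0,0]) (BT.kid 6329 [0,10,2,5] (BT.out 0 [0,0]) (BT.kid 9272 [0,10,2,9] (BT.out 0 [0,0]) (BT.kid 27843 [0,10,3,7] (BT.out 0 [0,0]) (BT.kid 5080 [0,10,3,9] (BT.out 0 [0,0]) (BT.kid 4484 [0,10,3,11] (BT.out 0 [0,0]) (BT.kid 21932 [0,10,4,3] (BT.frc 0 [0,0] [3,3,4,5,9] (BT.frc 1 [0] [5,7,10,11,7,8] (BT.frc 1 [0,0,0,0] [7,8,7,9,10,11,8] (BT.out 2 [0])))) (BT.kid 30990 [0,10,4,10] (BT.out 0 [0,0]) (BT.kid 24505 [0,10,4,11] (BT.out 0 [0,0]) (BT.kid 6616 [0,10,5,1] (BT.out 0 [0,0]) (BT.kid 28520 [0,10,5,3] (BT.out 0 [0,0]) (BT.kid 30773 [0,10,5,7] (BT.out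 0 [0,0]) (BT.kid 6754 [0,10,5,8] (BT.out 0 [0,0]) (BT.kid 30641 [0,10,5,9] (BT.out 0 [0,0]) (BT.kid 7472 [0,10,5,10] (BT.out 0 [0,0]) (BT.kid 12430 [0,10,5,11] (BT.out 0 [0,0]) (BT.kid 9018 [0,10,6,7] (BT.out 0 [0,0]) (BT.kid 29190 [0,10,7,6] (BT.out 0 [0,0]) (BT.kid 1836 [0,10,7,7] (BT.out 0 [0,0]) (BT.kid 13618 [0,10,8,4] (BT.frc 0 [0,0] [4,8,9,3] (BT.frc 1 [0] [6,11,8,6,11,8] (BT.out 1 [0,0,0,0]))) (BT.kid 16295 [0,10,8,6] (BT.out 0 [0,0]) (BT.kid 13414 [0,10,8,8] (BT.frc 0 [0,0] [3,4,3,10,8] (BT.frc 1 [0] [6,9,5,6,6,7] (BT.out 1 [0,0,0,0]))) (BT.kid 26154 [0,10,8,9] (BT.out 0 [0,0]) (BT.kid 6890 [0,10,8,10] (BT.out 0 [0,0]) (BT.kid 20127 [0,10,8,11] (BT.out 0 [0,0]) (BT.kid 11557 [0,10,9,3] (BT.out 0 [0,0]) (BT.kid 12009 [0,10,9,4] (BT.out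 0 [0,0]) (BT.kid 19250 [0,10,9,8] (BT.out 0 [0,0]) (BT.kid 16026 [0,10,10,2] (BT.out 0 [0,0]) (BT.kid 30482 [0,10,10,4] (BT.out 0 [0,0]) (BT.kid 30591 [0,10,11,3] (BT.out 0 [0,0]) (BT.kid 20243 [0,10,11,11] (BT.out 0 [0,0]) (BT.kid 8804 [0,11,0,7] (BT.out 0 [0,0]) (BT.kid 22142 [0,11,1,2] (BT.frc 0 [0,0] [3,4,6,8,11] (BT.frc 1 [0] [5,6,7,8,11,8,8] (BT.frc 1 [0,0,0,0] [7,7,9,8,9,11,7,10] (BT.out 2 [0])))) (BT.kid 21129 [0,11,1,3] (BT.out 0 [0,0]) (BT.kid 26550 [0,11,1,4] (BT.out 0 [0,0]) (BT.kid 29717 [0,11,1,5] (BT.out 0 [0,0]) (BT.kid 25033 [0,11,1,6] (BT.out 0 [0,0]) (BT.kid 24510 [0,11,1,7] (BT.out 0 [0,0]) (BT.kid 10516 [0,11,1,9] (BT.frc 0 [0,0] [3,7,8,5,5] (BT.frc 1 [0] [5,8,8,5,6,11] (BT.frc 1 [0,0,0,0] [7,10,11,9,8,10,11] (BT.frc 2 [0]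 [9,9,10,9,10,11,9] (BT.nc 0 0))))) (BT.kid 14123 [0,11,1,10] (BT.out 0 [0,0]) (BT.kid 21870 [0,11,2,8] (BT.frc 0 [0,0] [3,6,6,11,10] (BT.frc 1 [0] [5,10,7,10,6,8] (BT.out 1 [0,0,0,0]))) (BT.kid 1084 [0,11,3,6] (BT.out 0 [0,0]) (BT.kid 21546 [0,11,3,9] (BT.out 0 [0,0]) (BT.kid 30810 [0,11,4,2] (BT.out 0 [0,0]) (BT.kid 6891 [0,11,4,4] (BT.out 0 [0,0]) (BT.kid 7792 [0,11,4,6] (BT.out 0 [0,0]) (BT.kid 1108 [0,11,4,11] (BT.out 0 [0,0]) (BT.kid 23847 [0,11,5,6] (BT.out 0 [0,0]) (BT.kid 29988 [0,11,5,7] (BT.frc 0 [0,0] [3,10,3,8,6] (BT.out 1 [0])) (BT.kid 31166 [0,11,6,10] (BT.out 0 [0,0]) (BT.kid 25902 [0,11,6,11] (BT.out 0 [0,0]) (BT.kid 30431 [0,11,7,1] (BT.out 0 [0,0]) (BT.kid 11409 [0,11,7,7] (BT.out 0 [0,0]) (BT.kid 25094 [0,11,7,8] (BT.out 0 [0,0])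 (BT.kid 28736 [0,11,8,2] (BT.out 0 [0,0]) (BT.kid 14636 [0,11,8,6] (BT.out 0 [0,0]) (BT.kid 28923 [0,11,8,8] (BT.out 0 [0,0]) (BT.kid 15024 [0,11,9,3] (BT.out 0 [0,0]) (BT.kid 12654 [0,11,9,8] (BT.out 0 [0,0]) (BT.kid 12856 [0,11,9,10] (BT.out 0 [0,0]) (BT.kid 17989 [0,11,10,5] (BT.out 0 [0,0]) (BT.kid 9767 [1,0,0,6] (BT.out 0 [0,0]) (BT.kid 25414 [1,0,0,10] (BT.frc 0 [0,0] [3,6,6,3,3] (BT.frc 1 [0] [5,7,7,5,10,8,11] (BT.frc 1 [0,0,0,0] [7,8,9,7,10,8,7] (BT.out 2 [0])))) (BT.kid 19811 [1,0,1,4] (BT.out 0 [0,0]) (BT.kid 14148 [1,0,1,9] (BT.frc 0 [0,0] [4,4,3,10,8] (BT.frc 1 [0] [5,5,11,8,5,8] (BT.out 1 [0,0,0,0]))) (BT.kid 26757 [1,0,2,5] (BT.out 0 [0,0]) (BT.kid 26708 [1,0,2,6] (BT.out 0 [0,0]) (BT.kid 11751 [1,0,2,7] (BT.out 0 [0,0]) (BT.kid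 18164 [1,0,3,1] (BT.out 0 [0,0]) (BT.kid 5986 [1,0,3,6] (BT.out 0 [0,0]) (BT.kid 23846 [1,0,3,10] (BT.out 0 [0,0]) (BT.kid 11966 [1,0,3,11] (BT.out 0 [0,0]) (BT.kid 24672 [1,0,4,3] (BT.out 0 [0,0]) (BT.kid 27449 [1,0,4,10] (BT.out 0 [0,0]) (BT.kid 21566 [1,0,5,5] (BT.out 0 [0,0]) (BT.kid 20529 [1,0,5,8] (BT.out 0 [0,0]) (BT.kid 8034 [1,0,5,9] (BT.frc 0 [0,0] [3,3,6,6,11] (BT.out 1 [0])) (BT.kid 25799 [1,0,5,11] (BT.out 0 [0,0]) (BT.kid 13301 [1,0,6,1] (BT.out 0 [0,0]) (BT.kid 29999 [1,0,6,2] (BT.out 0 [0,0]) (BT.kid 20600 [1,0,6,5] (BT.out 0 [0,0]) (BT.kid 18741 [1,0,6,8] (BT.out 0 [0,0]) (BT.kid 11173 [1,0,6,10] (BT.frc 0 [0,0] [3,5,6,11,3] (BT.frc 1 [0] [5,11,11,5,8,11] (BT.frc 1 [0,0,0,0] [7,8,8,7,10,11,7] (BT.out 2 [0])))) (BT.kid 16299 [1,0,6,11]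 (BT.out 0 [0,0]) (BT.kid 23516 [1,0,7,2] (BT.out 0 [0,0]) (BT.kid 9869 [1,0,7,9] (BT.out 0 [0,0]) (BT.kid 2122 [1,0,7,10] (BT.out 0 [0,0]) (BT.kid 31396 [1,0,8,2] (BT.out 0 [0,0]) (BT.kid 18812 [1,0,8,3] (BT.out 0 [0,0]) (BT.kid 30452 [1,0,8,5] (BT.out 0 [0,0]) (BT.kid 6968 [1,0,8,11] (BT.frc 0 [0,0] [3,9,9,4] (BT.frc 1 [0] [5,5,11,8,6,8] (BT.frc 1 [0,0,0,0] [7,9,10,10,8,10] (BT.out 2 [0])))) (BT.kid 20402 [1,0,9,3] (BT.out 0 [0,0]) (BT.kid 22499 [1,0,9,4] (BT.out 0 [0,0]) (BT.kid 19009 [1,0,9,6] (BT.out 0 [0,0]) (BT.kid 325 [1,0,10,10] (BT.out 0 [0,0]) (BT.kid 24138 [1,1,0,3] (BT.out 0 [0,0]) (BT.kid 5395 [1,1,0,7] (BT.frc 0 [0,0] [3,9,6,3,8] (BT.out 1 [0])) (BT.kid 30378 [1,1,0,8] (BT.out 0 [0,0]) (BT.kid 28495 [1,1,0,9] (BT.out 0 [0,0]) (BT.kid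 2756 [1,1,1,3] (BT.out 0 [0,0]) (BT.kid 26948 [1,1,2,5] (BT.out 0 [0,0]) (BT.kid 29350 [1,1,2,8] (BT.out 0 [0,0]) (BT.kid 27098 [1,1,2,10] (BT.out 0 [0,0]) (BT.kid 13478 [1,1,3,1] (BT.out 0 [0,0]) (BT.kid 13525 [1,1,3,5] (BT.out 0 [0,0]) (BT.kid 10279 [1,1,3,6] (BT.out 0 [0,0]) (BT.kid 24379 [1,1,4,2] (BT.out 0 [0,0]) (BT.kid 24635 [1,1,4,3] (BT.out 0 [0,0]) (BT.kid 17646 [1,1,4,7] (BT.out 0 [0,0]) (BT.kid 9336 [1,1,5,1] (BT.out 0 [0,0]) (BT.kid 25131 [1,1,5,5] (BT.out 0 [0,0]) (BT.kid 10558 [1,1,5,6] (BT.out 0 [0,0]) (BT.kid 25999 [1,1,5,9] (BT.out 0 [0,0]) (BT.kid 6927 [1,1,6,7] (BT.out 0 [0,0]) (BT.kid 17835 [1,1,7,10] (BT.out 0 [0,0]) (BT.kid 28583 [1,1,8,2] (BT.out 0 [0,0]) (BT.kid 14039 [1,2,3,4] (BT.out 0 [0,0]) (BT.kid 4956 [1,2,3,7] (BT.out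 0 [0,0]) (BT.kid 22093 [1,2,3,9] (BT.out 0 [0,0]) (BT.kid 28526 [1,2,3,11] (BT.out 0 [0,0]) (BT.kid 9813 [1,2,4,2] (BT.out 0 [0,0]) (BT.kid 22612 [1,2,4,3] (BT.out 0 [0,0]) (BT.kid 12865 [1,2,4,4] (BT.out 0 [0,0]) (BT.kid 22954 [1,2,4,6] (BT.out 0 [0,0]) (BT.kid 25494 [1,2,5,4] (BT.frc 0 [0,0] [3,5,6,9] (BT.frc 1 [0] [6,7,10,7,7,6] (BT.frc 1 [0,0,0,0] [8,9,9,8,8,9,9] (BT.out 2 [0])))) (BT.kid 29276 [1,2,6,7] (BT.out 0 [0,0]) (BT.kid 5158 [1,2,7,1] (BT.out 0 [0,0]) (BT.kid 23188 [1,2,7,7] (BT.out 0 [0,0]) (BT.kid 16408 [1,2,7,8] (BT.out 0 [0,0]) (BT.kid 31253 [1,2,7,10] (BT.frc 0 [0,0] [3,3,3,10,8,8] (BT.frc 1 [0] [5,8,5,8,5,9] (BT.out 1 [0,0,0,0]))) (BT.kid 9923 [1,2,8,8] (BT.out 0 [0,0]) (BT.kid 17324 [1,2,8,9] (BT.out 0 [0,0]) (BT.kid 28920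 [1,2,8,10] (BT.out 0 [0,0]) (BT.kid 10269 [1,2,9,1] (BT.out 0 [0,0]) (BT.kid 3615 [1,2,9,2] (BT.out 0 [0,0]) (BT.kid 23811 [1,2,9,3] (BT.out 0 [0,0]) (BT.kid 29289 [1,2,9,11] (BT.frc 0 [0,0] [3,7,8] (BT.frc 1 [0] [5,7,8,9,9,5,6] (BT.out 1 [0,0,0,0]))) (BT.kid 29070 [1,2,10,1] (BT.out 0 [0,0]) (BT.kid 14031 [1,2,10,5] (BT.out 0 [0,0]) (BT.kid 23311 [1,2,10,7] (BT.out 0 [0,0]) (BT.kid 25473 [1,2,11,4] (BT.out 0 [0,0]) (BT.kid 4463 [1,2,11,5] (BT.out 0 [0,0]) (BT.kid 21521 [1,2,11,8] (BT.out 0 [0,0]) (BT.kid 21000 [1,2,11,10] (BT.out 0 [0,0]) (BT.kid 29601 [1,3,0,3] (BT.out 0 [0,0]) (BT.kid 7580 [1,3,0,7] (BT.out 0 [0,0]) (BT.kid 18254 [1,3,0,9] (BT.out 0 [0,0]) (BT.kid 3288 [1,3,0,10] (BT.out 0 [0,0]) (BT.kid 2212 [1,3,1,2] (BT.out 0 [0,0]) (BT.kid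 9999 [1,3,1,7] (BT.out 0 [0,0]) (BT.kid 16880 [1,3,2,11] (BT.out 0 [0,0]) (BT.kid 11359 [1,3,3,2] (BT.out 0 [0,0]) (BT.kid 8438 [1,3,3,9] (BT.out 0 [0,0]) (BT.kid 27941 [1,3,4,1] (BT.out 0 [0,0]) (BT.kid 197 [1,3,5,3] (BT.frc 0 [0,0] [4,3,8,7,10] (BT.out 1 [0])) (BT.kid 7747 [1,3,5,9] (BT.out 0 [0,0]) (BT.kid 2835 [1,3,7,4] (BT.out 0 [0,0]) (BT.kid 7360 [1,3,9,6] (BT.out 0 [0,0]) (BT.kid 175 [1,3,9,8] (BT.out 0 [0,0]) (BT.kid 30548 [1,4,0,4] (BT.out 0 [0,0]) (BT.kid 19043 [1,4,0,7] (BT.out 0 [0,0]) (BT.kid 17319 [1,4,0,9] (BT.out 0 [0,0]) (BT.kid 13564 [1,4,0,10] (BT.out 0 [0,0]) (BT.kid 21155 [1,4,0,11] (BT.frc 0 [0,0] [4,5,7,11,8] (BT.frc 1 [0] [5,9,10,8,9,6] (BT.out 1 [0,0,0,0]))) (BT.kid 2251 [1,4,1,10] (BT.out 0 [0,0]) (BT.kid 29486 [1,4,2,6]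 (BT.out 0 [0,0]) (BT.kid 1671 [1,4,3,9] (BT.frc 0 [0,0] [3,3,6,8,5] (BT.out 1 [0])) (BT.kid 3761 [1,4,4,1] (BT.out 0 [0,0]) (BT.kid 12751 [1,4,4,8] (BT.out 0 [0,0]) (BT.kid 3433 [1,4,4,10] (BT.out 0 [0,0]) (BT.kid 5961 [1,4,7,5] (BT.out 0 [0,0]) (BT.kid 5099 [1,4,8,4] (BT.out 0 [0,0]) (BT.kid 2153 [1,4,8,5] (BT.frc 0 [0,0] [3,3,5,7,9] (BT.frc 1 [0] [5,8,7,5,11,10] (BT.frc 1 [0,0,0,0] [8,9,7,9,10,10,7] (BT.out 2 [0])))) (BT.kid 12212 [1,4,8,8] (BT.out 0 [0,0]) (BT.kid 15648 [1,4,9,2] (BT.out 0 [0,0]) (BT.kid 9093 [1,4,11,5] (BT.out 0 [0,0]) (BT.kid 22105 [1,4,11,6] (BT.out 0 [0,0]) (BT.kid 1919 [1,4,11,9] (BT.out 0 [0,0]) (BT.kid 24587 [1,5,0,3] (BT.out 0 [0,0]) (BT.kid 12516 [1,5,0,8] (BT.out 0 [0,0]) (BT.kid 4280 [1,5,1,8] (BT.out 0 [0,0]) (BT.kid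 5690 [1,5,1,11] (BT.out 0 [0,0]) (BT.kid 8746 [1,5,3,4] (BT.out 0 [0,0]) (BT.kid 711 [1,5,3,8] (BT.out 0 [0,0]) (BT.kid 6702 [1,5,3,10] (BT.out 0 [0,0]) (BT.kid 29563 [1,5,4,1] (BT.frc 0 [0,0] [4,4,4,4,5] (BT.frc 1 [0] [5,7,6,5] (BT.frc 1 [0,0,0,0] [7,9,7,8,11,10,8] (BT.out 2 [0])))) (BT.kid 15495 [1,5,5,5] (BT.frc 0 [0,0] [3,7,5,11,7] (BT.frc 1 [0] [5,9,10,7] (BT.frc 1 [0,0,0,0] [7,8,9,11,11,7,7] (BT.out 2 [0])))) (BT.kid 2418 [1,5,6,7] (BT.out 0 [0,0]) (BT.kid 1854 [1,5,6,9] (BT.out 0 [0,0]) (BT.kid 13061 [1,5,7,2] (BT.out 0 [0,0]) (BT.kid 4507 [1,5,9,2] (BT.out 0 [0,0]) (BT.kid 12798 [1,5,10,4] (BT.out 0 [0,0]) (BT.kid 14301 [1,5,10,8] (BT.out 0 [0,0]) (BT.kid 20171 [1,5,11,1] (BT.out 0 [0,0]) (BT.kid 30718 [1,5,11,2] (BT.out 0 [0,0]) (BT.kid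 7132 [1,5,11,3] (BT.out 0 [0,0]) (BT.kid 19267 [1,5,11,7] (BT.out 0 [0,0]) (BT.kid 5002 [1,5,11,8] (BT.out 0 [0,0]) (BT.kid 11473 [1,6,0,3] (BT.frc 0 [0,0] [3,7,11,3,11] (BT.frc 1 [0] [5,8,7,9,9] (BT.out 1 [0,0,0,0]))) (BT.kid 19655 [1,6,0,5] (BT.frc 0 [0,0] [3,8,3,3] (BT.frc 1 [0] [6,9,6,8,9,11] (BT.frc 1 [0,0,0,0] [7,11,9,8,11,10,7] (BT.out 2 [0])))) (BT.kid 14794 [1,6,0,11] (BT.out 0 [0,0]) (BT.kid 22522 [1,6,2,5] (BT.out 0 [0,0]) (BT.kid 16567 [1,6,3,9] (BT.out 0 [0,0]) (BT.kid 2838 [1,6,4,3] (BT.frc 0 [0,0] [3,3,10,3,10] (BT.out 1 [0])) (BT.kid 15421 [1,6,4,4] (BT.out 0 [0,0]) (BT.kid 10730 [1,6,4,8] (BT.frc 0 [0,0] [3,10,4,4,11] (BT.frc 1 [0] [5,8,10,9,11,5] (BT.out 1 [0,0,0,0]))) (BT.kid 9816 [1,6,6,5] (BT.out 0 [0,0]) (BT.kid 8753 [1,6,6,8]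 (BT.out 0 [0,0]) (BT.kid 6504 [1,6,7,8] (BT.out 0 [0,0]) (BT.kid 4361 [1,6,7,11] (BT.out 0 [0,0]) (BT.kid 6152 [1,6,9,2] (BT.out 0 [0,0]) (BT.kid 4964 [1,6,10,10] (BT.out 0 [0,0]) (BT.kid 3255 [1,6,10,11] (BT.frc 0 [0,0] [3,10,8,4] (BT.frc 1 [0] [6,7,11,8,10,5] (BT.out 1 [0,0,0,0]))) (BT.kid 13137 [1,6,11,7] (BT.out 0 [0,0]) (BT.kid 14271 [1,6,11,8] (BT.out 0 [0,0]) (BT.kid 21962 [1,7,0,7] (BT.out 0 [0,0]) (BT.kid 29419 [1,7,1,4] (BT.out 0 [0,0]) (BT.kid 10566 [1,7,1,11] (BT.out 0 [0,0]) (BT.kid 9714 [1,7,2,7] (BT.out 0 [0,0]) (BT.kid 9399 [1,7,3,3] (BT.frc 0 [0,0] [3,5,10,3,9] (BT.frc 1 [0] [6,8,6,5,5] (BT.out 1 [0,0,0,0]))) (BT.kid 10738 [1,7,4,1] (BT.out 0 [0,0]) (BT.kid 5293 [1,7,5,6] (BT.out 0 [0,0]) (BT.kid 10922 [1,7,5,11] (BT.out 0 [0,0])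 (BT.kid 9794 [1,7,6,5] (BT.out 0 [0,0]) (BT.kid 4848 [1,7,7,4] (BT.out 0 [0,0]) (BT.kid 8709 [1,7,7,7] (BT.frc 0 [0,0] [4,10,6,7,3] (BT.frc 1 [0] [6,5,8,7,9,10] (BT.out 1 [0,0,0,0]))) (BT.kid 16403 [1,7,7,9] (BT.out 0 [0,0]) (BT.kid 19280 [1,7,10,6] (BT.frc 0 [0,0] [4,5,10] (BT.frc 1 [0] [6,6,7,5,11,5] (BT.frc 1 [0,0,0,0] [7,8,10,8,7] (BT.out 2 [0])))) (BT.kid 15057 [1,7,10,7] (BT.out 0 [0,0]) (BT.kid 19191 [1,8,0,2] (BT.frc 0 [0,0] [4,7,6,6,10] (BT.frc 1 [0] [5,6,11,5,11,6,10] (BT.frc 1 [0,0,0,0] [8,8,10,11,8,11,8] (BT.out 2 [0])))) (BT.kid 459 [1,8,1,11] (BT.out 0 [0,0]) (BT.kid 22770 [1,8,2,4] (BT.out 0 [0,0]) (BT.kid 6636 [1,8,3,3] (BT.out 0 [0,0]) (BT.kid 18550 [1,8,3,8] (BT.out 0 [0,0]) (BT.kid 11494 [1,8,5,3] (BT.out 0 [0,0]) (BT.kid 9449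 [1,8,6,10] (BT.out 0 [0,0]) (BT.kid 6206 [1,8,7,5] (BT.out 0 [0,0]) (BT.kid 9248 [1,8,8,1] (BT.out 0 [0,0]) (BT.kid 13897 [1,8,8,7] (BT.out 0 [0,0]) (BT.kid 5208 [1,8,8,8] (BT.out 0 [0,0]) (BT.kid 23441 [1,8,10,2] (BT.frc 0 [0,0] [3,4,8,9,10] (BT.frc 1 [0] [5,7,8,6,9,9,5] (BT.out 1 [0,0,0,0]))) (BT.kid 19559 [1,8,10,7] (BT.out 0 [0,0]) (BT.kid 14648 [1,8,11,1] (BT.out 0 [0,0]) (BT.kid 23848 [1,8,11,2] (BT.frc 0 [0,0] [3,3,6,4,8] (BT.frc 1 [0] [5,7,10,11,7,6] (BT.out 1 [0,0,0,0]))) (BT.kid 16007 [1,9,0,7] (BT.out 0 [0,0]) (BT.kid 23310 [1,9,0,9] (BT.out 0 [0,0]) (BT.kid 18637 [1,9,0,10] (BT.out 0 [0,0]) (BT.kid 27721 [1,9,0,11] (BT.out 0 [0,0]) (BT.kid 7814 [1,9,2,6] (BT.out 0 [0,0]) (BT.kid 14467 [1,9,5,8] (BT.out 0 [0,0]) (BT.kid 14295 [1,9,5,9]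 (BT.out 0 [0,0]) (BT.kid 27129 [1,9,6,2] (BT.frc 0 [0,0] [3,3,5,5,6,8] (BT.frc 1 [0] [6,9,11,8,7,8] (BT.frc 1 [0,0,0,0] [7,8,7,11,11,7,11] (BT.out 2 [0])))) (BT.kid 12340 [1,9,7,6] (BT.out 0 [0,0]) (BT.kid 2378 [1,9,8,7] (BT.frc 0 [0,0] [4,4,11,4] (BT.frc 1 [0] [5,5,7,11,7,10,8] (BT.out 1 [0,0,0,0]))) (BT.kid 15987 [1,9,9,2] (BT.out 0 [0,0]) (BT.kid 1361 [1,9,9,3] (BT.out 0 [0,0]) (BT.kid 10221 [1,9,11,9] (BT.out 0 [0,0]) (BT.kid 8116 [1,10,0,2] (BT.frc 0 [0,0] [3,4,9,11] (BT.frc 1 [0] [6,7,8,8,8,8] (BT.out 1 [0,0,0,0]))) (BT.kid 801 [1,10,0,8] (BT.out 0 [0,0]) (BT.kid 17039 [1,10,0,9] (BT.out 0 [0,0]) (BT.kid 2804 [1,10,1,10] (BT.out 0 [0,0]) (BT.kid 21195 [1,10,2,9] (BT.out 0 [0,0]) (BT.kid 5541 [1,10,4,11] (BT.out 0 [0,0]) (BT.kid 4560 [1,10,5,8]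 (BT.out 0 [0,0]) (BT.kid 15472 [1,10,6,3] (BT.out 0 [0,0]) (BT.kid 9468 [1,10,7,10] (BT.out 0 [0,0]) (BT.kid 13211 [1,10,8,6] (BT.out 0 [0,0]) (BT.kid 4372 [1,10,10,4] (BT.out 0 [0,0]) (BT.kid 22480 [1,11,0,2] (BT.out 0 [0,0]) (BT.kid 26342 [1,11,2,8] (BT.out 0 [0,0]) (BT.kid 17673 [1,11,3,4] (BT.out 0 [0,0]) (BT.kid 5454 [2,0,1,7] (BT.out 0 [0,0]) (BT.kid 24095 [2,0,2,4] (BT.out 0 [0,0]) (BT.kid 9372 [2,0,2,9] (BT.out 0 [0,0]) (BT.kid 8596 [2,0,4,6] (BT.out 0 [0,0]) (BT.kid 27058 [2,0,4,10] (BT.out 0 [0,0]) (BT.kid 19527 [2,0,4,11] (BT.out 0 [0,0]) (BT.kid 26423 [2,0,5,11] (BT.frc 0 [0,0] [3,3,7,6,11,7] (BT.frc 1 [0] [5,5,7,9,7,6,10] (BT.out 1 [0,0,0,0]))) (BT.kid 27174 [2,0,7,1] (BT.frc 0 [0,0] [3,8,8,8] (BT.frc 1 [0] [5,9,9,10,7,10] (BT.frc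 1 [0,0,0,0] [7,7,11,7,7,9] (BT.out 2 [0])))) (BT.kid 24902 [2,0,8,1] (BT.frc 0 [0,0] [3,3,3,3] (BT.frc 1 [0] [5,5,6,6,9,6] (BT.frc 1 [0,0,0,0] [8,7,8,11,8,11,11] (BT.out 2 [0])))) (BT.kid 9729 [2,0,8,6] (BT.out 0 [0,0]) (BT.kid 30308 [2,0,8,8] (BT.out 0 [0,0]) (BT.kid 8965 [2,0,8,9] (BT.out 0 [0,0]) (BT.kid 23382 [2,0,10,3] (BT.out 0 [0,0]) (BT.kid 7506 [2,1,0,5] (BT.out 0 [0,0]) (BT.kid 27395 [2,1,1,1] (BT.out 0 [0,0]) (BT.kid 3832 [2,1,1,8] (BT.out 0 [0,0]) (BT.kid 23749 [2,1,1,10] (BT.out 0 [0,0]) (BT.kid 18498 [2,1,1,11] (BT.out 0 [0,0]) (BT.kid 18734 [2,1,2,4] (BT.out 0 [0,0]) (BT.kid 2346 [2,1,2,10] (BT.out 0 [0,0]) (BT.kid 6519 [2,1,5,6] (BT.out 0 [0,0]) (BT.kid 6708 [2,1,6,5] (BT.frc 0 [0,0] [3,4,8,6,10] (BT.frc 1 [0] [6,11,5,11,7,10]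 (BT.out 1 [0,0,0,0]))) (BT.kid 5029 [2,1,6,6] (BT.out 0 [0,0]) (BT.kid 11774 [2,1,7,6] (BT.out 0 [0,0]) (BT.kid 13590 [2,1,10,1] (BT.frc 0 [0,0] [3,3,4,11,3] (BT.frc 1 [0] [5,5,7,11,5,9,6] (BT.out 1 [0,0,0,0]))) (BT.kid 7066 [2,3,2,9] (BT.out 0 [0,0]) (BT.kid 13656 [2,3,2,10] (BT.out 0 [0,0]) (BT.kid 21703 [2,3,3,7] (BT.out 0 [0,0]) (BT.kid 31195 [2,3,3,11] (BT.out 0 [0,0]) (BT.kid 18104 [2,3,6,5] (BT.out 0 [0,0]) (BT.kid 16462 [2,3,6,6] (BT.out 0 [0,0]) (BT.kid 26475 [2,3,7,5] (BT.out 0 [0,0]) (BT.kid 25859 [2,3,7,6] (BT.out 0 [0,0]) (BT.kid 14488 [2,3,10,2] (BT.out 0 [0,0]) (BT.kid 27380 [2,4,0,6] (BT.out 0 [0,0]) (BT.kid 5864 [2,4,2,7] (BT.out 0 [0,0]) (BT.kid 23351 [2,4,2,9] (BT.frc 0 [0,0] [3,10,9,5] (BT.frc 1 [0] [5,5,5,5,8,7] (BT.out 1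 [0,0,0,0]))) (BT.kid 26749 [2,4,2,10] (BT.out 0 [0,0]) (BT.kid 29227 [2,4,3,3] (BT.out 0 [0,0]) (BT.kid 24876 [2,4,3,8] (BT.out 0 [0,0]) (BT.kid 23282 [2,4,5,8] (BT.out 0 [0,0]) (BT.kid 29972 [2,4,9,4] (BT.out 0 [0,0]) (BT.kid 21948 [2,4,11,11] (BT.out 0 [0,0]) (BT.kid 29280 [2,5,2,11] (BT.out 0 [0,0]) (BT.kid 3950 [2,5,3,3] (BT.frc 0 [0,0] [3,7,5,3,7] (BT.frc 1 [0] [5,6,8,9,7,5,10] (BT.frc 1 [0,0,0,0] [8,10,10,8] (BT.out 2 [0])))) (BT.kid 25510 [2,5,3,11] (BT.out 0 [0,0]) (BT.kid 4338 [2,5,4,3] (BT.out 0 [0,0]) (BT.kid 16445 [2,5,4,7] (BT.out 0 [0,0]) (BT.kid 24347 [2,5,8,5] (BT.out 0 [0,0]) (BT.kid 9858 [2,6,0,3] (BT.out 0 [0,0]) (BT.kid 18284 [2,6,0,11] (BT.out 0 [0,0]) (BT.kid 29430 [2,6,1,1] (BT.out 0 [0,0]) (BT.kid 11005 [2,6,6,3] (BT.out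 0 [0,0]) (BT.kid 26795 [2,6,6,9] (BT.out 0 [0,0]) (BT.kid 17467 [2,6,11,6] (BT.out 0 [0,0]) (BT.kid 25413 [2,7,0,10] (BT.out 0 [0,0]) (BT.kid 2081 [2,7,1,7] (BT.out 0 [0,0]) (BT.kid 24663 [2,7,6,2] (BT.out 0 [0,0]) (BT.kid 17185 [2,7,6,6] (BT.out 0 [0,0]) (BT.kid 13127 [2,7,6,11] (BT.out 0 [0,0]) (BT.kid 10288 [2,7,11,7] (BT.out 0 [0,0]) (BT.kid 2498 [2,7,11,11] (BT.out 0 [0,0]) (BT.kid 26321 [2,8,4,10] (BT.out 0 [0,0]) (BT.kid 21150 [2,8,5,8] (BT.out 0 [0,0]) (BT.kid 29541 [2,8,5,10] (BT.frc 0 [0,0] [4,11,4] (BT.frc 1 [0] [5,6,10,8,7,11] (BT.out 1 [0,0,0,0]))) (BT.kid 3386 [2,8,8,3] (BT.out 0 [0,0]) (BT.kid 5465 [2,8,8,10] (BT.out 0 [0,0]) (BT.kid 10918 [2,8,9,6] (BT.out 0 [0,0]) (BT.kid 28115 [2,9,3,9] (BT.out 0 [0,0]) (BT.kid 7145 [2,9,4,1]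 (BT.out 0 [0,0]) (BT.kid 18044 [2,9,7,6] (BT.out 0 [0,0]) (BT.kid 18015 [2,9,8,4] (BT.out 0 [0,0]) (BT.kid 6930 [2,10,0,2] (BT.out 0 [0,0]) (BT.kid 23632 [2,10,2,5] (BT.frc 0 [0,0] [4,7,4,11] (BT.frc 1 [0] [5,7,7,6,5,11,9] (BT.out 1 [0,0,0,0]))) (BT.kid 9516 [2,10,5,6] (BT.out 0 [0,0]) (BT.kid 3990 [2,10,7,2] (BT.out 0 [0,0]) (BT.kid 2567 [2,10,7,11] (BT.out 0 [0,0]) (BT.kid 31328 [2,10,8,10] (BT.out 0 [0,0]) (BT.kid 27313 [2,10,9,6] (BT.out 0 [0,0]) (BT.kid 17301 [2,10,11,8] (BT.out 0 [0,0]) (BT.kid 5671 [2,11,1,5] (BT.out 0 [0,0]) (BT.kid 29024 [2,11,4,3] (BT.out 0 [0,0]) (BT.kid 19534 [2,11,4,8] (BT.frc 0 [0,0] [3,3,3,11,10] (BT.frc 1 [0] [5,6,8,5,8,9] (BT.frc 1 [0,0,0,0] [7,7,7,9,9,8] (BT.out 2 [0])))) (BT.kid 19333 [0,0,0,9,3] (BT.out 0 [0,0])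 (BT.kid 20184 [0,0,2,1,9] (BT.out 0 [0,0]) (BT.kid 31318 [0,0,2,4,2] (BT.out 0 [0,0]) (BT.kid 23135 [0,0,2,4,9] (BT.out 0 [0,0]) (BT.kid 2986 [0,0,2,7,5] (BT.out 0 [0,0]) (BT.kid 27618 [0,0,2,9,11] (BT.out 0 [0,0]) (BT.kid 13339 [0,0,2,11,7] (BT.out 0 [0,0]) (BT.kid 30324 [0,0,2,11,10] (BT.out 0 [0,0]) (BT.kid 3976 [0,0,3,4,3] (BT.out 0 [0,0]) (BT.kid 8745 [0,0,3,10,8] (BT.out 0 [0,0]) (BT.kid 11461 [0,0,4,4,7] (BT.out 0 [0,0]) (BT.kid 26509 [0,0,4,5,2] (BT.out 0 [0,0]) (BT.kid 21733 [0,0,4,8,10] (BT.out 0 [0,0]) (BT.kid 21730 [0,0,4,8,11] (BT.out 0 [0,0]) (BT.kid 10254 [0,0,6,3,2] (BT.out 0 [0,0]) (BT.kid 7247 [0,0,6,6,7] (BT.out 0 [0,0]) (BT.kid 2833 [0,0,6,11,11] (BT.out 0 [0,0]) (BT.kid 19721 [0,0,7,0,4] (BT.out 0 [0,0]) (BT.kid 13633 [0,0,7,3,3]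 (BT.out 0 [0,0]) (BT.kid 25762 [0,0,8,0,5] (BT.frc 0 [0,0] [3,6,6,6,8] (BT.frc 1 [0] [5,5,5,10,7,6,5] (BT.out 1 [0,0,0,0]))) (BT.kid 10216 [0,0,8,10,10] (BT.out 0 [0,0]) (BT.kid 10934 [0,0,9,2,9] (BT.out 0 [0,0]) (BT.kid 12752 [0,0,9,9,3] (BT.out 0 [0,0]) (BT.kid 29322 [0,0,10,2,3] (BT.out 0 [0,0]) (BT.kid 20734 [0,0,10,5,3] (BT.frc 0 [0,0] [3,4,6,6,11] (BT.frc 1 [0] [5,5,6,6,5,11,8] (BT.frc 1 [0,0,0,0] [7,11,8,9,11,9,7] (BT.out 2 [0])))) (BT.kid 24833 [0,0,11,4,1] (BT.out 0 [0,0]) (BT.kid 13660 [0,0,11,4,4] (BT.out 0 [0,0]) (BT.kid 23281 [0,1,1,2,3] (BT.out 0 [0,0]) (BT.kid 18758 [0,1,4,4,5] (BT.out 0 [0,0]) (BT.kid 27183 [0,1,4,10,10] (BT.out 0 [0,0]) (BT.kid 13710 [0,1,6,0,5] (BT.out 0 [0,0]) (BT.kid 49 [0,1,6,7,10] (BT.out 0 [0,0]) (BT.kid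 23125 [0,1,7,1,1] (BT.out 0 [0,0]) (BT.kid 24123 [0,1,7,11,5] (BT.out 0 [0,0]) (BT.kid 9915 [0,1,8,7,2] (BT.out 0 [0,0]) (BT.kid 10839 [0,1,9,4,9] (BT.out 0 [0,0]) (BT.kid 11051 [0,1,9,5,4] (BT.out 0 [0,0]) (BT.kid 10455 [0,1,10,5,2] (BT.out 0 [0,0]) (BT.kid 8852 [0,1,11,6,3] (BT.out 0 [0,0]) (BT.kid 25695 [0,2,0,8,11] (BT.out 0 [0,0]) (BT.kid 17485 [0,2,4,7,11] (BT.out 0 [0,0]) (BT.kid 1802 [0,2,5,6,5] (BT.out 0 [0,0]) (BT.kid 31086 [0,2,5,10,11] (BT.out 0 [0,0]) (BT.kid 20056 [0,2,6,1,6] (BT.out 0 [0,0]) (BT.kid 9612 [0,2,9,3,11] (BT.frc 0 [0,0] [3,4,5,11,11] (BT.frc 1 [0] [5,5,5,7,6,6,5] (BT.frc 1 [0,0,0,0] [7,8,7,10,7,11] (BT.out 2 [0])))) (BT.kid 6852 [0,2,9,6,3] (BT.out 0 [0,0]) (BT.kid 21367 [0,4,8,5,9] (BT.out 0 [0,0]) BT.nil)))))))))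)))))))))))))))))))))))))))))))))))))))))))))))))))))))))))))))))))))))))))))))))))))))))))))))))))))))))))))))))))))))))))))))))))))))))))))))))))))))))))))))))))))))))))))))))))))))))))))))))))))))))))))))))))))))))))))))))))))))))))))))))))))))))))))))))))))))))))))))))))))))))))))))))))))))))))))))))))))))))))))))))))))))))))))))))))))))))))))))))))))))))))))))))))))))))))))))))))))))))))))))))))))))))))))))))))))))))))))))))))))))))))))))))))))))))))))))))))))))))))))))))))))))))))))))))))))))))))))))))))))))))))))))))))))))))))))))))))))))))))))))))))))))))))))))))))))))))))))))))))))))))))))))))))))))))))))))))))))))))))))))))))))))))))))))))))))))))))))))))))))))))))))))))))))))))))))))))))))))))))))))))))))))))))))))))))))))))))))))))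))))))))))))))))))))))))))))))))))))))))))))))))))))))))))))))))))))))))))))))))))))))))))))))))))))))))))))))))))))))))))))))))))))))))))))))))))))))))))))))))))))))))))))))))))))))))))))))))))))))))))))))))))))))))))))))))))))))))))))))))))))))))))))))))))))))))))))))))))))))))))))))))))))))))))))))))))))))))))))))))))))))))))))))))))))))))))))))))))))))))))))))))))))))))))))))))))))))))))))))))))))))))))))))))))))))))))))))))))))))))))))))))))))))))))))))))))))))))))))))))))))))))))))))))))))))))))))))))))))))))))))))))))))))))))))))))))))))))))))))))))))))))))))))))))))))))))))))))))))))))))))))))))))))))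
theorem cm610049 : (spA 31671 x610047s fAFi23).Clm Spor.Fi23 (finX 31671) false 0 chAFi230 [] [] := SP.Clm.ofN (T := cm610049T) (by decide +kernel)
noncomputable def cm610050T : BT := (BT.br [[0],[1],[2]] (BT.kid 10289 [] (BT.br [] (BT.kid 5866 [] (BT.br [[0],[1],[2]] (BT.kid 2 [] (BT.frc 0 [1,1,1] [] (BT.frc 1 [1] [] (BT.frc 1 [1] [] (BT.frc 1 [1] [] (BT.br [[2,1,0,0,0],[1,1,1,1,1,0,0]] (BT.kid 17 [] (BT.br [[1,1,1,1,1,0,0]] (BT.kid 0 [] BT.live BT.nil)) BT.nil)))))) (BT.kid 30410 [13] (BT.out 0 [1,1,1]) (BT.kid 8101 [1,13] (BT.out 0 [1,1,1]) (BT.kid 6370 [1,14] (BT.frc 0 [1,1,1] [15,17,15,16] (BT.frc 1 [1] [16,16,18,19] (BT.frc 1 [1] [19,23] (BT.out 1 [1])))) (BT.kid 30697 [1,15] (BT.out 0 [1,1,1]) (BT.kid 28487 [1,16] (BT.frc 0 [1,1,1] [14,17,16]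 (BT.frc 1 [1] [16,19,16,16,17] (BT.frc 1 [1] [18,20] (BT.out 1 [1])))) (BT.kid 1539 [1,17] (BT.out 0 [1,1,1]) (BT.kid 15284 [1,18] (BT.out 0 [1,1,1]) (BT.kid 11210 [1,19] (BT.frc 0 [1,1,1] [14,19,15,17] (BT.frc 1 [1] [16,17,19,16] (BT.out 1 [1]))) (BT.kid 30612 [1,20] (BT.out 0 [1,1,1]) (BT.kid 30909 [1,23] (BT.out 0 [1,1,1]) (BT.kid 18601 [13,13] (BT.frc 0 [1,1,1] [14,18,21] (BT.frc 1 [1] [16,16,17,19,23] (BT.frc 1 [1] [18] (BT.frc 1 [1] [] (BT.br [[2,1,0,0,0],[1,1,1,1,1,0,0]] (BT.kid 18737 [] (BT.br [[1,1,1,1,1,0,0]] (BT.kid 8211 [] (BT.nc 1 2) BT.nil)) BT.nil)))))) (BT.kid 29133 [13,14] (BT.out 0 [1,1,1]) (BT.kid 25534 [13,15] (BT.out 0 [1,1,1]) (BT.kid 7701 [13,17] (BT.out 0 [1,1,1]) (BT.kid 29569 [13,18] (BT.out 0 [1,1,1]) (BT.kid 27643 [13,19]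 (BT.out 0 [1,1,1]) (BT.kid 26217 [13,20] (BT.out 0 [1,1,1]) (BT.kid 23419 [1,1,13] (BT.out 0 [1,1,1]) (BT.kid 9211 [1,1,14] (BT.out 0 [1,1,1]) (BT.kid 30893 [1,1,15] (BT.out 0 [1,1,1]) (BT.kid 8071 [1,1,17] (BT.frc 0 [1,1,1] [14,16] (BT.out 1 [1])) (BT.kid 17342 [1,1,18] (BT.out 0 [1,1,1]) (BT.kid 23364 [1,1,19] (BT.out 0 [1,1,1]) (BT.kid 28614 [1,1,21] (BT.out 0 [1,1,1]) (BT.kid 6510 [1,13,13] (BT.out 0 [1,1,1]) (BT.kid 15129 [1,13,15] (BT.out 0 [1,1,1]) (BT.kid 21460 [1,13,16] (BT.out 0 [1,1,1]) (BT.kid 21976 [1,13,18] (BT.out 0 [1,1,1]) (BT.kid 9725 [1,13,19] (BT.out 0 [1,1,1]) (BT.kid 7095 [1,13,21] (BT.out 0 [1,1,1]) (BT.kid 30845 [1,13,23] (BT.out 0 [1,1,1]) (BT.kid 23410 [1,14,19] (BT.out 0 [1,1,1]) (BT.kid 23091 [1,14,20] (BT.out 0 [1,1,1])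 (BT.kid 13882 [1,14,21] (BT.out 0 [1,1,1]) (BT.kid 6610 [1,15,13] (BT.frc 0 [1,1,1] [14,14,19,15] (BT.frc 1 [1] [17,18,16,23] (BT.frc 1 [1] [19,18] (BT.out 1 [1])))) (BT.kid 26136 [1,15,14] (BT.out 0 [1,1,1]) (BT.kid 24080 [1,15,17] (BT.frc 0 [1,1,1] [15,18,17] (BT.out 1 [1])) (BT.kid 8515 [1,15,21] (BT.out 0 [1,1,1]) (BT.kid 9634 [1,16,18] (BT.out 0 [1,1,1]) (BT.kid 4755 [1,16,21] (BT.out 0 [1,1,1]) (BT.kid 9184 [1,17,14] (BT.out 0 [1,1,1]) (BT.kid 12331 [1,17,21] (BT.frc 0 [1,1,1] [14] (BT.frc 1 [1] [17,21,17,16] (BT.out 1 [1]))) (BT.kid 10667 [1,18,13] (BT.out 0 [1,1,1]) (BT.kid 4484 [1,18,16] (BT.frc 0 [1,1,1] [15,16,19,17] (BT.frc 1 [1] [17,17,17,16] (BT.frc 1 [1] [19,23,18] (BT.frc 1 [1] [23] (BT.br [[2,1,0,0,0],[1,1,1,1,1,0,0]] (BT.kid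 10562 [] (BT.br [[1,1,1,1,1,0,0]] (BT.kid 27230 [] (BT.nc 1 2) BT.nil)) BT.nil)))))) (BT.kid 6014 [1,18,19] (BT.frc 0 [1,1,1] [14,15,15,18] (BT.frc 1 [1] [16,16,17,20,18] (BT.frc 1 [1] [20,18,20] (BT.frc 1 [1] [21,23] (BT.br [[2,1,0,0,0],[1,1,1,1,1,0,0]] (BT.kid 25033 [] (BT.br [[1,1,1,1,1,0,0]] (BT.kid 16232 [] (BT.nc 1 2) BT.nil)) BT.nil)))))) (BT.kid 7166 [1,19,15] (BT.out 0 [1,1,1]) (BT.kid 20087 [1,19,19] (BT.out 0 [1,1,1]) (BT.kid 5921 [1,19,23] (BT.out 0 [1,1,1]) (BT.kid 738 [1,23,20] (BT.frc 0 [1,1,1] [15,16,19] (BT.frc 1 [1] [17,16,16,18] (BT.frc 1 [1] [18,19,19,21] (BT.frc 1 [1] [23] (BT.br [[2,1,0,0,0],[1,1,1,1,1,0,0]] (BT.kid 16788 [] (BT.br [[1,1,1,1,1,0,0]] (BT.kid 16496 [] (BT.nc 1 5106) BT.nil)) BT.nil)))))) (BT.kid 9839 [1,23,21]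 (BT.frc 0 [1,1,1] [15,14,14,15] (BT.frc 1 [1] [16,18,16,17] (BT.frc 1 [1] [18,20,21] (BT.frc 1 [1] [21] (BT.br [[2,1,0,0,0],[1,1,1,1,1,0,0]] (BT.kid 28273 [] (BT.br [[1,1,1,1,1,0,0]] (BT.kid 18669 [] (BT.nc 1 2) BT.nil)) BT.nil)))))) (BT.kid 2851 [13,13,13] (BT.out 0 [1,1,1]) (BT.kid 3660 [13,13,15] (BT.out 0 [1,1,1]) (BT.kid 20697 [13,13,16] (BT.frc 0 [1,1,1] [15,16,23,19] (BT.frc 1 [1] [17,19,18,16] (BT.out 1 [1]))) (BT.kid 17619 [13,13,17] (BT.out 0 [1,1,1]) (BT.kid 6492 [13,13,18] (BT.out 0 [1,1,1]) (BT.kid 3541 [13,13,19] (BT.out 0 [1,1,1]) (BT.kid 21586 [13,17,15] (BT.out 0 [1,1,1]) (BT.kid 24164 [13,20,13] (BT.out 0 [1,1,1]) (BT.kid 24323 [1,1,16,15] (BT.out 0 [1,1,1]) (BT.kid 28624 [1,1,16,17] (BT.frc 0 [1,1,1] [14,16,17,21] (BT.frc 1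 [1] [17,18,16,23,17] (BT.frc 1 [1] [18,20,18,19] (BT.frc 1 [1] [23,21] (BT.br [[2,1,0,0,0],[1,1,1,1,1,0,0]] (BT.kid 19139 [] (BT.br [[1,1,1,1,1,0,0]] (BT.kid 3030 [] (BT.nc 1 2) BT.nil)) BT.nil)))))) (BT.kid 19701 [1,1,16,19] (BT.out 0 [1,1,1]) (BT.kid 13951 [1,1,21,19] (BT.out 0 [1,1,1]) BT.nil)))))))))))))))))))))))))))))))))))))))))))))))))))))))))))))))) BT.nil)) (BT.kid 5866 [2] (BT.br [] (BT.kid 10289 [] (BT.br [[0],[1],[2]] (BT.kid 6135 [] (BT.frc 0 [1,1,1] [14,16,19,17] (BT.frc 1 [1] [16,16,19,19,19] (BT.out 1 [1]))) (BT.kid 16799 [13] (BT.out 0 [1,1,1]) (BT.kid 4925 [1,13] (BT.out 0 [1,1,1]) (BT.kid 14576 [1,14] (BT.frc 0 [1,1,1] [14,19,15,23] (BT.frc 1 [1] [16,19,16,17] (BT.out 1 [1]))) (BT.kid 18524 [1,15] (BT.out 0 [1,1,1]) (BT.kid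 19526 [1,16] (BT.frc 0 [1,1,1] [14,14,15,16] (BT.frc 1 [1] [17,20,18] (BT.out 1 [1]))) (BT.kid 26668 [1,17] (BT.out 0 [1,1,1]) (BT.kid 7329 [1,18] (BT.out 0 [1,1,1]) (BT.kid 30500 [1,19] (BT.frc 0 [1,1,1] [14,18,17] (BT.frc 1 [1] [16,16,20,17] (BT.out 1 [1]))) (BT.kid 11036 [1,20] (BT.out 0 [1,1,1]) (BT.kid 17057 [1,23] (BT.out 0 [1,1,1]) (BT.kid 18601 [13,13] (BT.frc 0 [1,1,1] [14,15,18,19] (BT.frc 1 [1] [17,19,19,16,16] (BT.out 1 [1]))) (BT.kid 29134 [13,14] (BT.out 0 [1,1,1]) (BT.kid 16181 [13,15] (BT.out 0 [1,1,1]) (BT.kid 17185 [13,17] (BT.out 0 [1,1,1]) (BT.kid 25512 [13,18] (BT.out 0 [1,1,1]) (BT.kid 31369 [13,19] (BT.out 0 [1,1,1]) (BT.kid 31533 [13,20] (BT.out 0 [1,1,1]) (BT.kid 15907 [1,1,13] (BT.out 0 [1,1,1]) (BT.kid 15949 [1,1,14]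 (BT.out 0 [1,1,1]) (BT.kid 27472 [1,1,15] (BT.out 0 [1,1,1]) (BT.kid 8071 [1,1,17] (BT.frc 0 [1,1,1] [14,15,15] (BT.out 1 [1])) (BT.kid 1245 [1,1,18] (BT.out 0 [1,1,1]) (BT.kid 19303 [1,1,19] (BT.out 0 [1,1,1]) (BT.kid 25913 [1,1,21] (BT.out 0 [1,1,1]) (BT.kid 6510 [1,13,13] (BT.out 0 [1,1,1]) (BT.kid 6492 [1,13,15] (BT.out 0 [1,1,1]) (BT.kid 7630 [1,13,16] (BT.out 0 [1,1,1]) (BT.kid 11178 [1,13,18] (BT.out 0 [1,1,1]) (BT.kid 12971 [1,13,19] (BT.out 0 [1,1,1]) (BT.kid 22688 [1,13,21] (BT.out 0 [1,1,1]) (BT.kid 9184 [1,13,23] (BT.out 0 [1,1,1]) (BT.kid 18696 [1,14,19] (BT.out 0 [1,1,1]) (BT.kid 25277 [1,14,20] (BT.out 0 [1,1,1]) (BT.kid 30715 [1,14,21] (BT.out 0 [1,1,1]) (BT.kid 25932 [1,15,13] (BT.frc 0 [1,1,1] [14,18,20,14] (BT.frc 1 [1] [17,19,18,16]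 (BT.out 1 [1]))) (BT.kid 19317 [1,15,14] (BT.out 0 [1,1,1]) (BT.kid 5333 [1,15,17] (BT.frc 0 [1,1,1] [14,14,14,14] (BT.out 1 [1])) (BT.kid 4569 [1,15,21] (BT.out 0 [1,1,1]) (BT.kid 10945 [1,16,18] (BT.out 0 [1,1,1]) (BT.kid 28628 [1,16,21] (BT.out 0 [1,1,1]) (BT.kid 30845 [1,17,14] (BT.out 0 [1,1,1]) (BT.kid 29019 [1,17,21] (BT.frc 0 [1,1,1] [15,16,23,18] (BT.frc 1 [1] [17,20,17,16] (BT.out 1 [1]))) (BT.kid 10170 [1,18,13] (BT.out 0 [1,1,1]) (BT.kid 13946 [1,18,16] (BT.frc 0 [1,1,1] [14,16,17] (BT.frc 1 [1] [16,18,23,20] (BT.out 1 [1]))) (BT.kid 3397 [1,18,19] (BT.frc 0 [1,1,1] [14,15,14] (BT.frc 1 [1] [17,19,16,19] (BT.out 1 [1]))) (BT.kid 11118 [1,19,15] (BT.out 0 [1,1,1]) (BT.kid 27111 [1,19,19] (BT.out 0 [1,1,1]) (BT.kid 30706 [1,19,23] (BT.out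 0 [1,1,1]) (BT.kid 28624 [1,23,20] (BT.frc 0 [1,1,1] [14,14,17,23] (BT.frc 1 [1] [17,18,17,20] (BT.out 1 [1]))) (BT.kid 29139 [1,23,21] (BT.frc 0 [1,1,1] [15,19,15] (BT.frc 1 [1] [16,18,16,21,17] (BT.out 1 [1]))) (BT.kid 27938 [13,13,13] (BT.out 0 [1,1,1]) (BT.kid 17528 [13,13,15] (BT.out 0 [1,1,1]) (BT.kid 13396 [13,13,16] (BT.frc 0 [1,1,1] [15,17,18] (BT.frc 1 [1] [16,16,23,21] (BT.out 1 [1]))) (BT.kid 17558 [13,13,17] (BT.out 0 [1,1,1]) (BT.kid 15129 [13,13,18] (BT.out 0 [1,1,1]) (BT.kid 27389 [13,13,19] (BT.out 0 [1,1,1]) (BT.kid 10271 [13,17,15] (BT.out 0 [1,1,1]) (BT.kid 18917 [13,20,13] (BT.out 0 [1,1,1]) (BT.kid 23807 [1,1,16,15] (BT.out 0 [1,1,1]) (BT.kid 738 [1,1,16,17] (BT.frc 0 [1,1,1] [15,14,14,20] (BT.frc 1 [1] [16,17,16,19,19] (BT.out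 1 [1]))) (BT.kid 5437 [1,1,16,19] (BT.out 0 [1,1,1]) (BT.kid 2330 [1,1,21,19] (BT.out 0 [1,1,1]) BT.nil)))))))))))))))))))))))))))))))))))))))))))))))))))))))))))))))) BT.nil)) BT.nil)))
theorem cm610050 : (spB 31671 x610047s cwFi23 fBFi23).Clm Spor.Fi23 (finX 31671) false 0 chBFi230 [] [] := SP.Clm.ofN (T := cm610050T) (by decide +kernel)

end Cfsg.Agent.H6.Fi
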