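import Cfsg.Agent.H6.OFi23x3
set_option maxRecDepth 100000
set_option Elab.async false
namespace Cfsg.Agent.H6.Fi
open Cfsg.Agent.H6
universe u

noncomputable def tlFi23 : List (List ℕ) := [[],[1],[25],[26],[1,1],[25,1],[26,1],[25,25],[26,25],[1,1,1],[25,1,1],[26,1,1],[25,25,1],[26,25,1],[25,25,25],[26,25,25],[1,1,1,1],[25,1,1,1],[26,1,1,1],[25,25,1,1],[26,25,1,1],[25,25,25,1],[26,25,25,1],[25,25,25,25],[26,25,25,25],[25,1,1,1,1],[26,1,1,1,1],[26,25,1,1,1],[25,25,25,1,1],[26,25,25,1,1],[25,25,25,25,1],[26,25,25,25,1],[25,25,25,25,25],[26,25,25,25,25],[26,25,1,1,1,1],[25,25,25,25,1,1],[26,25,25,25,1,1],[25,25,25,25,25,1],[26,25,25,25,25,1],[26,25,25,25,25,25],[25,25,25,25,25,1,1],[26,25,25,25,25,1,1],[26,25,25,25,25,25,1],[26,25,25,25,25,25,1,1]]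
noncomputable def orelsFi23 : List (List ℕ × ℕ) := [([0,0,0,2,1],9),([0,0,0,2],13),([1,1,1,1,0,2,1,0,2,0,1,2,2,1,0,2],26)]
theorem ex610051 : exRow 31671 x610047s orelsFi23 1 [] 5 tlFi23 [(0,10289),(0,10289),(0,10289),(0,10289),(0,10289),(0,10289),(0,10289),(0,10289),(0,10289),(0,10289),(0,10289),(0,10289),(0,10289),(0,10289),(0,10289),(0,10289),(0,10289),(0,10289),(0,10289),(2,10289),(0,10289),(0,10289),(0,10289),(0,10289),(0,10289),(0,10289),(0,10289),(0,10289),(0,10289),(0,10289),(0,10289),(0,10289),(1,10289),(0,10289),(0,10289),(0,10289),(0,10289),(0,10289),(0,10289),(1,10289),(0,10289),(0,10289),(0,10289),(0,10289)] = true := by decide +kernel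
theorem ex610052 : exRow 31671 x610047s orelsFi23 1 [] 1 tlFi23 [(0,0),(0,10289),(0,10289),(0,10289),(0,10289),(0,10289),(0,10289),(0,10289),(0,10289),(0,10289),(0,10289),(0,10289),(0,10289),(0,10289),(0,10289),(0,10289),(0,10289),(0,10289),(0,10289),(0,10289),(0,10289),(0,10289),(0,10289),(0,10289),(0,10289),(0,10289),(0,10289),(0,10289),(0,10289),(0,10289),(0,10289),(0,10289),(0,10289),(0,10289),(0,10289),(0,10289),(0,10289),(0,10289),(1,10289),(0,10289),(0,10289),(0,10289),(1,10289),(0,10289)] = true := by decide +kernel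
theorem oh2Fi23 : relC 31671 naFi23 x610047s chBFi230 23 2 10 0 cwFi23 orelsFi23 = true := by decide +kernel
theorem oh3Fi23 : tabC x610047s chBFi230 cwFi23 tlFi23 [[1,4,5,6,9,10,11,12,13,16,17,18,19,20,21,22,23,25,26,0,27,28,29,30,31,32,33,34,2,3,35,36,37,38,39,7,8,40,41,42,14,15,43,24],[2,5,7,8,10,12,13,14,15,17,19,20,21,22,23,24,25,0,27,28,29,30,31,32,33,1,34,3,35,36,37,38,4,39,6,40,41,9,42,11,16,43,18,26],[3,6,8,7,11,13,12,15,14,18,20,19,22,21,24,23,26,27,0,29,28,31,30,33,32,34,1,2,36,35,38,37,39,4,5,41,40,42,9,10,43,16,17,25]] = true := by decide +kernel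
theorem odFi23 : OutD Spor.Fi23 31671 (finX 31671) x610047s (dG gFi23 waFi23) chBFi230 tlFi23 1 [] := OutD.of om0Fi23 cardFi23 der610048 chAFi23ok0 chBFi23ok0 fAokFi23 fBokFi23 cm610049 cm610050 (by norm_num) (ks := [1,5]) (by decide +kernel) oh2Fi23 oh3Fi23 (List.forall_mem_cons.2 ⟨⟨_, ex610052⟩, (List.forall_mem_cons.2 ⟨⟨_, ex610051⟩, (by simp)⟩)⟩)
theorem outFi23 : Nat.card (Out Spor.Fi23) = 1 := odFi23.one

end Cfsg.Agent.H6.Fi
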