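import Cfsg.Agent.H6.SMat10
import Cfsg.Agent.H6.Out2
set_option maxRecDepth 100000
set_option Elab.async false
namespace Cfsg.Agent.H6.SMat
open Cfsg.Agent.H6
universe u

noncomputable def wa11 : List (List ℕ) := [[1],[2,2,0,0],[0,3,4,0,3,4,0,0,0]]
noncomputable def na110 : Net := (Net.cons (nat_lit 12) (nat_lit 1934)
  (Net.cons (nat_lit 6) (nat_lit 0x2501c)
  (Net.cons (nat_lit 3) (nat_lit 0x1430c6)
  (Net.cons (nat_lit 1) (nat_lit 0x200048)
  (Net.cons (nat_lit 1) (nat_lit 0x480492)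
  (Net.cons (nat_lit 1) (nat_lit 0x201208)
  (Net.cons (nat_lit 3) (nat_lit 0x100106)
  (Net.cons (nat_lit 6) (nat_lit 0x20010)
  (Net.cons (nat_lit 12) (nat_lit 828)
  Net.nil)))))))))
noncomputable def na111 : Net := (Net.cons (nat_lit 12) (nat_lit 700)
  (Net.cons (nat_lit 6) (nat_lit 0x24000)
  (Net.cons (nat_lit 3) (nat_lit 0x82100)
  (Net.cons (nat_lit 1) (nat_lit 0x201200)
  (Net.cons (nat_lit 1) (nat_lit 0x482480)
  (Net.cons (nat_lit 1) (nat_lit 0x248200)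
  (Net.cons (nat_lit 3) (nat_lit 0x100180)
  (Net.cons (nat_lit 6) (nat_lit 0x2e028)
  (Net.cons (nat_lit 12) (nat_lit 836)
  Net.nil)))))))))
noncomputable def na112 : Net := (Net.cons (nat_lit 12) (nat_lit 2684)
  (Net.cons (nat_lit 6) (nat_lit 0x21024)
  (Net.cons (nat_lit 3) (nat_lit 0x147104)
  (Net.cons (nat_lit 1) (nat_lit 0x208008)
  (Net.cons (nat_lit 1) (nat_lit 0x490010)
  (Net.cons (nat_lit 1) (nat_lit 512)
  (Net.cons (nat_lit 3) (nat_lit 0x106000)
  (Net.cons (nat_lit 6) (nat_lit 32768)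
  (Net.cons (nat_lit 12) (nat_lit 3060)
  Net.nil)))))))))
noncomputable def na11l : List Net := [na110,na111,na112]
noncomputable abbrev na11 : ℕ → Net := lk Net.nil na11l
theorem om011 : IsModel 24 pt (dG g11 wa11) na11 vT := model11.dG (k := 5) (by decide +kernel)
theorem od011 : Der 24 pt (cl (dG g11 wa11) (lw [0, 1, 2])) (resN na11 [0, 1, 2]) := Der.letters om011 _
noncomputable def x5001 : Net := (Net.cons (nat_lit 12) (nat_lit 2064)
  (Net.cons (nat_lit 6) (nat_lit 8196)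
  (Net.cons (nat_lit 3) (nat_lit 0x1430c4)
  (Net.cons (nat_lit 1) (nat_lit 0x40000)
  (Net.cons (nat_lit 1) (nat_lit 0x480010)
  (Net.cons (nat_lit 1) (nat_lit 0x209000)
  (Net.cons (nat_lit 3) (nat_lit 0x80004)
  (Net.cons (nat_lit 6) (nat_lit 8196)
  (Net.cons (nat_lit 12) (nat_lit 2064)
  Net.nil)))))))))
noncomputable def x5001s : ℕ → Net := upd (resN na11 [0, 1, 2]) 3 x5001
theorem der5002 : Der 24 pt (cl (dG g11 wa11) (lw [0, 1, 2])) x5001s := od011.ext (k := 5) (w := [2,0,1,1,1,0,0,2]) 3 (by decide +kernel)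
noncomputable def x5003 : Net := (Net.cons (nat_lit 12) (nat_lit 3486)
  (Net.cons (nat_lit 6) (nat_lit 0x2500e)
  (Net.cons (nat_lit 3) (nat_lit 0x41002)
  (Net.cons (nat_lit 1) (nat_lit 0x41000)
  (Net.cons (nat_lit 1) (nat_lit 0x482090)
  (Net.cons (nat_lit 1) (nat_lit 0x49008)
  (Net.cons (nat_lit 3) (nat_lit 0x80000)
  (Net.cons (nat_lit 6) (nat_lit 8)
  (Net.cons (nat_lit 12) (nat_lit 2782)
  Net.nil)))))))))
noncomputable def x5003s : ℕ → Net := upd x5001s 4 x5003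
theorem der5004 : Der 24 pt (cl (dG g11 wa11) (lw [0, 1, 2])) x5003s := der5002.ext (k := 5) (w := [0,0,1,0,3,0,0]) 4 (by decide +kernel)
noncomputable def x5005 : Net := (Net.cons (nat_lit 12) (nat_lit 1968)
  (Net.cons (nat_lit 6) (nat_lit 65572)
  (Net.cons (nat_lit 3) (nat_lit 0x140080)
  (Net.cons (nat_lit 1) (nat_lit 32832)
  (Net.cons (nat_lit 1) (nat_lit 0x410080)
  (Net.cons (nat_lit 1) (nat_lit 33352)
  (Net.cons (nat_lit 3) (nat_lit 0x100080)
  (Net.cons (nat_lit 6) (nat_lit 65540)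
  (Net.cons (nat_lit 12) (nat_lit 944)
  Net.nil)))))))))
noncomputable def x5005s : ℕ → Net := upd x5003s 5 x5005
theorem der5006 : Der 24 pt (cl (dG g11 wa11) (lw [0, 1, 2])) x5005s := der5004.ext (k := 5) (w := [3,1]) 5 (by decide +kernel)
noncomputable def x5007 : Net := (Net.cons (nat_lit 12) (nat_lit 1436)
  (Net.cons (nat_lit 6) (nat_lit 0x25010)
  (Net.cons (nat_lit 3) (nat_lit 0x100184)
  (Net.cons (nat_lit 1) (nat_lit 8)
  (Net.cons (nat_lit 1) (nat_lit 0x80410)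
  (Net.cons (nat_lit 1) (nat_lit 32840)
  (Net.cons (nat_lit 3) (nat_lit 0x100184)
  (Net.cons (nat_lit 6) (nat_lit 0x20010)
  (Net.cons (nat_lit 12) (nat_lit 412)
  Net.nil)))))))))
noncomputable def x5007s : ℕ → Net := upd x5005s 6 x5007
theorem der5008 : Der 24 pt (cl (dG g11 wa11) (lw [0, 1, 2])) x5007s := der5006.ext (k := 5) (w := [3,4,4,1,4]) 6 (by decide +kernel)
theorem nok11 : NetsOk 24 x5007s vT := der5008.elim fun _ h => h.1.ok
noncomputable def chA114 : Ch := []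
noncomputable def chA11D3 : ℕ := (nat_lit 65884)
noncomputable def chA113 : Ch := (3, chA11D3, [5,6]) :: chA114
theorem chA11ok3 : ChnL ↥Spor.M11 24 pt x5007s chA113 6 := ChnL.cons2 (l0 := [5,6]) (n := 6) (B := 1) (k := 2) (rr := 300) ChnL.nil (by decide +kernel) (by decide +kernel)
noncomputable def chA11D2 : ℕ := (nat_lit 0x5335c)
noncomputable def chA112 : Ch := (13, chA11D2, [1,3,4,5,6]) :: chA113
theorem chA11ok2 : ChnL ↥Spor.M11 24 pt x5007s chA112 60 := ChnL.cons2 (l0 := [1,3,4]) (n := 10) (B := 6) (k := 2) (rr := 300) chA11ok3 (by decide +kernel) (by decide +kernel)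
noncomputable def chA11D1 : ℕ := (nat_lit 0x5335e)
noncomputable def chA111 : Ch := (1, chA11D1, [0,1,3,4,5,6]) :: chA112
theorem chA11ok1 : ChnL ↥Spor.M11 24 pt x5007s chA111 660 := ChnL.cons2 (l0 := [0,1,3]) (n := 11) (B := 60) (k := 2) (rr := 300) chA11ok2 (by decide +kernel) (by decide +kernel)
noncomputable def chA11D0 : ℕ := (nat_lit 0xfacca0)
noncomputable def chA110 : Ch := (23, chA11D0, [0,1,2,3,4,5,6]) :: chA111
theorem chA11ok0 : ChnL ↥Spor.M11 24 pt x5007s chA110 7920 := ChnL.cons2 (l0 := [0,1,2]) (n := 12) (B := 660) (k := 2) (rr := 300) chA11ok1 (by decide +kernel) (by decide +kernel)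
noncomputable def chB115 : Ch := []
noncomputable def chB11D4 : ℕ := (nat_lit 576)
noncomputable def chB114 : Ch := (9, chB11D4, [3]) :: chB115
theorem chB11ok4 : ChnL ↥Spor.M11 24 pt x5007s chB114 2 := ChnL.cons2 (l0 := [3]) (n := 2) (B := 1) (k := 2) (rr := 300) ChnL.nil (by decide +kernel) (by decide +kernel)
noncomputable def chB11D3 : ℕ := (nat_lit 0x42244)
noncomputable def chB113 : Ch := (2, chB11D3, [1,3]) :: chB114
theorem chB11ok3 : ChnL ↥Spor.M11 24 pt x5007s chB113 10 := ChnL.cons2 (l0 := [1,3]) (n := 5) (B := 2) (k := 2) (rr := 300) chB11ok4 (by decide +kernel) (by decide +kernel)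
noncomputable def chB11D2 : ℕ := (nat_lit 0x38c020)
noncomputable def chB112 : Ch := (14, chB11D2, [1,3,4]) :: chB113
theorem chB11ok2 : ChnL ↥Spor.M11 24 pt x5007s chB112 60 := ChnL.cons2 (l0 := [1,3,4]) (n := 6) (B := 10) (k := 2) (rr := 300) chB11ok3 (by decide +kernel) (by decide +kernel)
noncomputable def chB11D1 : ℕ := (nat_lit 0x5335e)
noncomputable def chB111 : Ch := (1, chB11D1, [0,1,3,4]) :: chB112
theorem chB11ok1 : ChnL ↥Spor.M11 24 pt x5007s chB111 660 := ChnL.cons2 (l0 := [0,1,3]) (n := 11) (B := 60) (k := 2) (rr := 300) chB11ok2 (by decide +kernel) (by decide +kernel)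
noncomputable def chB11D0 : ℕ := (nat_lit 0xfacca0)
noncomputable def chB110 : Ch := (23, chB11D0, [0,1,2,3,4]) :: chB111
theorem chB11ok0 : ChnL ↥Spor.M11 24 pt x5007s chB110 7920 := ChnL.cons2 (l0 := [0,1,2]) (n := 12) (B := 660) (k := 2) (rr := 300) chB11ok1 (by decide +kernel) (by decide +kernel)
noncomputable def fA110 : ℕ := (nat_lit 0x800001)
noncomputable def fA11 : List (List ℕ × ℕ) := [([0],fA110)]
noncomputable def fB110 : ℕ := (nat_lit 0x804003)
noncomputable def fB11 : List (List ℕ × ℕ) := [([1],fB110)]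
noncomputable def cw11 : List (List ℕ) := [[1]]
theorem fAok11 : (spA 24 x5007s fA11).FixOk := SP.fixOk_of _ nok11 (k := 5) (by decide +kernel)
theorem fBok11 : (spB 24 x5007s cw11 fB11).FixOk := SP.fixOk_of _ nok11 (k := 5) (by decide +kernel)
noncomputable def cm5009T : BT := (BT.br [] (BT.kid 23 [] (BT.br [[0]] (BT.kid 1 [] (BT.frc 0 [0] [] (BT.frc 0 [0] [] BT.live)) BT.nil)) BT.nil))
theorem cm5009 : (spA 24 x5007s fA11).Clm ↥Spor.M11 pt false 0 chA110 [] [] := SP.Clm.ofN (T := cm5009T) (by decide +kernel)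
noncomputable def cm5010T : BT := (BT.br [[0]] (BT.kid 23 [] (BT.br [] (BT.kid 1 [] (BT.br [] (BT.kid 14 [] (BT.br [[0]] (BT.kid 2 [] (BT.frc 0 [1] [] BT.live) BT.nil)) BT.nil)) BT.nil)) (BT.kid 14 [2] (BT.br [] (BT.kid 1 [] (BT.br [] (BT.kid 23 [] (BT.br [[0]] (BT.kid 13 [] (BT.out 0 [1]) BT.nil)) BT.nil)) BT.nil)) BT.nil)))
theorem cm5010 : (spB 24 x5007s cw11 fB11).Clm ↥Spor.M11 pt false 0 chB110 [] [] := SP.Clm.ofN (T := cm5010T) (by decide +kernel)
noncomputable def tl11 : List (List ℕ) := [[],[1],[1,1],[1,1,1],[1,1,1,1]]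
noncomputable def orels11 : List (List ℕ × ℕ) := [([0,2,2],3),([0,1,2],4)]
theorem ex5011 : exRow 24 x5007s orels11 1 [] 2 tl11 [(0,1),(0,1),(1,23),(1,23),(1,23)] = true := by decide +kernel
theorem ex5012 : exRow 24 x5007s orels11 1 [] 1 tl11 [(0,0),(0,1),(0,1),(0,1),(0,1)] = true := by decide +kernel
theorem oh211 : relC 24 na11 x5007s chB110 11 3 3 1 cw11 orels11 = true := by decide +kernel
theorem oh311 : tabC x5007s chB110 cw11 tl11 [[1,2,3,4,0]] = true := by decide +kernel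
theorem od11 : OutD ↥Spor.M11 24 pt x5007s (dG g11 wa11) chB110 tl11 1 [] := OutD.of om011 card_M11 der5008 chA11ok0 chB11ok0 fAok11 fBok11 cm5009 cm5010 (by norm_num) (ks := [1,2]) (by decide +kernel) oh211 oh311 (List.forall_mem_cons.2 ⟨⟨_, ex5012⟩, (List.forall_mem_cons.2 ⟨⟨_, ex5011⟩, (by simp)⟩)⟩)
theorem out11 : Nat.card (Out ↥Spor.M11) = 1 := od11.one
noncomputable def wa12 : List (List ℕ) := [[1],[2,2,0,0],[1,3,0,6,4,0,2,1,4,3,3,0]]
noncomputable def na120 : Net := (Net.cons (nat_lit 12) (nat_lit 1934)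
  (Net.cons (nat_lit 6) (nat_lit 0x2501c)
  (Net.cons (nat_lit 3) (nat_lit 0x1430c6)
  (Net.cons (nat_lit 1) (nat_lit 0x200048)
  (Net.cons (nat_lit 1) (nat_lit 0x480492)
  (Net.cons (nat_lit 1) (nat_lit 0x201208)
  (Net.cons (nat_lit 3) (nat_lit 0x100106)
  (Net.cons (nat_lit 6) (nat_lit 0x20010)
  (Net.cons (nat_lit 12) (nat_lit 828)
  Net.nil)))))))))
noncomputable def na121 : Net := (Net.cons (nat_lit 12) (nat_lit 700)
  (Net.cons (nat_lit 6) (nat_lit 0x24000)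
  (Net.cons (nat_lit 3) (nat_lit 0x82100)
  (Net.cons (nat_lit 1) (nat_lit 0x201200)
  (Net.cons (nat_lit 1) (nat_lit 0x482480)
  (Net.cons (nat_lit 1) (nat_lit 0x248200)
  (Net.cons (nat_lit 3) (nat_lit 0x100180)
  (Net.cons (nat_lit 6) (nat_lit 0x2e028)
  (Net.cons (nat_lit 12) (nat_lit 836)
  Net.nil)))))))))
noncomputable def na122 : Net := (Net.cons (nat_lit 12) (nat_lit 500)
  (Net.cons (nat_lit 6) (nat_lit 0x31015)
  (Net.cons (nat_lit 3) (nat_lit 0x184081)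
  (Net.cons (nat_lit 1) (nat_lit 33281)
  (Net.cons (nat_lit 1) (nat_lit 0x410402)
  (Net.cons (nat_lit 1) (nat_lit 0x249248)
  (Net.cons (nat_lit 3) (nat_lit 0x102100)
  (Net.cons (nat_lit 6) (nat_lit 0x2200a)
  (Net.cons (nat_lit 12) (nat_lit 3592)
  Net.nil)))))))))
noncomputable def na12l : List Net := [na120,na121,na122]
noncomputable abbrev na12 : ℕ → Net := lk Net.nil na12l
theorem om012 : IsModel 24 pt (dG g12 wa12) na12 vT := model12.dG (k := 5) (by decide +kernel)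
theorem od012 : Der 24 pt (cl (dG g12 wa12) (lw [0, 1, 2])) (resN na12 [0, 1, 2]) := Der.letters om012 _
noncomputable def x5013 : Net := (Net.cons (nat_lit 12) (nat_lit 872)
  (Net.cons (nat_lit 6) (nat_lit 0x3602e)
  (Net.cons (nat_lit 3) (nat_lit 0x81006)
  (Net.cons (nat_lit 1) (nat_lit 4160)
  (Net.cons (nat_lit 1) (nat_lit 73872)
  (Net.cons (nat_lit 1) (nat_lit 0x41008)
  (Net.cons (nat_lit 3) (nat_lit 0x82080)
  (Net.cons (nat_lit 6) (nat_lit 0x3a010)
  (Net.cons (nat_lit 12) (nat_lit 2764)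
  Net.nil)))))))))
noncomputable def x5013s : ℕ → Net := upd (resN na12 [0, 1, 2]) 3 x5013
theorem der5014 : Der 24 pt (cl (dG g12 wa12) (lw [0, 1, 2])) x5013s := od012.ext (k := 5) (w := [2,0,0,0,1,2,1,0,2]) 3 (by decide +kernel)
noncomputable def x5015 : Net := (Net.cons (nat_lit 12) (nat_lit 1218)
  (Net.cons (nat_lit 6) (nat_lit 81968)
  (Net.cons (nat_lit 3) (nat_lit 0x180104)
  (Net.cons (nat_lit 1) (nat_lit 32776)
  (Net.cons (nat_lit 1) (nat_lit 0x410410)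
  (Net.cons (nat_lit 1) (nat_lit 0x48008)
  (Net.cons (nat_lit 3) (nat_lit 0x180104)
  (Net.cons (nat_lit 6) (nat_lit 81936)
  (Net.cons (nat_lit 12) (nat_lit 192)
  Net.nil)))))))))
noncomputable def x5015s : ℕ → Net := upd x5013s 4 x5015
theorem der5016 : Der 24 pt (cl (dG g12 wa12) (lw [0, 1, 2])) x5015s := der5014.ext (k := 5) (w := [3,1,3,0,3,0,0,3]) 4 (by decide +kernel)
noncomputable def x5017 : Net := (Net.cons (nat_lit 12) (nat_lit 778)
  (Net.cons (nat_lit 6) (nat_lit 0x2d02c)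
  (Net.cons (nat_lit 3) (nat_lit 0xc0002)
  (Net.cons (nat_lit 1) (nat_lit 0x200000)
  (Net.cons (nat_lit 1) (nat_lit 0x400080)
  (Net.cons (nat_lit 1) (nat_lit 32840)
  (Net.cons (nat_lit 3) (nat_lit 0x100102)
  (Net.cons (nat_lit 6) (nat_lit 0x2c022)
  (Net.cons (nat_lit 12) (nat_lit 1014)
  Net.nil)))))))))
noncomputable def x5017s : ℕ → Net := upd x5015s 5 x5017
theorem der5018 : Der 24 pt (cl (dG g12 wa12) (lw [0, 1, 2])) x5017s := der5016.ext (k := 5) (w := [0,4,1,0,0]) 5 (by decide +kernel)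
noncomputable def x5019 : Net := (Net.cons (nat_lit 12) (nat_lit 1436)
  (Net.cons (nat_lit 6) (nat_lit 0x25010)
  (Net.cons (nat_lit 3) (nat_lit 0x100184)
  (Net.cons (nat_lit 1) (nat_lit 8)
  (Net.cons (nat_lit 1) (nat_lit 0x80410)
  (Net.cons (nat_lit 1) (nat_lit 32840)
  (Net.cons (nat_lit 3) (nat_lit 0x100184)
  (Net.cons (nat_lit 6) (nat_lit 0x20010)
  (Net.cons (nat_lit 12) (nat_lit 412)
  Net.nil)))))))))
noncomputable def x5019s : ℕ → Net := upd x5017s 6 x5019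
theorem der5020 : Der 24 pt (cl (dG g12 wa12) (lw [0, 1, 2])) x5019s := der5018.ext (k := 5) (w := [1,1,5,1]) 6 (by decide +kernel)
noncomputable def x5021 : Net := (Net.cons (nat_lit 12) (nat_lit 1824)
  (Net.cons (nat_lit 6) (nat_lit 98320)
  (Net.cons (nat_lit 3) (nat_lit 0x1051c4)
  (Net.cons (nat_lit 1) (nat_lit 72)
  (Net.cons (nat_lit 1) (nat_lit 0x400490)
  (Net.cons (nat_lit 1) (nat_lit 520)
  (Net.cons (nat_lit 3) (nat_lit 0x100004)
  (Net.cons (nat_lit 6) (nat_lit 98320)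
  (Net.cons (nat_lit 12) (nat_lit 800)
  Net.nil)))))))))
noncomputable def x5021s : ℕ → Net := upd x5019s 7 x5021
theorem der5022 : Der 24 pt (cl (dG g12 wa12) (lw [0, 1, 2])) x5021s := der5020.ext (k := 5) (w := [1,1,1,5]) 7 (by decide +kernel)
noncomputable def x5023 : Net := (Net.cons (nat_lit 12) (nat_lit 992)
  (Net.cons (nat_lit 6) (nat_lit 32804)
  (Net.cons (nat_lit 3) (nat_lit 28864)
  (Net.cons (nat_lit 1) (nat_lit 32776)
  (Net.cons (nat_lit 1) (nat_lit 0x490490)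
  (Net.cons (nat_lit 1) (nat_lit 0x240048)
  (Net.cons (nat_lit 3) (nat_lit 24708)
  (Net.cons (nat_lit 6) (nat_lit 0x26020)
  (Net.cons (nat_lit 12) (nat_lit 1448)
  Net.nil)))))))))
noncomputable def x5023s : ℕ → Net := upd x5021s 8 x5023
theorem der5024 : Der 24 pt (cl (dG g12 wa12) (lw [0, 1, 2])) x5023s := der5022.ext (k := 5) (w := [3,3,1,0,0]) 8 (by decide +kernel)
noncomputable def x5025 : Net := (Net.cons (nat_lit 12) (nat_lit 36)
  (Net.cons (nat_lit 6) (nat_lit 36876)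
  (Net.cons (nat_lit 3) (nat_lit 0x180044)
  (Net.cons (nat_lit 1) (nat_lit 0x208008)
  (Net.cons (nat_lit 1) (nat_lit 0x492410)
  (Net.cons (nat_lit 1) (nat_lit 0x208008)
  (Net.cons (nat_lit 3) (nat_lit 0x180004)
  (Net.cons (nat_lit 6) (nat_lit 32780)
  (Net.cons (nat_lit 12) (nat_lit 36)
  Net.nil)))))))))
noncomputable def x5025s : ℕ → Net := upd x5023s 9 x5025
theorem der5026 : Der 24 pt (cl (dG g12 wa12) (lw [0, 1, 2])) x5025s := der5024.ext (k := 5) (w := [8,8]) 9 (by decide +kernel)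
noncomputable def x5027 : Net := (Net.cons (nat_lit 12) (nat_lit 482)
  (Net.cons (nat_lit 6) (nat_lit 0x24026)
  (Net.cons (nat_lit 3) (nat_lit 0x800c0)
  (Net.cons (nat_lit 1) (nat_lit 0x201200)
  (Net.cons (nat_lit 1) (nat_lit 0x402482)
  (Net.cons (nat_lit 1) (nat_lit 0x201048)
  (Net.cons (nat_lit 3) (nat_lit 256)
  (Net.cons (nat_lit 6) (nat_lit 0x24026)
  (Net.cons (nat_lit 12) (nat_lit 482)
  Net.nil)))))))))
noncomputable def x5027s : ℕ → Net := upd x5025s 10 x5027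
theorem der5028 : Der 24 pt (cl (dG g12 wa12) (lw [0, 1, 2])) x5027s := der5026.ext (k := 5) (w := [9,1,9,1,1,1,1,9]) 10 (by decide +kernel)
noncomputable def x5029 : Net := (Net.cons (nat_lit 12) (nat_lit 2064)
  (Net.cons (nat_lit 6) (nat_lit 8196)
  (Net.cons (nat_lit 3) (nat_lit 0x1430c4)
  (Net.cons (nat_lit 1) (nat_lit 0x40000)
  (Net.cons (nat_lit 1) (nat_lit 0x480010)
  (Net.cons (nat_lit 1) (nat_lit 0x209000)
  (Net.cons (nat_lit 3) (nat_lit 0x80004)
  (Net.cons (nat_lit 6) (nat_lit 8196)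
  (Net.cons (nat_lit 12) (nat_lit 2064)
  Net.nil)))))))))
noncomputable def x5029s : ℕ → Net := upd x5027s 11 x5029
theorem der5030 : Der 24 pt (cl (dG g12 wa12) (lw [0, 1, 2])) x5029s := der5028.ext (k := 5) (w := [10,1,1,1]) 11 (by decide +kernel)
noncomputable def x5031 : Net := (Net.cons (nat_lit 12) (nat_lit 700)
  (Net.cons (nat_lit 6) (nat_lit 36880)
  (Net.cons (nat_lit 3) (nat_lit 0x1460c0)
  (Net.cons (nat_lit 1) (nat_lit 0x410410)
  (Net.cons (nat_lit 1) (nat_lit 585)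
  (Net.cons (nat_lit 3) (nat_lit 16388)
  (Net.cons (nat_lit 6) (nat_lit 0x24034)
  (Net.cons (nat_lit 12) (nat_lit 2920)
  Net.nil))))))))
noncomputable def x5031s : ℕ → Net := upd x5029s 12 x5031
theorem der5032 : Der 24 pt (cl (dG g12 wa12) (lw [0, 1, 2])) x5031s := der5030.ext (k := 5) (w := [1,2]) 12 (by decide +kernel)
theorem nok12 : NetsOk 24 x5031s vT := der5032.elim fun _ h => h.1.ok
noncomputable def chA125 : Ch := []
noncomputable def chA12D4 : ℕ := (nat_lit 65884)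
noncomputable def chA124 : Ch := (3, chA12D4, [6,7]) :: chA125
theorem chA12ok4 : ChnL ↥Spor.M12 24 pt x5031s chA124 6 := ChnL.cons2 (l0 := [6,7]) (n := 6) (B := 1) (k := 2) (rr := 300) ChnL.nil (by decide +kernel) (by decide +kernel)
noncomputable def chA12D3 : ℕ := (nat_lit 0x5335c)
noncomputable def chA123 : Ch := (13, chA12D3, [1,5,6,7]) :: chA124
theorem chA12ok3 : ChnL ↥Spor.M12 24 pt x5031s chA123 60 := ChnL.cons2 (l0 := [1,5]) (n := 10) (B := 6) (k := 2) (rr := 300) chA12ok4 (by decide +kernel) (by decide +kernel)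
noncomputable def chA12D2 : ℕ := (nat_lit 0x5335e)
noncomputable def chA122 : Ch := (1, chA12D2, [0,1,4,5,6,7]) :: chA123
theorem chA12ok2 : ChnL ↥Spor.M12 24 pt x5031s chA122 660 := ChnL.cons2 (l0 := [0,1,4]) (n := 11) (B := 60) (k := 2) (rr := 300) chA12ok3 (by decide +kernel) (by decide +kernel)
noncomputable def chA12D1 : ℕ := (nat_lit 0xfacca0)
noncomputable def chA121 : Ch := (23, chA12D1, [0,1,3,4,5,6,7]) :: chA122
theorem chA12ok1 : ChnL ↥Spor.M12 24 pt x5031s chA121 7920 := ChnL.cons2 (l0 := [0,1,3]) (n := 12) (B := 660) (k := 2) (rr := 300) chA12ok2 (by decide +kernel) (by decide +kernel)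
noncomputable def chA12D0 : ℕ := (nat_lit 0x5335f)
noncomputable def chA120 : Ch := (0, chA12D0, [0,1,2,3,4,5,6,7]) :: chA121
theorem chA12ok0 : ChnL ↥Spor.M12 24 pt x5031s chA120 95040 := ChnL.cons2 (l0 := [0,1,2]) (n := 12) (B := 7920) (k := 2) (rr := 300) chA12ok1 (by decide +kernel) (by decide +kernel)
noncomputable def chB126 : Ch := []
noncomputable def chB12D5 : ℕ := (nat_lit 576)
noncomputable def chB125 : Ch := (9, chB12D5, [11]) :: chB126
theorem chB12ok5 : ChnL ↥Spor.M12 24 pt x5031s chB125 2 := ChnL.cons2 (l0 := [11]) (n := 2) (B := 1) (k := 2) (rr := 300) ChnL.nil (by decide +kernel) (by decide +kernel)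
noncomputable def chB12D4 : ℕ := (nat_lit 0x42244)
noncomputable def chB124 : Ch := (2, chB12D4, [1,10,11]) :: chB125
theorem chB12ok4 : ChnL ↥Spor.M12 24 pt x5031s chB124 10 := ChnL.cons2 (l0 := [1,10]) (n := 5) (B := 2) (k := 2) (rr := 300) chB12ok5 (by decide +kernel) (by decide +kernel)
noncomputable def chB12D3 : ℕ := (nat_lit 0xc20c80)
noncomputable def chB123 : Ch := (23, chB12D3, [1,9,10,11]) :: chB124
theorem chB12ok3 : ChnL ↥Spor.M12 24 pt x5031s chB123 60 := ChnL.cons2 (l0 := [1,9]) (n := 6) (B := 10) (k := 2) (rr := 300) chB12ok4 (by decide +kernel) (by decide +kernel)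
noncomputable def chB12D2 : ℕ := (nat_lit 0xfacca0)
noncomputable def chB122 : Ch := (14, chB12D2, [1,8,9,10,11]) :: chB123
theorem chB12ok2 : ChnL ↥Spor.M12 24 pt x5031s chB122 720 := ChnL.cons2 (l0 := [1,8]) (n := 12) (B := 60) (k := 2) (rr := 300) chB12ok3 (by decide +kernel) (by decide +kernel)
noncomputable def chB12D1 : ℕ := (nat_lit 0x5335e)
noncomputable def chB121 : Ch := (1, chB12D1, [0,1,3,8,9,10,11]) :: chB122
theorem chB12ok1 : ChnL ↥Spor.M12 24 pt x5031s chB121 7920 := ChnL.cons2 (l0 := [0,1,3]) (n := 11) (B := 720) (k := 2) (rr := 300) chB12ok2 (by decide +kernel) (by decide +kernel)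
noncomputable def chB12D0 : ℕ := (nat_lit 0x5335f)
noncomputable def chB120 : Ch := (0, chB12D0, [0,1,2,3,8,9,10,11]) :: chB121
theorem chB12ok0 : ChnL ↥Spor.M12 24 pt x5031s chB120 95040 := ChnL.cons2 (l0 := [0,1,2]) (n := 12) (B := 7920) (k := 2) (rr := 300) chB12ok1 (by decide +kernel) (by decide +kernel)
noncomputable def fA120 : ℕ := (nat_lit 0x800001)
noncomputable def fA12 : List (List ℕ × ℕ) := [([0],fA120)]
noncomputable def fB120 : ℕ := (nat_lit 0x804003)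
noncomputable def fB12 : List (List ℕ × ℕ) := [([1],fB120)]
noncomputable def cw12 : List (List ℕ) := [[1],[12]]
theorem fAok12 : (spA 24 x5031s fA12).FixOk := SP.fixOk_of _ nok12 (k := 5) (by decide +kernel)
theorem fBok12 : (spB 24 x5031s cw12 fB12).FixOk := SP.fixOk_of _ nok12 (k := 5) (by decide +kernel)
noncomputable def cm5033T : BT := (BT.br [] (BT.kid 0 [] (BT.br [] (BT.kid 23 [] (BT.br [[0]] (BT.kid 1 [] (BT.frc 0 [0] [] (BT.frc 0 [0] [] BT.live)) BT.nil)) BT.nil)) BT.nil))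
theorem cm5033 : (spA 24 x5031s fA12).Clm ↥Spor.M12 pt false 0 chA120 [] [] := SP.Clm.ofN (T := cm5033T) (by decide +kernel)
noncomputable def cm5034T : BT := (BT.br [[0],[1]] (BT.kid 0 [] (BT.br [] (BT.kid 1 [] (BT.br [[0]] (BT.kid 14 [] (BT.br [] (BT.kid 23 [] (BT.br [[0]] (BT.kid 2 [] (BT.frc 0 [1] [] BT.live) BT.nil)) BT.nil)) (BT.kid 23 [8,1,9] (BT.br [] (BT.kid 14 [9,10] (BT.br [[0]] (BT.kid 9 [] (BT.out 0 [1]) BT.nil)) BT.nil)) BT.nil))) BT.nil)) BT.nil))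
theorem cm5034 : (spB 24 x5031s cw12 fB12).Clm ↥Spor.M12 pt false 0 chB120 [] [] := SP.Clm.ofN (T := cm5034T) (by decide +kernel)
noncomputable def tl12 : List (List ℕ) := [[],[1],[12],[1,1],[12,1],[1,1,1],[12,1,1],[1,1,1,1],[12,1,1,1],[12,1,1,1,1]]
noncomputable def orels12 : List (List ℕ × ℕ) := [([0,1,2],6),([0,2],11)]
theorem ex5035 : exRow 24 x5031s orels12 2 [] 2 tl12 [(0,0),(0,0),(0,1),(0,0),(0,1),(1,0),(0,1),(0,0),(0,1),(0,1)] = true := by decide +kernel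
theorem ex5036 : exRow 24 x5031s orels12 2 [] 1 tl12 [(0,0),(0,0),(0,1),(0,0),(0,1),(1,0),(0,1),(0,0),(0,1),(0,1)] = true := by decide +kernel
theorem oh212 : relC 24 na12 x5031s chB120 11 3 1 1 cw12 orels12 = true := by decide +kernel
theorem oh312 : tabC x5031s chB120 cw12 tl12 [[1,3,4,5,6,7,8,0,9,2],[2,4,3,6,5,8,7,9,0,1]] = true := by decide +kernel
theorem od12 : OutD ↥Spor.M12 24 pt x5031s (dG g12 wa12) chB120 tl12 2 [] := OutD.of om012 card_M12 der5032 chA12ok0 chB12ok0 fAok12 fBok12 cm5033 cm5034 (by norm_num) (ks := [1,2]) (by decide +kernel) oh212 oh312 (List.forall_mem_cons.2 ⟨⟨_, ex5036⟩, (List.forall_mem_cons.2 ⟨⟨_, ex5035⟩, (by simp)⟩)⟩)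
noncomputable def wb12 : List (List ℕ) := [[0,0],[1,1],[2,0,0],[1,1,3],[2,0,6,3,3,1,4,2,0,0],[1,1,3,5,0,2,2,7,1,3],[0,0,0,6,2,2,1,1,1],[0,0,0,3,3,7,1,1,1],[],[],[],[],[],[],[],[]]
noncomputable def nb120 : Net := (Net.cons (nat_lit 12) (nat_lit 918)
  (Net.cons (nat_lit 6) (nat_lit 69662)
  (Net.cons (nat_lit 3) (nat_lit 0x183106)
  (Net.cons (nat_lit 1) (nat_lit 0x208000)
  (Net.cons (nat_lit 1) (nat_lit 0x412000)
  (Net.cons (nat_lit 1) (nat_lit 4160)
  (Net.cons (nat_lit 3) (nat_lit 0x104000)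
  (Net.cons (nat_lit 6) (nat_lit 73746)
  (Net.cons (nat_lit 12) (nat_lit 1388)
  Net.nil)))))))))
noncomputable def nb122 : Net := (Net.cons (nat_lit 12) (nat_lit 884)
  (Net.cons (nat_lit 6) (nat_lit 0x3b002)
  (Net.cons (nat_lit 3) (nat_lit 0x81182)
  (Net.cons (nat_lit 1) (nat_lit 0x200200)
  (Net.cons (nat_lit 1) (nat_lit 0x480410)
  (Net.cons (nat_lit 1) (nat_lit 0x48008)
  (Net.cons (nat_lit 3) (nat_lit 2)
  (Net.cons (nat_lit 6) (nat_lit 0x2a004)
  (Net.cons (nat_lit 12) (nat_lit 1324)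
  Net.nil)))))))))
noncomputable def nb124 : Net := (Net.cons (nat_lit 12) (nat_lit 3424)
  (Net.cons (nat_lit 6) (nat_lit 0x28029)
  (Net.cons (nat_lit 3) (nat_lit 16642)
  (Net.cons (nat_lit 1) (nat_lit 0x40000)
  (Net.cons (nat_lit 1) (nat_lit 0x80000)
  (Net.cons (nat_lit 1) (nat_lit 0x41008)
  (Net.cons (nat_lit 3) (nat_lit 2)
  (Net.cons (nat_lit 6) (nat_lit 0x20028)
  (Net.cons (nat_lit 12) (nat_lit 2400)
  Net.nil)))))))))
noncomputable def nb126 : Net := (Net.cons (nat_lit 12) (nat_lit 1304)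
  (Net.cons (nat_lit 6) (nat_lit 94211)
  (Net.cons (nat_lit 3) (nat_lit 0x102041)
  (Net.cons (nat_lit 1) (nat_lit 0x200200)
  (Net.cons (nat_lit 1) (nat_lit 0x492402)
  (Net.cons (nat_lit 1) (nat_lit 32769)
  (Net.cons (nat_lit 3) (nat_lit 390)
  (Net.cons (nat_lit 6) (nat_lit 0x2803c)
  (Net.cons (nat_lit 12) (nat_lit 1304)
  Net.nil)))))))))
noncomputable def nb12l : List Net := [nb120,nb120.rev,nb122,nb122.rev,nb124,nb124.rev,nb126,nb126.rev,Net.nil,Net.nil,Net.nil,Net.nil,Net.nil,Net.nil,Net.nil,Net.nil]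
noncomputable abbrev nb12 : ℕ → Net := lk Net.nil nb12l
theorem om212 : IsModel 24 pt (dG g12 wb12) nb12 vT := model12.dG (k := 5) (by decide +kernel)
theorem os212 : Sat io C228 (dG g12 wb12) := (sat_of_eqv (eqv_of_faith om212 (faithP0.sub _) 5) (fun _ h => dG_ge h) (by decide +kernel)).of_eqv (eqv_of_faith om212 (faithP0.sub _) 5) (by decide +kernel)
theorem der5037 : Der 24 pt (cl (dG g12 wb12) (lw [0,1,2,3,4,5,6,7])) (fun _ => Net.nil) := Der.zero om212.inj
noncomputable def ns5038 : ℕ → Net := upd (fun _ => Net.nil) 0 (nb12 0)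
theorem der5039 : Der 24 pt (cl (dG g12 wb12) (lw [0,1,2,3,4,5,6,7])) ns5038 := der5037.add (wp_mem_cl (w := [0]) (by decide)) (rep_letter om212 0) 0
noncomputable def ns5040 : ℕ → Net := upd ns5038 1 (nb12 1)
theorem der5041 : Der 24 pt (cl (dG g12 wb12) (lw [0,1,2,3,4,5,6,7])) ns5040 := der5039.add (wp_mem_cl (w := [1]) (by decide)) (rep_letter om212 1) 1
noncomputable def ns5042 : ℕ → Net := upd ns5040 2 (nb12 2)
theorem der5043 : Der 24 pt (cl (dG g12 wb12) (lw [0,1,2,3,4,5,6,7])) ns5042 := der5041.add (wp_mem_cl (w := [2]) (by decide)) (rep_letter om212 2) 2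
noncomputable def ns5044 : ℕ → Net := upd ns5042 3 (nb12 3)
theorem der5045 : Der 24 pt (cl (dG g12 wb12) (lw [0,1,2,3,4,5,6,7])) ns5044 := der5043.add (wp_mem_cl (w := [3]) (by decide)) (rep_letter om212 3) 3
noncomputable def ns5046 : ℕ → Net := upd ns5044 4 (nb12 4)
theorem der5047 : Der 24 pt (cl (dG g12 wb12) (lw [0,1,2,3,4,5,6,7])) ns5046 := der5045.add (wp_mem_cl (w := [4]) (by decide)) (rep_letter om212 4) 4
noncomputable def ns5048 : ℕ → Net := upd ns5046 5 (nb12 5)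
theorem der5049 : Der 24 pt (cl (dG g12 wb12) (lw [0,1,2,3,4,5,6,7])) ns5048 := der5047.add (wp_mem_cl (w := [5]) (by decide)) (rep_letter om212 5) 5
noncomputable def ns5050 : ℕ → Net := upd ns5048 6 (nb12 6)
theorem der5051 : Der 24 pt (cl (dG g12 wb12) (lw [0,1,2,3,4,5,6,7])) ns5050 := der5049.add (wp_mem_cl (w := [6]) (by decide)) (rep_letter om212 6) 6
noncomputable def ns5052 : ℕ → Net := upd ns5050 7 (nb12 7)
theorem der5053 : Der 24 pt (cl (dG g12 wb12) (lw [0,1,2,3,4,5,6,7])) ns5052 := der5051.add (wp_mem_cl (w := [7]) (by decide)) (rep_letter om212 7) 7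
noncomputable def x5054 : Net := (Net.cons (nat_lit 12) (nat_lit 3086)
  (Net.cons (nat_lit 6) (nat_lit 0x1a020)
  (Net.cons (nat_lit 3) (nat_lit 0x1c0004)
  (Net.cons (nat_lit 1) (nat_lit 36936)
  (Net.cons (nat_lit 1) (nat_lit 74896)
  (Net.cons (nat_lit 1) (nat_lit 0x249048)
  (Net.cons (nat_lit 3) (nat_lit 4)
  (Net.cons (nat_lit 6) (nat_lit 0x1a020)
  (Net.cons (nat_lit 12) (nat_lit 3086)
  Net.nil)))))))))
noncomputable def x5054s : ℕ → Net := upd ns5052 8 x5054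
theorem der5055 : Der 24 pt (cl (dG g12 wb12) (lw [0,1,2,3,4,5,6,7])) x5054s := der5053.ext (k := 5) (w := [4,1,2,5,3,0,4]) 8 (by decide +kernel)
noncomputable def x5056 : Net := (Net.cons (nat_lit 12) (nat_lit 956)
  (Net.cons (nat_lit 6) (nat_lit 0x19004)
  (Net.cons (nat_lit 3) (nat_lit 0xc2004)
  (Net.cons (nat_lit 1) (nat_lit 33280)
  (Net.cons (nat_lit 1) (nat_lit 74752)
  (Net.cons (nat_lit 1) (nat_lit 0x41200)
  (Net.cons (nat_lit 3) (nat_lit 24576)
  (Net.cons (nat_lit 6) (nat_lit 8200)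
  (Net.cons (nat_lit 12) (nat_lit 942)
  Net.nil)))))))))
noncomputable def x5056s : ℕ → Net := upd x5054s 9 x5056
theorem der5057 : Der 24 pt (cl (dG g12 wb12) (lw [0,1,2,3,4,5,6,7])) x5056s := der5055.ext (k := 5) (w := [2,2,8,2,3,3,8,2]) 9 (by decide +kernel)
noncomputable def L5058 : Lev := Lev.cons 11 6 [[8],[9]] Lev.nil
noncomputable def L5059 : Lev := Lev.cons 10 10 [[2],[3]] L5058
noncomputable def L5060 : Lev := Lev.cons 19 11 [[0],[1]] L5059
noncomputable def L5061 : Lev := Lev.cons 0 12 [[4],[5]] L5060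
noncomputable def L5062 : Lev := Lev.cons 23 12 [[6],[7]] L5061
theorem lc5063 : Lev.chk 24 2 x5056s vT 100 L5062 = true := by decide +kernel
theorem lb5064 : 95040 ≤ Nat.card (cl (dG g12 wb12) (lw [0,1,2,3,4,5,6,7])) := le_of_eq_of_le (by decide +kernel) (der5057.card_ge lc5063)
theorem ot212 : cl (dG g12 wb12) (lw [0,1,2,3,4,5,6,7]) = ⊤ := top_of_card card_M12 lb5064
theorem out12 : Nat.card (Out ↥Spor.M12) = 2 := by
  obtain ⟨β, hβ⟩ := aut_of_top bd256 sa987 os212 (top_of_card card_M12 lb985) card_M12 ot212 (wa := wa12) (by decide +kernel)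
  exact od12.two β om212.toIsPre (fun i _ => hβ i) (row := [(0,1),(0,1),(0,0),(0,1),(0,0),(0,1),(0,0),(0,1),(0,0),(0,0)]) (by decide +kernel)
noncomputable def wa22 : List (List ℕ) := [[1],[2,2,0,0],[1,14,0,12,2,0,14,1,3,0,12,3]]
noncomputable def na220 : Net := (Net.cons (nat_lit 12) (nat_lit 1934)
  (Net.cons (nat_lit 6) (nat_lit 0x2501c)
  (Net.cons (nat_lit 3) (nat_lit 0x1430c6)
  (Net.cons (nat_lit 1) (nat_lit 0x200048)
  (Net.cons (nat_lit 1) (nat_lit 0x480492)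
  (Net.cons (nat_lit 1) (nat_lit 0x201208)
  (Net.cons (nat_lit 3) (nat_lit 0x100106)
  (Net.cons (nat_lit 6) (nat_lit 0x20010)
  (Net.cons (nat_lit 12) (nat_lit 828)
  Net.nil)))))))))
noncomputable def na221 : Net := (Net.cons (nat_lit 12) (nat_lit 700)
  (Net.cons (nat_lit 6) (nat_lit 0x24000)
  (Net.cons (nat_lit 3) (nat_lit 0x82100)
  (Net.cons (nat_lit 1) (nat_lit 0x201200)
  (Net.cons (nat_lit 1) (nat_lit 0x482480)
  (Net.cons (nat_lit 1) (nat_lit 0x248200)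
  (Net.cons (nat_lit 3) (nat_lit 0x100180)
  (Net.cons (nat_lit 6) (nat_lit 0x2e028)
  (Net.cons (nat_lit 12) (nat_lit 836)
  Net.nil)))))))))
noncomputable def na222 : Net := (Net.cons (nat_lit 12) (nat_lit 3300)
  (Net.cons (nat_lit 6) (nat_lit 4128)
  (Net.cons (nat_lit 3) (nat_lit 0x142100)
  (Net.cons (nat_lit 1) (nat_lit 0x48040)
  (Net.cons (nat_lit 1) (nat_lit 0x490082)
  (Net.cons (nat_lit 1) (nat_lit 0x209248)
  (Net.cons (nat_lit 3) (nat_lit 0x104100)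
  (Net.cons (nat_lit 6) (nat_lit 0x36020)
  (Net.cons (nat_lit 12) (nat_lit 3252)
  Net.nil)))))))))
noncomputable def na22l : List Net := [na220,na221,na222]
noncomputable abbrev na22 : ℕ → Net := lk Net.nil na22l
theorem om022 : IsModel 24 pt (dG g22 wa22) na22 vT := model22.dG (k := 5) (by decide +kernel)
theorem od022 : Der 24 pt (cl (dG g22 wa22) (lw [0, 1, 2])) (resN na22 [0, 1, 2]) := Der.letters om022 _
noncomputable def x5065 : Net := (Net.cons (nat_lit 12) (nat_lit 2242)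
  (Net.cons (nat_lit 6) (nat_lit 0x25018)
  (Net.cons (nat_lit 3) (nat_lit 0x80086)
  (Net.cons (nat_lit 1) (nat_lit 0x48048)
  (Net.cons (nat_lit 1) (nat_lit 0x90092)
  (Net.cons (nat_lit 1) (nat_lit 0x240208)
  (Net.cons (nat_lit 3) (nat_lit 0x100004)
  (Net.cons (nat_lit 6) (nat_lit 32768)
  (Net.cons (nat_lit 12) (nat_lit 3026)
  Net.nil)))))))))
noncomputable def x5065s : ℕ → Net := upd (resN na22 [0, 1, 2]) 3 x5065
theorem der5066 : Der 24 pt (cl (dG g22 wa22) (lw [0, 1, 2])) x5065s := od022.ext (k := 5) (w := [2,0,0,1,1,1,2,0,2]) 3 (by decide +kernel)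
noncomputable def x5067 : Net := (Net.cons (nat_lit 12) (nat_lit 3208)
  (Net.cons (nat_lit 6) (nat_lit 0x2e014)
  (Net.cons (nat_lit 3) (nat_lit 28864)
  (Net.cons (nat_lit 1) (nat_lit 0x240000)
  (Net.cons (nat_lit 1) (nat_lit 0x490010)
  (Net.cons (nat_lit 1) (nat_lit 0x41008)
  (Net.cons (nat_lit 3) (nat_lit 16388)
  (Net.cons (nat_lit 6) (nat_lit 90116)
  (Net.cons (nat_lit 12) (nat_lit 3404)
  Net.nil)))))))))
noncomputable def x5067s : ℕ → Net := upd x5065s 4 x5067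
theorem der5068 : Der 24 pt (cl (dG g22 wa22) (lw [0, 1, 2])) x5067s := der5066.ext (k := 5) (w := [3,1,1,3,3,3,1]) 4 (by decide +kernel)
noncomputable def x5069 : Net := (Net.cons (nat_lit 12) (nat_lit 1216)
  (Net.cons (nat_lit 6) (nat_lit 41012)
  (Net.cons (nat_lit 3) (nat_lit 0xc0140)
  (Net.cons (nat_lit 1) (nat_lit 32768)
  (Net.cons (nat_lit 1) (nat_lit 73872)
  (Net.cons (nat_lit 1) (nat_lit 0x41208)
  (Net.cons (nat_lit 3) (nat_lit 0x80000)
  (Net.cons (nat_lit 6) (nat_lit 41012)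
  (Net.cons (nat_lit 12) (nat_lit 200)
  Net.nil)))))))))
noncomputable def x5069s : ℕ → Net := upd x5067s 5 x5069
theorem der5070 : Der 24 pt (cl (dG g22 wa22) (lw [0, 1, 2])) x5069s := der5068.ext (k := 5) (w := [3,1,1,1,3,1,3]) 5 (by decide +kernel)
noncomputable def x5071 : Net := (Net.cons (nat_lit 12) (nat_lit 1800)
  (Net.cons (nat_lit 6) (nat_lit 41010)
  (Net.cons (nat_lit 3) (nat_lit 0x85142)
  (Net.cons (nat_lit 1) (nat_lit 0x40200)
  (Net.cons (nat_lit 1) (nat_lit 0x80410)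
  (Net.cons (nat_lit 1) (nat_lit 4616)
  (Net.cons (nat_lit 3) (nat_lit 0x80102)
  (Net.cons (nat_lit 6) (nat_lit 40994)
  (Net.cons (nat_lit 12) (nat_lit 1656)
  Net.nil)))))))))
noncomputable def x5071s : ℕ → Net := upd x5069s 6 x5071
theorem der5072 : Der 24 pt (cl (dG g22 wa22) (lw [0, 1, 2])) x5071s := der5070.ext (k := 5) (w := [4,5,5,4,4,5,5]) 6 (by decide +kernel)
noncomputable def x5073 : Net := (Net.cons (nat_lit 12) (nat_lit 1640)
  (Net.cons (nat_lit 6) (nat_lit 57356)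
  (Net.cons (nat_lit 3) (nat_lit 0x85102)
  (Net.cons (nat_lit 1) (nat_lit 0x40008)
  (Net.cons (nat_lit 1) (nat_lit 0x82412)
  (Net.cons (nat_lit 1) (nat_lit 37384)
  (Net.cons (nat_lit 3) (nat_lit 0x84086)
  (Net.cons (nat_lit 6) (nat_lit 40980)
  (Net.cons (nat_lit 12) (nat_lit 988)
  Net.nil)))))))))
noncomputable def x5073s : ℕ → Net := upd x5071s 7 x5073
theorem der5074 : Der 24 pt (cl (dG g22 wa22) (lw [0, 1, 2])) x5073s := der5072.ext (k := 5) (w := [5,4,5,4,4,4]) 7 (by decide +kernel)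
noncomputable def x5075 : Net := (Net.cons (nat_lit 12) (nat_lit 1396)
  (Net.cons (nat_lit 6) (nat_lit 0x28024)
  (Net.cons (nat_lit 3) (nat_lit 0x85044)
  (Net.cons (nat_lit 1) (nat_lit 576)
  (Net.cons (nat_lit 1) (nat_lit 0x490480)
  (Net.cons (nat_lit 1) (nat_lit 0x40240)
  (Net.cons (nat_lit 3) (nat_lit 0x84000)
  (Net.cons (nat_lit 6) (nat_lit 0x20000)
  (Net.cons (nat_lit 12) (nat_lit 1508)
  Net.nil)))))))))
noncomputable def x5075s : ℕ → Net := upd x5073s 8 x5075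
theorem der5076 : Der 24 pt (cl (dG g22 wa22) (lw [0, 1, 2])) x5075s := der5074.ext (k := 5) (w := [5,5,4,4,4,4,5,4]) 8 (by decide +kernel)
noncomputable def x5077 : Net := (Net.cons (nat_lit 12) (nat_lit 3498)
  (Net.cons (nat_lit 6) (nat_lit 0x3a026)
  (Net.cons (nat_lit 3) (nat_lit 0xc3042)
  (Net.cons (nat_lit 1) (nat_lit 0x200000)
  (Net.cons (nat_lit 1) (nat_lit 0x410080)
  (Net.cons (nat_lit 1) (nat_lit 0x240200)
  (Net.cons (nat_lit 3) (nat_lit 0x180100)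
  (Net.cons (nat_lit 6) (nat_lit 8232)
  (Net.cons (nat_lit 12) (nat_lit 2746)
  Net.nil)))))))))
noncomputable def x5077s : ℕ → Net := upd x5075s 9 x5077
theorem der5078 : Der 24 pt (cl (dG g22 wa22) (lw [0, 1, 2])) x5077s := der5076.ext (k := 5) (w := [3,1,1,1,1,3,1,1,3,3,3]) 9 (by decide +kernel)
noncomputable def x5079 : Net := (Net.cons (nat_lit 12) (nat_lit 1298)
  (Net.cons (nat_lit 6) (nat_lit 8208)
  (Net.cons (nat_lit 3) (nat_lit 0x41042)
  (Net.cons (nat_lit 1) (nat_lit 520)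
  (Net.cons (nat_lit 1) (nat_lit 1168)
  (Net.cons (nat_lit 1) (nat_lit 0x201248)
  (Net.cons (nat_lit 3) (nat_lit 256)
  (Net.cons (nat_lit 6) (nat_lit 8192)
  (Net.cons (nat_lit 12) (nat_lit 1074)
  Net.nil)))))))))
noncomputable def x5079s : ℕ → Net := upd x5077s 10 x5079
theorem der5080 : Der 24 pt (cl (dG g22 wa22) (lw [0, 1, 2])) x5079s := der5078.ext (k := 5) (w := [1,1,9,9]) 10 (by decide +kernel)
noncomputable def x5081 : Net := (Net.cons (nat_lit 12) (nat_lit 2256)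
  (Net.cons (nat_lit 6) (nat_lit 77844)
  (Net.cons (nat_lit 3) (nat_lit 0x1410c4)
  (Net.cons (nat_lit 1) (nat_lit 16)
  (Net.cons (nat_lit 1) (nat_lit 0x48000)
  (Net.cons (nat_lit 3) (nat_lit 0x82004)
  (Net.cons (nat_lit 6) (nat_lit 32788)
  (Net.cons (nat_lit 12) (nat_lit 2112)
  Net.nil))))))))
noncomputable def x5081s : ℕ → Net := upd x5079s 11 x5081
theorem der5082 : Der 24 pt (cl (dG g22 wa22) (lw [0, 1, 2])) x5081s := der5080.ext (k := 5) (w := [1,9,1,9,9,1]) 11 (by decide +kernel)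
noncomputable def x5083 : Net := (Net.cons (nat_lit 12) (nat_lit 3488)
  (Net.cons (nat_lit 6) (nat_lit 36922)
  (Net.cons (nat_lit 3) (nat_lit 0x182040)
  (Net.cons (nat_lit 1) (nat_lit 0x40040)
  (Net.cons (nat_lit 1) (nat_lit 0x80480)
  (Net.cons (nat_lit 1) (nat_lit 0x48248)
  (Net.cons (nat_lit 3) (nat_lit 0x102102)
  (Net.cons (nat_lit 6) (nat_lit 65594)
  (Net.cons (nat_lit 12) (nat_lit 3456)
  Net.nil)))))))))
noncomputable def x5083s : ℕ → Net := upd x5081s 12 x5083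
theorem der5084 : Der 24 pt (cl (dG g22 wa22) (lw [0, 1, 2])) x5083s := der5082.ext (k := 5) (w := [9,1,1,1,1,9]) 12 (by decide +kernel)
noncomputable def x5085 : Net := (Net.cons (nat_lit 12) (nat_lit 32)
  (Net.cons (nat_lit 6) (nat_lit 0x1e014)
  (Net.cons (nat_lit 3) (nat_lit 28802)
  (Net.cons (nat_lit 1) (nat_lit 8)
  (Net.cons (nat_lit 1) (nat_lit 66578)
  (Net.cons (nat_lit 1) (nat_lit 0x248008)
  (Net.cons (nat_lit 3) (nat_lit 16386)
  (Net.cons (nat_lit 6) (nat_lit 24596)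
  (Net.cons (nat_lit 12) (nat_lit 1344)
  Net.nil)))))))))
noncomputable def x5085s : ℕ → Net := upd x5083s 13 x5085
theorem der5086 : Der 24 pt (cl (dG g22 wa22) (lw [0, 1, 2])) x5085s := der5084.ext (k := 5) (w := [12,12,10,11,10,10,11,10]) 13 (by decide +kernel)
theorem nok22 : NetsOk 24 x5085s vT := der5086.elim fun _ h => h.1.ok
noncomputable def chA225 : Ch := []
noncomputable def chA22D4 : ℕ := (nat_lit 66176)
noncomputable def chA224 : Ch := (9, chA22D4, [7]) :: chA225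
theorem chA22ok4 : ChnL ↥Spor.M22 24 pt x5085s chA224 3 := ChnL.cons2 (l0 := [7]) (n := 3) (B := 1) (k := 2) (rr := 300) ChnL.nil (by decide +kernel) (by decide +kernel)
noncomputable def chA22D3 : ℕ := (nat_lit 0x7fdab4)
noncomputable def chA223 : Ch := (18, chA22D3, [6,7,8]) :: chA224
theorem chA22ok3 : ChnL ↥Spor.M22 24 pt x5085s chA223 48 := ChnL.cons2 (l0 := [6,7,8]) (n := 16) (B := 3) (k := 2) (rr := 300) chA22ok4 (by decide +kernel) (by decide +kernel)
noncomputable def chA22D2 : ℕ := (nat_lit 0x7fdffc)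
noncomputable def chA222 : Ch := (3, chA22D2, [4,5,6,7,8]) :: chA223
theorem chA22ok2 : ChnL ↥Spor.M22 24 pt x5085s chA222 960 := ChnL.cons2 (l0 := [4,5]) (n := 20) (B := 48) (k := 2) (rr := 300) chA22ok3 (by decide +kernel) (by decide +kernel)
noncomputable def chA22D1 : ℕ := (nat_lit 0x7ffffc)
noncomputable def chA221 : Ch := (13, chA22D1, [1,3,4,5,6,7,8]) :: chA222
theorem chA22ok1 : ChnL ↥Spor.M22 24 pt x5085s chA221 20160 := ChnL.cons2 (l0 := [1,3]) (n := 21) (B := 960) (k := 2) (rr := 300) chA22ok2 (by decide +kernel) (by decide +kernel)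
noncomputable def chA22D0 : ℕ := (nat_lit 0x7ffffe)
noncomputable def chA220 : Ch := (1, chA22D0, [0,1,2,3,4,5,6,7,8]) :: chA221
theorem chA22ok0 : ChnL ↥Spor.M22 24 pt x5085s chA220 443520 := ChnL.cons2 (l0 := [0,1,2]) (n := 22) (B := 20160) (k := 2) (rr := 300) chA22ok1 (by decide +kernel) (by decide +kernel)
noncomputable def chB225 : Ch := []
noncomputable def chB22D4 : ℕ := (nat_lit 0x42040)
noncomputable def chB224 : Ch := (13, chB22D4, [13]) :: chB225
theorem chB22ok4 : ChnL ↥Spor.M22 24 pt x5085s chB224 3 := ChnL.cons2 (l0 := [13]) (n := 3) (B := 1) (k := 2) (rr := 300) ChnL.nil (by decide +kernel) (by decide +kernel)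
noncomputable def chB22D3 : ℕ := (nat_lit 0x7dbfd0)
noncomputable def chB223 : Ch := (9, chB22D3, [10,11,12,13]) :: chB224
theorem chB22ok3 : ChnL ↥Spor.M22 24 pt x5085s chB223 48 := ChnL.cons2 (l0 := [10,11,12]) (n := 16) (B := 3) (k := 2) (rr := 300) chB22ok4 (by decide +kernel) (by decide +kernel)
noncomputable def chB22D2 : ℕ := (nat_lit 0x7fbffc)
noncomputable def chB222 : Ch := (2, chB22D2, [1,9,10,11,12,13]) :: chB223
theorem chB22ok2 : ChnL ↥Spor.M22 24 pt x5085s chB222 960 := ChnL.cons2 (l0 := [1,9]) (n := 20) (B := 48) (k := 2) (rr := 300) chB22ok3 (by decide +kernel) (by decide +kernel)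
noncomputable def chB22D1 : ℕ := (nat_lit 0x7ffffc)
noncomputable def chB221 : Ch := (14, chB22D1, [1,3,9,10,11,12,13]) :: chB222
theorem chB22ok1 : ChnL ↥Spor.M22 24 pt x5085s chB221 20160 := ChnL.cons2 (l0 := [1,3]) (n := 21) (B := 960) (k := 2) (rr := 300) chB22ok2 (by decide +kernel) (by decide +kernel)
noncomputable def chB22D0 : ℕ := (nat_lit 0x7ffffe)
noncomputable def chB220 : Ch := (1, chB22D0, [0,1,2,3,9,10,11,12,13]) :: chB221
theorem chB22ok0 : ChnL ↥Spor.M22 24 pt x5085s chB220 443520 := ChnL.cons2 (l0 := [0,1,2]) (n := 22) (B := 20160) (k := 2) (rr := 300) chB22ok1 (by decide +kernel) (by decide +kernel)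
noncomputable def fA220 : ℕ := (nat_lit 0x800001)
noncomputable def fA22 : List (List ℕ × ℕ) := [([0],fA220)]
noncomputable def fB220 : ℕ := (nat_lit 0x804003)
noncomputable def fB22 : List (List ℕ × ℕ) := [([1],fB220)]
noncomputable def cw22 : List (List ℕ) := [[1]]
theorem fAok22 : (spA 24 x5085s fA22).FixOk := SP.fixOk_of _ nok22 (k := 5) (by decide +kernel)
theorem fBok22 : (spB 24 x5085s cw22 fB22).FixOk := SP.fixOk_of _ nok22 (k := 5) (by decide +kernel)
noncomputable def cm5087T : BT := (BT.br [[0]] (BT.kid 1 [] (BT.frc 0 [0] [] (BT.frc 0 [0] [] (BT.frc 0 [0] [] (BT.frc 0 [0] [] BT.live)))) (BT.kid 14 [2] (BT.frc 0 [0] [1,8] (BT.frc 0 [0] [4,4,4] (BT.frc 0 [0] [6,6] (BT.out 0 [0])))) BT.nil)))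
theorem cm5087 : (spA 24 x5085s fA22).Clm ↥Spor.M22 pt false 0 chA220 [] [] := SP.Clm.ofN (T := cm5087T) (by decide +kernel)
noncomputable def cm5088T : BT := (BT.br [[0]] (BT.kid 1 [] (BT.br [] (BT.kid 14 [] (BT.br [[0]] (BT.kid 2 [] (BT.frc 0 [1] [] (BT.frc 0 [1] [] BT.live)) (BT.kid 19 [9] (BT.frc 0 [1] [11] (BT.out 0 [1])) (BT.kid 10 [1,9] (BT.frc 0 [1] [11,12] (BT.out 0 [1])) (BT.kid 8 [1,10] (BT.frc 0 [1] [10,10,11] (BT.out 0 [1])) BT.nil))))) BT.nil)) (BT.kid 14 [2] (BT.br [] (BT.kid 1 [] (BT.br [[0]] (BT.kid 11 [] (BT.frc 0 [1] [11] (BT.frc 0 [1] [13,13] (BT.nc 1 2))) (BT.kid 19 [9] (BT.frc 0 [1] [12,12] (BT.out 0 [1])) (BT.kid 2 [1,9] (BT.frc 0 [1] [12,13] (BT.out 0 [1])) (BT.kid 8 [1,10] (BT.frc 0 [1] [11] (BT.out 0 [1])) BT.nil))))) BT.nil)) BT.nil)))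
theorem cm5088 : (spB 24 x5085s cw22 fB22).Clm ↥Spor.M22 pt false 0 chB220 [] [] := SP.Clm.ofN (T := cm5088T) (by decide +kernel)
noncomputable def tl22 : List (List ℕ) := [[],[1],[1,1],[1,1,1],[1,1,1,1]]
noncomputable def orels22 : List (List ℕ × ℕ) := [([0,2,2,1],3)]
theorem ex5089 : exRow 24 x5085s orels22 2 [1,1] 2 tl22 [(0,1),(0,1),(0,0),(0,1),(0,1)] = true := by decide +kernel
theorem ex5090 : exRow 24 x5085s orels22 2 [1,1] 1 tl22 [(0,0),(0,1),(0,1),(0,1),(0,1)] = true := by decide +kernel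
theorem oh222 : relC 24 na22 x5085s chB220 11 3 3 1 cw22 orels22 = true := by decide +kernel
theorem oh322 : tabC x5085s chB220 cw22 tl22 [[1,2,3,4,0]] = true := by decide +kernel
theorem od22 : OutD ↥Spor.M22 24 pt x5085s (dG g22 wa22) chB220 tl22 2 [1,1] := OutD.of om022 card_M22 der5086 chA22ok0 chB22ok0 fAok22 fBok22 cm5087 cm5088 (by norm_num) (ks := [1,2]) (by decide +kernel) oh222 oh322 (List.forall_mem_cons.2 ⟨⟨_, ex5090⟩, (List.forall_mem_cons.2 ⟨⟨_, ex5089⟩, (by simp)⟩)⟩)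
noncomputable def wb22 : List (List ℕ) := [[0,0],[1,1],[2,0,0],[1,1,3],[],[],[],[],[],[],[],[],[0,0,0,12,2,2,1,1,1],[0,0,0,3,3,13,1,1,1],[1,3,0,14,1,2,0,12,2],[3,13,1,3,0,15,1,2,0]]
noncomputable def nb220 : Net := (Net.cons (nat_lit 12) (nat_lit 918)
  (Net.cons (nat_lit 6) (nat_lit 69662)
  (Net.cons (nat_lit 3) (nat_lit 0x183106)
  (Net.cons (nat_lit 1) (nat_lit 0x208000)
  (Net.cons (nat_lit 1) (nat_lit 0x412000)
  (Net.cons (nat_lit 1) (nat_lit 4160)
  (Net.cons (nat_lit 3) (nat_lit 0x104000)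
  (Net.cons (nat_lit 6) (nat_lit 73746)
  (Net.cons (nat_lit 12) (nat_lit 1388)
  Net.nil)))))))))
noncomputable def nb222 : Net := (Net.cons (nat_lit 12) (nat_lit 884)
  (Net.cons (nat_lit 6) (nat_lit 0x3b002)
  (Net.cons (nat_lit 3) (nat_lit 0x81182)
  (Net.cons (nat_lit 1) (nat_lit 0x200200)
  (Net.cons (nat_lit 1) (nat_lit 0x480410)
  (Net.cons (nat_lit 1) (nat_lit 0x48008)
  (Net.cons (nat_lit 3) (nat_lit 2)
  (Net.cons (nat_lit 6) (nat_lit 0x2a004)
  (Net.cons (nat_lit 12) (nat_lit 1324)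
  Net.nil)))))))))
noncomputable def nb2212 : Net := (Net.cons (nat_lit 12) (nat_lit 2016)
  (Net.cons (nat_lit 6) (nat_lit 49152)
  (Net.cons (nat_lit 3) (nat_lit 0x82102)
  (Net.cons (nat_lit 1) (nat_lit 8192)
  (Net.cons (nat_lit 1) (nat_lit 33288)
  (Net.cons (nat_lit 3) (nat_lit 8194)
  (Net.cons (nat_lit 6) (nat_lit 49152)
  (Net.cons (nat_lit 12) (nat_lit 1920)
  Net.nil))))))))
noncomputable def nb2214 : Net := (Net.cons (nat_lit 12) (nat_lit 2482)
  (Net.cons (nat_lit 6) (nat_lit 81924)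
  (Net.cons (nat_lit 3) (nat_lit 0x87082)
  (Net.cons (nat_lit 1) (nat_lit 0x200008)
  (Net.cons (nat_lit 1) (nat_lit 0x412012)
  (Net.cons (nat_lit 1) (nat_lit 0x200008)
  (Net.cons (nat_lit 3) (nat_lit 2)
  (Net.cons (nat_lit 6) (nat_lit 16404)
  (Net.cons (nat_lit 12) (nat_lit 3106)
  Net.nil)))))))))
noncomputable def nb22l : List Net := [nb220,nb220.rev,nb222,nb222.rev,Net.nil,Net.nil,Net.nil,Net.nil,Net.nil,Net.nil,Net.nil,Net.nil,nb2212,nb2212.rev,nb2214,nb2214.rev]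
noncomputable abbrev nb22 : ℕ → Net := lk Net.nil nb22l
theorem om222 : IsModel 24 pt (dG g22 wb22) nb22 vT := model22.dG (k := 5) (by decide +kernel)
theorem os222 : Sat io C392 (dG g22 wb22) := (sat_of_eqv (eqv_of_faith om222 (faithP0.sub _) 5) (fun _ h => dG_ge h) (by decide +kernel)).of_eqv (eqv_of_faith om222 (faithP0.sub _) 5) (by decide +kernel)
theorem der5091 : Der 24 pt (cl (dG g22 wb22) (lw [0,1,2,3,12,13,14,15])) (fun _ => Net.nil) := Der.zero om222.inj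
noncomputable def ns5092 : ℕ → Net := upd (fun _ => Net.nil) 0 (nb22 0)
theorem der5093 : Der 24 pt (cl (dG g22 wb22) (lw [0,1,2,3,12,13,14,15])) ns5092 := der5091.add (wp_mem_cl (w := [0]) (by decide)) (rep_letter om222 0) 0
noncomputable def ns5094 : ℕ → Net := upd ns5092 1 (nb22 1)
theorem der5095 : Der 24 pt (cl (dG g22 wb22) (lw [0,1,2,3,12,13,14,15])) ns5094 := der5093.add (wp_mem_cl (w := [1]) (by decide)) (rep_letter om222 1) 1
noncomputable def ns5096 : ℕ → Net := upd ns5094 2 (nb22 2)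
theorem der5097 : Der 24 pt (cl (dG g22 wb22) (lw [0,1,2,3,12,13,14,15])) ns5096 := der5095.add (wp_mem_cl (w := [2]) (by decide)) (rep_letter om222 2) 2
noncomputable def ns5098 : ℕ → Net := upd ns5096 3 (nb22 3)
theorem der5099 : Der 24 pt (cl (dG g22 wb22) (lw [0,1,2,3,12,13,14,15])) ns5098 := der5097.add (wp_mem_cl (w := [3]) (by decide)) (rep_letter om222 3) 3
noncomputable def ns5100 : ℕ → Net := upd ns5098 4 (nb22 12)
theorem der5101 : Der 24 pt (cl (dG g22 wb22) (lw [0,1,2,3,12,13,14,15])) ns5100 := der5099.add (wp_mem_cl (w := [12]) (by decide)) (rep_letter om222 12) 4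
noncomputable def ns5102 : ℕ → Net := upd ns5100 5 (nb22 13)
theorem der5103 : Der 24 pt (cl (dG g22 wb22) (lw [0,1,2,3,12,13,14,15])) ns5102 := der5101.add (wp_mem_cl (w := [13]) (by decide)) (rep_letter om222 13) 5
noncomputable def ns5104 : ℕ → Net := upd ns5102 6 (nb22 14)
theorem der5105 : Der 24 pt (cl (dG g22 wb22) (lw [0,1,2,3,12,13,14,15])) ns5104 := der5103.add (wp_mem_cl (w := [14]) (by decide)) (rep_letter om222 14) 6
noncomputable def ns5106 : ℕ → Net := upd ns5104 7 (nb22 15)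
theorem der5107 : Der 24 pt (cl (dG g22 wb22) (lw [0,1,2,3,12,13,14,15])) ns5106 := der5105.add (wp_mem_cl (w := [15]) (by decide)) (rep_letter om222 15) 7
noncomputable def x5108 : Net := (Net.cons (nat_lit 12) (nat_lit 436)
  (Net.cons (nat_lit 6) (nat_lit 0x3c022)
  (Net.cons (nat_lit 3) (nat_lit 0x1001c4)
  (Net.cons (nat_lit 1) (nat_lit 4160)
  (Net.cons (nat_lit 1) (nat_lit 0x82482)
  (Net.cons (nat_lit 1) (nat_lit 0x200200)
  (Net.cons (nat_lit 3) (nat_lit 0x102080)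
  (Net.cons (nat_lit 6) (nat_lit 0x2403a)
  (Net.cons (nat_lit 12) (nat_lit 60)
  Net.nil)))))))))
noncomputable def x5108s : ℕ → Net := upd ns5106 8 x5108
theorem der5109 : Der 24 pt (cl (dG g22 wb22) (lw [0,1,2,3,12,13,14,15])) x5108s := der5107.ext (k := 5) (w := [0,6,0,0,4,0,6,1]) 8 (by decide +kernel)
noncomputable def x5110 : Net := (Net.cons (nat_lit 12) (nat_lit 736)
  (Net.cons (nat_lit 6) (nat_lit 0x2d006)
  (Net.cons (nat_lit 3) (nat_lit 0x103186)
  (Net.cons (nat_lit 1) (nat_lit 0x41040)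
  (Net.cons (nat_lit 1) (nat_lit 0x82090)
  (Net.cons (nat_lit 1) (nat_lit 4104)
  (Net.cons (nat_lit 3) (nat_lit 0x100100)
  (Net.cons (nat_lit 6) (nat_lit 0x3c01c)
  (Net.cons (nat_lit 12) (nat_lit 152)
  Net.nil)))))))))
noncomputable def x5110s : ℕ → Net := upd x5108s 9 x5110
theorem der5111 : Der 24 pt (cl (dG g22 wb22) (lw [0,1,2,3,12,13,14,15])) x5110s := der5109.ext (k := 5) (w := [3,8,6,3,8,8]) 9 (by decide +kernel)
noncomputable def x5112 : Net := (Net.cons (nat_lit 12) (nat_lit 3288)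
  (Net.cons (nat_lit 6) (nat_lit 0x3e00c)
  (Net.cons (nat_lit 3) (nat_lit 0x186084)
  (Net.cons (nat_lit 1) (nat_lit 4096)
  (Net.cons (nat_lit 1) (nat_lit 0x92010)
  (Net.cons (nat_lit 1) (nat_lit 0x201208)
  (Net.cons (nat_lit 3) (nat_lit 0x180002)
  (Net.cons (nat_lit 6) (nat_lit 16388)
  (Net.cons (nat_lit 12) (nat_lit 3762)
  Net.nil)))))))))
noncomputable def x5112s : ℕ → Net := upd x5110s 10 x5112
theorem der5113 : Der 24 pt (cl (dG g22 wb22) (lw [0,1,2,3,12,13,14,15])) x5112s := der5111.ext (k := 5) (w := [2,8,6,5,8,3]) 10 (by decide +kernel)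
noncomputable def x5114 : Net := (Net.cons (nat_lit 12) (nat_lit 576)
  (Net.cons (nat_lit 6) (nat_lit 0x22028)
  (Net.cons (nat_lit 3) (nat_lit 0x1c10c0)
  (Net.cons (nat_lit 1) (nat_lit 0x40208)
  (Net.cons (nat_lit 1) (nat_lit 0x80490)
  (Net.cons (nat_lit 1) (nat_lit 0x41208)
  (Net.cons (nat_lit 6) (nat_lit 0x22000)
  (Net.cons (nat_lit 12) (nat_lit 98)
  Net.nil))))))))
noncomputable def x5114s : ℕ → Net := upd x5112s 11 x5114
theorem der5115 : Der 24 pt (cl (dG g22 wb22) (lw [0,1,2,3,12,13,14,15])) x5114s := der5113.ext (k := 5) (w := [6,10,5,9]) 11 (by decide +kernel)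
noncomputable def x5116 : Net := (Net.cons (nat_lit 12) (nat_lit 3632)
  (Net.cons (nat_lit 6) (nat_lit 40972)
  (Net.cons (nat_lit 3) (nat_lit 0x41080)
  (Net.cons (nat_lit 1) (nat_lit 0x400012)
  (Net.cons (nat_lit 1) (nat_lit 0x41208)
  (Net.cons (nat_lit 6) (nat_lit 0x2000c)
  (Net.cons (nat_lit 12) (nat_lit 3888)
  Net.nil)))))))
noncomputable def x5116s : ℕ → Net := upd x5114s 12 x5116
theorem der5117 : Der 24 pt (cl (dG g22 wb22) (lw [0,1,2,3,12,13,14,15])) x5116s := der5115.ext (k := 5) (w := [9,10,9,9,9]) 12 (by decide +kernel)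
noncomputable def L5118 : Lev := Lev.cons 1 3 [[11]] Lev.nil
noncomputable def L5119 : Lev := Lev.cons 16 16 [[4],[5],[12]] L5118
noncomputable def L5120 : Lev := Lev.cons 4 20 [[6],[7],[9],[10]] L5119
noncomputable def L5121 : Lev := Lev.cons 14 21 [[2],[3],[8]] L5120
noncomputable def L5122 : Lev := Lev.cons 2 22 [[0],[1]] L5121
theorem lc5123 : Lev.chk 24 2 x5116s vT 100 L5122 = true := by decide +kernel
theorem lb5124 : 443520 ≤ Nat.card (cl (dG g22 wb22) (lw [0,1,2,3,12,13,14,15])) := le_of_eq_of_le (by decide +kernel) (der5117.card_ge lc5123)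
theorem ot222 : cl (dG g22 wb22) (lw [0,1,2,3,12,13,14,15]) = ⊤ := top_of_card card_M22 lb5124
theorem out22 : Nat.card (Out ↥Spor.M22) = 2 := by
  obtain ⟨β, hβ⟩ := aut_of_top bd495 sa1231 os222 (top_of_card card_M22 lb1228) card_M22 ot222 (wa := wa22) (by decide +kernel)
  exact od22.two β om222.toIsPre (fun i _ => hβ i) (row := [(0,1),(0,1),(0,1),(0,1),(0,1)]) (by decide +kernel)
noncomputable def wa23 : List (List ℕ) := [[1,8,1],[8,3,8,0,3,8,4,3,3,0,4,0,0],[0,2,4,0,0,8,2,2,0,4,2,2,1,1,1,1,1]]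
noncomputable def na230 : Net := (Net.cons (nat_lit 12) (nat_lit 685)
  (Net.cons (nat_lit 6) (nat_lit 0x2c027)
  (Net.cons (nat_lit 3) (nat_lit 0xc5186)
  (Net.cons (nat_lit 1) (nat_lit 33281)
  (Net.cons (nat_lit 1) (nat_lit 0x490482)
  (Net.cons (nat_lit 1) (nat_lit 0x49209)
  (Net.cons (nat_lit 3) (nat_lit 0x84184)
  (Net.cons (nat_lit 6) (nat_lit 0x3001a)
  (Net.cons (nat_lit 12) (nat_lit 1930)
  Net.nil)))))))))
noncomputable def na231 : Net := (Net.cons (nat_lit 12) (nat_lit 366)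
  (Net.cons (nat_lit 6) (nat_lit 0x2e01e)
  (Net.cons (nat_lit 3) (nat_lit 0x147140)
  (Net.cons (nat_lit 1) (nat_lit 32832)
  (Net.cons (nat_lit 1) (nat_lit 0x90092)
  (Net.cons (nat_lit 1) (nat_lit 0x49248)
  (Net.cons (nat_lit 3) (nat_lit 0x86000)
  (Net.cons (nat_lit 6) (nat_lit 0x2002c)
  (Net.cons (nat_lit 12) (nat_lit 1414)
  Net.nil)))))))))
noncomputable def na232 : Net := (Net.cons (nat_lit 12) (nat_lit 3836)
  (Net.cons (nat_lit 6) (nat_lit 0x37012)
  (Net.cons (nat_lit 3) (nat_lit 0x142000)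
  (Net.cons (nat_lit 1) (nat_lit 32832)
  (Net.cons (nat_lit 1) (nat_lit 0x492090)
  (Net.cons (nat_lit 1) (nat_lit 0x200048)
  (Net.cons (nat_lit 3) (nat_lit 6)
  (Net.cons (nat_lit 6) (nat_lit 0x3201e)
  (Net.cons (nat_lit 12) (nat_lit 3540)
  Net.nil)))))))))
noncomputable def na23l : List Net := [na230,na231,na232]
noncomputable abbrev na23 : ℕ → Net := lk Net.nil na23l
theorem om023 : IsModel 24 pt (dG g23 wa23) na23 vT := model23.dG (k := 5) (by decide +kernel)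
theorem od023 : Der 24 pt (cl (dG g23 wa23) (lw [0, 1, 2])) (resN na23 [0, 1, 2]) := Der.letters om023 _
noncomputable def x5125 : Net := (Net.cons (nat_lit 12) (nat_lit 3336)
  (Net.cons (nat_lit 3) (nat_lit 0x1c5040)
  (Net.cons (nat_lit 1) (nat_lit 0x48008)
  (Net.cons (nat_lit 1) (nat_lit 0x490092)
  (Net.cons (nat_lit 1) (nat_lit 36936)
  (Net.cons (nat_lit 3) (nat_lit 16516)
  (Net.cons (nat_lit 6) (nat_lit 0x3c00c)
  (Net.cons (nat_lit 12) (nat_lit 3476)
  Net.nil))))))))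
noncomputable def x5125s : ℕ → Net := upd (resN na23 [0, 1, 2]) 3 x5125
theorem der5126 : Der 24 pt (cl (dG g23 wa23) (lw [0, 1, 2])) x5125s := od023.ext (k := 5) (w := [0,1,1,1,2,0,2,0]) 3 (by decide +kernel)
noncomputable def x5127 : Net := (Net.cons (nat_lit 12) (nat_lit 112)
  (Net.cons (nat_lit 6) (nat_lit 0x2701e)
  (Net.cons (nat_lit 3) (nat_lit 0x1840c6)
  (Net.cons (nat_lit 1) (nat_lit 32768)
  (Net.cons (nat_lit 1) (nat_lit 65680)
  (Net.cons (nat_lit 1) (nat_lit 0x49048)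
  (Net.cons (nat_lit 3) (nat_lit 0x84002)
  (Net.cons (nat_lit 6) (nat_lit 0x28018)
  (Net.cons (nat_lit 12) (nat_lit 72)
  Net.nil)))))))))
noncomputable def x5127s : ℕ → Net := upd x5125s 4 x5127
theorem der5128 : Der 24 pt (cl (dG g23 wa23) (lw [0, 1, 2])) x5127s := der5126.ext (k := 5) (w := [2,2,1,3]) 4 (by decide +kernel)
noncomputable def x5129 : Net := (Net.cons (nat_lit 12) (nat_lit 374)
  (Net.cons (nat_lit 6) (nat_lit 0x1b010)
  (Net.cons (nat_lit 3) (nat_lit 0x100000)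
  (Net.cons (nat_lit 1) (nat_lit 0x208008)
  (Net.cons (nat_lit 1) (nat_lit 0x412010)
  (Net.cons (nat_lit 1) (nat_lit 4680)
  (Net.cons (nat_lit 3) (nat_lit 0x182004)
  (Net.cons (nat_lit 6) (nat_lit 8200)
  (Net.cons (nat_lit 12) (nat_lit 448)
  Net.nil)))))))))
noncomputable def x5129s : ℕ → Net := upd x5127s 5 x5129
theorem der5130 : Der 24 pt (cl (dG g23 wa23) (lw [0, 1, 2])) x5129s := der5128.ext (k := 5) (w := [1,1,2,2]) 5 (by decide +kernel)
noncomputable def x5131 : Net := (Net.cons (nat_lit 12) (nat_lit 1580)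
  (Net.cons (nat_lit 6) (nat_lit 0x1e020)
  (Net.cons (nat_lit 3) (nat_lit 0x1850c0)
  (Net.cons (nat_lit 1) (nat_lit 0x400400)
  (Net.cons (nat_lit 1) (nat_lit 0x40008)
  (Net.cons (nat_lit 3) (nat_lit 0x180000)
  (Net.cons (nat_lit 6) (nat_lit 81960)
  (Net.cons (nat_lit 12) (nat_lit 1916)
  Net.nil))))))))
noncomputable def x5131s : ℕ → Net := upd x5129s 6 x5131
theorem der5132 : Der 24 pt (cl (dG g23 wa23) (lw [0, 1, 2])) x5131s := der5130.ext (k := 5) (w := [5,4,5,5,5,5,4,4,5,4,5,5]) 6 (by decide +kernel)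
noncomputable def x5133 : Net := (Net.cons (nat_lit 12) (nat_lit 346)
  (Net.cons (nat_lit 6) (nat_lit 0x2502a)
  (Net.cons (nat_lit 3) (nat_lit 0x43000)
  (Net.cons (nat_lit 1) (nat_lit 576)
  (Net.cons (nat_lit 1) (nat_lit 0x400480)
  (Net.cons (nat_lit 1) (nat_lit 0x41200)
  (Net.cons (nat_lit 3) (nat_lit 0x80000)
  (Net.cons (nat_lit 6) (nat_lit 0x32022)
  (Net.cons (nat_lit 12) (nat_lit 350)
  Net.nil)))))))))
noncomputable def x5133s : ℕ → Net := upd x5131s 7 x5133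
theorem der5134 : Der 24 pt (cl (dG g23 wa23) (lw [0, 1, 2])) x5133s := der5132.ext (k := 5) (w := [4,6,4,6,6,4]) 7 (by decide +kernel)
noncomputable def x5135 : Net := (Net.cons (nat_lit 12) (nat_lit 94)
  (Net.cons (nat_lit 6) (nat_lit 65542)
  (Net.cons (nat_lit 3) (nat_lit 0xc3000)
  (Net.cons (nat_lit 1) (nat_lit 4168)
  (Net.cons (nat_lit 1) (nat_lit 0x92090)
  (Net.cons (nat_lit 1) (nat_lit 4104)
  (Net.cons (nat_lit 3) (nat_lit 8196)
  (Net.cons (nat_lit 6) (nat_lit 90112)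
  (Net.cons (nat_lit 12) (nat_lit 976)
  Net.nil)))))))))
noncomputable def x5135s : ℕ → Net := upd x5133s 8 x5135
theorem der5136 : Der 24 pt (cl (dG g23 wa23) (lw [0, 1, 2])) x5135s := der5134.ext (k := 5) (w := [6,4,4,6,6,4,6,4]) 8 (by decide +kernel)
noncomputable def x5137 : Net := (Net.cons (nat_lit 12) (nat_lit 1016)
  (Net.cons (nat_lit 6) (nat_lit 12288)
  (Net.cons (nat_lit 3) (nat_lit 0x187006)
  (Net.cons (nat_lit 1) (nat_lit 0x400090)
  (Net.cons (nat_lit 1) (nat_lit 0x241048)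
  (Net.cons (nat_lit 3) (nat_lit 0x100006)
  (Net.cons (nat_lit 6) (nat_lit 32770)
  (Net.cons (nat_lit 12) (nat_lit 722)
  Net.nil))))))))
noncomputable def x5137s : ℕ → Net := upd x5135s 9 x5137
theorem der5138 : Der 24 pt (cl (dG g23 wa23) (lw [0, 1, 2])) x5137s := der5136.ext (k := 5) (w := [4,4,6,4,4,6,6]) 9 (by decide +kernel)
noncomputable def x5139 : Net := (Net.cons (nat_lit 12) (nat_lit 1680)
  (Net.cons (nat_lit 6) (nat_lit 4136)
  (Net.cons (nat_lit 3) (nat_lit 0x40006)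
  (Net.cons (nat_lit 1) (nat_lit 0x40008)
  (Net.cons (nat_lit 1) (nat_lit 0x92410)
  (Net.cons (nat_lit 1) (nat_lit 0x49040)
  (Net.cons (nat_lit 3) (nat_lit 262)
  (Net.cons (nat_lit 6) (nat_lit 16424)
  (Net.cons (nat_lit 12) (nat_lit 1552)
  Net.nil)))))))))
noncomputable def x5139s : ℕ → Net := upd x5137s 10 x5139
theorem der5140 : Der 24 pt (cl (dG g23 wa23) (lw [0, 1, 2])) x5139s := der5138.ext (k := 5) (w := [9,8,7,9,9]) 10 (by decide +kernel)
noncomputable def x5141 : Net := (Net.cons (nat_lit 12) (nat_lit 628)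
  (Net.cons (nat_lit 6) (nat_lit 24584)
  (Net.cons (nat_lit 3) (nat_lit 454)
  (Net.cons (nat_lit 1) (nat_lit 0x48008)
  (Net.cons (nat_lit 1) (nat_lit 0x90412)
  (Net.cons (nat_lit 1) (nat_lit 0x249248)
  (Net.cons (nat_lit 3) (nat_lit 8198)
  (Net.cons (nat_lit 6) (nat_lit 49156)
  (Net.cons (nat_lit 12) (nat_lit 564)
  Net.nil)))))))))
noncomputable def x5141s : ℕ → Net := upd x5139s 11 x5141
theorem der5142 : Der 24 pt (cl (dG g23 wa23) (lw [0, 1, 2])) x5141s := der5140.ext (k := 5) (w := [1,3,2,2,3,3,1]) 11 (by decide +kernel)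
noncomputable def x5143 : Net := (Net.cons (nat_lit 12) (nat_lit 236)
  (Net.cons (nat_lit 6) (nat_lit 16396)
  (Net.cons (nat_lit 3) (nat_lit 0x85180)
  (Net.cons (nat_lit 1) (nat_lit 0x41208)
  (Net.cons (nat_lit 1) (nat_lit 0x92410)
  (Net.cons (nat_lit 1) (nat_lit 0x240240)
  (Net.cons (nat_lit 3) (nat_lit 0x80084)
  (Net.cons (nat_lit 6) (nat_lit 81980)
  (Net.cons (nat_lit 12) (nat_lit 468)
  Net.nil)))))))))
noncomputable def x5143s : ℕ → Net := upd x5141s 12 x5143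
theorem der5144 : Der 24 pt (cl (dG g23 wa23) (lw [0, 1, 2])) x5143s := der5142.ext (k := 5) (w := [2,2,2,11,11,2,2,11]) 12 (by decide +kernel)
noncomputable def x5145 : Net := (Net.cons (nat_lit 12) (nat_lit 3004)
  (Net.cons (nat_lit 6) (nat_lit 0x2f03c)
  (Net.cons (nat_lit 3) (nat_lit 0x84004)
  (Net.cons (nat_lit 1) (nat_lit 0x241040)
  (Net.cons (nat_lit 1) (nat_lit 0x482090)
  (Net.cons (nat_lit 1) (nat_lit 0x41240)
  (Net.cons (nat_lit 3) (nat_lit 16644)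
  (Net.cons (nat_lit 6) (nat_lit 0x28030)
  (Net.cons (nat_lit 12) (nat_lit 2476)
  Net.nil)))))))))
noncomputable def x5145s : ℕ → Net := upd x5143s 13 x5145
theorem der5146 : Der 24 pt (cl (dG g23 wa23) (lw [0, 1, 2])) x5145s := der5144.ext (k := 5) (w := [2,11,2]) 13 (by decide +kernel)
noncomputable def x5147 : Net := (Net.cons (nat_lit 12) (nat_lit 3276)
  (Net.cons (nat_lit 6) (nat_lit 0x2f014)
  (Net.cons (nat_lit 3) (nat_lit 0x1000c6)
  (Net.cons (nat_lit 1) (nat_lit 0x41008)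
  (Net.cons (nat_lit 1) (nat_lit 0x482012)
  (Net.cons (nat_lit 1) (nat_lit 0x48048)
  (Net.cons (nat_lit 3) (nat_lit 16514)
  (Net.cons (nat_lit 6) (nat_lit 8204)
  (Net.cons (nat_lit 12) (nat_lit 3244)
  Net.nil)))))))))
noncomputable def x5147s : ℕ → Net := upd x5145s 14 x5147
theorem der5148 : Der 24 pt (cl (dG g23 wa23) (lw [0, 1, 2])) x5147s := der5146.ext (k := 5) (w := [12,12,13,12,13,12,13]) 14 (by decide +kernel)
noncomputable def x5149 : Net := (Net.cons (nat_lit 12) (nat_lit 3460)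
  (Net.cons (nat_lit 6) (nat_lit 98344)
  (Net.cons (nat_lit 3) (nat_lit 0x180104)
  (Net.cons (nat_lit 1) (nat_lit 4160)
  (Net.cons (nat_lit 1) (nat_lit 9360)
  (Net.cons (nat_lit 1) (nat_lit 36928)
  (Net.cons (nat_lit 3) (nat_lit 260)
  (Net.cons (nat_lit 6) (nat_lit 98336)
  (Net.cons (nat_lit 12) (nat_lit 3460)
  Net.nil)))))))))
noncomputable def x5149s : ℕ → Net := upd x5147s 15 x5149
theorem der5150 : Der 24 pt (cl (dG g23 wa23) (lw [0, 1, 2])) x5149s := der5148.ext (k := 5) (w := [12,12,13,13,13,13,12,13]) 15 (by decide +kernel)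
noncomputable def x5151 : Net := (Net.cons (nat_lit 12) (nat_lit 636)
  (Net.cons (nat_lit 6) (nat_lit 0x1903c)
  (Net.cons (nat_lit 3) (nat_lit 0x1021c4)
  (Net.cons (nat_lit 1) (nat_lit 32832)
  (Net.cons (nat_lit 1) (nat_lit 0x410490)
  (Net.cons (nat_lit 1) (nat_lit 0x209040)
  (Net.cons (nat_lit 3) (nat_lit 0x102104)
  (Net.cons (nat_lit 6) (nat_lit 98344)
  (Net.cons (nat_lit 12) (nat_lit 120)
  Net.nil)))))))))
noncomputable def x5151s : ℕ → Net := upd x5149s 16 x5151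
theorem der5152 : Der 24 pt (cl (dG g23 wa23) (lw [0, 1, 2])) x5151s := der5150.ext (k := 5) (w := [13,13,12]) 16 (by decide +kernel)
noncomputable def x5153 : Net := (Net.cons (nat_lit 12) (nat_lit 1672)
  (Net.cons (nat_lit 6) (nat_lit 0x2202c)
  (Net.cons (nat_lit 3) (nat_lit 0x40140)
  (Net.cons (nat_lit 1) (nat_lit 0x201000)
  (Net.cons (nat_lit 1) (nat_lit 0x402010)
  (Net.cons (nat_lit 1) (nat_lit 0x208208)
  (Net.cons (nat_lit 6) (nat_lit 0x2a030)
  (Net.cons (nat_lit 12) (nat_lit 720)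
  Net.nil))))))))
noncomputable def x5153s : ℕ → Net := upd x5151s 17 x5153
theorem der5154 : Der 24 pt (cl (dG g23 wa23) (lw [0, 1, 2])) x5153s := der5152.ext (k := 5) (w := [16,14,15,14,14,15,14]) 17 (by decide +kernel)
theorem nok23 : NetsOk 24 x5153s vT := der5154.elim fun _ h => h.1.ok
noncomputable def chA236 : Ch := []
noncomputable def chA23D5 : ℕ := (nat_lit 0x142000)
noncomputable def chA235 : Ch := (20, chA23D5, [10]) :: chA236
theorem chA23ok5 : ChnL ↥Spor.M23 24 pt x5153s chA235 3 := ChnL.cons2 (l0 := [10]) (n := 3) (B := 1) (k := 2) (rr := 300) ChnL.nil (by decide +kernel) (by decide +kernel)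
noncomputable def chA23D4 : ℕ := (nat_lit 0x6ad3fe)
noncomputable def chA234 : Ch := (3, chA23D4, [7,8,9,10]) :: chA235
theorem chA23ok4 : ChnL ↥Spor.M23 24 pt x5153s chA234 48 := ChnL.cons2 (l0 := [7,8,9]) (n := 16) (B := 3) (k := 2) (rr := 300) chA23ok5 (by decide +kernel) (by decide +kernel)
noncomputable def chA23D3 : ℕ := (nat_lit 0x7ff3fe)
noncomputable def chA233 : Ch := (16, chA23D3, [4,6,7,8,9,10]) :: chA234
theorem chA23ok3 : ChnL ↥Spor.M23 24 pt x5153s chA233 960 := ChnL.cons2 (l0 := [4,6]) (n := 20) (B := 48) (k := 2) (rr := 300) chA23ok4 (by decide +kernel) (by decide +kernel)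
noncomputable def chA23D2 : ℕ := (nat_lit 0x7ff7fe)
noncomputable def chA232 : Ch := (10, chA23D2, [4,5,6,7,8,9,10]) :: chA233
theorem chA23ok2 : ChnL ↥Spor.M23 24 pt x5153s chA232 20160 := ChnL.cons2 (l0 := [4,5]) (n := 21) (B := 960) (k := 2) (rr := 300) chA23ok3 (by decide +kernel) (by decide +kernel)
noncomputable def chA23D1 : ℕ := (nat_lit 0x7ffffe)
noncomputable def chA231 : Ch := (11, chA23D1, [1,2,3,4,5,6,7,8,9,10]) :: chA232
theorem chA23ok1 : ChnL ↥Spor.M23 24 pt x5153s chA231 443520 := ChnL.cons2 (l0 := [1,2,3]) (n := 22) (B := 20160) (k := 2) (rr := 300) chA23ok2 (by decide +kernel) (by decide +kernel)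
noncomputable def chA23D0 : ℕ := (nat_lit 0x7fffff)
noncomputable def chA230 : Ch := (0, chA23D0, [0,1,2,3,4,5,6,7,8,9,10]) :: chA231
theorem chA23ok0 : ChnL ↥Spor.M23 24 pt x5153s chA230 10200960 := ChnL.cons2 (l0 := [0,1,2]) (n := 23) (B := 443520) (k := 2) (rr := 300) chA23ok1 (by decide +kernel) (by decide +kernel)
noncomputable def chB236 : Ch := []
noncomputable def chB23D5 : ℕ := (nat_lit 20608)
noncomputable def chB235 : Ch := (7, chB23D5, [17]) :: chB236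
theorem chB23ok5 : ChnL ↥Spor.M23 24 pt x5153s chB235 3 := ChnL.cons2 (l0 := [17]) (n := 3) (B := 1) (k := 2) (rr := 300) ChnL.nil (by decide +kernel) (by decide +kernel)
noncomputable def chB23D4 : ℕ := (nat_lit 0x715ffc)
noncomputable def chB234 : Ch := (20, chB23D4, [14,15,16,17]) :: chB235
theorem chB23ok4 : ChnL ↥Spor.M23 24 pt x5153s chB234 48 := ChnL.cons2 (l0 := [14,15,16]) (n := 16) (B := 3) (k := 2) (rr := 300) chB23ok5 (by decide +kernel) (by decide +kernel)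
noncomputable def chB23D3 : ℕ := (nat_lit 0x77fffc)
noncomputable def chB233 : Ch := (13, chB23D3, [12,13,14,15,16,17]) :: chB234
theorem chB23ok3 : ChnL ↥Spor.M23 24 pt x5153s chB233 960 := ChnL.cons2 (l0 := [12,13]) (n := 20) (B := 48) (k := 2) (rr := 300) chB23ok4 (by decide +kernel) (by decide +kernel)
noncomputable def chB23D2 : ℕ := (nat_lit 0x7ffffc)
noncomputable def chB232 : Ch := (19, chB23D2, [2,11,12,13,14,15,16,17]) :: chB233
theorem chB23ok2 : ChnL ↥Spor.M23 24 pt x5153s chB232 20160 := ChnL.cons2 (l0 := [2,11]) (n := 21) (B := 960) (k := 2) (rr := 300) chB23ok3 (by decide +kernel) (by decide +kernel)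
noncomputable def chB23D1 : ℕ := (nat_lit 0x7ffffe)
noncomputable def chB231 : Ch := (1, chB23D1, [1,2,3,11,12,13,14,15,16,17]) :: chB232
theorem chB23ok1 : ChnL ↥Spor.M23 24 pt x5153s chB231 443520 := ChnL.cons2 (l0 := [1,2,3]) (n := 22) (B := 20160) (k := 2) (rr := 300) chB23ok2 (by decide +kernel) (by decide +kernel)
noncomputable def chB23D0 : ℕ := (nat_lit 0x7fffff)
noncomputable def chB230 : Ch := (0, chB23D0, [0,1,2,3,11,12,13,14,15,16,17]) :: chB231
theorem chB23ok0 : ChnL ↥Spor.M23 24 pt x5153s chB230 10200960 := ChnL.cons2 (l0 := [0,1,2]) (n := 23) (B := 443520) (k := 2) (rr := 300) chB23ok1 (by decide +kernel) (by decide +kernel)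
noncomputable def fA230 : ℕ := (nat_lit 0x800000)
noncomputable def fA23 : List (List ℕ × ℕ) := [([0],fA230)]
noncomputable def fB230 : ℕ := (nat_lit 0x800001)
noncomputable def fB23 : List (List ℕ × ℕ) := [([1],fB230)]
noncomputable def cw23 : List (List ℕ) := [[1]]
theorem fAok23 : (spA 24 x5153s fA23).FixOk := SP.fixOk_of _ nok23 (k := 5) (by decide +kernel)
theorem fBok23 : (spB 24 x5153s cw23 fB23).FixOk := SP.fixOk_of _ nok23 (k := 5) (by decide +kernel)
noncomputable def cm5155T : BT := (BT.br [[0]] (BT.kid 0 [] (BT.frc 0 [0] [] (BT.frc 0 [0] [] (BT.frc 0 [0] [] (BT.frc 0 [0] [] (BT.frc 0 [0] [] BT.live))))) BT.nil))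
theorem cm5155 : (spA 24 x5153s fA23).Clm ↥Spor.M23 pt false 0 chA230 [] [] := SP.Clm.ofN (T := cm5155T) (by decide +kernel)
noncomputable def cm5156T : BT := (BT.br [] (BT.kid 0 [] (BT.br [[0]] (BT.kid 1 [] (BT.frc 0 [1] [] (BT.frc 0 [1] [] (BT.frc 0 [1] [] (BT.frc 0 [1] [] BT.live)))) (BT.kid 4 [1,3] (BT.frc 0 [1] [11,17] (BT.frc 0 [1] [13,16] (BT.frc 0 [1] [14,15] (BT.out 0 [1])))) BT.nil))) BT.nil))
theorem cm5156 : (spB 24 x5153s cw23 fB23).Clm ↥Spor.M23 pt false 0 chB230 [] [] := SP.Clm.ofN (T := cm5156T) (by decide +kernel)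
noncomputable def tl23 : List (List ℕ) := [[],[1],[1,1],[1,1,1],[1,1,1,1],[1,1,1,1,1],[1,1,1,1,1,1],[1,1,1,1,1,1,1],[1,1,1,1,1,1,1,1],[1,1,1,1,1,1,1,1,1],[1,1,1,1,1,1,1,1,1,1]]
noncomputable def orels23 : List (List ℕ × ℕ) := [([0,2],5)]
theorem ex5157 : exRow 24 x5153s orels23 1 [] 5 tl23 [(0,0),(0,0),(0,0),(0,0),(0,0),(0,0),(0,0),(0,0),(0,0),(0,0),(0,0)] = true := by decide +kernel
theorem ex5158 : exRow 24 x5153s orels23 1 [] 1 tl23 [(0,0),(0,0),(0,0),(0,0),(0,0),(0,0),(0,0),(0,0),(0,0),(0,0),(0,0)] = true := by decide +kernel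
theorem oh223 : relC 24 na23 x5153s chB230 23 2 9 0 cw23 orels23 = true := by decide +kernel
theorem oh323 : tabC x5153s chB230 cw23 tl23 [[1,2,3,4,5,6,7,8,9,10,0]] = true := by decide +kernel
theorem od23 : OutD ↥Spor.M23 24 pt x5153s (dG g23 wa23) chB230 tl23 1 [] := OutD.of om023 card_M23 der5154 chA23ok0 chB23ok0 fAok23 fBok23 cm5155 cm5156 (by norm_num) (ks := [1,5]) (by decide +kernel) oh223 oh323 (List.forall_mem_cons.2 ⟨⟨_, ex5158⟩, (List.forall_mem_cons.2 ⟨⟨_, ex5157⟩, (by simp)⟩)⟩)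
theorem out23 : Nat.card (Out ↥Spor.M23) = 1 := od23.one
noncomputable def wa24 : List (List ℕ) := [[4,0,8,2,8],[4,0,4,2,0,8,0,0,4,2,0,4,3,3,0],[2,10,0,0,10,2,4,0,8,0,4,0,8,4,2,0]]
noncomputable def na240 : Net := (Net.cons (nat_lit 12) (nat_lit 3510)
  (Net.cons (nat_lit 6) (nat_lit 0x1e03c)
  (Net.cons (nat_lit 3) (nat_lit 0x186000)
  (Net.cons (nat_lit 1) (nat_lit 32768)
  (Net.cons (nat_lit 1) (nat_lit 0x412090)
  (Net.cons (nat_lit 1) (nat_lit 0x41040)
  (Net.cons (nat_lit 3) (nat_lit 0x184184)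
  (Net.cons (nat_lit 6) (nat_lit 0x20034)
  (Net.cons (nat_lit 12) (nat_lit 2312)
  Net.nil)))))))))
noncomputable def na241 : Net := (Net.cons (nat_lit 12) (nat_lit 1096)
  (Net.cons (nat_lit 6) (nat_lit 8252)
  (Net.cons (nat_lit 3) (nat_lit 0x44044)
  (Net.cons (nat_lit 1) (nat_lit 0x200208)
  (Net.cons (nat_lit 1) (nat_lit 0x410490)
  (Net.cons (nat_lit 1) (nat_lit 0x249040)
  (Net.cons (nat_lit 3) (nat_lit 0x84000)
  (Net.cons (nat_lit 6) (nat_lit 16432)
  (Net.cons (nat_lit 12) (nat_lit 3372)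
  Net.nil)))))))))
noncomputable def na242 : Net := (Net.cons (nat_lit 12) (nat_lit 3012)
  (Net.cons (nat_lit 6) (nat_lit 0x2d000)
  (Net.cons (nat_lit 3) (nat_lit 0x870c5)
  (Net.cons (nat_lit 1) (nat_lit 4161)
  (Net.cons (nat_lit 1) (nat_lit 0x82092)
  (Net.cons (nat_lit 1) (nat_lit 0x208048)
  (Net.cons (nat_lit 3) (nat_lit 0x180106)
  (Net.cons (nat_lit 6) (nat_lit 0x24018)
  (Net.cons (nat_lit 12) (nat_lit 1620)
  Net.nil)))))))))
noncomputable def na24l : List Net := [na240,na241,na242]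
noncomputable abbrev na24 : ℕ → Net := lk Net.nil na24l
theorem om024 : IsModel 24 pt (dG g24 wa24) na24 vT := model24.dG (k := 5) (by decide +kernel)
theorem od024 : Der 24 pt (cl (dG g24 wa24) (lw [0, 1, 2])) (resN na24 [0, 1, 2]) := Der.letters om024 _
noncomputable def x5159 : Net := (Net.cons (nat_lit 12) (nat_lit 1758)
  (Net.cons (nat_lit 6) (nat_lit 0x38036)
  (Net.cons (nat_lit 3) (nat_lit 0x184184)
  (Net.cons (nat_lit 1) (nat_lit 520)
  (Net.cons (nat_lit 1) (nat_lit 0x490492)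
  (Net.cons (nat_lit 1) (nat_lit 0x201048)
  (Net.cons (nat_lit 3) (nat_lit 0x80102)
  (Net.cons (nat_lit 6) (nat_lit 0x3a038)
  (Net.cons (nat_lit 12) (nat_lit 4024)
  Net.nil)))))))))
noncomputable def x5159s : ℕ → Net := upd (resN na24 [0, 1, 2]) 3 x5159
theorem der5160 : Der 24 pt (cl (dG g24 wa24) (lw [0, 1, 2])) x5159s := od024.ext (k := 5) (w := [2,0,0,0,0,0,0,2,1,0,0,2]) 3 (by decide +kernel)
noncomputable def x5161 : Net := (Net.cons (nat_lit 12) (nat_lit 2808)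
  (Net.cons (nat_lit 6) (nat_lit 0x3200c)
  (Net.cons (nat_lit 3) (nat_lit 0x47086)
  (Net.cons (nat_lit 1) (nat_lit 4680)
  (Net.cons (nat_lit 1) (nat_lit 0x402492)
  (Net.cons (nat_lit 1) (nat_lit 0x40208)
  (Net.cons (nat_lit 3) (nat_lit 134)
  (Net.cons (nat_lit 6) (nat_lit 0x34034)
  (Net.cons (nat_lit 12) (nat_lit 2380)
  Net.nil)))))))))
noncomputable def x5161s : ℕ → Net := upd x5159s 4 x5161
theorem der5162 : Der 24 pt (cl (dG g24 wa24) (lw [0, 1, 2])) x5161s := der5160.ext (k := 5) (w := [0,0,3,0,3,0,3,3]) 4 (by decide +kernel)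
noncomputable def x5163 : Net := (Net.cons (nat_lit 12) (nat_lit 3080)
  (Net.cons (nat_lit 6) (nat_lit 0x1d030)
  (Net.cons (nat_lit 3) (nat_lit 0x182140)
  (Net.cons (nat_lit 1) (nat_lit 0x49000)
  (Net.cons (nat_lit 1) (nat_lit 0x92090)
  (Net.cons (nat_lit 1) (nat_lit 0x248040)
  (Net.cons (nat_lit 3) (nat_lit 0x82100)
  (Net.cons (nat_lit 6) (nat_lit 0x38020)
  (Net.cons (nat_lit 12) (nat_lit 3680)
  Net.nil)))))))))
noncomputable def x5163s : ℕ → Net := upd x5161s 5 x5163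
theorem der5164 : Der 24 pt (cl (dG g24 wa24) (lw [0, 1, 2])) x5163s := der5162.ext (k := 5) (w := [1,4,4,4]) 5 (by decide +kernel)
noncomputable def x5165 : Net := (Net.cons (nat_lit 12) (nat_lit 4032)
  (Net.cons (nat_lit 6) (nat_lit 77834)
  (Net.cons (nat_lit 3) (nat_lit 0x1050c0)
  (Net.cons (nat_lit 1) (nat_lit 0x40008)
  (Net.cons (nat_lit 1) (nat_lit 0x490092)
  (Net.cons (nat_lit 1) (nat_lit 0x49048)
  (Net.cons (nat_lit 3) (nat_lit 0x100184)
  (Net.cons (nat_lit 6) (nat_lit 0x36016)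
  (Net.cons (nat_lit 12) (nat_lit 432)
  Net.nil)))))))))
noncomputable def x5165s : ℕ → Net := upd x5163s 6 x5165
theorem der5166 : Der 24 pt (cl (dG g24 wa24) (lw [0, 1, 2])) x5165s := der5164.ext (k := 5) (w := [4,1,1,4,4]) 6 (by decide +kernel)
noncomputable def x5167 : Net := (Net.cons (nat_lit 12) (nat_lit 1936)
  (Net.cons (nat_lit 6) (nat_lit 52)
  (Net.cons (nat_lit 3) (nat_lit 0x100000)
  (Net.cons (nat_lit 1) (nat_lit 0x480410)
  (Net.cons (nat_lit 1) (nat_lit 33344)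
  (Net.cons (nat_lit 3) (nat_lit 4)
  (Net.cons (nat_lit 6) (nat_lit 0x28020)
  (Net.cons (nat_lit 12) (nat_lit 2800)
  Net.nil))))))))
noncomputable def x5167s : ℕ → Net := upd x5165s 7 x5167
theorem der5168 : Der 24 pt (cl (dG g24 wa24) (lw [0, 1, 2])) x5167s := der5166.ext (k := 5) (w := [6,5,6,5,6]) 7 (by decide +kernel)
noncomputable def x5169 : Net := (Net.cons (nat_lit 12) (nat_lit 3460)
  (Net.cons (nat_lit 6) (nat_lit 0x3c022)
  (Net.cons (nat_lit 3) (nat_lit 0x144142)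
  (Net.cons (nat_lit 1) (nat_lit 512)
  (Net.cons (nat_lit 1) (nat_lit 0x400402)
  (Net.cons (nat_lit 1) (nat_lit 0x208208)
  (Net.cons (nat_lit 3) (nat_lit 0x100106)
  (Net.cons (nat_lit 6) (nat_lit 32806)
  (Net.cons (nat_lit 12) (nat_lit 1600)
  Net.nil)))))))))
noncomputable def x5169s : ℕ → Net := upd x5167s 8 x5169
theorem der5170 : Der 24 pt (cl (dG g24 wa24) (lw [0, 1, 2])) x5169s := der5168.ext (k := 5) (w := [6,5,5,6,6,6]) 8 (by decide +kernel)
noncomputable def x5171 : Net := (Net.cons (nat_lit 12) (nat_lit 1180)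
  (Net.cons (nat_lit 6) (nat_lit 0x3003e)
  (Net.cons (nat_lit 3) (nat_lit 0x184142)
  (Net.cons (nat_lit 1) (nat_lit 520)
  (Net.cons (nat_lit 1) (nat_lit 0x490412)
  (Net.cons (nat_lit 1) (nat_lit 0x48208)
  (Net.cons (nat_lit 3) (nat_lit 16640)
  (Net.cons (nat_lit 6) (nat_lit 0x3002e)
  (Net.cons (nat_lit 12) (nat_lit 3456)
  Net.nil)))))))))
noncomputable def x5171s : ℕ → Net := upd x5169s 9 x5171
theorem der5172 : Der 24 pt (cl (dG g24 wa24) (lw [0, 1, 2])) x5171s := der5170.ext (k := 5) (w := [7,8,7,8,7,7,8,7,7]) 9 (by decide +kernel)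
noncomputable def x5173 : Net := (Net.cons (nat_lit 12) (nat_lit 1404)
  (Net.cons (nat_lit 6) (nat_lit 0x26014)
  (Net.cons (nat_lit 3) (nat_lit 0x421c0)
  (Net.cons (nat_lit 1) (nat_lit 0x40008)
  (Net.cons (nat_lit 1) (nat_lit 0x92410)
  (Net.cons (nat_lit 1) (nat_lit 0x40200)
  (Net.cons (nat_lit 3) (nat_lit 4)
  (Net.cons (nat_lit 6) (nat_lit 0x2e008)
  (Net.cons (nat_lit 12) (nat_lit 1248)
  Net.nil)))))))))
noncomputable def x5173s : ℕ → Net := upd x5171s 10 x5173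
theorem der5174 : Der 24 pt (cl (dG g24 wa24) (lw [0, 1, 2])) x5173s := der5172.ext (k := 5) (w := [7,7,8,7,8,7,7,8,7]) 10 (by decide +kernel)
noncomputable def x5175 : Net := (Net.cons (nat_lit 12) (nat_lit 3900)
  (Net.cons (nat_lit 6) (nat_lit 49160)
  (Net.cons (nat_lit 3) (nat_lit 0x1040c0)
  (Net.cons (nat_lit 1) (nat_lit 0x48208)
  (Net.cons (nat_lit 1) (nat_lit 0x490410)
  (Net.cons (nat_lit 1) (nat_lit 0x240008)
  (Net.cons (nat_lit 3) (nat_lit 16644)
  (Net.cons (nat_lit 6) (nat_lit 32796)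
  (Net.cons (nat_lit 12) (nat_lit 48)
  Net.nil)))))))))
noncomputable def x5175s : ℕ → Net := upd x5173s 11 x5175
theorem der5176 : Der 24 pt (cl (dG g24 wa24) (lw [0, 1, 2])) x5175s := der5174.ext (k := 5) (w := [10,8,9]) 11 (by decide +kernel)
noncomputable def x5177 : Net := (Net.cons (nat_lit 12) (nat_lit 3080)
  (Net.cons (nat_lit 6) (nat_lit 0x1d030)
  (Net.cons (nat_lit 3) (nat_lit 0x182140)
  (Net.cons (nat_lit 1) (nat_lit 0x49000)
  (Net.cons (nat_lit 1) (nat_lit 0x92090)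
  (Net.cons (nat_lit 1) (nat_lit 0x248040)
  (Net.cons (nat_lit 3) (nat_lit 0x82100)
  (Net.cons (nat_lit 6) (nat_lit 0x38020)
  (Net.cons (nat_lit 12) (nat_lit 3680)
  Net.nil)))))))))
noncomputable def x5177s : ℕ → Net := upd x5175s 12 x5177
theorem der5178 : Der 24 pt (cl (dG g24 wa24) (lw [0, 1, 2])) x5177s := der5176.ext (k := 5) (w := [1,4,4,4]) 12 (by decide +kernel)
noncomputable def x5179 : Net := (Net.cons (nat_lit 12) (nat_lit 176)
  (Net.cons (nat_lit 6) (nat_lit 45080)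
  (Net.cons (nat_lit 3) (nat_lit 0x144100)
  (Net.cons (nat_lit 1) (nat_lit 0x200008)
  (Net.cons (nat_lit 1) (nat_lit 0x482010)
  (Net.cons (nat_lit 1) (nat_lit 0x248048)
  (Net.cons (nat_lit 3) (nat_lit 16512)
  (Net.cons (nat_lit 6) (nat_lit 16384)
  (Net.cons (nat_lit 12) (nat_lit 2560)
  Net.nil)))))))))
noncomputable def x5179s : ℕ → Net := upd x5177s 13 x5179
theorem der5180 : Der 24 pt (cl (dG g24 wa24) (lw [0, 1, 2])) x5179s := der5178.ext (k := 5) (w := [1,1,4,4,4,4,1]) 13 (by decide +kernel)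
noncomputable def x5181 : Net := (Net.cons (nat_lit 12) (nat_lit 3244)
  (Net.cons (nat_lit 6) (nat_lit 0x3900c)
  (Net.cons (nat_lit 3) (nat_lit 0x1c0104)
  (Net.cons (nat_lit 1) (nat_lit 0x40048)
  (Net.cons (nat_lit 1) (nat_lit 0x90490)
  (Net.cons (nat_lit 1) (nat_lit 0x208200)
  (Net.cons (nat_lit 3) (nat_lit 0x102100)
  (Net.cons (nat_lit 6) (nat_lit 0x32014)
  (Net.cons (nat_lit 12) (nat_lit 2076)
  Net.nil)))))))))
noncomputable def x5181s : ℕ → Net := upd x5179s 14 x5181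
theorem der5182 : Der 24 pt (cl (dG g24 wa24) (lw [0, 1, 2])) x5181s := der5180.ext (k := 5) (w := [13,12,12,12,13,12,13,12]) 14 (by decide +kernel)
noncomputable def x5183 : Net := (Net.cons (nat_lit 12) (nat_lit 140)
  (Net.cons (nat_lit 6) (nat_lit 0x3200e)
  (Net.cons (nat_lit 3) (nat_lit 0x82082)
  (Net.cons (nat_lit 1) (nat_lit 520)
  (Net.cons (nat_lit 1) (nat_lit 66576)
  (Net.cons (nat_lit 1) (nat_lit 0x201248)
  (Net.cons (nat_lit 3) (nat_lit 0x80184)
  (Net.cons (nat_lit 6) (nat_lit 0x2a012)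
  (Net.cons (nat_lit 12) (nat_lit 1052)
  Net.nil)))))))))
noncomputable def x5183s : ℕ → Net := upd x5181s 15 x5183
theorem der5184 : Der 24 pt (cl (dG g24 wa24) (lw [0, 1, 2])) x5183s := der5182.ext (k := 5) (w := [13,13,13,12,13,13]) 15 (by decide +kernel)
noncomputable def x5185 : Net := (Net.cons (nat_lit 12) (nat_lit 2786)
  (Net.cons (nat_lit 6) (nat_lit 0x31020)
  (Net.cons (nat_lit 3) (nat_lit 0x44086)
  (Net.cons (nat_lit 1) (nat_lit 32768)
  (Net.cons (nat_lit 1) (nat_lit 0x410082)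
  (Net.cons (nat_lit 1) (nat_lit 8)
  (Net.cons (nat_lit 3) (nat_lit 16390)
  (Net.cons (nat_lit 6) (nat_lit 65544)
  (Net.cons (nat_lit 12) (nat_lit 2786)
  Net.nil)))))))))
noncomputable def x5185s : ℕ → Net := upd x5183s 16 x5185
theorem der5186 : Der 24 pt (cl (dG g24 wa24) (lw [0, 1, 2])) x5185s := der5184.ext (k := 5) (w := [14,15,15,14,14,14,15,14,14]) 16 (by decide +kernel)
noncomputable def x5187 : Net := (Net.cons (nat_lit 12) (nat_lit 900)
  (Net.cons (nat_lit 6) (nat_lit 0x1d02c)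
  (Net.cons (nat_lit 3) (nat_lit 256)
  (Net.cons (nat_lit 1) (nat_lit 0x402480)
  (Net.cons (nat_lit 1) (nat_lit 0x200208)
  (Net.cons (nat_lit 3) (nat_lit 16512)
  (Net.cons (nat_lit 6) (nat_lit 49180)
  (Net.cons (nat_lit 12) (nat_lit 4052)
  Net.nil))))))))
noncomputable def x5187s : ℕ → Net := upd x5185s 17 x5187
theorem der5188 : Der 24 pt (cl (dG g24 wa24) (lw [0, 1, 2])) x5187s := der5186.ext (k := 5) (w := [15,15,14,15,14,15,14,14]) 17 (by decide +kernel)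
noncomputable def x5189 : Net := (Net.cons (nat_lit 12) (nat_lit 1514)
  (Net.cons (nat_lit 6) (nat_lit 0x3403a)
  (Net.cons (nat_lit 3) (nat_lit 12672)
  (Net.cons (nat_lit 1) (nat_lit 0x40040)
  (Net.cons (nat_lit 1) (nat_lit 0x480080)
  (Net.cons (nat_lit 1) (nat_lit 0x41248)
  (Net.cons (nat_lit 3) (nat_lit 8576)
  (Net.cons (nat_lit 6) (nat_lit 65560)
  (Net.cons (nat_lit 12) (nat_lit 4042)
  Net.nil)))))))))
noncomputable def x5189s : ℕ → Net := upd x5187s 18 x5189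
theorem der5190 : Der 24 pt (cl (dG g24 wa24) (lw [0, 1, 2])) x5189s := der5188.ext (k := 5) (w := [14,14,15,14,14,14,14,14,15,14,15]) 18 (by decide +kernel)
noncomputable def x5191 : Net := (Net.cons (nat_lit 12) (nat_lit 2466)
  (Net.cons (nat_lit 6) (nat_lit 0x2501a)
  (Net.cons (nat_lit 3) (nat_lit 0xc00c0)
  (Net.cons (nat_lit 1) (nat_lit 0x41200)
  (Net.cons (nat_lit 1) (nat_lit 0x92410)
  (Net.cons (nat_lit 1) (nat_lit 4616)
  (Net.cons (nat_lit 3) (nat_lit 0x80000)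
  (Net.cons (nat_lit 6) (nat_lit 48)
  (Net.cons (nat_lit 12) (nat_lit 2466)
  Net.nil)))))))))
noncomputable def x5191s : ℕ → Net := upd x5189s 19 x5191
theorem der5192 : Der 24 pt (cl (dG g24 wa24) (lw [0, 1, 2])) x5191s := der5190.ext (k := 5) (w := [17,18,16,18,16]) 19 (by decide +kernel)
theorem nok24 : NetsOk 24 x5191s vT := der5192.elim fun _ h => h.1.ok
noncomputable def chA247 : Ch := []
noncomputable def chA24D6 : ℕ := (nat_lit 32836)
noncomputable def chA246 : Ch := (2, chA24D6, [11]) :: chA247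
theorem chA24ok6 : ChnL ↥M24 24 pt x5191s chA246 3 := ChnL.cons2 (l0 := [11]) (n := 3) (B := 1) (k := 2) (rr := 300) ChnL.nil (by decide +kernel) (by decide +kernel)
noncomputable def chA24D5 : ℕ := (nat_lit 0xff4f98)
noncomputable def chA245 : Ch := (19, chA24D5, [8,9,10,11]) :: chA246
theorem chA24ok5 : ChnL ↥M24 24 pt x5191s chA245 48 := ChnL.cons2 (l0 := [8,9,10]) (n := 16) (B := 3) (k := 2) (rr := 300) chA24ok6 (by decide +kernel) (by decide +kernel)
noncomputable def chA24D4 : ℕ := (nat_lit 0xffcffc)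
noncomputable def chA244 : Ch := (5, chA24D4, [7,8,9,10,11]) :: chA245
theorem chA24ok4 : ChnL ↥M24 24 pt x5191s chA244 960 := ChnL.cons2 (l0 := [7,8]) (n := 20) (B := 48) (k := 2) (rr := 300) chA24ok5 (by decide +kernel) (by decide +kernel)
noncomputable def chA24D3 : ℕ := (nat_lit 0xffdffc)
noncomputable def chA243 : Ch := (12, chA24D3, [5,6,7,8,9,10,11]) :: chA244
theorem chA24ok3 : ChnL ↥M24 24 pt x5191s chA243 20160 := ChnL.cons2 (l0 := [5,6]) (n := 21) (B := 960) (k := 2) (rr := 300) chA24ok4 (by decide +kernel) (by decide +kernel)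
noncomputable def chA24D2 : ℕ := (nat_lit 0xfffffc)
noncomputable def chA242 : Ch := (13, chA24D2, [1,4,5,6,7,8,9,10,11]) :: chA243
theorem chA24ok2 : ChnL ↥M24 24 pt x5191s chA242 443520 := ChnL.cons2 (l0 := [1,4]) (n := 22) (B := 20160) (k := 2) (rr := 300) chA24ok3 (by decide +kernel) (by decide +kernel)
noncomputable def chA24D1 : ℕ := (nat_lit 0xfffffe)
noncomputable def chA241 : Ch := (1, chA24D1, [0,1,3,4,5,6,7,8,9,10,11]) :: chA242
theorem chA24ok1 : ChnL ↥M24 24 pt x5191s chA241 10200960 := ChnL.cons2 (l0 := [0,1,3]) (n := 23) (B := 443520) (k := 2) (rr := 300) chA24ok2 (by decide +kernel) (by decide +kernel)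
noncomputable def chA24D0 : ℕ := (nat_lit 0xffffff)
noncomputable def chA240 : Ch := (0, chA24D0, [0,1,2,3,4,5,6,7,8,9,10,11]) :: chA241
theorem chA24ok0 : ChnL ↥M24 24 pt x5191s chA240 244823040 := ChnL.cons2 (l0 := [0,1,2]) (n := 24) (B := 10200960) (k := 2) (rr := 300) chA24ok1 (by decide +kernel) (by decide +kernel)
noncomputable def chB247 : Ch := []
noncomputable def chB24D6 : ℕ := (nat_lit 0x444000)
noncomputable def chB246 : Ch := (22, chB24D6, [19]) :: chB247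
theorem chB24ok6 : ChnL ↥M24 24 pt x5191s chB246 3 := ChnL.cons2 (l0 := [19]) (n := 3) (B := 1) (k := 2) (rr := 300) ChnL.nil (by decide +kernel) (by decide +kernel)
noncomputable def chB24D5 : ℕ := (nat_lit 0xeef758)
noncomputable def chB245 : Ch := (15, chB24D5, [16,17,18,19]) :: chB246
theorem chB24ok5 : ChnL ↥M24 24 pt x5191s chB245 48 := ChnL.cons2 (l0 := [16,17,18]) (n := 16) (B := 3) (k := 2) (rr := 300) chB24ok6 (by decide +kernel) (by decide +kernel)
noncomputable def chB24D4 : ℕ := (nat_lit 0xeffff8)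
noncomputable def chB244 : Ch := (7, chB24D4, [14,15,16,17,18,19]) :: chB245
theorem chB24ok4 : ChnL ↥M24 24 pt x5191s chB244 960 := ChnL.cons2 (l0 := [14,15]) (n := 20) (B := 48) (k := 2) (rr := 300) chB24ok5 (by decide +kernel) (by decide +kernel)
noncomputable def chB24D3 : ℕ := (nat_lit 0xfffff8)
noncomputable def chB243 : Ch := (20, chB24D3, [12,13,14,15,16,17,18,19]) :: chB244
theorem chB24ok3 : ChnL ↥M24 24 pt x5191s chB243 20160 := ChnL.cons2 (l0 := [12,13]) (n := 21) (B := 960) (k := 2) (rr := 300) chB24ok4 (by decide +kernel) (by decide +kernel)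
noncomputable def chB24D2 : ℕ := (nat_lit 0xfffffc)
noncomputable def chB242 : Ch := (2, chB24D2, [1,4,12,13,14,15,16,17,18,19]) :: chB243
theorem chB24ok2 : ChnL ↥M24 24 pt x5191s chB242 443520 := ChnL.cons2 (l0 := [1,4]) (n := 22) (B := 20160) (k := 2) (rr := 300) chB24ok3 (by decide +kernel) (by decide +kernel)
noncomputable def chB24D1 : ℕ := (nat_lit 0xfffffe)
noncomputable def chB241 : Ch := (1, chB24D1, [0,1,3,4,12,13,14,15,16,17,18,19]) :: chB242
theorem chB24ok1 : ChnL ↥M24 24 pt x5191s chB241 10200960 := ChnL.cons2 (l0 := [0,1,3]) (n := 23) (B := 443520) (k := 2) (rr := 300) chB24ok2 (by decide +kernel) (by decide +kernel)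
noncomputable def chB24D0 : ℕ := (nat_lit 0xffffff)
noncomputable def chB240 : Ch := (0, chB24D0, [0,1,2,3,4,12,13,14,15,16,17,18,19]) :: chB241
theorem chB24ok0 : ChnL ↥M24 24 pt x5191s chB240 244823040 := ChnL.cons2 (l0 := [0,1,2]) (n := 24) (B := 10200960) (k := 2) (rr := 300) chB24ok1 (by decide +kernel) (by decide +kernel)

end Cfsg.Agent.H6.SMat
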