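import Cfsg.Agent.H6.OMat1
set_option maxRecDepth 100000
set_option Elab.async false
namespace Cfsg.Agent.H6.SMat
open Cfsg.Agent.H6
universe u

noncomputable def fA240 : ℕ := (nat_lit 1)
noncomputable def fA24 : List (List ℕ × ℕ) := [([0],fA240)]
noncomputable def fB240 : ℕ := (nat_lit 3)
noncomputable def fB24 : List (List ℕ × ℕ) := [([1],fB240)]
noncomputable def cw24 : List (List ℕ) := [[1]]
theorem fAok24 : (spA 24 x5191s fA24).FixOk := SP.fixOk_of _ nok24 (k := 5) (by decide +kernel)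
theorem fBok24 : (spB 24 x5191s cw24 fB24).FixOk := SP.fixOk_of _ nok24 (k := 5) (by decide +kernel)
noncomputable def cm5193T : BT := (BT.br [] (BT.kid 0 [] (BT.br [[0]] (BT.kid 1 [] (BT.frc 0 [0] [] (BT.frc 0 [0] [] (BT.frc 0 [0] [] (BT.frc 0 [0] [] (BT.frc 0 [0] [] BT.live))))) BT.nil)) BT.nil))
theorem cm5193 : (spA 24 x5191s fA24).Clm ↥M24 pt false 0 chA240 [] [] := SP.Clm.ofN (T := cm5193T) (by decide +kernel)
noncomputable def cm5194T : BT := (BT.br [[0]] (BT.kid 0 [] (BT.br [] (BT.kid 1 [] (BT.br [[0]] (BT.kid 2 [] (BT.frc 0 [1] [] (BT.frc 0 [1] [] (BT.frc 0 [1] [] (BT.frc 0 [1] [] BT.live)))) (BT.kid 4 [4] (BT.frc 0 [1] [12,13,13] (BT.frc 0 [1] [14,14,16,14] (BT.frc 0 [1] [16,16,17] (BT.out 0 [1])))) BT.nil))) BT.nil)) (BT.kid 1 [2] (BT.br [] (BT.kid 0 [] (BT.br [[0]] (BT.kid 10 [] (BT.frc 0 [1] [13,15] (BT.frc 0 [1] [15,15] (BT.frc 0 [1] [16,18] (BT.out 0 [1]))))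 (BT.kid 14 [4] (BT.frc 0 [1] [12,15] (BT.frc 0 [1] [14,16] (BT.frc 0 [1] [16,16] (BT.frc 0 [1] [19] (BT.nc 1 20))))) BT.nil))) BT.nil)) BT.nil)))
theorem cm5194 : (spB 24 x5191s cw24 fB24).Clm ↥M24 pt false 0 chB240 [] [] := SP.Clm.ofN (T := cm5194T) (by decide +kernel)
noncomputable def tl24 : List (List ℕ) := [[],[1],[1,1],[1,1,1],[1,1,1,1],[1,1,1,1,1],[1,1,1,1,1,1],[1,1,1,1,1,1,1],[1,1,1,1,1,1,1,1],[1,1,1,1,1,1,1,1,1],[1,1,1,1,1,1,1,1,1,1]]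
noncomputable def orels24 : List (List ℕ × ℕ) := [([0,2,0,2,1],3)]
theorem ex5195 : exRow 24 x5191s orels24 1 [] 5 tl24 [(0,0),(0,0),(0,1),(0,0),(0,0),(0,0),(0,0),(0,1),(0,0),(0,0),(0,0)] = true := by decide +kernel
theorem ex5196 : exRow 24 x5191s orels24 1 [] 1 tl24 [(0,0),(0,0),(0,0),(0,0),(0,0),(0,0),(0,0),(0,0),(0,0),(0,0),(0,0)] = true := by decide +kernel
theorem oh224 : relC 24 na24 x5191s chB240 23 2 8 1 cw24 orels24 = true := by decide +kernel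
theorem oh324 : tabC x5191s chB240 cw24 tl24 [[1,2,3,4,5,6,7,8,9,10,0]] = true := by decide +kernel
theorem od24 : OutD ↥M24 24 pt x5191s (dG g24 wa24) chB240 tl24 1 [] := OutD.of om024 card_M24 der5192 chA24ok0 chB24ok0 fAok24 fBok24 cm5193 cm5194 (by norm_num) (ks := [1,5]) (by decide +kernel) oh224 oh324 (List.forall_mem_cons.2 ⟨⟨_, ex5196⟩, (List.forall_mem_cons.2 ⟨⟨_, ex5195⟩, (by simp)⟩)⟩)
theorem out24 : Nat.card (Out ↥M24) = 1 := od24.one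

end Cfsg.Agent.H6.SMat
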