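import Cfsg.Agent.H6.ONA10
import Cfsg.Agent.H6.Simp2
import Cfsg.Agent.H6.Iso
import Cfsg.Prelude.Def_Spor_ON
set_option maxRecDepth 100000
set_option Elab.async false
namespace Cfsg.Agent.H6.ON
open Cfsg.Agent.H6
universe u

def cdON : List (Spor.ON.Gen × Bool) := [(.a,true),(.b,true),(.c,true),(.d,true),(.e,true),(.f,true),(.g,true),(.g,false)]
def idxON : Spor.ON.Gen → ℕ
  | .g => 6
  | .a => 0
  | .b => 1
  | .c => 2
  | .d => 3
  | .e => 4
  | .f => 5
noncomputable def RON : List (List ℕ) := [[0,0],[0,1,0,1,0,1],[0,2,0,2],[0,3,0,3],[0,4,0,4],[0,5,0,5],[1,0,1,0,1,0],[1,1],[1,2,1,2,1,2],[1,3,1,3],[1,4,1,4],[1,5,1,5],[2,0,2,0],[2,1,2,1,2,1],[2,2],[2,3,2,3,2,3,2,3,2,3,2,3,2,3,2,3],[2,4,2,4],[2,5,2,5],[3,0,3,0],[3,1,3,1],[3,2,3,2,3,2,3,2,3,2,3,2,3,2,3,2],[3,3],[3,4,3,4,3,4],[3,5,3,5],[4,0,4,0],[4,1,4,1],[4,2,4,2],[4,3,4,3,4,3],[4,4],[4,5,4,5,4,5],[5,0,5,0],[5,1,5,1],[5,2,5,2],[5,3,5,3],[5,4,5,4,5,4],[5,5],[0,5,7,7],[0,5,3,2,3,2,3,2,3,2],[2,7,3,7,3,2,3,6,3,6],[3,7,2,7,2,3,2,6,2,6],[1,2,3,6,1,2,3,6,1,2,3,6,1,2,3,6,1,2,3,6],[6,1,2,6,2,1,6,1,2,6,2],[6,4,3,6,3,4,6,4,3,6,3]]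
theorem hRON : (relList Spor.ON.edges Spor.ON.extra).map (lets io idxON) = RON := by decide +kernel
theorem hvON : invOk Spor.ON.edges cdON il := by decide +kernel
theorem hiON : ∀ x, cdON[idxON x]? = some (x, true) := by intro x; cases x <;> rfl
noncomputable def gON : ℕ → Spor.ON := presG Spor.ON.edges Spor.ON.extra cdON
theorem satON : Sat io RON gON := presG_sat hvON hiON hRON
noncomputable def C5001 : List (List ℕ) := [r0,r1,r2,r3,r4,r5,r6,r7,r8,r9,r10,r11,r12,r13,r14,r15,r16,r17,r18,r19,r20,r21]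
noncomputable def S5002 : List (List ℕ) := lapp [r22] RON
theorem imp5004 : Imp.{u} io RON C527 := Imp.of_chk (pfs := [[([],3)],[([],5)],[([],7)],[([],9)],[([],11)],[([],17)],[([],19)],[([],21)],[([],23)],[([],31)],[([],33)],[([],35)],[([],45)],[([],47)],[([],59)],[([],73)],[([],75)],[([],77)],[([],79)],[([],81)],[([],83)],[([],85)]]) (by decide +kernel)
theorem imp5003 : Imp.{u} io RON S5002 := Imp.app ((Imp.refl.trans imp5004).trans dr579) Imp.refl
noncomputable def S5005 : List (List ℕ) := lapp [r23] S5002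
theorem imp5007 : Imp.{u} io S5002 C580 := Imp.of_chk (pfs := [[([],5)],[([],7)],[([],9)],[([],11)],[([],13)],[([],19)],[([],21)],[([],23)],[([],25)],[([],33)],[([],35)],[([],37)],[([],47)],[([],49)],[([],61)],[([],75)],[([],77)],[([],79)],[([],81)],[([],83)],[([],85)],[([],87)],[([],1)]]) (by decide +kernel)
theorem imp5006 : Imp.{u} io RON S5005 := Imp.app ((imp5003.trans imp5007).trans dr589) imp5003
noncomputable def S5008 : List (List ℕ) := lapp [r24] S5005
theorem imp5010 : Imp.{u} io S5005 C590 := Imp.of_chk (pfs := [[([],7)],[([],9)],[([],11)],[([],13)],[([],15)],[([],21)],[([],23)],[([],25)],[([],27)],[([],35)],[([],37)],[([],39)],[([],49)],[([],51)],[([],63)],[([],77)],[([],79)],[([],81)],[([],83)],[([],85)],[([],87)],[([],89)],[([],3)],[([],1)]]) (by decide +kernel)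
theorem imp5009 : Imp.{u} io RON S5008 := Imp.app ((imp5006.trans imp5010).trans dr601) imp5006
noncomputable def S5011 : List (List ℕ) := lapp [r25] S5008
theorem imp5013 : Imp.{u} io S5008 C602 := Imp.of_chk (pfs := [[([],9)],[([],11)],[([],13)],[([],15)],[([],17)],[([],23)],[([],25)],[([],27)],[([],29)],[([],37)],[([],39)],[([],41)],[([],51)],[([],53)],[([],65)],[([],79)],[([],81)],[([],83)],[([],85)],[([],87)],[([],89)],[([],91)],[([],5)],[([],3)],[([],1)]]) (by decide +kernel)
theorem imp5012 : Imp.{u} io RON S5011 := Imp.app ((imp5009.trans imp5013).trans dr627) imp5009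
noncomputable def S5014 : List (List ℕ) := lapp [r26] S5011
theorem imp5016 : Imp.{u} io S5011 C628 := Imp.of_chk (pfs := [[([],11)],[([],13)],[([],15)],[([],17)],[([],19)],[([],25)],[([],27)],[([],29)],[([],31)],[([],39)],[([],41)],[([],43)],[([],53)],[([],55)],[([],67)],[([],81)],[([],83)],[([],85)],[([],87)],[([],89)],[([],91)],[([],93)],[([],7)],[([],5)],[([],3)],[([],1)]]) (by decide +kernel)
theorem imp5015 : Imp.{u} io RON S5014 := Imp.app ((imp5012.trans imp5016).trans dr646) imp5012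
noncomputable def S5017 : List (List ℕ) := lapp [r27] S5014
theorem imp5019 : Imp.{u} io S5014 C647 := Imp.of_chk (pfs := [[([],13)],[([],15)],[([],17)],[([],19)],[([],21)],[([],27)],[([],29)],[([],31)],[([],33)],[([],41)],[([],43)],[([],45)],[([],55)],[([],57)],[([],69)],[([],83)],[([],85)],[([],87)],[([],89)],[([],91)],[([],93)],[([],95)],[([],9)],[([],7)],[([],5)],[([],3)],[([],1)]]) (by decide +kernel)
theorem imp5018 : Imp.{u} io RON S5017 := Imp.app ((imp5015.trans imp5019).trans dr658) imp5015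
noncomputable def S5020 : List (List ℕ) := lapp [r28] S5017
theorem imp5022 : Imp.{u} io S5017 C659 := Imp.of_chk (pfs := [[([],15)],[([],17)],[([],19)],[([],21)],[([],23)],[([],29)],[([],31)],[([],33)],[([],35)],[([],43)],[([],45)],[([],47)],[([],57)],[([],59)],[([],71)],[([],85)],[([],87)],[([],89)],[([],91)],[([],93)],[([],95)],[([],97)],[([],11)],[([],9)],[([],7)],[([],5)],[([],3)],[([],1)]]) (by decide +kernel)
theorem imp5021 : Imp.{u} io RON S5020 := Imp.app ((imp5018.trans imp5022).trans dr670) imp5018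
noncomputable def S5023 : List (List ℕ) := lapp [r29] S5020
theorem imp5025 : Imp.{u} io S5020 C671 := Imp.of_chk (pfs := [[([],17)],[([],19)],[([],21)],[([],23)],[([],25)],[([],31)],[([],33)],[([],35)],[([],37)],[([],45)],[([],47)],[([],49)],[([],59)],[([],61)],[([],73)],[([],87)],[([],89)],[([],91)],[([],93)],[([],95)],[([],97)],[([],99)],[([],13)],[([],11)],[([],9)],[([],7)],[([],5)],[([],3)],[([],1)]]) (by decide +kernel)
theorem imp5024 : Imp.{u} io RON S5023 := Imp.app ((imp5021.trans imp5025).trans dr680) imp5021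
noncomputable def S5026 : List (List ℕ) := lapp [r30] S5023
theorem imp5028 : Imp.{u} io S5023 C681 := Imp.of_chk (pfs := [[([],19)],[([],21)],[([],23)],[([],25)],[([],27)],[([],33)],[([],35)],[([],37)],[([],39)],[([],47)],[([],49)],[([],51)],[([],61)],[([],63)],[([],75)],[([],89)],[([],91)],[([],93)],[([],95)],[([],97)],[([],99)],[([],101)],[([],15)],[([],13)],[([],11)],[([],9)],[([],7)],[([],5)],[([],3)],[([],1)]]) (by decide +kernel)
theorem imp5027 : Imp.{u} io RON S5026 := Imp.app ((imp5024.trans imp5028).trans dr692) imp5024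
theorem imp5029 : Imp.{u} io S5026 C693 := Imp.of_chk (pfs := [[([],21)],[([],23)],[([],25)],[([],27)],[([],29)],[([],35)],[([],37)],[([],39)],[([],41)],[([],49)],[([],51)],[([],53)],[([],63)],[([],65)],[([],77)],[([],91)],[([],93)],[([],95)],[([],97)],[([],99)],[([],101)],[([],103)],[([],17)],[([],15)],[([],13)],[([],11)],[([],9)],[([],7)],[([],5)],[([],3)],[([],1)]]) (by decide +kernel)
theorem imp5030 : Imp.{u} io RON C693 := Imp.trans imp5027 imp5029
theorem topON : cl gON (lw [0,1,2,3,4,5,6,7]) = ⊤ := presG_lw_top hiON (by intro x; cases x <;> decide)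
theorem upON : Finite Spor.ON ∧ Nat.card Spor.ON ≤ 460815505920 := by
  have := (bd1333.of_imp imp5030) _ _ satON
  rw [topON, Subgroup.card_top] at this
  exact ⟨(Subgroup.topEquiv (G := Spor.ON)).toEquiv.finite_iff.1 this.1, this.2⟩
instance instFinON : Finite Spor.ON := upON.1
theorem sat5031 : Sat io C5001 (finG m510ok) := ((((((((((((((((((((((m510s0.cons rl540).cons rl543).cons rl546).cons rl550).cons rl553).cons rl556).cons rl559).cons rl560).cons rl561).cons rl562).cons rl563).cons rl564).cons rl565).cons rl568).cons rl569).cons rl570).cons rl571).cons rl572).cons rl573).cons rl574).cons rl575).cons rl576)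
theorem imp5032 : Imp.{u} io C5001 RON := Imp.of_chk (pfs := [[],[([],1)],[([],3)],[([],5)],[([],7)],[([],9)],[([0],1)],[],[([],11)],[([],13)],[([],15)],[([],17)],[([0],3)],[([1],11)],[],[([],19)],[([],21)],[([],23)],[([0],5)],[([1],13)],[([2],19)],[],[([],25)],[([],27)],[([0],7)],[([1],15)],[([2],21)],[([3],25)],[],[([],29)],[([0],9)],[([1],17)],[([2],23)],[([3],27)],[([4],29)],[],[([],31)],[([],33)],[([],35)],[([],37)],[([],39)],[([],41)],[([],43)]]) (by decide +kernel)
theorem psatON : Sat io RON (finG m510ok) := imp5032.{0} _ _ sat5031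
noncomputable def piON : Spor.ON →* Equiv.Perm (Fin 122760) := presHom hRON psatON
theorem hpiON : ∀ l, piON (gON l) = finG m510ok l := presHom_presG _ _ (by decide +kernel) (finG_eq_one _ (n := 8) (by decide +kernel))
noncomputable instance instActON : MulAction Spor.ON (Fin 122760) := homAct piON
theorem modelON : IsModel 122760 (finX 122760) gON m510 vT := homModel piON _ hpiON

end Cfsg.Agent.H6.ON
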