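import Cfsg.Agent.H6.ONB1
set_option maxRecDepth 100000
set_option Elab.async false
namespace Cfsg.Agent.H6.ON
open Cfsg.Agent.H6
universe u

theorem der5033 : Der 122760 (finX 122760) (cl (finG m510ok) (lw [0,1,2,3,4,5,6,7])) (resN m510 [0,1,2,3,4,5,6,7]) := Der.letters (finModel m510ok) _
noncomputable def L5034 : Lev := Lev.cons 130 672 [[0],[2],[3],[4],[5]] Lev.nil
theorem lc5035 : L5034.chk 122760 14 (resN m510 [0,1,2,3,4,5,6,7]) vT 100 = true := Lev.chk_cons (rfl) (by decide +kernel) (by decide +kernel)
noncomputable def L5036 : Lev := Lev.cons 15 5586 [[1]] L5034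
theorem lc5037 : L5036.chk 122760 14 (resN m510 [0,1,2,3,4,5,6,7]) vT 100 = true := Lev.chk_cons lc5035 (by decide +kernel) (by decide +kernel)
noncomputable def L5038 : Lev := Lev.cons 0 122760 [[6],[7]] L5036
theorem lc5039 : L5038.chk 122760 14 (resN m510 [0,1,2,3,4,5,6,7]) vT 100 = true := Lev.chk_cons lc5037 (by decide +kernel) (by decide +kernel)
theorem lbON : 460815505920 ≤ Nat.card (cl (finG m510ok) (lw [0,1,2,3,4,5,6,7])) := le_of_eq_of_le (by decide +kernel) (der5033.card_ge lc5039)
theorem cardinjON : Nat.card Spor.ON = 460815505920 ∧ Function.Injective piON := card_eq_of_hom piON (cl_le_range _ hpiON _) upON.2 lbON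
theorem cardON : Nat.card Spor.ON = 460815505920 := cardinjON.1
theorem faithON : Faith Spor.ON 122760 (finX 122760) := faith_of_inj cardinjON.2
noncomputable def baseON : List ℕ := [0,15,130]
theorem basedON : Based 122760 (finX 122760) (⊤ : Subgroup Spor.ON) baseON := Based.of_hom cardinjON.2 topON hpiON (der5033.based lc5039 (((Subgroup.card_le_of_le (cl_le_range _ hpiON _)).trans (Nat.card_le_card_of_surjective _ piON.rangeRestrict_surjective)).trans (le_of_le_of_eq upON.2 (by decide +kernel))))
noncomputable def eqvON : List ℕ → List ℕ → Bool := eqBc m510 baseON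
theorem heqON : ∀ u w, eqvON u w = true → wp gON u = wp gON w := basedON.eqv modelON.toIsPre

end Cfsg.Agent.H6.ON
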