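import Cfsg.Agent.H6.OONx4
set_option maxRecDepth 100000
set_option Elab.async false
namespace Cfsg.Agent.H6.ON
open Cfsg.Agent.H6
universe u

noncomputable def cm50021T : BT := (BT.br [] (BT.kid 108773 [] (BT.br [[0]] (BT.kid 3 [] (BT.frc 0 [0] [] (BT.frc 0 [0] [] BT.live)) (BT.kid 79911 [1] (BT.out 0 [0]) (BT.kid 863 [3] (BT.out 0 [0]) (BT.kid 18825 [0,3] (BT.out 0 [0]) (BT.kid 66480 [0,4] (BT.out 0 [0]) (BT.kid 109250 [0,5] (BT.out 0 [0]) (BT.kid 107092 [0,6] (BT.out 0 [0]) (BT.kid 15629 [1,1] (BT.out 0 [0]) (BT.kid 99775 [1,3] (BT.out 0 [0]) (BT.kid 82709 [1,4] (BT.out 0 [0]) (BT.kid 108962 [1,5] (BT.out 0 [0]) (BT.kid 105134 [1,6] (BT.out 0 [0]) (BT.kid 25385 [3,1] (BT.out 0 [0]) (BT.kid 96723 [3,3] (BT.out 0 [0]) (BT.kid 46933 [3,4] (BT.out 0 [0]) (BT.kid 69609 [0,0,3] (BT.out 0 [0]) (BT.kid 89362 [0,0,4] (BT.out 0 [0]) (BT.kid 68734 [0,0,5] (BT.out 0 [0]) (BT.kid 8657 [0,0,6] (BT.out 0 [0]) (BT.kid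 29038 [0,1,3] (BT.out 0 [0]) (BT.kid 119283 [0,1,4] (BT.out 0 [0]) (BT.kid 66180 [0,1,5] (BT.out 0 [0]) (BT.kid 38329 [0,1,6] (BT.out 0 [0]) (BT.kid 28720 [0,3,1] (BT.out 0 [0]) (BT.kid 117796 [0,3,3] (BT.out 0 [0]) (BT.kid 31285 [0,3,4] (BT.out 0 [0]) (BT.kid 2311 [0,3,5] (BT.out 0 [0]) (BT.kid 95949 [0,3,6] (BT.out 0 [0]) (BT.kid 57548 [0,4,1] (BT.out 0 [0]) (BT.kid 83908 [0,4,3] (BT.out 0 [0]) (BT.kid 85687 [0,4,4] (BT.out 0 [0]) (BT.kid 93877 [0,4,5] (BT.out 0 [0]) (BT.kid 65648 [0,4,6] (BT.out 0 [0]) (BT.kid 51204 [0,5,1] (BT.out 0 [0]) (BT.kid 120990 [0,5,3] (BT.out 0 [0]) (BT.kid 94491 [0,5,4] (BT.out 0 [0]) (BT.kid 8054 [0,5,5] (BT.out 0 [0]) (BT.kid 94236 [0,5,6] (BT.out 0 [0]) (BT.kid 103854 [0,6,1] (BT.out 0 [0]) (BT.kid 28436 [0,6,3] (BT.out 0 [0]) (BT.kid 16780 [0,6,5] (BT.out 0 [0]) (BT.kid 32758 [1,0,4] (BT.out 0 [0]) (BT.kid 84246 [1,0,5] (BT.out 0 [0]) (BT.kid 72458 [1,0,6] (BT.out 0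 [0]) (BT.kid 13948 [1,1,1] (BT.out 0 [0]) (BT.kid 117934 [1,1,3] (BT.out 0 [0]) (BT.kid 70230 [1,1,4] (BT.out 0 [0]) (BT.kid 119376 [1,1,5] (BT.out 0 [0]) (BT.kid 56379 [1,1,6] (BT.out 0 [0]) (BT.kid 55058 [1,3,1] (BT.out 0 [0]) (BT.kid 27293 [1,3,3] (BT.out 0 [0]) (BT.kid 87536 [1,3,4] (BT.out 0 [0]) (BT.kid 75834 [1,3,5] (BT.out 0 [0]) (BT.kid 25505 [1,4,1] (BT.out 0 [0]) (BT.kid 85533 [1,4,3] (BT.out 0 [0]) (BT.kid 72951 [1,4,4] (BT.frc 0 [0] [4,4,5,6,5,4] (BT.out 0 [0])) (BT.kid 111235 [1,4,5] (BT.out 0 [0]) (BT.kid 56589 [1,4,6] (BT.out 0 [0]) (BT.kid 5038 [1,5,1] (BT.out 0 [0]) (BT.kid 61983 [1,5,3] (BT.out 0 [0]) (BT.kid 5757 [1,5,4] (BT.out 0 [0]) (BT.kid 80865 [1,5,6] (BT.out 0 [0]) (BT.kid 44 [1,6,1] (BT.out 0 [0]) (BT.kid 68026 [1,6,3] (BT.out 0 [0]) (BT.kid 114744 [3,0,3] (BT.frc 0 [0] [4,4,5,4,4] (BT.out 0 [0])) (BT.kid 78555 [3,0,4] (BT.out 0 [0]) (BT.kid 42465 [3,0,5] (BT.out 0 [0]) (BT.kid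 95550 [3,0,6] (BT.out 0 [0]) (BT.kid 49397 [3,1,4] (BT.out 0 [0]) (BT.kid 121026 [3,1,5] (BT.out 0 [0]) (BT.kid 15046 [3,3,3] (BT.out 0 [0]) (BT.kid 5232 [3,3,4] (BT.out 0 [0]) (BT.kid 62093 [3,3,5] (BT.out 0 [0]) (BT.kid 65400 [3,4,1] (BT.out 0 [0]) (BT.kid 78164 [3,4,3] (BT.out 0 [0]) (BT.kid 96096 [3,4,4] (BT.out 0 [0]) (BT.kid 114900 [3,4,5] (BT.out 0 [0]) (BT.kid 1117 [3,4,6] (BT.frc 0 [0] [5,4,4,5,5,5] (BT.out 0 [0])) (BT.kid 106517 [3,5,3] (BT.out 0 [0]) (BT.kid 103381 [3,5,4] (BT.out 0 [0]) (BT.kid 3218 [3,5,5] (BT.out 0 [0]) (BT.kid 54133 [3,6,3] (BT.out 0 [0]) (BT.kid 106408 [0,0,0,3] (BT.out 0 [0]) (BT.kid 15610 [0,0,0,6] (BT.out 0 [0]) (BT.kid 79823 [0,0,1,3] (BT.out 0 [0]) (BT.kid 55361 [0,0,1,5] (BT.out 0 [0]) (BT.kid 95454 [0,0,1,6] (BT.out 0 [0]) (BT.kid 29812 [0,0,3,1] (BT.out 0 [0]) (BT.kid 42122 [0,0,3,3] (BT.out 0 [0]) (BT.kid 120551 [0,0,3,5] (BT.out 0 [0]) (BT.kid 60501 [0,0,3,6]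 (BT.out 0 [0]) (BT.kid 64343 [0,0,4,3] (BT.out 0 [0]) (BT.kid 119114 [0,0,4,4] (BT.frc 0 [0] [5,4,6,5,4,4,5,6] (BT.out 0 [0])) (BT.kid 75266 [0,0,5,1] (BT.out 0 [0]) (BT.kid 2598 [0,0,5,4] (BT.out 0 [0]) (BT.kid 43461 [0,0,5,5] (BT.out 0 [0]) (BT.kid 6391 [0,0,5,6] (BT.out 0 [0]) (BT.kid 82569 [0,0,6,5] (BT.out 0 [0]) (BT.kid 42320 [0,1,0,4] (BT.out 0 [0]) (BT.kid 107352 [0,1,1,3] (BT.out 0 [0]) (BT.kid 38926 [0,1,1,4] (BT.out 0 [0]) (BT.kid 61805 [0,1,1,5] (BT.out 0 [0]) (BT.kid 110353 [0,1,1,6] (BT.out 0 [0]) (BT.kid 52412 [0,1,3,1] (BT.out 0 [0]) (BT.kid 98574 [0,1,3,5] (BT.out 0 [0]) (BT.kid 8115 [0,1,4,3] (BT.out 0 [0]) (BT.kid 108971 [0,1,4,5] (BT.out 0 [0]) (BT.kid 120522 [0,1,4,6] (BT.out 0 [0]) (BT.kid 27669 [0,1,5,3] (BT.out 0 [0]) (BT.kid 99277 [0,1,5,4] (BT.out 0 [0]) (BT.kid 106214 [0,1,6,1] (BT.out 0 [0]) (BT.kid 105297 [0,1,6,5] (BT.out 0 [0]) (BT.kid 48856 [0,3,0,5] (BT.out 0 [0]) (BT.kid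 118684 [0,3,1,1] (BT.frc 0 [0] [4,4,5,4,6,5,4] (BT.out 0 [0])) (BT.kid 30713 [0,3,1,3] (BT.out 0 [0]) (BT.kid 101661 [0,3,1,6] (BT.out 0 [0]) (BT.kid 100324 [0,3,3,1] (BT.frc 0 [0] [5,5,5,4,4] (BT.out 0 [0])) (BT.kid 66754 [0,3,3,3] (BT.out 0 [0]) (BT.kid 63364 [0,3,3,5] (BT.out 0 [0]) (BT.kid 41407 [0,3,3,6] (BT.out 0 [0]) (BT.kid 31490 [0,3,4,1] (BT.out 0 [0]) (BT.kid 4133 [0,3,5,1] (BT.out 0 [0]) (BT.kid 95122 [0,3,5,3] (BT.out 0 [0]) (BT.kid 5438 [0,3,5,4] (BT.frc 0 [0] [5,4,6,5,6,5,5] (BT.out 0 [0])) (BT.kid 115006 [0,3,5,6] (BT.out 0 [0]) (BT.kid 11377 [0,3,6,1] (BT.out 0 [0]) (BT.kid 44046 [0,3,6,3] (BT.out 0 [0]) (BT.kid 65856 [0,4,0,3] (BT.out 0 [0]) (BT.kid 98619 [0,4,0,4] (BT.out 0 [0]) (BT.kid 45925 [0,4,0,5] (BT.out 0 [0]) (BT.kid 115823 [0,4,0,6] (BT.frc 0 [0] [4,5,6,5,5] (BT.out 0 [0])) (BT.kid 50430 [0,4,1,1] (BT.out 0 [0]) (BT.kid 27879 [0,4,1,6] (BT.out 0 [0]) (BT.kid 31239 [0,4,3,1]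 (BT.out 0 [0]) (BT.kid 68070 [0,4,3,4] (BT.out 0 [0]) (BT.kid 65206 [0,4,3,5] (BT.out 0 [0]) (BT.kid 101365 [0,4,3,6] (BT.out 0 [0]) (BT.kid 62280 [0,4,4,1] (BT.out 0 [0]) (BT.kid 23913 [0,4,4,3] (BT.out 0 [0]) (BT.kid 44760 [0,4,4,5] (BT.out 0 [0]) (BT.kid 71622 [0,4,4,6] (BT.out 0 [0]) (BT.kid 88385 [0,4,5,4] (BT.out 0 [0]) (BT.kid 59620 [0,4,5,5] (BT.out 0 [0]) (BT.kid 104737 [0,4,5,6] (BT.out 0 [0]) (BT.kid 32147 [0,4,6,1] (BT.out 0 [0]) (BT.kid 116871 [0,4,6,5] (BT.out 0 [0]) (BT.kid 111016 [0,5,0,3] (BT.out 0 [0]) (BT.kid 40010 [0,5,0,5] (BT.out 0 [0]) (BT.kid 19666 [0,5,0,6] (BT.out 0 [0]) (BT.kid 90942 [0,5,1,3] (BT.out 0 [0]) (BT.kid 91002 [0,5,1,4] (BT.out 0 [0]) (BT.kid 78100 [0,5,1,6] (BT.out 0 [0]) (BT.kid 113434 [0,5,3,3] (BT.out 0 [0]) (BT.kid 107070 [0,5,3,5] (BT.out 0 [0]) (BT.kid 113865 [0,5,5,1] (BT.out 0 [0]) (BT.kid 26192 [0,5,6,1] (BT.out 0 [0]) (BT.kid 1468 [0,5,6,3] (BT.out 0 [0])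 (BT.kid 14078 [0,6,1,1] (BT.out 0 [0]) (BT.kid 30668 [0,6,1,3] (BT.out 0 [0]) (BT.kid 10714 [0,6,1,4] (BT.out 0 [0]) (BT.kid 27995 [0,6,1,6] (BT.out 0 [0]) (BT.kid 119839 [0,6,3,4] (BT.out 0 [0]) (BT.kid 7516 [0,6,3,6] (BT.frc 0 [0] [4,4,5,4,4,6] (BT.out 0 [0])) (BT.kid 81338 [0,6,5,3] (BT.out 0 [0]) (BT.kid 93685 [0,6,5,6] (BT.out 0 [0]) (BT.kid 94067 [1,0,0,4] (BT.out 0 [0]) (BT.kid 84678 [1,0,0,5] (BT.out 0 [0]) (BT.kid 47848 [1,0,1,5] (BT.out 0 [0]) (BT.kid 38075 [1,0,3,6] (BT.out 0 [0]) (BT.kid 94124 [1,0,5,1] (BT.out 0 [0]) (BT.kid 43017 [1,0,5,4] (BT.out 0 [0]) (BT.kid 27902 [1,0,6,1] (BT.out 0 [0]) (BT.kid 63913 [1,1,0,3] (BT.out 0 [0]) (BT.kid 85680 [1,1,0,4] (BT.out 0 [0]) (BT.kid 33164 [1,1,3,3] (BT.out 0 [0]) (BT.kid 61347 [1,1,3,5] (BT.out 0 [0]) (BT.kid 11705 [1,1,4,1] (BT.out 0 [0]) (BT.kid 62802 [1,1,4,3] (BT.out 0 [0]) (BT.kid 61880 [1,1,4,4] (BT.frc 0 [0] [5,5,5,5,6,5,4] (BT.out 0 [0]))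 (BT.kid 16377 [1,1,4,5] (BT.out 0 [0]) (BT.kid 80097 [1,1,5,1] (BT.out 0 [0]) (BT.kid 52262 [1,1,5,6] (BT.out 0 [0]) (BT.kid 121108 [1,1,6,3] (BT.out 0 [0]) (BT.kid 46362 [1,3,0,4] (BT.out 0 [0]) (BT.kid 90603 [1,3,0,5] (BT.out 0 [0]) (BT.kid 3062 [1,3,1,1] (BT.out 0 [0]) (BT.kid 104191 [1,3,1,5] (BT.out 0 [0]) (BT.kid 21020 [1,3,3,3] (BT.out 0 [0]) (BT.kid 74276 [1,3,3,5] (BT.out 0 [0]) (BT.kid 79766 [1,3,4,1] (BT.out 0 [0]) (BT.kid 32969 [1,3,4,3] (BT.out 0 [0]) (BT.kid 82742 [1,3,5,3] (BT.out 0 [0]) (BT.kid 180 [1,4,0,3] (BT.frc 0 [0] [4,5,6,5,5,4,6] (BT.out 0 [0])) (BT.kid 63198 [1,4,0,5] (BT.out 0 [0]) (BT.kid 79852 [1,4,3,1] (BT.out 0 [0]) (BT.kid 83138 [1,4,3,4] (BT.out 0 [0]) (BT.kid 63866 [1,4,3,6] (BT.out 0 [0]) (BT.kid 13465 [1,4,4,1] (BT.out 0 [0]) (BT.kid 7929 [1,4,4,6] (BT.out 0 [0]) (BT.kid 1601 [1,4,5,1] (BT.out 0 [0]) (BT.kid 121232 [1,4,5,4] (BT.out 0 [0]) (BT.kid 79944 [1,4,5,5] (BT.out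 0 [0]) (BT.kid 3191 [1,4,6,5] (BT.out 0 [0]) (BT.kid 86934 [1,5,0,3] (BT.out 0 [0]) (BT.kid 29296 [1,5,1,4] (BT.out 0 [0]) (BT.kid 14049 [1,5,1,5] (BT.frc 0 [0] [4,4,5,5,4,4,6,5,5] (BT.out 0 [0])) (BT.kid 21837 [1,5,3,5] (BT.out 0 [0]) (BT.kid 87842 [1,5,4,1] (BT.out 0 [0]) (BT.kid 40507 [1,5,4,6] (BT.out 0 [0]) (BT.kid 81769 [1,5,5,6] (BT.out 0 [0]) (BT.kid 68523 [1,6,0,5] (BT.out 0 [0]) (BT.kid 10459 [1,6,0,6] (BT.out 0 [0]) (BT.kid 71240 [1,6,1,1] (BT.out 0 [0]) (BT.kid 80109 [1,6,1,5] (BT.out 0 [0]) (BT.kid 38378 [1,6,1,6] (BT.out 0 [0]) (BT.kid 30563 [1,6,3,1] (BT.out 0 [0]) (BT.kid 116572 [1,6,5,5] (BT.out 0 [0]) (BT.kid 27340 [3,0,0,4] (BT.out 0 [0]) (BT.kid 70179 [3,0,5,1] (BT.out 0 [0]) (BT.kid 41662 [3,0,5,3] (BT.out 0 [0]) (BT.kid 116338 [3,0,6,3] (BT.out 0 [0]) (BT.kid 67143 [3,1,0,4] (BT.out 0 [0]) (BT.kid 34506 [3,1,1,6] (BT.out 0 [0]) (BT.kid 78863 [3,1,3,5] (BT.out 0 [0]) (BT.kid 60789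 [3,1,4,1] (BT.out 0 [0]) (BT.kid 69595 [3,1,4,4] (BT.out 0 [0]) (BT.kid 44226 [3,1,5,3] (BT.out 0 [0]) (BT.kid 37038 [3,1,5,6] (BT.out 0 [0]) (BT.kid 14291 [3,1,6,5] (BT.out 0 [0]) (BT.kid 37464 [3,3,4,1] (BT.out 0 [0]) (BT.kid 61525 [3,3,4,3] (BT.out 0 [0]) (BT.kid 97249 [3,4,3,1] (BT.out 0 [0]) (BT.kid 62523 [3,4,3,5] (BT.out 0 [0]) (BT.kid 75894 [3,4,4,1] (BT.out 0 [0]) (BT.kid 6572 [3,4,4,6] (BT.out 0 [0]) (BT.kid 86224 [3,4,5,1] (BT.out 0 [0]) (BT.kid 91004 [3,5,0,3] (BT.out 0 [0]) (BT.kid 64478 [3,5,4,3] (BT.out 0 [0]) (BT.kid 4660 [3,6,3,5] (BT.out 0 [0]) (BT.kid 92077 [0,0,0,1,5] (BT.out 0 [0]) (BT.kid 84372 [0,0,0,1,6] (BT.out 0 [0]) (BT.kid 98498 [0,0,0,3,4] (BT.out 0 [0]) (BT.kid 106862 [0,0,0,3,5] (BT.out 0 [0]) (BT.kid 105540 [0,0,0,3,6] (BT.out 0 [0]) (BT.kid 6528 [0,0,0,4,3] (BT.out 0 [0]) (BT.kid 88312 [0,0,0,6,1] (BT.out 0 [0]) (BT.kid 44936 [0,0,1,0,3] (BT.out 0 [0]) (BT.kid 8283 [0,0,1,0,4]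 (BT.out 0 [0]) (BT.kid 34227 [0,0,1,4,4] (BT.out 0 [0]) (BT.kid 113731 [0,0,1,4,6] (BT.out 0 [0]) (BT.kid 110850 [0,0,1,6,3] (BT.out 0 [0]) (BT.kid 89604 [0,0,3,1,5] (BT.out 0 [0]) (BT.kid 116252 [0,0,3,3,4] (BT.out 0 [0]) (BT.kid 48460 [0,0,3,4,4] (BT.out 0 [0]) (BT.kid 40803 [0,0,4,3,6] (BT.out 0 [0]) (BT.kid 84509 [0,0,4,4,1] (BT.out 0 [0]) (BT.kid 103878 [0,0,5,0,5] (BT.out 0 [0]) (BT.kid 86635 [0,0,5,1,1] (BT.out 0 [0]) (BT.kid 106716 [0,0,5,4,3] (BT.out 0 [0]) (BT.kid 80412 [0,0,5,5,3] (BT.out 0 [0]) (BT.kid 102422 [0,0,5,5,5] (BT.out 0 [0]) (BT.kid 77665 [0,0,6,0,6] (BT.out 0 [0]) (BT.kid 111388 [0,0,6,5,3] (BT.out 0 [0]) (BT.kid 111347 [0,1,0,1,5] (BT.out 0 [0]) (BT.kid 22325 [0,1,1,3,3] (BT.out 0 [0]) (BT.kid 58500 [0,1,1,4,3] (BT.out 0 [0]) (BT.kid 28138 [0,1,1,5,6] (BT.out 0 [0]) (BT.kid 84980 [0,1,3,0,6] (BT.out 0 [0]) (BT.kid 52309 [0,1,3,3,6] (BT.out 0 [0]) (BT.kid 122593 [0,1,3,5,4] (BT.out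 0 [0]) (BT.kid 28064 [0,1,4,0,5] (BT.out 0 [0]) (BT.kid 51852 [0,1,4,3,5] (BT.out 0 [0]) (BT.kid 68047 [0,1,4,3,6] (BT.out 0 [0]) (BT.kid 2948 [0,1,4,6,1] (BT.out 0 [0]) (BT.kid 385 [0,1,5,0,6] (BT.out 0 [0]) (BT.kid 64516 [0,1,6,1,1] (BT.out 0 [0]) (BT.kid 110727 [0,3,0,4,5] (BT.out 0 [0]) (BT.kid 65061 [0,3,0,5,6] (BT.out 0 [0]) (BT.kid 100538 [0,3,1,1,4] (BT.out 0 [0]) (BT.kid 67356 [0,3,1,5,5] (BT.out 0 [0]) (BT.kid 67016 [0,3,5,3,1] (BT.out 0 [0]) (BT.kid 69484 [0,4,0,0,5] (BT.out 0 [0]) (BT.kid 44472 [0,4,1,1,1] (BT.out 0 [0]) (BT.kid 31518 [0,4,1,1,4] (BT.out 0 [0]) (BT.kid 53798 [0,4,1,1,5] (BT.out 0 [0]) (BT.kid 111413 [0,4,1,3,5] (BT.out 0 [0]) (BT.kid 109811 [0,4,3,5,3] (BT.out 0 [0]) (BT.kid 25134 [0,4,5,0,5] (BT.out 0 [0]) (BT.kid 10294 [0,4,5,1,3] (BT.out 0 [0]) (BT.kid 106742 [0,4,5,1,4] (BT.out 0 [0]) (BT.kid 115557 [0,4,5,5,1] (BT.out 0 [0]) (BT.kid 107965 [0,4,6,3,3] (BT.frc 0 [0] [5,6,5,4]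 (BT.out 0 [0])) (BT.kid 88743 [0,5,5,5,3] (BT.out 0 [0]) (BT.kid 118757 [0,6,3,4,4] (BT.frc 0 [0] [4,5,5,5,5] (BT.out 0 [0])) BT.nil))))))))))))))))))))))))))))))))))))))))))))))))))))))))))))))))))))))))))))))))))))))))))))))))))))))))))))))))))))))))))))))))))))))))))))))))))))))))))))))))))))))))))))))))))))))))))))))))))))))))))))))))))))))))))))))))))))))))))))))))))))))))))))))))))))))))))))))))))))))))))))))))))))))) BT.nil))
theorem cm50021 : (spA 122760 x50019s fAON).Clm Spor.ON (finX 122760) false 0 chAON0 [] [] := SP.Clm.ofN (T := cm50021T) (by decide +kernel)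
noncomputable def cm50023T : BT := (BT.kid 108773 [] (BT.br [[0],[2]] (BT.kid 110853 [] (BT.br [[0],[2]] (BT.kid 62906 [] (BT.br [[0],[2]] (BT.kid 10959 [] (BT.br [[2,0],[0,0,0]] (BT.kid 98 [] (BT.br [[0,0,0]] (BT.kid 0 [] BT.live BT.nil)) BT.nil)) BT.nil)) (BT.kid 75057 [7,7] (BT.br [[0],[2]] (BT.kid 44137 [] (BT.br [] BT.nil) BT.nil)) BT.nil))) (BT.kid 119248 [3,1,0,7,1,3,0] (BT.br [[0],[2]] (BT.kid 75057 [] (BT.br [[0],[2]] (BT.kid 44137 [] (BT.br [] BT.nil) BT.nil)) (BT.kid 62906 [7,7] (BT.br [[0],[2]] (BT.kid 10959 [] (BT.br [[2,0],[0,0,0]] (BT.kid 32482 [] (BT.br [[0,0,0]] (BT.kid 44725 [] (BT.nc 1 10959) BT.nil)) BT.nil)) BT.nil)) BT.nil))) BT.nil))) BT.nil)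
noncomputable def cm50023M : ℕ := (Nat.lor (Nat.lor (nat_lit 0x0) (Nat.shiftLeft (Nat.lor (nat_lit 0x0) (Nat.shiftLeft (nat_lit 0x0) (nat_lit 16384))) (nat_lit 16384))) (Nat.shiftLeft (Nat.lor (Nat.lor (nat_lit 0x0) (Nat.shiftLeft (nat_lit 0x0) (nat_lit 16384))) (Nat.shiftLeft (Nat.lor (nat_lit 0x0) (Nat.shiftLeft (nat_lit 0x2000000000000000000000000000000000000000000000000000000000000000000000000000000000000000000000000000000000000000000000000000000000000000000000000000000000000000000000000000000000000000000000000000000000000000000000000000000000000000000000000000000000000000000000000000000000000000000000000000000000000000000000000000000000000000000000000000000000000000000000000000000000000000000000000000000000000000000000000000000000000000000000000000000000000000000000000000000000000000000000000000000000000000000000000000000000000000000000000000000000000000000000000000000000000000000000000000000000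00000000000000000000000000000000000000000000000000000000000000000000000000000000000000000000000000000000000000000000000000000000000000000000000000000000000000000000000000000000000000000000000000000000000000000000000000000000000000000000000000000000000000000000000000000000000000000000000000000000000000000000000000000000000000000000000000000000000000000000000000000000000000000000000000000000000000000000000000000000000000000000000000000000000000000000000000000000000000000000000000000000000000000000000000000000000000000000000000000000000000000000000000000000000000000000000000000000000000000000000000000000000000000000000000000000000000000000000000000000000000000000000000000000000000000000000000000000000000000000000000000000000000000000000000000000000000000000000000000000000000000000000000000000000000000000000000000000000000000000000000000000000000000000000000000000000000000000000000000000000000000000000000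00000000000000000000000000000000000000000000000000000000000000000000000000000000000000000000000000000000000000000000000000000000000000000000000000000000000000000000000000000000000000000000000000000000000000000000000000000000000000000000000000000000000000000000000000000000000000000000000000000000000000000000000000000000000000000000000000000000000000000000000000000000000000000000000000000000000000000000000000000000000000000000000000000000000000000000000000000000000000000000000000000000000000000000000000000000000000000000000000000000000000000000000000000000000000000000000000000000000000000000000000000000000000000000000000000000000000000000000000000000000000000000000000000000000000000000000000000000000000000000000000000000000000000000000000000000000000000000000000000000000000000000000000000000000000000000000000000000000000000000000000000000000000000000000000000000000000000000000000000000000000000000000000000000000000000000000000000000000000000000000000000000000000000000000000000000000000000000000000000000000000000000000000000000000000000000000000000000000000000000000000000000000000000000000000000000000000)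 (nat_lit 16384))) (nat_lit 32768))) (nat_lit 49152)))
theorem cm50023 : (spB 122760 x50019s cwON fBON).Clm Spor.ON (finX 122760) true cm50023M chBON0 [] [] := SP.Clm.ofL (T := cm50023T) (by decide +kernel)
noncomputable def cm50024T : BT := (BT.kid 75057 [2,7,7] (BT.br [[0],[2],[1,1,1]] (BT.kid 69685 [] (BT.br [[0],[2],[1,1,1]] (BT.kid 108773 [] (BT.br [[0],[2]] (BT.kid 14848 [] (BT.br [] BT.nil) BT.nil)) BT.nil)) (BT.kid 47228 [3,1,0,7,1,3,0] (BT.br [[0],[2],[1,1,1]] (BT.kid 62906 [] (BT.br [[0],[2]] (BT.kid 85770 [] (BT.br [] BT.nil) BT.nil)) BT.nil)) BT.nil))) BT.nil)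
noncomputable def cm50024M : ℕ := (Nat.lor (Nat.lor (nat_lit 0x0) (Nat.shiftLeft (nat_lit 0x0) (nat_lit 16384))) (Nat.shiftLeft (Nat.lor (nat_lit 0x0) (Nat.shiftLeft (Nat.lor (nat_lit 0x0) (Nat.shiftLeft (nat_lit 0x20000000000000000000000000000000000000000000000000000000000000000000000000000000000000000000000000000000000000000000000000000000000000000000000000000000000000000000000000000000000000000000000000000000000000000000000000000000000000000000000000000000000000000000000000000000000000000000000000000000000000000000000000000000000000000000000000000000000000000000000000000000000000000000000000000000000000000000000000000000000000000000000000000000000000000000000000000000000000000000000000000000000000000000000000000000000000000000000000000000000000000000000000000000000000000000000000000000000000000000000000000000000000000000000000000000000000000000000000000000000000000000000000000000000000000000000000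00000000000000000000000000000000000000000000000000000000000000000000000000000000000000000000000000000000000000000000000000000000000000000000000000000000000000000000000000000000000000000000000000000000000000000000000000000000000000000000000000000000000000000000000000000000000000000000000000000000000000000000000000000000000000000000000000000000000000000000000000000000000000000000000000000000000000000000000000000000000000000000000000000000000000000000000000000000000000000000000000000000000000000000000000000000000000000000000000000000000000000000000000000000000000000000000000000000000000000000000000000000000000000000000000000000000000000000000000000000000000000000000000000000000000000000000000000000000000000000000000000000000000000000000000000000000000000000000000000000000000000000000000000000000000000000000000000000000000000000000000000000000000000000000000000000000000000000000000000000000000000000000000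0000000000000000000000000000000000000000000000000000000000000000000000000000000000000000000000000000000000000000000000000000000000000000000000000000000000000000000000000000000000000000000000000000000000000000000000000000000000000000000000000000000000000000000000000000000000000000000000000000000000000000000000000000000000000000000000000000000000000000000000000000000000000000000000000000000000000000000000000000000000000000000000000000000000000000000000000000000000000000000000000000000000000000000000000000000000000000000000000000000000000000000000000000000000000000000000000000000000000000000000000000000000000000000000000000000000000000000000000000000000000000000000000000000000000000000000000000000000000000000000000000000000000000000000000000000000000000000000000) (nat_lit 16384))) (nat_lit 16384))) (nat_lit 32768)))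
theorem cm50024 : (spB 122760 x50019s cwON fBON).Clm Spor.ON (finX 122760) true cm50024M chBON0 [] [] := SP.Clm.ofL (T := cm50024T) (by decide +kernel)
theorem cm50025 : (spB 122760 x50019s cwON fBON).Clm Spor.ON (finX 122760) true (Nat.lor cm50023M cm50024M) chBON0 [] [] := (cm50023.or cm50024)
theorem cm50022 : (spB 122760 x50019s cwON fBON).Clm Spor.ON (finX 122760) false 0 chBON0 [] [] := SP.Clm.br (cs := [[0],[1],[2]]) cm50025 (by decide +kernel)

end Cfsg.Agent.H6.ON
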