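import Cfsg.Agent.H6.TiA
import Cfsg.Agent.H6.Simp3
import Cfsg.Agent.H6.ONB4
import Cfsg.Agent.S0243
set_option maxRecDepth 100000
set_option Elab.async false
namespace Cfsg.Agent.H6.OnL3
open Cfsg.Agent.H6
universe u

noncomputable def il : List ℕ := [1,0,3,2,5,4,7,6]
noncomputable abbrev io : ℕ → ℕ := iota il
noncomputable def C1 : List (List ℕ) := []
noncomputable def m2n0 : Net := (Net.cons (nat_lit 32) (nat_lit 0xfc2e75c8)
  (Net.cons (nat_lit 16) (nat_lit 0xb45f00004491)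
  (Net.cons (nat_lit 8) (nat_lit 0x10004e00420001)
  (Net.cons (nat_lit 4) (nat_lit 0xc02070d000c0004)
  (Net.cons (nat_lit 2) (nat_lit 0x3002013201230230)
  (Net.cons (nat_lit 1) (nat_lit 0x1444504101100101)
  (Net.cons (nat_lit 2) (nat_lit 0x2022002200000202)
  (Net.cons (nat_lit 4) (nat_lit 0x4000c0c04020004)
  (Net.cons (nat_lit 8) (nat_lit 0xb0005e00420002)
  (Net.cons (nat_lit 16) (nat_lit 0x260000440c)
  (Net.cons (nat_lit 32) (nat_lit 0xfcbb7068)
  Net.nil)))))))))))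
noncomputable def m2n1 : Net := (Net.cons (nat_lit 32) (nat_lit 0xfcbb7068)
  (Net.cons (nat_lit 16) (nat_lit 0xfdd900000f39)
  (Net.cons (nat_lit 8) (nat_lit 0x8100b0004a0058)
  (Net.cons (nat_lit 4) (nat_lit 0x3030c0c04040300)
  (Net.cons (nat_lit 2) (nat_lit 0x2110102203320221)
  (Net.cons (nat_lit 1) (nat_lit 0x1105444404011100)
  (Net.cons (nat_lit 2) (nat_lit 0x2000002000000200)
  (Net.cons (nat_lit 4) (nat_lit 0x208080800040204)
  (Net.cons (nat_lit 8) (nat_lit 0xb000100040005a)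
  (Net.cons (nat_lit 16) (nat_lit 0x49a000000c0e)
  (Net.cons (nat_lit 32) (nat_lit 0xfc2e75c8)
  Net.nil)))))))))))
noncomputable def m2n2 : Net := (Net.cons (nat_lit 32) (nat_lit 0xee686762)
  (Net.cons (nat_lit 16) (nat_lit 0xdf0200004ec1)
  (Net.cons (nat_lit 8) (nat_lit 0xdb004c008e00e3)
  (Net.cons (nat_lit 4) (nat_lit 0xd03000106050304)
  (Net.cons (nat_lit 2) (nat_lit 0x323012103203002)
  (Net.cons (nat_lit 1) (nat_lit 0x5500441111411041)
  (Net.cons (nat_lit 2) (nat_lit 0x202222220002)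
  (Net.cons (nat_lit 4) (nat_lit 0x8040a0a02020004)
  (Net.cons (nat_lit 8) (nat_lit 0xd00088008600e2)
  (Net.cons (nat_lit 16) (nat_lit 0x549c00005fbe)
  (Net.cons (nat_lit 32) (nat_lit 0xee6a3f66)
  Net.nil)))))))))))
noncomputable def m2n3 : Net := (Net.cons (nat_lit 32) (nat_lit 0xee6a3f66)
  (Net.cons (nat_lit 16) (nat_lit 0x16300008041)
  (Net.cons (nat_lit 8) (nat_lit 0xf7000e001d0086)
  (Net.cons (nat_lit 4) (nat_lit 0xe0a0102040f010d)
  (Net.cons (nat_lit 2) (nat_lit 0x1221122302032122)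
  (Net.cons (nat_lit 1) (nat_lit 0x4141405141041414)
  (Net.cons (nat_lit 2) (nat_lit 0x2000002002202)
  (Net.cons (nat_lit 4) (nat_lit 0x4000608040c0c0a)
  (Net.cons (nat_lit 8) (nat_lit 0xb200a0001c008e)
  (Net.cons (nat_lit 16) (nat_lit 0x26bc0000913e)
  (Net.cons (nat_lit 32) (nat_lit 0xee686762)
  Net.nil)))))))))))
noncomputable def m2n4 : Net := (Net.cons (nat_lit 32) (nat_lit 0xd65469b)
  (Net.cons (nat_lit 16) (nat_lit 0x7d630000e48e)
  (Net.cons (nat_lit 8) (nat_lit 0x1c0014007400dd)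
  (Net.cons (nat_lit 4) (nat_lit 0x70b0806000802)
  (Net.cons (nat_lit 2) (nat_lit 0x2013030110032230)
  (Net.cons (nat_lit 1) (nat_lit 0x4011114110100511)
  (Net.cons (nat_lit 2) (nat_lit 0x2000222200000022)
  (Net.cons (nat_lit 4) (nat_lit 0x20806060800)
  (Net.cons (nat_lit 8) (nat_lit 0x38009200620024)
  (Net.cons (nat_lit 16) (nat_lit 0x7d4200000690)
  (Net.cons (nat_lit 32) (nat_lit 0xd60baec)
  Net.nil)))))))))))
noncomputable def m2n5 : Net := (Net.cons (nat_lit 32) (nat_lit 0xfa9d4513)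
  (Net.cons (nat_lit 16) (nat_lit 0xbb2d0000650f)
  (Net.cons (nat_lit 8) (nat_lit 0x7d00660020009e)
  (Net.cons (nat_lit 4) (nat_lit 0x60e0a0d000a0e0d)
  (Net.cons (nat_lit 2) (nat_lit 0x1221103020233231)
  (Net.cons (nat_lit 1) (nat_lit 0x5104400140444144)
  (Net.cons (nat_lit 2) (nat_lit 0x200020022202)
  (Net.cons (nat_lit 4) (nat_lit 0x60c0e0e00080e08)
  (Net.cons (nat_lit 8) (nat_lit 0x6c00240004000c)
  (Net.cons (nat_lit 16) (nat_lit 0x33000006548)
  (Net.cons (nat_lit 32) (nat_lit 0xfa9ab960)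
  Net.nil)))))))))))
noncomputable def m2n6 : Net := (Net.cons (nat_lit 32) (nat_lit 0xec79ef02)
  (Net.cons (nat_lit 16) (nat_lit 0x94750000e90c)
  (Net.cons (nat_lit 8) (nat_lit 0x68008b007a0007)
  (Net.cons (nat_lit 4) (nat_lit 0x606090309020b)
  (Net.cons (nat_lit 2) (nat_lit 0x3031012132010002)
  (Net.cons (nat_lit 1) (nat_lit 0x4405404541401041)
  (Net.cons (nat_lit 2) (nat_lit 0x2000000000200022)
  (Net.cons (nat_lit 4) (nat_lit 0x4000e00020208)
  (Net.cons (nat_lit 8) (nat_lit 0xb0002600200002)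
  (Net.cons (nat_lit 16) (nat_lit 0xb4880000fa3c)
  (Net.cons (nat_lit 32) (nat_lit 0xecc85e76)
  Net.nil)))))))))))
noncomputable def m2n7 : Net := (Net.cons (nat_lit 32) (nat_lit 0x51358081)
  (Net.cons (nat_lit 16) (nat_lit 0xfa3400000a6f)
  (Net.cons (nat_lit 8) (nat_lit 0x2000b5002800d7)
  (Net.cons (nat_lit 4) (nat_lit 0xf05010606020700)
  (Net.cons (nat_lit 2) (nat_lit 0x332300300333010)
  (Net.cons (nat_lit 1) (nat_lit 0x1104501140144414)
  (Net.cons (nat_lit 2) (nat_lit 0x2000000220222020)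
  (Net.cons (nat_lit 4) (nat_lit 0xc0400060c000006)
  (Net.cons (nat_lit 8) (nat_lit 0x7a00f000a20010)
  (Net.cons (nat_lit 16) (nat_lit 0xab0c00002a4a)
  (Net.cons (nat_lit 32) (nat_lit 0x510650dc)
  Net.nil)))))))))))
noncomputable def m2l : List Net := [m2n0,m2n1,m2n2,m2n3,m2n4,m2n5,m2n6,m2n7]
noncomputable abbrev m2 : ℕ → Net := lk Net.nil m2l
theorem m2ok : NetsOk 57 m2 vT := netsOk_of (by decide +kernel)
theorem m2s0 : Sat io [] (finG m2ok) := fin_sat_nil _ (k := 6) (n := 8) (by decide +kernel)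
noncomputable def m3n0 : Net := (Net.cons (nat_lit 4) (nat_lit 12)
  (Net.cons (nat_lit 2) (nat_lit 49)
  (Net.cons (nat_lit 1) (nat_lit 1)
  (Net.cons (nat_lit 4) (nat_lit 10)
  Net.nil))))
noncomputable def m3n1 : Net := (Net.cons (nat_lit 4) (nat_lit 10)
  (Net.cons (nat_lit 2) (nat_lit 51)
  (Net.cons (nat_lit 1) (nat_lit 4)
  (Net.cons (nat_lit 2) (nat_lit 2)
  (Net.cons (nat_lit 4) (nat_lit 12)
  Net.nil)))))
noncomputable def m3l : List Net := [m3n0,m3n1]
noncomputable abbrev m3 : ℕ → Net := lk Net.nil m3l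
theorem m3ok : NetsOk 7 m3 vT := netsOk_of (by decide +kernel)
theorem m3s0 : Sat io [] (finG m3ok) := fin_sat_nil _ (k := 3) (n := 8) (by decide +kernel)
noncomputable def r0 : List ℕ := [0,0,0,0,0,0,0]
noncomputable def m4n0 : Net := (Net.cons (nat_lit 4) (nat_lit 12)
  (Net.cons (nat_lit 2) (nat_lit 49)
  (Net.cons (nat_lit 1) (nat_lit 1)
  (Net.cons (nat_lit 4) (nat_lit 10)
  Net.nil))))
noncomputable def m4n1 : Net := (Net.cons (nat_lit 4) (nat_lit 10)
  (Net.cons (nat_lit 2) (nat_lit 51)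
  (Net.cons (nat_lit 1) (nat_lit 4)
  (Net.cons (nat_lit 2) (nat_lit 2)
  (Net.cons (nat_lit 4) (nat_lit 12)
  Net.nil)))))
noncomputable def m4l : List Net := [m4n0,m4n1]
noncomputable abbrev m4 : ℕ → Net := lk Net.nil m4l
theorem m4ok : NetsOk 7 m4 vT := netsOk_of (by decide +kernel)
theorem m4s0 : Sat io [] (finG m4ok) := fin_sat_nil _ (k := 3) (n := 8) (by decide +kernel)
noncomputable def C5 : List (List ℕ) := [r0]
theorem cl6 : Clo.{u} io C5 [] 7 m4 1 (mkB []) := Clo.start (by decide +kernel)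
theorem imp7 : Imp.{u} io C5 C1 := Imp.of_chk (pfs := []) (by decide +kernel)
theorem ix8 : Idx.{u} io C5 [] [] 1 := (Idx.triv (Bound.nil) (by norm_num)).of_imp imp7
noncomputable def lk9 : List (List ℕ × List ℕ × Pf) := []
noncomputable def O10 : ℕ := (nat_lit 2)
noncomputable def M11 : ℕ := (nat_lit 3)
noncomputable def b12 : ℕ := (nat_lit 1)
theorem cl13 : Clo.{u} io C5 [] 7 m4 M11 (mkB [(0,b12)]) := cl6.new (k := 0) (b := 0) (q := 0) (p := 1) (r := 200) (n := 1) (O := O10) (by decide +kernel) (lks := lk9) (by decide +kernel) (gens_of_lall2 (m := []) (by decide +kernel)) ix8 (by decide +kernel)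
noncomputable def b14 : ℕ := (nat_lit 2)
theorem cl15 : Clo.{u} io C5 [] 7 m4 M11 (mkB [(0,b12),(1,b14)]) := cl13.ops (os := [Op.inv 0]) (by decide +kernel) (by decide +kernel)
theorem ix16 : Idx.{u} io C5 [] [] 1 := (Idx.triv (Bound.nil) (by norm_num)).of_imp imp7
noncomputable def lk17 : List (List ℕ × List ℕ × Pf) := []
noncomputable def O18 : ℕ := (nat_lit 8)
noncomputable def M19 : ℕ := (nat_lit 11)
noncomputable def b20 : ℕ := (nat_lit 3)
theorem cl21 : Clo.{u} io C5 [] 7 m4 M19 (mkB [(0,b20),(1,b14)]) := cl15.new (k := 0) (b := 0) (q := 1) (p := 3) (r := 200) (n := 1) (O := O18) (by decide +kernel) (lks := lk17) (by decide +kernel) (gens_of_lall2 (m := []) (by decide +kernel)) ix16 (by decide +kernel)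
noncomputable def b22 : ℕ := (nat_lit 10)
theorem cl23 : Clo.{u} io C5 [] 7 m4 M19 (mkB [(0,b20),(1,b22)]) := cl21.ops (os := [Op.inv 0]) (by decide +kernel) (by decide +kernel)
theorem ix24 : Idx.{u} io C5 [] [] 1 := (Idx.triv (Bound.nil) (by norm_num)).of_imp imp7
noncomputable def lk25 : List (List ℕ × List ℕ × Pf) := []
noncomputable def O26 : ℕ := (nat_lit 32)
noncomputable def M27 : ℕ := (nat_lit 43)
noncomputable def b28 : ℕ := (nat_lit 11)
theorem cl29 : Clo.{u} io C5 [] 7 m4 M27 (mkB [(0,b28),(1,b22)]) := cl23.new (k := 0) (b := 0) (q := 3) (p := 5) (r := 200) (n := 1) (O := O26) (by decide +kernel) (lks := lk25) (by decide +kernel) (gens_of_lall2 (m := []) (by decide +kernel)) ix24 (by decide +kernel)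
noncomputable def b30 : ℕ := (nat_lit 42)
theorem cl31 : Clo.{u} io C5 [] 7 m4 M27 (mkB [(0,b28),(1,b30)]) := cl29.ops (os := [Op.inv 0]) (by decide +kernel) (by decide +kernel)
theorem ix32 : Idx.{u} io C5 [] [] 1 := (Idx.triv (Bound.nil) (by norm_num)).of_imp imp7
noncomputable def lk33 : List (List ℕ × List ℕ × Pf) := []
noncomputable def O34 : ℕ := (nat_lit 64)
noncomputable def M35 : ℕ := (nat_lit 107)
noncomputable def b36 : ℕ := (nat_lit 43)
theorem cl37 : Clo.{u} io C5 [] 7 m4 M35 (mkB [(0,b36),(1,b30)]) := cl31.new (k := 0) (b := 0) (q := 5) (p := 6) (r := 200) (n := 1) (O := O34) (by decide +kernel) (lks := lk33) (by decide +kernel) (gens_of_lall2 (m := []) (by decide +kernel)) ix32 (by decide +kernel)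
noncomputable def b38 : ℕ := (nat_lit 106)
theorem cl39 : Clo.{u} io C5 [] 7 m4 M35 (mkB [(0,b36),(1,b38)]) := cl37.ops (os := [Op.inv 0]) (by decide +kernel) (by decide +kernel)
theorem ix40 : Idx.{u} io C5 [] [] 1 := (Idx.triv (Bound.nil) (by norm_num)).of_imp imp7
noncomputable def lk41 : List (List ℕ × List ℕ × Pf) := []
noncomputable def O42 : ℕ := (nat_lit 16)
noncomputable def M43 : ℕ := (nat_lit 123)
noncomputable def b44 : ℕ := (nat_lit 107)
theorem cl45 : Clo.{u} io C5 [] 7 m4 M43 (mkB [(0,b44),(1,b38)]) := cl39.new (k := 0) (b := 0) (q := 6) (p := 4) (r := 200) (n := 1) (O := O42) (by decide +kernel) (lks := lk41) (by decide +kernel) (gens_of_lall2 (m := []) (by decide +kernel)) ix40 (by decide +kernel)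
noncomputable def b46 : ℕ := (nat_lit 122)
theorem cl47 : Clo.{u} io C5 [] 7 m4 M43 (mkB [(0,b44),(1,b46)]) := cl45.ops (os := [Op.inv 0]) (by decide +kernel) (by decide +kernel)
theorem ix48 : Idx.{u} io C5 [] [] 1 := (Idx.triv (Bound.nil) (by norm_num)).of_imp imp7
noncomputable def lk49 : List (List ℕ × List ℕ × Pf) := []
noncomputable def O50 : ℕ := (nat_lit 4)
noncomputable def M51 : ℕ := (nat_lit 127)
noncomputable def b52 : ℕ := (nat_lit 123)
theorem cl53 : Clo.{u} io C5 [] 7 m4 M51 (mkB [(0,b52),(1,b46)]) := cl47.new (k := 0) (b := 0) (q := 4) (p := 2) (r := 200) (n := 1) (O := O50) (by decide +kernel) (lks := lk49) (by decide +kernel) (gens_of_lall2 (m := []) (by decide +kernel)) ix48 (by decide +kernel)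
noncomputable def b54 : ℕ := (nat_lit 127)
noncomputable def b55 : ℕ := (nat_lit 127)
theorem cl56 : Clo.{u} io C5 [] 7 m4 M51 (mkB [(0,b54),(1,b55)]) := cl53.ops (os := [Op.inv 0,Op.rel 0 [] 1 [1,1,1,1,1] [([],1)],Op.inv 0]) (by decide +kernel) (by decide +kernel)
theorem sat58 : Sat io C5 (finG m4ok) := m4s0.fin (k := 3) (by decide +kernel)
theorem bd57 : Bound.{u} io C5 [0,1] 7 := cl56.bound (by decide +kernel) sat58 ((Bound.nil).of_imp imp7)
noncomputable def m59n0 : Net := (Net.cons (nat_lit 24) (nat_lit 0xcc6b75)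
  (Net.cons (nat_lit 12) (nat_lit 0xc5b0007d0)
  (Net.cons (nat_lit 6) (nat_lit 0xa016030010)
  (Net.cons (nat_lit 3) (nat_lit 0x184184181000)
  (Net.cons (nat_lit 1) (nat_lit 0x1000041048)
  (Net.cons (nat_lit 1) (nat_lit 0x82402082490)
  (Net.cons (nat_lit 1) (nat_lit 0x200048249009)
  (Net.cons (nat_lit 3) (nat_lit 0x182104180000)
  (Net.cons (nat_lit 6) (nat_lit 0x8014030030)
  (Net.cons (nat_lit 12) (nat_lit 0x2400044e)
  (Net.cons (nat_lit 24) (nat_lit 0xccf336)
  Net.nil)))))))))))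
noncomputable def m59n1 : Net := (Net.cons (nat_lit 24) (nat_lit 0x330cc9)
  (Net.cons (nat_lit 12) (nat_lit 0x44e000cdb)
  (Net.cons (nat_lit 6) (nat_lit 0x30030014008)
  (Net.cons (nat_lit 3) (nat_lit 0x187000104182)
  (Net.cons (nat_lit 1) (nat_lit 0x48008000000)
  (Net.cons (nat_lit 1) (nat_lit 0x90490402082)
  (Net.cons (nat_lit 1) (nat_lit 0x249049048201)
  (Net.cons (nat_lit 3) (nat_lit 0x186000184184)
  (Net.cons (nat_lit 6) (nat_lit 0x3001001600a)
  (Net.cons (nat_lit 12) (nat_lit 0x7d00000a4)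
  (Net.cons (nat_lit 24) (nat_lit 0x33948a)
  Net.nil)))))))))))
noncomputable def m59n2 : Net := (Net.cons (nat_lit 24) (nat_lit 0x2cd802)
  (Net.cons (nat_lit 12) (nat_lit 0x2dd000032)
  (Net.cons (nat_lit 6) (nat_lit 0x3001002e006)
  (Net.cons (nat_lit 3) (nat_lit 0x40141142181)
  (Net.cons (nat_lit 1) (nat_lit 0x1041000)
  (Net.cons (nat_lit 1) (nat_lit 0x12012482480)
  (Net.cons (nat_lit 1) (nat_lit 0x201241200248)
  (Net.cons (nat_lit 3) (nat_lit 0x82004084000)
  (Net.cons (nat_lit 6) (nat_lit 0x16012010022)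
  (Net.cons (nat_lit 12) (nat_lit 0x1000000a0)
  (Net.cons (nat_lit 24) (nat_lit 0x7080e8)
  Net.nil)))))))))))
noncomputable def m59n3 : Net := (Net.cons (nat_lit 24) (nat_lit 0x7080e8)
  (Net.cons (nat_lit 12) (nat_lit 0xf7f0000a0)
  (Net.cons (nat_lit 6) (nat_lit 0x3101601002e)
  (Net.cons (nat_lit 3) (nat_lit 0x83046144103)
  (Net.cons (nat_lit 1) (nat_lit 0x40001040041)
  (Net.cons (nat_lit 1) (nat_lit 0x482002482082)
  (Net.cons (nat_lit 1) (nat_lit 0x208040201200)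
  (Net.cons (nat_lit 3) (nat_lit 0x6082082102)
  (Net.cons (nat_lit 6) (nat_lit 0x1e03002e012)
  (Net.cons (nat_lit 12) (nat_lit 0x520000032)
  (Net.cons (nat_lit 24) (nat_lit 0x2cd802)
  Net.nil)))))))))))
noncomputable def m59l : List Net := [m59n0,m59n1,m59n2,m59n3]
noncomputable abbrev m59 : ℕ → Net := lk Net.nil m59l
theorem m59ok : NetsOk 48 m59 vT := netsOk_of (by decide +kernel)
theorem m59s0 : Sat io [] (finG m59ok) := fin_sat_nil _ (k := 6) (n := 8) (by decide +kernel)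
noncomputable def r1 : List ℕ := [2,2,2,2]
noncomputable def r2 : List ℕ := [2,0,2,0,2,0]
noncomputable def r3 : List ℕ := [3,1,2,1,2,1]
noncomputable def r4 : List ℕ := [3,0,0,0,3,0,0,0,2,0,0,0,3,0,0,0]
noncomputable def m60n0 : Net := (Net.cons (nat_lit 24) (nat_lit 0x201038)
  (Net.cons (nat_lit 12) (nat_lit 0x3660006f4)
  (Net.cons (nat_lit 6) (nat_lit 0x13024004)
  (Net.cons (nat_lit 3) (nat_lit 0x42103081006)
  (Net.cons (nat_lit 1) (nat_lit 0x1040040008)
  (Net.cons (nat_lit 1) (nat_lit 0x82090490412)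
  (Net.cons (nat_lit 1) (nat_lit 0x40241008048)
  (Net.cons (nat_lit 3) (nat_lit 0x2180006180)
  (Net.cons (nat_lit 6) (nat_lit 0x401001c000)
  (Net.cons (nat_lit 12) (nat_lit 0x128000ae6)
  (Net.cons (nat_lit 24) (nat_lit 0x210322)
  Net.nil)))))))))))
noncomputable def m60n1 : Net := (Net.cons (nat_lit 24) (nat_lit 0x210322)
  (Net.cons (nat_lit 12) (nat_lit 0x797000ae6)
  (Net.cons (nat_lit 6) (nat_lit 0x2d03501c028)
  (Net.cons (nat_lit 3) (nat_lit 0x1c20c40010c6)
  (Net.cons (nat_lit 1) (nat_lit 0x1001001040)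
  (Net.cons (nat_lit 1) (nat_lit 0x82082482490)
  (Net.cons (nat_lit 1) (nat_lit 0x209201040200)
  (Net.cons (nat_lit 3) (nat_lit 0x100004086080)
  (Net.cons (nat_lit 6) (nat_lit 0x24034024008)
  (Net.cons (nat_lit 12) (nat_lit 0x5980006f4)
  (Net.cons (nat_lit 24) (nat_lit 0x201038)
  Net.nil)))))))))))
noncomputable def m60n2 : Net := (Net.cons (nat_lit 24) (nat_lit 0xe99340)
  (Net.cons (nat_lit 12) (nat_lit 0x3ab0000e9)
  (Net.cons (nat_lit 6) (nat_lit 0x7016005031)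
  (Net.cons (nat_lit 3) (nat_lit 0x1c40c5181184)
  (Net.cons (nat_lit 1) (nat_lit 0x41000248201)
  (Net.cons (nat_lit 1) (nat_lit 0x82410492402)
  (Net.cons (nat_lit 1) (nat_lit 0x9201001240)
  (Net.cons (nat_lit 3) (nat_lit 0x186180002102)
  (Net.cons (nat_lit 6) (nat_lit 0x3800c02c00c)
  (Net.cons (nat_lit 12) (nat_lit 0x75000051e)
  (Net.cons (nat_lit 24) (nat_lit 0x6ec280)
  Net.nil)))))))))))
noncomputable def m60n3 : Net := (Net.cons (nat_lit 24) (nat_lit 0x6ec280)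
  (Net.cons (nat_lit 12) (nat_lit 0x8af000ae1)
  (Net.cons (nat_lit 6) (nat_lit 0x3c007033011)
  (Net.cons (nat_lit 3) (nat_lit 0x47181084143)
  (Net.cons (nat_lit 1) (nat_lit 0x40040008200)
  (Net.cons (nat_lit 1) (nat_lit 0x480090090492)
  (Net.cons (nat_lit 1) (nat_lit 0x8248049049)
  (Net.cons (nat_lit 3) (nat_lit 0x102100106180)
  (Net.cons (nat_lit 6) (nat_lit 0x203800e01a)
  (Net.cons (nat_lit 12) (nat_lit 0xc54000f16)
  (Net.cons (nat_lit 24) (nat_lit 0xe99340)
  Net.nil)))))))))))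
noncomputable def m60l : List Net := [m60n0,m60n1,m60n2,m60n3]
noncomputable abbrev m60 : ℕ → Net := lk Net.nil m60l
theorem m60ok : NetsOk 48 m60 vT := netsOk_of (by decide +kernel)
theorem m60s0 : Sat io [] (finG m60ok) := fin_sat_nil _ (k := 6) (n := 8) (by decide +kernel)
noncomputable def C61 : List (List ℕ) := [r0,r1,r2,r3,r4]
theorem cl62 : Clo.{u} io C61 [0,1] 48 m60 1 (mkB []) := Clo.start (by decide +kernel)
theorem imp63 : Imp.{u} io C61 C5 := Imp.of_chk (pfs := [[([],1)]]) (by decide +kernel)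
theorem ix64 : Idx.{u} io C61 [0,1] [] 7 := (Idx.triv bd57 (by norm_num)).of_imp imp63
noncomputable def lk65 : List (List ℕ × List ℕ × Pf) := []
noncomputable def O66 : ℕ := (nat_lit 37658)
noncomputable def M67 : ℕ := (nat_lit 37659)
noncomputable def b68 : ℕ := (nat_lit 1)
theorem cl69 : Clo.{u} io C61 [0,1] 48 m60 M67 (mkB [(2,b68)]) := cl62.new (k := 3) (b := 2) (q := 0) (p := 1) (r := 200) (n := 7) (O := O66) (by decide +kernel) (lks := lk65) (by decide +kernel) (gens_of_lall2 (m := []) (by decide +kernel)) ix64 (by decide +kernel)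
noncomputable def b70 : ℕ := (nat_lit 17)
noncomputable def b71 : ℕ := (nat_lit 10)
theorem cl72 : Clo.{u} io C61 [0,1] 48 m60 M67 (mkB [(2,b70),(3,b71)]) := cl69.ops (os := [Op.inv 2,Op.rel 2 [1] 2 [0,3,0] [([2],7)],Op.inv 2]) (by decide +kernel) (by decide +kernel)
theorem der74 : Der 7 (finX 7) (cl (finG m3ok) [[1]]) (fun _ => Net.nil) := Der.zero (finModel m3ok).inj
noncomputable def ns75 : ℕ → Net := upd (fun _ => Net.nil) 0 (m3 1)
theorem der76 : Der 7 (finX 7) (cl (finG m3ok) [[1]]) ns75 := der74.add (wp_mem_cl (w := [1]) (by decide)) (rep_letter (finModel m3ok) 1) 0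
noncomputable def L77 : Lev := Lev.cons 0 7 [[0]] Lev.nil
theorem lc78 : Lev.chk 7 0 ns75 vT 100 L77 = true := by decide +kernel
theorem lb79 : 7 ≤ Nat.card (cl (finG m3ok) [[1]]) := le_of_eq_of_le (by decide +kernel) (der76.card_ge lc78)
theorem sat80 : Sat io C5 (finG m3ok) := m3s0.fin (k := 3) (by decide +kernel)
theorem ix73 : Idx.{u} io C61 [0,1] [[1]] 1 := (Idx.of bd57 sat80 (by decide +kernel) lb79 (by decide +kernel)).of_imp imp63
noncomputable def lk81 : List (List ℕ × List ℕ × Pf) := [([1],[0,3,0],[([2],7)])]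
noncomputable def O82 : ℕ := (nat_lit 32)
noncomputable def M83 : ℕ := (nat_lit 37691)
noncomputable def b84 : ℕ := (nat_lit 19)
theorem cl85 : Clo.{u} io C61 [0,1] 48 m60 M83 (mkB [(2,b84),(3,b71)]) := cl72.new (k := 3) (b := 2) (q := 1) (p := 5) (r := 200) (n := 1) (O := O82) (by decide +kernel) (lks := lk81) (by decide +kernel) (gens_of_lall2 (m := [[0]]) (by decide +kernel)) ix73 (by decide +kernel)
noncomputable def b86 : ℕ := (nat_lit 42)
theorem cl87 : Clo.{u} io C61 [0,1] 48 m60 M83 (mkB [(2,b84),(3,b86)]) := cl85.ops (os := [Op.inv 2]) (by decide +kernel) (by decide +kernel)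
theorem ix88 : Idx.{u} io C61 [0,1] [] 7 := (Idx.triv bd57 (by norm_num)).of_imp imp63
noncomputable def lk89 : List (List ℕ × List ℕ × Pf) := []
noncomputable def O90 : ℕ := (nat_lit 0xc0cc4)
noncomputable def M91 : ℕ := (nat_lit 0xc9fff)
noncomputable def b92 : ℕ := (nat_lit 27)
theorem cl93 : Clo.{u} io C61 [0,1] 48 m60 M91 (mkB [(2,b92),(3,b86)]) := cl87.new (k := 3) (b := 2) (q := 3) (p := 7) (r := 200) (n := 7) (O := O90) (by decide +kernel) (lks := lk89) (by decide +kernel) (gens_of_lall2 (m := []) (by decide +kernel)) ix88 (by decide +kernel)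
noncomputable def b94 : ℕ := (nat_lit 255)
noncomputable def b95 : ℕ := (nat_lit 255)
theorem cl96 : Clo.{u} io C61 [0,1] 48 m60 M91 (mkB [(2,b94),(3,b95)]) := cl93.ops (os := [Op.inv 2,Op.rel 2 [0] 3 [1,3,1] [([3],5)],Op.inv 2,Op.rel 2 [] 3 [3,3] [([],3)],Op.inv 2,Op.rel 2 [0] 3 [1,3,1] [([3],5)],Op.inv 2,Op.rel 2 [] 3 [3,3] [([],3)],Op.inv 2]) (by decide +kernel) (by decide +kernel)
theorem ix97 : Idx.{u} io C61 [0,1] [] 7 := (Idx.triv bd57 (by norm_num)).of_imp imp63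
noncomputable def lk98 : List (List ℕ × List ℕ × Pf) := []
noncomputable def O99 : ℕ := (nat_lit 0x48108422000)
noncomputable def M100 : ℕ := (nat_lit 0x481084ebfff)
noncomputable def b101 : ℕ := (nat_lit 511)
theorem cl102 : Clo.{u} io C61 [0,1] 48 m60 M100 (mkB [(2,b101),(3,b95)]) := cl96.new (k := 3) (b := 2) (q := 8) (p := 13) (r := 200) (n := 7) (O := O99) (by decide +kernel) (lks := lk98) (by decide +kernel) (gens_of_lall2 (m := []) (by decide +kernel)) ix97 (by decide +kernel)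
noncomputable def b103 : ℕ := (nat_lit 0x80000229ff)
noncomputable def b104 : ℕ := (nat_lit 0x1000226ff)
theorem cl105 : Clo.{u} io C61 [0,1] 48 m60 M100 (mkB [(2,b103),(3,b104)]) := cl102.ops (os := [Op.inv 2,Op.rel 2 [0] 3 [1,3,1] [([3],5)],Op.inv 2,Op.rel 2 [1] 2 [0,3,0] [([2],7)],Op.inv 2,Op.rel 2 [1] 2 [0,3,0] [([2],7)],Op.inv 2,Op.rel 2 [0,0,0] 2 [1,1,1,2,1,1,1,2,1,1,1] [([2,1,1,1,2],9)],Op.inv 2]) (by decide +kernel) (by decide +kernel)
theorem der107 : Der 7 (finX 7) (cl (finG m3ok) [[1]]) (fun _ => Net.nil) := Der.zero (finModel m3ok).inj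
noncomputable def ns108 : ℕ → Net := upd (fun _ => Net.nil) 0 (m3 1)
theorem der109 : Der 7 (finX 7) (cl (finG m3ok) [[1]]) ns108 := der107.add (wp_mem_cl (w := [1]) (by decide)) (rep_letter (finModel m3ok) 1) 0
noncomputable def L110 : Lev := Lev.cons 0 7 [[0]] Lev.nil
theorem lc111 : Lev.chk 7 0 ns108 vT 100 L110 = true := by decide +kernel
theorem lb112 : 7 ≤ Nat.card (cl (finG m3ok) [[1]]) := le_of_eq_of_le (by decide +kernel) (der109.card_ge lc111)
theorem ix106 : Idx.{u} io C61 [0,1] [[1]] 1 := (Idx.of bd57 sat80 (by decide +kernel) lb112 (by decide +kernel)).of_imp imp63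
noncomputable def lk113 : List (List ℕ × List ℕ × Pf) := [([1],[0,3,0],[([2],7)])]
noncomputable def O114 : ℕ := (nat_lit 0x400000000000)
noncomputable def M115 : ℕ := (nat_lit 0x4481084ebfff)
noncomputable def b116 : ℕ := (nat_lit 0x480000229ff)
theorem cl117 : Clo.{u} io C61 [0,1] 48 m60 M115 (mkB [(2,b116),(3,b104)]) := cl105.new (k := 3) (b := 2) (q := 42) (p := 46) (r := 200) (n := 1) (O := O114) (by decide +kernel) (lks := lk113) (by decide +kernel) (gens_of_lall2 (m := [[0]]) (by decide +kernel)) ix106 (by decide +kernel)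
noncomputable def b118 : ℕ := (nat_lit 0x4001000226ff)
theorem cl119 : Clo.{u} io C61 [0,1] 48 m60 M115 (mkB [(2,b116),(3,b118)]) := cl117.ops (os := [Op.inv 2]) (by decide +kernel) (by decide +kernel)
theorem der121 : Der 7 (finX 7) (cl (finG m3ok) [[1]]) (fun _ => Net.nil) := Der.zero (finModel m3ok).inj
noncomputable def ns122 : ℕ → Net := upd (fun _ => Net.nil) 0 (m3 1)
theorem der123 : Der 7 (finX 7) (cl (finG m3ok) [[1]]) ns122 := der121.add (wp_mem_cl (w := [1]) (by decide)) (rep_letter (finModel m3ok) 1) 0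
noncomputable def L124 : Lev := Lev.cons 0 7 [[0]] Lev.nil
theorem lc125 : Lev.chk 7 0 ns122 vT 100 L124 = true := by decide +kernel
theorem lb126 : 7 ≤ Nat.card (cl (finG m3ok) [[1]]) := le_of_eq_of_le (by decide +kernel) (der123.card_ge lc125)
theorem ix120 : Idx.{u} io C61 [0,1] [[1]] 1 := (Idx.of bd57 sat80 (by decide +kernel) lb126 (by decide +kernel)).of_imp imp63
noncomputable def lk127 : List (List ℕ × List ℕ × Pf) := [([1],[0,3,0],[([3,0,3,0,2],7)])]
noncomputable def O128 : ℕ := (nat_lit 0x800000000000)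
noncomputable def M129 : ℕ := (nat_lit 0xc481084ebfff)
noncomputable def b130 : ℕ := (nat_lit 0x4401000226ff)
theorem cl131 : Clo.{u} io C61 [0,1] 48 m60 M129 (mkB [(2,b116),(3,b130)]) := cl119.new (k := 3) (b := 3) (q := 42) (p := 47) (r := 200) (n := 1) (O := O128) (by decide +kernel) (lks := lk127) (by decide +kernel) (gens_of_lall2 (m := [[0]]) (by decide +kernel)) ix120 (by decide +kernel)
noncomputable def b132 : ℕ := (nat_lit 0x8480000229ff)
theorem cl133 : Clo.{u} io C61 [0,1] 48 m60 M129 (mkB [(2,b132),(3,b130)]) := cl131.ops (os := [Op.inv 3]) (by decide +kernel) (by decide +kernel)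
theorem ix134 : Idx.{u} io C61 [0,1] [] 7 := (Idx.triv bd57 (by norm_num)).of_imp imp63
noncomputable def lk135 : List (List ℕ × List ℕ × Pf) := []
noncomputable def O136 : ℕ := (nat_lit 0x84204814000)
noncomputable def M137 : ℕ := (nat_lit 0xccc30ccfffff)
noncomputable def b138 : ℕ := (nat_lit 0x848000022bff)
theorem cl139 : Clo.{u} io C61 [0,1] 48 m60 M137 (mkB [(2,b138),(3,b130)]) := cl133.new (k := 3) (b := 2) (q := 9) (p := 16) (r := 200) (n := 7) (O := O136) (by decide +kernel) (lks := lk135) (by decide +kernel) (gens_of_lall2 (m := []) (by decide +kernel)) ix134 (by decide +kernel)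
noncomputable def b140 : ℕ := (nat_lit 0xccc300036fff)
noncomputable def b141 : ℕ := (nat_lit 0xccc300036fff)
theorem cl142 : Clo.{u} io C61 [0,1] 48 m60 M137 (mkB [(2,b140),(3,b141)]) := cl139.ops (os := [Op.inv 2,Op.rel 2 [] 3 [3,3] [([],3)],Op.inv 2,Op.rel 2 [0] 3 [1,3,1] [([3],5)],Op.inv 2,Op.rel 2 [] 3 [3,3] [([],3)],Op.inv 2,Op.rel 3 [0,0,0] 2 [1,1,1,3,1,1,1,2,1,1,1] [([2,1,1,1,3,1,1,1,2,1,1,1,2],9)],Op.inv 3,Op.rel 2 [] 3 [3,3] [([],3)],Op.inv 2]) (by decide +kernel) (by decide +kernel)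
theorem ix143 : Idx.{u} io C61 [0,1] [] 7 := (Idx.triv bd57 (by norm_num)).of_imp imp63
noncomputable def lk144 : List (List ℕ × List ℕ × Pf) := []
noncomputable def O145 : ℕ := (nat_lit 0x13032100000)
noncomputable def M146 : ℕ := (nat_lit 0xcdf33edfffff)
noncomputable def b147 : ℕ := (nat_lit 0xccc300037fff)
theorem cl148 : Clo.{u} io C61 [0,1] 48 m60 M146 (mkB [(2,b147),(3,b141)]) := cl142.new (k := 3) (b := 2) (q := 12) (p := 20) (r := 200) (n := 7) (O := O145) (by decide +kernel) (lks := lk144) (by decide +kernel) (gens_of_lall2 (m := []) (by decide +kernel)) ix143 (by decide +kernel)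
noncomputable def b149 : ℕ := (nat_lit 0xccf3165b7fff)
noncomputable def b150 : ℕ := (nat_lit 0xcce33a97efff)
theorem cl151 : Clo.{u} io C61 [0,1] 48 m60 M146 (mkB [(2,b149),(3,b150)]) := cl148.ops (os := [Op.inv 2,Op.rel 2 [0] 3 [1,3,1] [([3],5)],Op.inv 2,Op.rel 3 [1] 3 [0,3,0] [([3,0,3,0,2],7)],Op.inv 3,Op.rel 2 [0] 3 [1,3,1] [([3],5)],Op.inv 2,Op.rel 3 [1] 3 [0,3,0] [([3,0,3,0,2],7)],Op.inv 3,Op.rel 2 [0] 3 [1,3,1] [([3],5)],Op.inv 2,Op.rel 3 [1] 3 [0,3,0] [([3,0,3,0,2],7)],Op.inv 3,Op.rel 2 [1] 2 [0,3,0] [([2],7)],Op.inv 2]) (by decide +kernel) (by decide +kernel)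
theorem der153 : Der 7 (finX 7) (cl (finG m3ok) [[1]]) (fun _ => Net.nil) := Der.zero (finModel m3ok).inj
noncomputable def ns154 : ℕ → Net := upd (fun _ => Net.nil) 0 (m3 1)
theorem der155 : Der 7 (finX 7) (cl (finG m3ok) [[1]]) ns154 := der153.add (wp_mem_cl (w := [1]) (by decide)) (rep_letter (finModel m3ok) 1) 0
noncomputable def L156 : Lev := Lev.cons 0 7 [[0]] Lev.nil
theorem lc157 : Lev.chk 7 0 ns154 vT 100 L156 = true := by decide +kernel
theorem lb158 : 7 ≤ Nat.card (cl (finG m3ok) [[1]]) := le_of_eq_of_le (by decide +kernel) (der155.card_ge lc157)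
theorem ix152 : Idx.{u} io C61 [0,1] [[1]] 1 := (Idx.of bd57 sat80 (by decide +kernel) lb158 (by decide +kernel)).of_imp imp63
noncomputable def lk159 : List (List ℕ × List ℕ × Pf) := [([1],[0,3,0],[([2],7)])]
noncomputable def O160 : ℕ := (nat_lit 0x100000000000)
noncomputable def M161 : ℕ := (nat_lit 0xddf33edfffff)
noncomputable def b162 : ℕ := (nat_lit 0xcdf3165b7fff)
theorem cl163 : Clo.{u} io C61 [0,1] 48 m60 M161 (mkB [(2,b162),(3,b150)]) := cl151.new (k := 3) (b := 2) (q := 40) (p := 44) (r := 200) (n := 1) (O := O160) (by decide +kernel) (lks := lk159) (by decide +kernel) (gens_of_lall2 (m := [[0]]) (by decide +kernel)) ix152 (by decide +kernel)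
noncomputable def b164 : ℕ := (nat_lit 0xdce33a97efff)
theorem cl165 : Clo.{u} io C61 [0,1] 48 m60 M161 (mkB [(2,b162),(3,b164)]) := cl163.ops (os := [Op.inv 2]) (by decide +kernel) (by decide +kernel)
theorem der167 : Der 7 (finX 7) (cl (finG m3ok) [[1]]) (fun _ => Net.nil) := Der.zero (finModel m3ok).inj
noncomputable def ns168 : ℕ → Net := upd (fun _ => Net.nil) 0 (m3 1)
theorem der169 : Der 7 (finX 7) (cl (finG m3ok) [[1]]) ns168 := der167.add (wp_mem_cl (w := [1]) (by decide)) (rep_letter (finModel m3ok) 1) 0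
noncomputable def L170 : Lev := Lev.cons 0 7 [[0]] Lev.nil
theorem lc171 : Lev.chk 7 0 ns168 vT 100 L170 = true := by decide +kernel
theorem lb172 : 7 ≤ Nat.card (cl (finG m3ok) [[1]]) := le_of_eq_of_le (by decide +kernel) (der169.card_ge lc171)
theorem ix166 : Idx.{u} io C61 [0,1] [[1]] 1 := (Idx.of bd57 sat80 (by decide +kernel) lb172 (by decide +kernel)).of_imp imp63
noncomputable def lk173 : List (List ℕ × List ℕ × Pf) := [([1],[0,3,0],[([3,0,3,0,2],7)])]
noncomputable def O174 : ℕ := (nat_lit 0x200000000000)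
noncomputable def M175 : ℕ := (nat_lit 0xfdf33edfffff)
noncomputable def b176 : ℕ := (nat_lit 0xdde33a97efff)
theorem cl177 : Clo.{u} io C61 [0,1] 48 m60 M175 (mkB [(2,b162),(3,b176)]) := cl165.new (k := 3) (b := 3) (q := 40) (p := 45) (r := 200) (n := 1) (O := O174) (by decide +kernel) (lks := lk173) (by decide +kernel) (gens_of_lall2 (m := [[0]]) (by decide +kernel)) ix166 (by decide +kernel)
noncomputable def b178 : ℕ := (nat_lit 0xedf3165b7fff)
theorem cl179 : Clo.{u} io C61 [0,1] 48 m60 M175 (mkB [(2,b178),(3,b176)]) := cl177.ops (os := [Op.inv 3]) (by decide +kernel) (by decide +kernel)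
theorem ix180 : Idx.{u} io C61 [0,1] [] 7 := (Idx.triv bd57 (by norm_num)).of_imp imp63
noncomputable def lk181 : List (List ℕ × List ℕ × Pf) := []
noncomputable def O182 : ℕ := (nat_lit 0x20cc1200000)
noncomputable def M183 : ℕ := (nat_lit 0xffffffffffff)
noncomputable def b184 : ℕ := (nat_lit 0xedf3165bffff)
theorem cl185 : Clo.{u} io C61 [0,1] 48 m60 M183 (mkB [(2,b184),(3,b176)]) := cl179.new (k := 3) (b := 2) (q := 15) (p := 24) (r := 200) (n := 7) (O := O182) (by decide +kernel) (lks := lk181) (by decide +kernel) (gens_of_lall2 (m := []) (by decide +kernel)) ix180 (by decide +kernel)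
noncomputable def b186 : ℕ := (nat_lit 0xffffffffffff)
noncomputable def b187 : ℕ := (nat_lit 0xffffffffffff)
theorem cl188 : Clo.{u} io C61 [0,1] 48 m60 M183 (mkB [(2,b186),(3,b187)]) := cl185.ops (os := [Op.inv 2,Op.rel 2 [] 3 [3,3] [([],3)],Op.inv 2,Op.rel 2 [0] 3 [1,3,1] [([3],5)],Op.inv 2,Op.rel 2 [] 3 [3,3] [([],3)],Op.inv 2,Op.rel 2 [0] 3 [1,3,1] [([3],5)],Op.inv 2,Op.rel 2 [] 3 [3,3] [([],3)],Op.inv 2,Op.rel 2 [0] 3 [1,3,1] [([3],5)],Op.inv 2,Op.rel 2 [] 3 [3,3] [([],3)],Op.inv 2,Op.rel 2 [0] 3 [1,3,1] [([3],5)],Op.inv 2,Op.rel 2 [1] 2 [0,3,0] [([2],7)],Op.inv 2,Op.rel 2 [0] 3 [1,3,1] [([3],5)],Op.inv 2]) (by decide +kernel) (by decide +kernel)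
theorem sat190 : Sat io C61 (finG m60ok) := m60s0.fin (k := 6) (by decide +kernel)
theorem bd189 : Bound.{u} io C61 [0,1,2,3] 336 := cl188.bound (by decide +kernel) sat190 (bd57.of_imp imp63)
noncomputable def m191n0 : Net := (Net.cons (nat_lit 32) (nat_lit 0x5f5376dd)
  (Net.cons (nat_lit 16) (nat_lit 0xd458000004cc)
  (Net.cons (nat_lit 8) (nat_lit 0xc1005200640079)
  (Net.cons (nat_lit 4) (nat_lit 0x60d0c020208)
  (Net.cons (nat_lit 2) (nat_lit 0x302001000010230)
  (Net.cons (nat_lit 1) (nat_lit 0x501000104010141)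
  (Net.cons (nat_lit 2) (nat_lit 0x200000022)
  (Net.cons (nat_lit 4) (nat_lit 0x408000c08020a0c)
  (Net.cons (nat_lit 8) (nat_lit 0xc00000006400f8)
  (Net.cons (nat_lit 16) (nat_lit 0x98480000a4e4)
  (Net.cons (nat_lit 32) (nat_lit 0x5f53f6d6)
  Net.nil)))))))))))
noncomputable def m191n1 : Net := (Net.cons (nat_lit 32) (nat_lit 0xa0ac0921)
  (Net.cons (nat_lit 16) (nat_lit 0xa4e400009c48)
  (Net.cons (nat_lit 8) (nat_lit 0x64000c000e0000)
  (Net.cons (nat_lit 4) (nat_lit 0x4020c0208040603)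
  (Net.cons (nat_lit 2) (nat_lit 0x3122000030021)
  (Net.cons (nat_lit 1) (nat_lit 0x4004110101050010)
  (Net.cons (nat_lit 2) (nat_lit 0x2020002000000)
  (Net.cons (nat_lit 4) (nat_lit 0x2000000000002)
  (Net.cons (nat_lit 8) (nat_lit 0x64000c00060052)
  (Net.cons (nat_lit 16) (nat_lit 0x4cc0000d418)
  (Net.cons (nat_lit 32) (nat_lit 0xa0ac0922)
  Net.nil)))))))))))
noncomputable def m191n2 : Net := (Net.cons (nat_lit 32) (nat_lit 0xee8288b3)
  (Net.cons (nat_lit 16) (nat_lit 0x99700000900)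
  (Net.cons (nat_lit 8) (nat_lit 0x6e0058004800a7)
  (Net.cons (nat_lit 4) (nat_lit 0x8070007080f0400)
  (Net.cons (nat_lit 2) (nat_lit 0x121202130101112)
  (Net.cons (nat_lit 1) (nat_lit 0x104441410414015)
  (Net.cons (nat_lit 2) (nat_lit 0x202200020000020)
  (Net.cons (nat_lit 4) (nat_lit 0x8000c0c080e0002)
  (Net.cons (nat_lit 8) (nat_lit 0x6800b000500000)
  (Net.cons (nat_lit 16) (nat_lit 0x851400000800)
  (Net.cons (nat_lit 32) (nat_lit 0xee82095e)
  Net.nil)))))))))))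
noncomputable def m191n3 : Net := (Net.cons (nat_lit 32) (nat_lit 0x93fd66a1)
  (Net.cons (nat_lit 16) (nat_lit 0x496000002562)
  (Net.cons (nat_lit 8) (nat_lit 0xf10036002a0064)
  (Net.cons (nat_lit 4) (nat_lit 0xb0108000206040b)
  (Net.cons (nat_lit 2) (nat_lit 0x1033001103013010)
  (Net.cons (nat_lit 1) (nat_lit 0x4111144404011014)
  (Net.cons (nat_lit 2) (nat_lit 0x2222020002022022)
  (Net.cons (nat_lit 4) (nat_lit 0x80004060c0a)
  (Net.cons (nat_lit 8) (nat_lit 0x780014006a0064)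
  (Net.cons (nat_lit 16) (nat_lit 0x589000000162)
  (Net.cons (nat_lit 32) (nat_lit 0x93fd6748)
  Net.nil)))))))))))
noncomputable def m191n4 : Net := (Net.cons (nat_lit 32) (nat_lit 0xab931441)
  (Net.cons (nat_lit 16) (nat_lit 0xf13600005a92)
  (Net.cons (nat_lit 8) (nat_lit 0xbd00cf003e0094)
  (Net.cons (nat_lit 4) (nat_lit 0x40a0c0e0c010607)
  (Net.cons (nat_lit 2) (nat_lit 0x2102013212100301)
  (Net.cons (nat_lit 1) (nat_lit 0x4010014114440441)
  (Net.cons (nat_lit 2) (nat_lit 0x2000022222000200)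
  (Net.cons (nat_lit 4) (nat_lit 0x200060e08080202)
  (Net.cons (nat_lit 8) (nat_lit 0xac00c6007800b4)
  (Net.cons (nat_lit 16) (nat_lit 0x52a600001eba)
  (Net.cons (nat_lit 32) (nat_lit 0xab920bc0)
  Net.nil)))))))))))
noncomputable def m191n5 : Net := (Net.cons (nat_lit 32) (nat_lit 0xbd0a0f22)
  (Net.cons (nat_lit 16) (nat_lit 0xd63f00001a38)
  (Net.cons (nat_lit 8) (nat_lit 0x610075007c00b4)
  (Net.cons (nat_lit 4) (nat_lit 0x80108050205070c)
  (Net.cons (nat_lit 2) (nat_lit 0x2311001030031021)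
  (Net.cons (nat_lit 1) (nat_lit 0x510404044011144)
  (Net.cons (nat_lit 2) (nat_lit 0x2020020022)
  (Net.cons (nat_lit 4) (nat_lit 0x8000006000c000a)
  (Net.cons (nat_lit 8) (nat_lit 0x5e007400340096)
  (Net.cons (nat_lit 16) (nat_lit 0x7e3600005898)
  (Net.cons (nat_lit 32) (nat_lit 0xbd0b964a)
  Net.nil)))))))))))
noncomputable def m191l : List Net := [m191n0,m191n1,m191n2,m191n3,m191n4,m191n5]
noncomputable abbrev m191 : ℕ → Net := lk Net.nil m191l
theorem m191ok : NetsOk 49 m191 vT := netsOk_of (by decide +kernel)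
theorem m191s0 : Sat io [] (finG m191ok) := fin_sat_nil _ (k := 6) (n := 8) (by decide +kernel)
noncomputable def r5 : List ℕ := [4,2,2,4,2,2]
noncomputable def r6 : List ℕ := [4,2,4,2,4,2,4,2]
noncomputable def r7 : List ℕ := [4,0,2,4,0,2,4,0,2]
noncomputable def r8 : List ℕ := [5,0,3,0,4,1,2,1]
noncomputable def m192n0 : Net := (Net.cons (nat_lit 32) (nat_lit 0x25b80000)
  (Net.cons (nat_lit 16) (nat_lit 0xf3880000d680)
  (Net.cons (nat_lit 8) (nat_lit 0xb500a000500064)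
  (Net.cons (nat_lit 4) (nat_lit 0x509000d000d0006)
  (Net.cons (nat_lit 2) (nat_lit 0x2201033002030102)
  (Net.cons (nat_lit 1) (nat_lit 0x1414015104010114)
  (Net.cons (nat_lit 2) (nat_lit 0x200020002020000)
  (Net.cons (nat_lit 4) (nat_lit 0x608080e040c0004)
  (Net.cons (nat_lit 8) (nat_lit 0x9400a000d0006c)
  (Net.cons (nat_lit 16) (nat_lit 0xf30000004c80)
  (Net.cons (nat_lit 32) (nat_lit 0x25b80500)
  Net.nil)))))))))))
noncomputable def m192n1 : Net := (Net.cons (nat_lit 32) (nat_lit 0x25b80500)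
  (Net.cons (nat_lit 16) (nat_lit 0xf30000004c80)
  (Net.cons (nat_lit 8) (nat_lit 0x6300a000d0006c)
  (Net.cons (nat_lit 4) (nat_lit 0x709080104010004)
  (Net.cons (nat_lit 2) (nat_lit 0x3020010302100300)
  (Net.cons (nat_lit 1) (nat_lit 0x1141041504400414)
  (Net.cons (nat_lit 2) (nat_lit 0x2022000002000202)
  (Net.cons (nat_lit 4) (nat_lit 0x60a000200000006)
  (Net.cons (nat_lit 8) (nat_lit 0x4200a000500064)
  (Net.cons (nat_lit 16) (nat_lit 0xf3880000d680)
  (Net.cons (nat_lit 32) (nat_lit 0x25b80000)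
  Net.nil)))))))))))
noncomputable def m192n2 : Net := (Net.cons (nat_lit 32) (nat_lit 0xfc080000)
  (Net.cons (nat_lit 16) (nat_lit 0xdc420000c866)
  (Net.cons (nat_lit 8) (nat_lit 0xac001c00e5001c)
  (Net.cons (nat_lit 4) (nat_lit 0x80a09040e0b0b08)
  (Net.cons (nat_lit 2) (nat_lit 0x1023333200322030)
  (Net.cons (nat_lit 1) (nat_lit 0x4005141140411044)
  (Net.cons (nat_lit 2) (nat_lit 0x220220022)
  (Net.cons (nat_lit 4) (nat_lit 0x8060a0c000a0a08)
  (Net.cons (nat_lit 8) (nat_lit 0xe4001000260038)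
  (Net.cons (nat_lit 16) (nat_lit 0x4a0000c866)
  (Net.cons (nat_lit 32) (nat_lit 0xfc080000)
  Net.nil)))))))))))
noncomputable def m192n3 : Net := (Net.cons (nat_lit 32) (nat_lit 0xfc080000)
  (Net.cons (nat_lit 16) (nat_lit 0x4a0000c866)
  (Net.cons (nat_lit 8) (nat_lit 0xe4002100d90038)
  (Net.cons (nat_lit 4) (nat_lit 0x806060d050e0108)
  (Net.cons (nat_lit 2) (nat_lit 0x3023333221020012)
  (Net.cons (nat_lit 1) (nat_lit 0x1005540111040114)
  (Net.cons (nat_lit 2) (nat_lit 0x2000000220000200)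
  (Net.cons (nat_lit 4) (nat_lit 0x80a020404000008)
  (Net.cons (nat_lit 8) (nat_lit 0xac0090001a001c)
  (Net.cons (nat_lit 16) (nat_lit 0xdc420000c866)
  (Net.cons (nat_lit 32) (nat_lit 0xfc080000)
  Net.nil)))))))))))
noncomputable def m192n4 : Net := (Net.cons (nat_lit 32) (nat_lit 0xfb762901)
  (Net.cons (nat_lit 16) (nat_lit 0xbd2e0000dd51)
  (Net.cons (nat_lit 8) (nat_lit 0xf800e700c90088)
  (Net.cons (nat_lit 4) (nat_lit 0xf020e0d04000a00)
  (Net.cons (nat_lit 2) (nat_lit 0x2223330121122200)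
  (Net.cons (nat_lit 1) (nat_lit 0x5414411510010401)
  (Net.cons (nat_lit 2) (nat_lit 0x200020020020000)
  (Net.cons (nat_lit 4) (nat_lit 0x800080c0c080002)
  (Net.cons (nat_lit 8) (nat_lit 0xa000f4008800ae)
  (Net.cons (nat_lit 16) (nat_lit 0xcc580000d9d8)
  (Net.cons (nat_lit 32) (nat_lit 0xfb779004)
  Net.nil)))))))))))
noncomputable def m192n5 : Net := (Net.cons (nat_lit 32) (nat_lit 0xd8806609)
  (Net.cons (nat_lit 16) (nat_lit 0xadcc0000ab69)
  (Net.cons (nat_lit 8) (nat_lit 0x6800f0005600ba)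
  (Net.cons (nat_lit 4) (nat_lit 0x9020a0403020f01)
  (Net.cons (nat_lit 2) (nat_lit 0x2201222331020113)
  (Net.cons (nat_lit 1) (nat_lit 0x1145101401014114)
  (Net.cons (nat_lit 2) (nat_lit 0x2200202200002002)
  (Net.cons (nat_lit 4) (nat_lit 0x200040a000406)
  (Net.cons (nat_lit 8) (nat_lit 0xac0060005600b8)
  (Net.cons (nat_lit 16) (nat_lit 0x3dcc0000ae5a)
  (Net.cons (nat_lit 32) (nat_lit 0xd8811226)
  Net.nil)))))))))))
noncomputable def m192l : List Net := [m192n0,m192n1,m192n2,m192n3,m192n4,m192n5]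
noncomputable abbrev m192 : ℕ → Net := lk Net.nil m192l
theorem m192ok : NetsOk 49 m192 vT := netsOk_of (by decide +kernel)
theorem m192s0 : Sat io [] (finG m192ok) := fin_sat_nil _ (k := 6) (n := 8) (by decide +kernel)
noncomputable def C193 : List (List ℕ) := [r0,r1,r2,r3,r4,r5,r6,r7,r8]
theorem cl194 : Clo.{u} io C193 [0,1,2,3] 49 m192 1 (mkB []) := Clo.start (by decide +kernel)
theorem imp195 : Imp.{u} io C193 C61 := Imp.of_chk (pfs := [[([],1)],[([],3)],[([],5)],[([],7)],[([],9)]]) (by decide +kernel)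
theorem der197 : Der 48 (finX 48) (cl (finG m59ok) [[0,3,0]]) (fun _ => Net.nil) := Der.zero (finModel m59ok).inj
noncomputable def x198 : Net := (Net.cons (nat_lit 24) (nat_lit 0x818adf)
  (Net.cons (nat_lit 12) (nat_lit 0x9d1000d4d)
  (Net.cons (nat_lit 6) (nat_lit 0xb009002035)
  (Net.cons (nat_lit 3) (nat_lit 0x1831421441c0)
  (Net.cons (nat_lit 1) (nat_lit 0x240200201041)
  (Net.cons (nat_lit 1) (nat_lit 0x480410482092)
  (Net.cons (nat_lit 1) (nat_lit 0x9201041)
  (Net.cons (nat_lit 3) (nat_lit 0x104100)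
  (Net.cons (nat_lit 6) (nat_lit 0x202800c006)
  (Net.cons (nat_lit 12) (nat_lit 0x380000cd8)
  (Net.cons (nat_lit 24) (nat_lit 0xd189f4)
  Net.nil)))))))))))
noncomputable def ns199 : ℕ → Net := upd (fun _ => Net.nil) 0 x198
theorem der200 : Der 48 (finX 48) (cl (finG m59ok) [[0,3,0]]) ns199 := der197.add (wp_mem_cl (w := [0,3,0]) (by decide)) ((finModel m59ok).toIsPre.rep_word (k := 6) (w := [0,3,0]) (n := x198) (by decide +kernel)) 0
noncomputable def L201 : Lev := Lev.cons 0 7 [[0]] Lev.nil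
theorem lc202 : Lev.chk 48 3 ns199 vT 100 L201 = true := by decide +kernel
theorem lb203 : 7 ≤ Nat.card (cl (finG m59ok) [[0,3,0]]) := le_of_eq_of_le (by decide +kernel) (der200.card_ge lc202)
theorem sat204 : Sat io C61 (finG m59ok) := m59s0.fin (k := 6) (by decide +kernel)
theorem ix196 : Idx.{u} io C193 [0,1,2,3] [[0,3,0]] 48 := (Idx.of bd189 sat204 (by decide +kernel) lb203 (by decide +kernel)).of_imp imp195
noncomputable def lk205 : List (List ℕ × List ℕ × Pf) := [([0,3,0],[0,3,0],[([4],17)])]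
noncomputable def O206 : ℕ := (nat_lit 0x1fffffffffffe)
noncomputable def M207 : ℕ := (nat_lit 0x1ffffffffffff)
noncomputable def b208 : ℕ := (nat_lit 1)
theorem cl209 : Clo.{u} io C193 [0,1,2,3] 49 m192 M207 (mkB [(4,b208)]) := cl194.new (k := 3) (b := 4) (q := 0) (p := 1) (r := 200) (n := 48) (O := O206) (by decide +kernel) (lks := lk205) (by decide +kernel) (gens_of_lall2 (m := [[0]]) (by decide +kernel)) ix196 (by decide +kernel)
noncomputable def b210 : ℕ := (nat_lit 0x1ffffffffffff)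
noncomputable def b211 : ℕ := (nat_lit 0x1ffffffffffff)
theorem cl212 : Clo.{u} io C193 [0,1,2,3] 49 m192 M207 (mkB [(4,b210),(5,b211)]) := cl209.ops (os := [Op.inv 4,Op.rel 4 [2,2] 5 [3,3] [([5],11)],Op.inv 4,Op.rel 4 [0,2] 5 [3,1,5,3,1] [([5],15)],Op.ext 4 4 [([0,3,0],[0,3,0],[([4],17)]),([1,2,1],[1,2,1],[([4,1,2,1],16)])],Op.inv 4,Op.rel 4 [2,2] 5 [3,3] [([5],11)],Op.inv 4,Op.rel 4 [0,2] 5 [3,1,5,3,1] [([5],15)],Op.ext 4 4 [([0,3,0],[0,3,0],[([4],17)]),([1,2,1],[1,2,1],[([4,1,2,1],16)])],Op.inv 4,Op.rel 4 [2,2] 5 [3,3] [([5],11)],Op.inv 4,Op.rel 4 [2] 5 [3,5,3,5,3] [([5],13)],Op.ext 4 4 [([0,3,0],[0,3,0],[([4],17)]),([1,2,1],[1,2,1],[([4,1,2,1],16)])],Op.inv 4,Op.rel 4 [2] 5 [3,5,3,5,3] [([5],13)],Op.inv 4]) (by decide +kernel) (by decide +kernel)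
theorem sat214 : Sat io C193 (finG m192ok) := m192s0.fin (k := 6) (by decide +kernel)
theorem bd213 : Bound.{u} io C193 [0,1,2,3,4,5] 16464 := cl212.bound (by decide +kernel) sat214 (bd189.of_imp imp195)
noncomputable def r9 : List ℕ := [6,6,6,6]
noncomputable def r10 : List ℕ := [6,2,6,2,6,2]
noncomputable def r11 : List ℕ := [6,2,2,6,2,2]
noncomputable def r12 : List ℕ := [7,0,6,3,4,2]
noncomputable def r13 : List ℕ := [6,0,7,3,5,2]
noncomputable def r14 : List ℕ := [7,3,1,1,3,0,0,0,3,6,0,2,5,5,1,1,3,0,0,0,2,0]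
noncomputable def r15 : List ℕ := [7,3,1,1,1,2,0,0,3,6,1,3,1,1,1,2,0,4,0,4,3,5,1]
noncomputable def r16 : List ℕ := [7,7,2,6,6,2]
noncomputable def m215n0 : Net := (Net.cons (nat_lit 64) (nat_lit 0x12b3f54e2033c484)
  (Net.cons (nat_lit 32) (nat_lit 0xe499fc5300000000586da488)
  (Net.cons (nat_lit 16) (nat_lit 0x6ca200006d410000c06f00000900)
  (Net.cons (nat_lit 8) (nat_lit 0x2a00c0008700b10081006000260018)
  (Net.cons (nat_lit 4) (nat_lit 0xe02000f07040a0202040d0a00050008)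
  (Net.cons (nat_lit 2) (nat_lit 0x22021221330220120300300302021300)
  (Net.cons (nat_lit 1) (nat_lit 0x50004441110410510141500000144100)
  (Net.cons (nat_lit 2) (nat_lit 0x2202020220020000000000222200)
  (Net.cons (nat_lit 4) (nat_lit 0x8080204080008020200080c08020c00)
  (Net.cons (nat_lit 8) (nat_lit 0x80050009600aa00cc00e000a80080)
  (Net.cons (nat_lit 16) (nat_lit 0x4888000065000000986e00008d00)
  (Net.cons (nat_lit 32) (nat_lit 0xe61ba06800000000906d9c04)
  (Net.cons (nat_lit 64) (nat_lit 0x12b2a1462df1808c)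
  Net.nil)))))))))))))
noncomputable def m215n1 : Net := (Net.cons (nat_lit 64) (nat_lit 0x12b2a1462df1808c)
  (Net.cons (nat_lit 32) (nat_lit 0x18c7523600000000906d9c04)
  (Net.cons (nat_lit 16) (nat_lit 0x36aa0000a6560000748100008d00)
  (Net.cons (nat_lit 8) (nat_lit 0xf80058005100f600e4003300a80080)
  (Net.cons (nat_lit 4) (nat_lit 0xe0c020c0208020500060c03080d0c08)
  (Net.cons (nat_lit 2) (nat_lit 0x32302001121002002221000302221100)
  (Net.cons (nat_lit 1) (nat_lit 0x50405004144401144100050400411400)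
  (Net.cons (nat_lit 2) (nat_lit 0x2220202222200000000202000)
  (Net.cons (nat_lit 4) (nat_lit 0x20e02060008000804000802000a0000)
  (Net.cons (nat_lit 8) (nat_lit 0xd8004a00c000d40020007e00260018)
  (Net.cons (nat_lit 16) (nat_lit 0x2638000091540000258000000900)
  (Net.cons (nat_lit 32) (nat_lit 0x1847282400000000586da488)
  (Net.cons (nat_lit 64) (nat_lit 0x12b3f54e2033c484)
  Net.nil)))))))))))))
noncomputable def m215n2 : Net := (Net.cons (nat_lit 64) (nat_lit 0x65d33b03402195ec)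
  (Net.cons (nat_lit 32) (nat_lit 0xfe547f7500000000dad44e48)
  (Net.cons (nat_lit 16) (nat_lit 0xe84300003cf0000004b600002db6)
  (Net.cons (nat_lit 8) (nat_lit 0x360079003a00ba00100037008f0000)
  (Net.cons (nat_lit 4) (nat_lit 0x4060904080902080c020a0a0a04000a)
  (Net.cons (nat_lit 2) (nat_lit 0x31303001321032031021333003123122)
  (Net.cons (nat_lit 1) (nat_lit 0x15411554045014044410144114011144)
  (Net.cons (nat_lit 2) (nat_lit 0x20000002020020000220002000002002)
  (Net.cons (nat_lit 4) (nat_lit 0x40004080c08000c000c0000000e0a08)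
  (Net.cons (nat_lit 8) (nat_lit 0xa000200002001e008e00ec00900002)
  (Net.cons (nat_lit 16) (nat_lit 0x29200007c8800000e82000026bc)
  (Net.cons (nat_lit 32) (nat_lit 0x9b06ac1c00000000c8d353a2)
  (Net.cons (nat_lit 64) (nat_lit 0x65d1210d01c6aa8a)
  Net.nil)))))))))))))
noncomputable def m215n3 : Net := (Net.cons (nat_lit 64) (nat_lit 0x65d1210d01c6aa8a)
  (Net.cons (nat_lit 32) (nat_lit 0x64f953e300000000d8d353a2)
  (Net.cons (nat_lit 16) (nat_lit 0x7c880000fd6d00000c86000026bc)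
  (Net.cons (nat_lit 8) (nat_lit 0x2001e009700a000880013002f0002)
  (Net.cons (nat_lit 4) (nat_lit 0xc07000c080b0405000e0d000e050a0c)
  (Net.cons (nat_lit 2) (nat_lit 0x32021003010312213231013310121302)
  (Net.cons (nat_lit 1) (nat_lit 0x4054401515445111050114101114444)
  (Net.cons (nat_lit 2) (nat_lit 0x2000200020000002000000202000222)
  (Net.cons (nat_lit 4) (nat_lit 0x8060208040604000c00040a040c0008)
  (Net.cons (nat_lit 8) (nat_lit 0x3a00ba00020036005000c800300000)
  (Net.cons (nat_lit 16) (nat_lit 0x3cf0000017bc0000849600002db6)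
  (Net.cons (nat_lit 32) (nat_lit 0x1ab808a00000000dad44a48)
  (Net.cons (nat_lit 64) (nat_lit 0x65d33b03402195ec)
  Net.nil)))))))))))))
noncomputable def m215n4 : Net := (Net.cons (nat_lit 64) (nat_lit 0x808c9fe8e0f7d314)
  (Net.cons (nat_lit 32) (nat_lit 0xabd2e80d0000000035074126)
  (Net.cons (nat_lit 16) (nat_lit 0x9aa0000083050000b3f700005040)
  (Net.cons (nat_lit 8) (nat_lit 0x1c00230078002200c0007b00db00b0)
  (Net.cons (nat_lit 4) (nat_lit 0x5000c05020d0a020a0f070a07070002)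
  (Net.cons (nat_lit 2) (nat_lit 0x10120002030030001030111013230130)
  (Net.cons (nat_lit 1) (nat_lit 0x10114141010500011444144141141010)
  (Net.cons (nat_lit 2) (nat_lit 0x20222020000002020020022200020)
  (Net.cons (nat_lit 4) (nat_lit 0x6000c0e000800020208040c02040400)
  (Net.cons (nat_lit 8) (nat_lit 0x24002600fc00020020004c00ca00d0)
  (Net.cons (nat_lit 16) (nat_lit 0xb1a8000043060000abd600004d00)
  (Net.cons (nat_lit 32) (nat_lit 0xab5bdf0a000000004235e956)
  (Net.cons (nat_lit 64) (nat_lit 0x808c26f9c4f6d734)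
  Net.nil)))))))))))))
noncomputable def m215n5 : Net := (Net.cons (nat_lit 64) (nat_lit 0x808c26f9c4f6d734)
  (Net.cons (nat_lit 32) (nat_lit 0x54a42035000000004235e956)
  (Net.cons (nat_lit 16) (nat_lit 0xbca90000b1a80000542900004d00)
  (Net.cons (nat_lit 8) (nat_lit 0x200fc00240099003300a4003500d0)
  (Net.cons (nat_lit 4) (nat_lit 0xa0202070100010c0c0b02070b0d0402)
  (Net.cons (nat_lit 2) (nat_lit 0x12000100033222023013100132110110)
  (Net.cons (nat_lit 1) (nat_lit 0x10450044114411114444111411040)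
  (Net.cons (nat_lit 2) (nat_lit 0x22220002022200002020000)
  (Net.cons (nat_lit 4) (nat_lit 0x2000202000a0c0a080a0008080000)
  (Net.cons (nat_lit 8) (nat_lit 0x220078001c009c00040000002400b0)
  (Net.cons (nat_lit 16) (nat_lit 0x7caa00009aa000004c0800005040)
  (Net.cons (nat_lit 32) (nat_lit 0x542d17320000000035074126)
  (Net.cons (nat_lit 64) (nat_lit 0x808c9fe8e0f7d314)
  Net.nil)))))))))))))
noncomputable def m215n6 : Net := (Net.cons (nat_lit 64) (nat_lit 0xfc3c6edfd3ee7c00)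
  (Net.cons (nat_lit 32) (nat_lit 0xd9ff7904000000009f7f2020)
  (Net.cons (nat_lit 16) (nat_lit 0xe7310000bde70000b69300004360)
  (Net.cons (nat_lit 8) (nat_lit 0xd8006d00e4004e008800f6004000b0)
  (Net.cons (nat_lit 4) (nat_lit 0xc0e0b0c000c0801040b0a05060a0604)
  (Net.cons (nat_lit 2) (nat_lit 0x22302121030220122032030303202221)
  (Net.cons (nat_lit 1) (nat_lit 0x1551140151514155145554504414151)
  (Net.cons (nat_lit 2) (nat_lit 0x2002000000022000020000002220200)
  (Net.cons (nat_lit 4) (nat_lit 0x204020a0c00000204000408040a0a00)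
  (Net.cons (nat_lit 8) (nat_lit 0x7c00ec0044007c000000ee00200032)
  (Net.cons (nat_lit 16) (nat_lit 0xfec60000e9ca0000b90a00000320)
  (Net.cons (nat_lit 32) (nat_lit 0xb5f7bc60000000009efcc440)
  (Net.cons (nat_lit 64) (nat_lit 0xfc3e1fcfb776ec00)
  Net.nil)))))))))))))
noncomputable def m215n7 : Net := (Net.cons (nat_lit 64) (nat_lit 0xfc3e1fcfb776ec00)
  (Net.cons (nat_lit 32) (nat_lit 0xb5f7bc60000000009efcc440)
  (Net.cons (nat_lit 16) (nat_lit 0x13900001635000046f50000bc22)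
  (Net.cons (nat_lit 8) (nat_lit 0x13007c007c005400ee000000320020)
  (Net.cons (nat_lit 4) (nat_lit 0xa0d0601000d0c00010704060a0d040a)
  (Net.cons (nat_lit 2) (nat_lit 0x1322221221303011230101102030121)
  (Net.cons (nat_lit 1) (nat_lit 0x40410155145415155554511541150144)
  (Net.cons (nat_lit 2) (nat_lit 0x20220200200200000000000022000022)
  (Net.cons (nat_lit 4) (nat_lit 0xc040804080e000c000a0408040c0408)
  (Net.cons (nat_lit 8) (nat_lit 0x9200d8004e00c400f6008800900060)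
  (Net.cons (nat_lit 16) (nat_lit 0x18ce000042180000496c00009ea0)
  (Net.cons (nat_lit 32) (nat_lit 0xd9ff7904000000009f7f2020)
  (Net.cons (nat_lit 64) (nat_lit 0xfc3c6edfd3ee7c00)
  Net.nil)))))))))))))
noncomputable def m215l : List Net := [m215n0,m215n1,m215n2,m215n3,m215n4,m215n5,m215n6,m215n7]
noncomputable abbrev m215 : ℕ → Net := lk Net.nil m215l
theorem m215ok : NetsOk 114 m215 vT := netsOk_of (by decide +kernel)
theorem m215s0 : Sat io [] (finG m215ok) := fin_sat_nil _ (k := 7) (n := 8) (by decide +kernel)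
noncomputable def C216 : List (List ℕ) := [r0,r1,r2,r3,r4,r5,r6,r7,r8,r9,r10,r11,r12,r13,r14,r15,r16]
theorem cl217 : Clo.{u} io C216 [0,1,2,3,4,5] 114 m215 1 (mkB []) := Clo.start (by decide +kernel)
theorem imp218 : Imp.{u} io C216 C193 := Imp.of_chk (pfs := [[([],1)],[([],3)],[([],5)],[([],7)],[([],9)],[([],11)],[([],13)],[([],15)],[([],17)]]) (by decide +kernel)
theorem der220 : Der 49 (finX 49) (cl (finG m191ok) [[0],[3,5,2],[3,1,1,3,0,0,0,3]]) (fun _ => Net.nil) := Der.zero (finModel m191ok).inj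
noncomputable def ns221 : ℕ → Net := upd (fun _ => Net.nil) 0 (m191 0)
theorem der222 : Der 49 (finX 49) (cl (finG m191ok) [[0],[3,5,2],[3,1,1,3,0,0,0,3]]) ns221 := der220.add (wp_mem_cl (w := [0]) (by decide)) (rep_letter (finModel m191ok) 0) 0
noncomputable def x223 : Net := (Net.cons (nat_lit 32) (nat_lit 0x6ae2e5bc)
  (Net.cons (nat_lit 16) (nat_lit 0x68480000afb2)
  (Net.cons (nat_lit 8) (nat_lit 0xc0004100af00c8)
  (Net.cons (nat_lit 4) (nat_lit 0x20009070e0b0405)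
  (Net.cons (nat_lit 2) (nat_lit 0x2200013012030200)
  (Net.cons (nat_lit 1) (nat_lit 0x4001111110040140)
  (Net.cons (nat_lit 2) (nat_lit 0x2000020200)
  (Net.cons (nat_lit 4) (nat_lit 0x802040404020000)
  (Net.cons (nat_lit 8) (nat_lit 0xea000000140098)
  (Net.cons (nat_lit 16) (nat_lit 0x24800003ea6)
  (Net.cons (nat_lit 32) (nat_lit 0x6ae3a6f2)
  Net.nil)))))))))))
noncomputable def ns224 : ℕ → Net := upd ns221 1 x223
theorem der225 : Der 49 (finX 49) (cl (finG m191ok) [[0],[3,5,2],[3,1,1,3,0,0,0,3]]) ns224 := der222.add (wp_mem_cl (w := [3,5,2]) (by decide)) ((finModel m191ok).toIsPre.rep_word (k := 6) (w := [3,5,2]) (n := x223) (by decide +kernel)) 1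
noncomputable def x226 : Net := (Net.cons (nat_lit 32) (nat_lit 0x17dd80d)
  (Net.cons (nat_lit 16) (nat_lit 0xa89b000072b2)
  (Net.cons (nat_lit 8) (nat_lit 0x92002c00b200ac)
  (Net.cons (nat_lit 4) (nat_lit 0x80407010803090a)
  (Net.cons (nat_lit 2) (nat_lit 0x2003001132202102)
  (Net.cons (nat_lit 1) (nat_lit 0x1141050014111141)
  (Net.cons (nat_lit 2) (nat_lit 0x2022000000202002)
  (Net.cons (nat_lit 4) (nat_lit 0x20402000c020404)
  (Net.cons (nat_lit 8) (nat_lit 0x92006c000000ae)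
  (Net.cons (nat_lit 16) (nat_lit 0xa8d200003030)
  (Net.cons (nat_lit 32) (nat_lit 0x17c9c44)
  Net.nil)))))))))))
noncomputable def ns227 : ℕ → Net := upd ns224 2 x226
theorem der228 : Der 49 (finX 49) (cl (finG m191ok) [[0],[3,5,2],[3,1,1,3,0,0,0,3]]) ns227 := der225.add (wp_mem_cl (w := [3,1,1,3,0,0,0,3]) (by decide)) ((finModel m191ok).toIsPre.rep_word (k := 6) (w := [3,1,1,3,0,0,0,3]) (n := x226) (by decide +kernel)) 2
noncomputable def x229 : Net := (Net.cons (nat_lit 32) (nat_lit 0xa02c0b12)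
  (Net.cons (nat_lit 16) (nat_lit 0x14000000c8c8)
  (Net.cons (nat_lit 8) (nat_lit 0xb0006f004a0050)
  (Net.cons (nat_lit 4) (nat_lit 0xd0a080804050a)
  (Net.cons (nat_lit 2) (nat_lit 0x30012000030002)
  (Net.cons (nat_lit 1) (nat_lit 0x40444101050100)
  (Net.cons (nat_lit 2) (nat_lit 0x20022202000000)
  (Net.cons (nat_lit 4) (nat_lit 0x4020000040208)
  (Net.cons (nat_lit 8) (nat_lit 0xb4006600420020)
  (Net.cons (nat_lit 16) (nat_lit 0xb42000008488)
  (Net.cons (nat_lit 32) (nat_lit 0xa02c0932)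
  Net.nil)))))))))))
noncomputable def x229s : ℕ → Net := upd ns227 3 x229
theorem der230 : Der 49 (finX 49) (cl (finG m191ok) [[0],[3,5,2],[3,1,1,3,0,0,0,3]]) x229s := der228.ext (k := 6) (w := [0,1,2,2,2,0,0]) 3 (by decide +kernel)
noncomputable def L231 : Lev := Lev.cons 3 7 [[3]] Lev.nil
noncomputable def L232 : Lev := Lev.cons 0 21 [[0],[1],[2]] L231
theorem lc233 : Lev.chk 49 3 x229s vT 100 L232 = true := by decide +kernel
theorem lb234 : 147 ≤ Nat.card (cl (finG m191ok) [[0],[3,5,2],[3,1,1,3,0,0,0,3]]) := le_of_eq_of_le (by decide +kernel) (der230.card_ge lc233)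
theorem sat235 : Sat io C193 (finG m191ok) := m191s0.fin (k := 6) (by decide +kernel)
theorem ix219 : Idx.{u} io C216 [0,1,2,3,4,5] [[0],[3,5,2],[3,1,1,3,0,0,0,3]] 112 := (Idx.of bd213 sat235 (by decide +kernel) lb234 (by decide +kernel)).of_imp imp218
noncomputable def lk236 : List (List ℕ × List ℕ × Pf) := [([0],[3,5,2],[([6],25)]),([3,5,2],[1],[([6,1,7],27)]),([3,1,1,3,0,0,0,3],[1,3,1,1,1,2,0,0,4,4,3,1],[([6],29)])]
noncomputable def O237 : ℕ := (nat_lit 0x3ffffffffffffffffffffffffff7e)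
noncomputable def M238 : ℕ := (nat_lit 0x3ffffffffffffffffffffffffff7f)
noncomputable def b239 : ℕ := (nat_lit 1)
theorem cl240 : Clo.{u} io C216 [0,1,2,3,4,5] 114 m215 M238 (mkB [(6,b239)]) := cl217.new (k := 4) (b := 6) (q := 0) (p := 1) (r := 200) (n := 112) (O := O237) (by decide +kernel) (lks := lk236) (by decide +kernel) (gens_of_lall2 (m := [[0],[1],[2]]) (by decide +kernel)) ix219 (by decide +kernel)
noncomputable def b241 : ℕ := (nat_lit 0x3ffffffffffffffffffffffffff7d)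
noncomputable def b242 : ℕ := (nat_lit 0x3ffffffffffffffffffffffffff7b)
theorem cl243 : Clo.{u} io C216 [0,1,2,3,4,5] 114 m215 M238 (mkB [(6,b241),(7,b242)]) := cl240.ops (os := [Op.inv 6,Op.rel 6 [2,2] 7 [3,3] [([7],23)],Op.inv 6,Op.rel 6 [2] 7 [3,7,3] [([7],21)],Op.ext 6 3 [([3,5,2],[1],[([6,1,7],27)]),([3,4,2],[0],[([],26)]),([0],[3,5,2],[([6],25)]),([1],[3,4,2],[([6,3,4,2],24)]),([3,1,1,3,0,0,0,3],[1,3,1,1,1,2,0,0,4,4,3,1],[([6],29)]),([2,1,1,1,2,0,0,2],[0,2,5,5,1,1,3,0,0,0,2,0],[([6,0,2,5,5,1,1,3,0,0,0,2,0],28)]),([3,1,1,1,2,0,0,3],[0,4,2,5,1,5,1,3,0,0,0,2,0],[([6],31)]),([2,1,1,3,0,0,0,2],[1,3,1,1,1,2,0,4,0,4,3,5,1],[([6,1,3,1,1,1,2,0,4,0,4,3,5,1],30)])],Op.inv 6,Op.rel 6 [2,2] 7 [3,3] [([7],23)],Op.inv 6,Op.rel 6 [2] 7 [3,7,3] [([7],21)],Op.inv 6]) (by decide +kernel) (by decide +kernel)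
theorem der245 : Der 49 (finX 49) (cl (finG m191ok) [[0],[3,5,2],[2]]) (fun _ => Net.nil) := Der.zero (finModel m191ok).inj
noncomputable def ns246 : ℕ → Net := upd (fun _ => Net.nil) 0 (m191 0)
theorem der247 : Der 49 (finX 49) (cl (finG m191ok) [[0],[3,5,2],[2]]) ns246 := der245.add (wp_mem_cl (w := [0]) (by decide)) (rep_letter (finModel m191ok) 0) 0
noncomputable def x248 : Net := (Net.cons (nat_lit 32) (nat_lit 0x6ae2e5bc)
  (Net.cons (nat_lit 16) (nat_lit 0x68480000afb2)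
  (Net.cons (nat_lit 8) (nat_lit 0xc0004100af00c8)
  (Net.cons (nat_lit 4) (nat_lit 0x20009070e0b0405)
  (Net.cons (nat_lit 2) (nat_lit 0x2200013012030200)
  (Net.cons (nat_lit 1) (nat_lit 0x4001111110040140)
  (Net.cons (nat_lit 2) (nat_lit 0x2000020200)
  (Net.cons (nat_lit 4) (nat_lit 0x802040404020000)
  (Net.cons (nat_lit 8) (nat_lit 0xea000000140098)
  (Net.cons (nat_lit 16) (nat_lit 0x24800003ea6)
  (Net.cons (nat_lit 32) (nat_lit 0x6ae3a6f2)
  Net.nil)))))))))))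
noncomputable def ns249 : ℕ → Net := upd ns246 1 x248
theorem der250 : Der 49 (finX 49) (cl (finG m191ok) [[0],[3,5,2],[2]]) ns249 := der247.add (wp_mem_cl (w := [3,5,2]) (by decide)) ((finModel m191ok).toIsPre.rep_word (k := 6) (w := [3,5,2]) (n := x248) (by decide +kernel)) 1
noncomputable def ns251 : ℕ → Net := upd ns249 2 (m191 2)
theorem der252 : Der 49 (finX 49) (cl (finG m191ok) [[0],[3,5,2],[2]]) ns251 := der250.add (wp_mem_cl (w := [2]) (by decide)) (rep_letter (finModel m191ok) 2) 2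
noncomputable def L253 : Lev := Lev.cons 0 7 [[0]] Lev.nil
noncomputable def L254 : Lev := Lev.cons 12 48 [[2]] L253
noncomputable def L255 : Lev := Lev.cons 41 49 [[1]] L254
theorem lc256 : Lev.chk 49 3 ns251 vT 100 L255 = true := by decide +kernel
theorem lb257 : 16464 ≤ Nat.card (cl (finG m191ok) [[0],[3,5,2],[2]]) := le_of_eq_of_le (by decide +kernel) (der252.card_ge lc256)
theorem ix244 : Idx.{u} io C216 [0,1,2,3,4,5] [[0],[3,5,2],[2]] 1 := (Idx.of bd213 sat235 (by decide +kernel) lb257 (by decide +kernel)).of_imp imp218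
noncomputable def lk258 : List (List ℕ × List ℕ × Pf) := [([0],[3,5,2],[([6],25)]),([3,5,2],[1],[([6,1,7],27)]),([2],[6,3,7],[([6,6],33)])]
noncomputable def O259 : ℕ := (nat_lit 128)
noncomputable def M260 : ℕ := (nat_lit 0x3ffffffffffffffffffffffffffff)
noncomputable def b261 : ℕ := (nat_lit 0x3ffffffffffffffffffffffffff7f)
theorem cl262 : Clo.{u} io C216 [0,1,2,3,4,5] 114 m215 M260 (mkB [(6,b261),(7,b242)]) := cl243.new (k := 4) (b := 6) (q := 1) (p := 7) (r := 200) (n := 1) (O := O259) (by decide +kernel) (lks := lk258) (by decide +kernel) (gens_of_lall2 (m := [[0],[1],[2]]) (by decide +kernel)) ix244 (by decide +kernel)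
noncomputable def b263 : ℕ := (nat_lit 0x3ffffffffffffffffffffffffffff)
noncomputable def b264 : ℕ := (nat_lit 0x3ffffffffffffffffffffffffffff)
theorem cl265 : Clo.{u} io C216 [0,1,2,3,4,5] 114 m215 M260 (mkB [(6,b263),(7,b264)]) := cl262.ops (os := [Op.inv 6,Op.rel 6 [] 7 [7,7] [([],19)],Op.inv 6]) (by decide +kernel) (by decide +kernel)
theorem sat267 : Sat io C216 (finG m215ok) := m215s0.fin (k := 7) (by decide +kernel)
theorem bd266 : Bound.{u} io C216 [0,1,2,3,4,5,6,7] 1876896 := cl265.bound (by decide +kernel) sat267 (bd213.of_imp imp218)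
abbrev GP : Type := ↥(cl (finG m2ok) (lw [0,1,2,3,4,5,6,7]))
theorem allP : ∀ l, finG m2ok l ∈ (cl (finG m2ok) (lw [0,1,2,3,4,5,6,7])) := finG_mem_all _ (by decide +kernel)
noncomputable def gP : ℕ → GP := subA _ _ allP
theorem sat268 : Sat io C216 (finG m2ok) := m2s0.fin (k := 6) (by decide +kernel)
noncomputable abbrev RP : List (List ℕ) := C216
theorem satP : Sat io RP gP := sat268.subA _
theorem topP : cl gP (lw [0,1,2,3,4,5,6,7]) = ⊤ := cl_subA _
theorem modelP : IsModel 57 (finX 57) gP m2 vT := (finModel m2ok).subA _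
theorem faithP : Faith GP 57 (finX 57) := (faith_fin 57).sub _
theorem der269 : Der 57 (finX 57) (cl (finG m2ok) (lw [0,1,2,3,4,5,6,7])) (resN m2 [0,1,2,3,4,5,6,7]) := Der.letters (finModel m2ok) _
noncomputable def x270 : Net := (Net.cons (nat_lit 32) (nat_lit 0x6acb556a)
  (Net.cons (nat_lit 16) (nat_lit 0x3e3a0000e90a)
  (Net.cons (nat_lit 8) (nat_lit 0x320009004d0062)
  (Net.cons (nat_lit 4) (nat_lit 0x40404050a0d0804)
  (Net.cons (nat_lit 2) (nat_lit 0x1022210223123230)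
  (Net.cons (nat_lit 1) (nat_lit 0x1401004514154410)
  (Net.cons (nat_lit 2) (nat_lit 0x22202020)
  (Net.cons (nat_lit 4) (nat_lit 0x4020c040a06080c)
  (Net.cons (nat_lit 8) (nat_lit 0x6400c8009800f0)
  (Net.cons (nat_lit 16) (nat_lit 0x5c200000f9f0)
  (Net.cons (nat_lit 32) (nat_lit 0x6a35fec8)
  Net.nil)))))))))))
noncomputable def x270s : ℕ → Net := upd (resN m2 [0,1,2,3,4,5,6,7]) 8 x270
theorem der271 : Der 57 (finX 57) (cl (finG m2ok) (lw [0,1,2,3,4,5,6,7])) x270s := der269.ext (k := 6) (w := [1,6,4]) 8 (by decide +kernel)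
noncomputable def x272 : Net := (Net.cons (nat_lit 32) (nat_lit 0x8183581c)
  (Net.cons (nat_lit 16) (nat_lit 0x8b8000000bfc)
  (Net.cons (nat_lit 8) (nat_lit 0x1200c600ec00a8)
  (Net.cons (nat_lit 4) (nat_lit 0x108040c0f050b0e)
  (Net.cons (nat_lit 2) (nat_lit 0x200202000021320)
  (Net.cons (nat_lit 1) (nat_lit 0x1111044004144)
  (Net.cons (nat_lit 2) (nat_lit 0x202000000202)
  (Net.cons (nat_lit 4) (nat_lit 0x800000400)
  (Net.cons (nat_lit 8) (nat_lit 0x12008200ec00a8)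
  (Net.cons (nat_lit 16) (nat_lit 0xb80000009dc)
  (Net.cons (nat_lit 32) (nat_lit 0x8181501c)
  Net.nil)))))))))))
noncomputable def x272s : ℕ → Net := upd x270s 9 x272
theorem der273 : Der 57 (finX 57) (cl (finG m2ok) (lw [0,1,2,3,4,5,6,7])) x272s := der271.ext (k := 6) (w := [6,6,3]) 9 (by decide +kernel)
noncomputable def x274 : Net := (Net.cons (nat_lit 32) (nat_lit 0x4211b150)
  (Net.cons (nat_lit 16) (nat_lit 0x763d00004d02)
  (Net.cons (nat_lit 8) (nat_lit 0xea0000004b0058)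
  (Net.cons (nat_lit 4) (nat_lit 0x7010800020c0800)
  (Net.cons (nat_lit 2) (nat_lit 0x1130021323330122)
  (Net.cons (nat_lit 1) (nat_lit 0x1441011401514514)
  (Net.cons (nat_lit 2) (nat_lit 0x20000202020020)
  (Net.cons (nat_lit 4) (nat_lit 0xa04000402080808)
  (Net.cons (nat_lit 8) (nat_lit 0xbc00c0003a004c)
  (Net.cons (nat_lit 16) (nat_lit 0x34bc0000e112)
  (Net.cons (nat_lit 32) (nat_lit 0x42ba0f88)
  Net.nil)))))))))))
noncomputable def x274s : ℕ → Net := upd x272s 10 x274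
theorem der275 : Der 57 (finX 57) (cl (finG m2ok) (lw [0,1,2,3,4,5,6,7])) x274s := der273.ext (k := 6) (w := [8,8,9,8,9,8,8,9,8,9,8,9,8,9,8,9,8,9,8,9,8,9,8,9,8,8,9,8]) 10 (by decide +kernel)
noncomputable def x276 : Net := (Net.cons (nat_lit 32) (nat_lit 0x708b0c74)
  (Net.cons (nat_lit 16) (nat_lit 0xde1500002f0a)
  (Net.cons (nat_lit 8) (nat_lit 0xbf003200000086)
  (Net.cons (nat_lit 4) (nat_lit 0x10201080a080002)
  (Net.cons (nat_lit 2) (nat_lit 0x120303123101310)
  (Net.cons (nat_lit 1) (nat_lit 0x5014401001010414)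
  (Net.cons (nat_lit 2) (nat_lit 0x202002020220)
  (Net.cons (nat_lit 4) (nat_lit 0x8020200080c0406)
  (Net.cons (nat_lit 8) (nat_lit 0x90003200220090)
  (Net.cons (nat_lit 16) (nat_lit 0xaf8400002790)
  (Net.cons (nat_lit 32) (nat_lit 0x71959e34)
  Net.nil)))))))))))
noncomputable def x276s : ℕ → Net := upd x274s 11 x276
theorem der277 : Der 57 (finX 57) (cl (finG m2ok) (lw [0,1,2,3,4,5,6,7])) x276s := der275.ext (k := 6) (w := [10,10,9,10,10,9,10,9,9,10,9,10]) 11 (by decide +kernel)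
noncomputable def L278 : Lev := Lev.cons 1 12 [[9],[11]] Lev.nil
noncomputable def L279 : Lev := Lev.cons 54 49 [[10]] L278
noncomputable def L280 : Lev := Lev.cons 37 56 [[8]] L279
noncomputable def L281 : Lev := Lev.cons 0 57 [[0],[1],[2],[3],[4],[5],[6],[7]] L280
theorem lc282 : Lev.chk 57 3 x276s vT 100 L281 = true := by decide +kernel
theorem bdP : Bound.{u} io RP [0,1,2,3,4,5,6,7] 1876896 := bd266
theorem cardP : Nat.card GP = 1876896 := le_antisymm (bdP.{0}.fin sat268) (le_of_eq_of_le (by decide +kernel) (der277.card_ge lc282))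
noncomputable def baseP : List ℕ := [0,37,54,1]
theorem basedP : Based 57 (finX 57) (⊤ : Subgroup GP) baseP := (der277.based lc282 (le_of_eq_of_le cardP (by decide +kernel))).sub
noncomputable def eqvP : List ℕ → List ℕ → Bool := eqBc m2 baseP
theorem heqP : ∀ u w, eqvP u w = true → wp gP u = wp gP w := basedP.eqv modelP.toIsPre
theorem hgeP : ∀ l, llen il ≤ l → gP l = 1 := fun l h => Subtype.ext (finG_eq_one m2ok (n := 8) (by decide +kernel) l (le_of_eq_of_le (by decide +kernel) h))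
theorem s0P : Sat io [] gP := satP.nil
noncomputable def cvP : List (List ℕ) := [[0,3,6],[0,0,3,6,1]]
theorem der283 : Der 57 (finX 57) (cl gP cvP) (fun _ => Net.nil) := Der.zero modelP.inj
noncomputable def x284 : Net := (Net.cons (nat_lit 32) (nat_lit 0xb7db0f8c)
  (Net.cons (nat_lit 16) (nat_lit 0x52500009b82)
  (Net.cons (nat_lit 8) (nat_lit 0xb400e5009a0079)
  (Net.cons (nat_lit 4) (nat_lit 0x90c0b0d0508080a)
  (Net.cons (nat_lit 2) (nat_lit 0x331213120023003)
  (Net.cons (nat_lit 1) (nat_lit 0x1445110515154004)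
  (Net.cons (nat_lit 2) (nat_lit 0x20200020200002)
  (Net.cons (nat_lit 4) (nat_lit 0x8020e06040a0c06)
  (Net.cons (nat_lit 8) (nat_lit 0x90002c0000003c)
  (Net.cons (nat_lit 16) (nat_lit 0x23a00000d268)
  (Net.cons (nat_lit 32) (nat_lit 0xb6003f76)
  Net.nil)))))))))))
noncomputable def ns285 : ℕ → Net := upd (fun _ => Net.nil) 0 x284
theorem der286 : Der 57 (finX 57) (cl gP cvP) ns285 := der283.add (wp_mem_cl (w := [0,3,6]) (by decide)) (modelP.toIsPre.rep_word (k := 6) (w := [0,3,6]) (n := x284) (by decide +kernel)) 0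
noncomputable def x287 : Net := (Net.cons (nat_lit 32) (nat_lit 0xb60dd1fc)
  (Net.cons (nat_lit 16) (nat_lit 0x20b00000f6a0)
  (Net.cons (nat_lit 8) (nat_lit 0xd700ba00950023)
  (Net.cons (nat_lit 4) (nat_lit 0xe09020a0d01020d)
  (Net.cons (nat_lit 2) (nat_lit 0x2320021223112231)
  (Net.cons (nat_lit 1) (nat_lit 0x4111401511414110)
  (Net.cons (nat_lit 2) (nat_lit 0x2200202022222220)
  (Net.cons (nat_lit 4) (nat_lit 0xa08000408000000)
  (Net.cons (nat_lit 8) (nat_lit 0x70006600f20062)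
  (Net.cons (nat_lit 16) (nat_lit 0xa3900000b648)
  (Net.cons (nat_lit 32) (nat_lit 0xb75e8208)
  Net.nil)))))))))))
noncomputable def ns288 : ℕ → Net := upd ns285 1 x287
theorem der289 : Der 57 (finX 57) (cl gP cvP) ns288 := der286.add (wp_mem_cl (w := [0,0,3,6,1]) (by decide)) (modelP.toIsPre.rep_word (k := 6) (w := [0,0,3,6,1]) (n := x287) (by decide +kernel)) 1
noncomputable def x290 : Net := (Net.cons (nat_lit 32) (nat_lit 0xdba9e9a0)
  (Net.cons (nat_lit 16) (nat_lit 0xc8d20000b818)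
  (Net.cons (nat_lit 8) (nat_lit 0x84007b004b0090)
  (Net.cons (nat_lit 4) (nat_lit 0x80a0e0f010c090e)
  (Net.cons (nat_lit 2) (nat_lit 0x1220020013321200)
  (Net.cons (nat_lit 1) (nat_lit 0x4401510541411440)
  (Net.cons (nat_lit 2) (nat_lit 0x220020)
  (Net.cons (nat_lit 4) (nat_lit 0x40000080a0c0c08)
  (Net.cons (nat_lit 8) (nat_lit 0xc0050004200d6)
  (Net.cons (nat_lit 16) (nat_lit 0x5a4c0000b926)
  (Net.cons (nat_lit 32) (nat_lit 0xdbd05900)
  Net.nil)))))))))))
noncomputable def x290s : ℕ → Net := upd ns288 2 x290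
theorem der291 : Der 57 (finX 57) (cl gP cvP) x290s := der289.ext (k := 6) (w := [0,1,0,1,0]) 2 (by decide +kernel)
noncomputable def x292 : Net := (Net.cons (nat_lit 32) (nat_lit 0x86d6c9d2)
  (Net.cons (nat_lit 16) (nat_lit 0x221d0000b74c)
  (Net.cons (nat_lit 8) (nat_lit 0xa800ec00fa0060)
  (Net.cons (nat_lit 4) (nat_lit 0x40e0407020b060c)
  (Net.cons (nat_lit 2) (nat_lit 0x212001303020212)
  (Net.cons (nat_lit 1) (nat_lit 0x4101144114410544)
  (Net.cons (nat_lit 2) (nat_lit 0x2022222220020)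
  (Net.cons (nat_lit 4) (nat_lit 0x40c06060c04060e)
  (Net.cons (nat_lit 8) (nat_lit 0xa007200e00000)
  (Net.cons (nat_lit 16) (nat_lit 0x22440000ae1e)
  (Net.cons (nat_lit 32) (nat_lit 0x8792386a)
  Net.nil)))))))))))
noncomputable def x292s : ℕ → Net := upd x290s 3 x292
theorem der293 : Der 57 (finX 57) (cl gP cvP) x292s := der291.ext (k := 6) (w := [1,1,0,0,0,0,0]) 3 (by decide +kernel)
noncomputable def x294 : Net := (Net.cons (nat_lit 32) (nat_lit 0xb05e44ce)
  (Net.cons (nat_lit 16) (nat_lit 0x93d70000ccac)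
  (Net.cons (nat_lit 8) (nat_lit 0x2b003c00d20060)
  (Net.cons (nat_lit 4) (nat_lit 0x10f0a060c040a04)
  (Net.cons (nat_lit 2) (nat_lit 0x200023210212012)
  (Net.cons (nat_lit 1) (nat_lit 0x1114451004405110)
  (Net.cons (nat_lit 2) (nat_lit 0x2000000002000000)
  (Net.cons (nat_lit 4) (nat_lit 0x2080604040a0808)
  (Net.cons (nat_lit 8) (nat_lit 0xba003000180038)
  (Net.cons (nat_lit 16) (nat_lit 0xb30a00008e10)
  (Net.cons (nat_lit 32) (nat_lit 0xb0cc002e)
  Net.nil)))))))))))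
noncomputable def x294s : ℕ → Net := upd x292s 4 x294
theorem der295 : Der 57 (finX 57) (cl gP cvP) x294s := der293.ext (k := 6) (w := [3,3,2,3,2,3,2,2,3]) 4 (by decide +kernel)
noncomputable def x296 : Net := (Net.cons (nat_lit 32) (nat_lit 0x147e585e)
  (Net.cons (nat_lit 16) (nat_lit 0xac010000a716)
  (Net.cons (nat_lit 8) (nat_lit 0xb1002100ca00b0)
  (Net.cons (nat_lit 4) (nat_lit 0x102060d080b0008)
  (Net.cons (nat_lit 2) (nat_lit 0x132021323300020)
  (Net.cons (nat_lit 1) (nat_lit 0x1411144041104010)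
  (Net.cons (nat_lit 2) (nat_lit 0x2002020000200000)
  (Net.cons (nat_lit 4) (nat_lit 0x4020c0404080a)
  (Net.cons (nat_lit 8) (nat_lit 0xb4006000680080)
  (Net.cons (nat_lit 16) (nat_lit 0xad8600002dbc)
  (Net.cons (nat_lit 32) (nat_lit 0x14db93c0)
  Net.nil)))))))))))
noncomputable def x296s : ℕ → Net := upd x294s 5 x296
theorem der297 : Der 57 (finX 57) (cl gP cvP) x296s := der295.ext (k := 6) (w := [4,2,2,4,4,2,2,2,2,4,4,2,2,4,4]) 5 (by decide +kernel)
noncomputable def L298 : Lev := Lev.cons 1 12 [[2],[5]] Lev.nil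
noncomputable def L299 : Lev := Lev.cons 38 49 [[4]] L298
noncomputable def L300 : Lev := Lev.cons 24 56 [[3]] L299
noncomputable def L301 : Lev := Lev.cons 0 57 [[0],[1]] L300
theorem lc302 : Lev.chk 57 3 x296s vT 100 L301 = true := by decide +kernel
theorem lb303 : 1876896 ≤ Nat.card (cl gP cvP) := le_of_eq_of_le (by decide +kernel) (der297.card_ge lc302)
theorem simpleP : IsSimpleGroup GP := modelP.simple faithP topP (ws := [[7,0,7,0,0],[1,4,3,7]]) (r := 300) (p0 := 0) (l := [(1,[0])]) (by decide +kernel) (p := 19) (by norm_num) cardP (by norm_num) (pow_one_of heqP (a := [0,3,6]) (by decide +kernel)) (ncl_top s0P (cs := [[],[0]]) (by decide +kernel) cardP lb303)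
noncomputable def mP : List (List ℕ) := [[8,7,49],[43,7,49],[7,6,49],[42,1,49],[1,56,49],[1,301,49],[1,49,42],[1,294,7]]
noncomputable def fP : List (List (List ℕ)) := [[[8,7,49]],[[43,7,49]],[[8,7,49],[1,13,49],[8,7,49]],[[43,7,49],[1,8,49],[43,7,49]],[[1,56,49]],[[1,301,49]],[[1,56,49],[1,7,91],[1,56,49]],[[1,301,49],[1,7,56],[1,301,49]]]
theorem isoP {F : Type u} [Field F] [Fintype F] (hF : Fintype.card F = 7) : Nonempty (GP ≃* Matrix.ProjectiveSpecialLinearGroup (Fin 3) F) := by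
  haveI : CharP F 7 := charP_of_card (k := 1) (by norm_num) hF
  have hs := semP (F := F) 7 (by norm_num)
  obtain ⟨g, hg⟩ := mrep_SL (n := 3) hs (ml := mP) (fs := fP) (by decide +kernel)
  have hc : Nat.card (Matrix.ProjectiveSpecialLinearGroup (Fin 3) F) = 1876896 := by
    have := S0243.result hF 3 (by norm_num)
    simp [Fin.prod_univ_succ] at this; omega
  exact bdP.equivU satP (hg.psat (il := il) (Rl := RP) (by decide +kernel)) topP cardP simpleP hc (u := [0]) (w := []) (by decide +kernel) (ne_one_quot_center (v := [2]) (hg.nev (injP 7) (i := 0) (j := 0) (by decide +kernel)))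

end Cfsg.Agent.H6.OnL3
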