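import Cfsg.Agent.H6.OnS21
import Cfsg.Agent.H6.Sch12
set_option maxRecDepth 100000
set_option Elab.async false
namespace Cfsg.Agent.H6.ScON
open Cfsg.Agent.H6
universe u

noncomputable def cv922r : List ℕ := [7,3,1,1,3,0,0,0,3,6,1,3,5,0,0,3,1,1,1,5,2,1]
theorem cv922p0 : Rng (slChk 368280 19 m893 cv922r) 0 8 := Rng.of_chk (c := 8) (by decide +kernel)
theorem cv922p8 : Rng (slChk 368280 19 m893 cv922r) 8 16 := Rng.of_chk (c := 8) (by decide +kernel)
theorem cv922p16 : Rng (slChk 368280 19 m893 cv922r) 16 19 := Rng.of_chk (c := 3) (by decide +kernel)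
theorem cv922 : wp (finG m893ok) [7,3,1,1,3,0,0,0,3,6,1,3,5,0,0,3,1,1,1,5,2,1] ∈ cl (finG m893ok) us906 := mem_of_rel m893s0 (sl := []) (r := cv922r) (by decide +kernel) (fin_rel_of_rng m893ok (k := 19) (by norm_num) ((cv922p0.trans cv922p8).trans cv922p16))
noncomputable def cv941r : List ℕ := [11,5,7,5,5,7,10,1,2,0,10,4,6,1,1,9,1,1,1,5,2,1,7,3]
theorem cv941p0 : Rng (slChk 368280 19 m893 cv941r) 0 7 := Rng.of_chk (c := 7) (by decide +kernel)
theorem cv941p7 : Rng (slChk 368280 19 m893 cv941r) 7 14 := Rng.of_chk (c := 7) (by decide +kernel)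
theorem cv941p14 : Rng (slChk 368280 19 m893 cv941r) 14 19 := Rng.of_chk (c := 5) (by decide +kernel)
theorem cv941 : wp (finG m893ok) [11,5,7,5,5,7,10,1,2,0,10,4,6,1,1,9,1,1,1,5,2,1,7,3] ∈ cl (finG m893ok) us906 := mem_of_rel m893s0 (sl := []) (r := cv941r) (by decide +kernel) (fin_rel_of_rng m893ok (k := 19) (by norm_num) ((cv941p0.trans cv941p7).trans cv941p14))
noncomputable def cv908r : List ℕ := [0,0,0,0,0,0,0]
theorem cv908p0 : Rng (slChk 368280 19 m893 cv908r) 0 19 := Rng.of_chk (c := 19) (by decide +kernel)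
theorem cv908 : wp (finG m893ok) [0,0,0,0,0,0,0] ∈ cl (finG m893ok) us906 := mem_of_rel m893s0 (sl := []) (r := cv908r) (by decide +kernel) (fin_rel_of_rng m893ok (k := 19) (by norm_num) cv908p0)
noncomputable def cv910r : List ℕ := [2,0,2,0,2,0]
theorem cv910p0 : Rng (slChk 368280 19 m893 cv910r) 0 19 := Rng.of_chk (c := 19) (by decide +kernel)
theorem cv910 : wp (finG m893ok) [2,0,2,0,2,0] ∈ cl (finG m893ok) us906 := mem_of_rel m893s0 (sl := []) (r := cv910r) (by decide +kernel) (fin_rel_of_rng m893ok (k := 19) (by norm_num) cv910p0)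
noncomputable def cv914r : List ℕ := [4,2,4,2,4,2,4,2]
theorem cv914p0 : Rng (slChk 368280 19 m893 cv914r) 0 19 := Rng.of_chk (c := 19) (by decide +kernel)
theorem cv914 : wp (finG m893ok) [4,2,4,2,4,2,4,2] ∈ cl (finG m893ok) us906 := mem_of_rel m893s0 (sl := []) (r := cv914r) (by decide +kernel) (fin_rel_of_rng m893ok (k := 19) (by norm_num) cv914p0)
noncomputable def cv917r : List ℕ := [6,6,6,6]
theorem cv917p0 : Rng (slChk 368280 19 m893 cv917r) 0 19 := Rng.of_chk (c := 19) (by decide +kernel)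
theorem cv917 : wp (finG m893ok) [6,6,6,6] ∈ cl (finG m893ok) us906 := mem_of_rel m893s0 (sl := []) (r := cv917r) (by decide +kernel) (fin_rel_of_rng m893ok (k := 19) (by norm_num) cv917p0)
noncomputable def cv920r : List ℕ := [7,0,6,3,4,2]
theorem cv920p0 : Rng (slChk 368280 19 m893 cv920r) 0 19 := Rng.of_chk (c := 19) (by decide +kernel)
theorem cv920 : wp (finG m893ok) [7,0,6,3,4,2] ∈ cl (finG m893ok) us906 := mem_of_rel m893s0 (sl := []) (r := cv920r) (by decide +kernel) (fin_rel_of_rng m893ok (k := 19) (by norm_num) cv920p0)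
noncomputable def cv925r : List ℕ := [8,8]
theorem cv925p0 : Rng (slChk 368280 19 m893 cv925r) 0 19 := Rng.of_chk (c := 19) (by decide +kernel)
theorem cv925 : wp (finG m893ok) [8,8] ∈ cl (finG m893ok) us906 := mem_of_rel m893s0 (sl := []) (r := cv925r) (by decide +kernel) (fin_rel_of_rng m893ok (k := 19) (by norm_num) cv925p0)
noncomputable def cv928r : List ℕ := [9,4,8,1]
theorem cv928p0 : Rng (slChk 368280 19 m893 cv928r) 0 19 := Rng.of_chk (c := 19) (by decide +kernel)
theorem cv928 : wp (finG m893ok) [9,4,8,1] ∈ cl (finG m893ok) us906 := mem_of_rel m893s0 (sl := []) (r := cv928r) (by decide +kernel) (fin_rel_of_rng m893ok (k := 19) (by norm_num) cv928p0)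
noncomputable def cv931r : List ℕ := [10,2,7,2,10,3,6,3]
theorem cv931p0 : Rng (slChk 368280 19 m893 cv931r) 0 19 := Rng.of_chk (c := 19) (by decide +kernel)
theorem cv931 : wp (finG m893ok) [10,2,7,2,10,3,6,3] ∈ cl (finG m893ok) us906 := mem_of_rel m893s0 (sl := []) (r := cv931r) (by decide +kernel) (fin_rel_of_rng m893ok (k := 19) (by norm_num) cv931p0)
noncomputable def cv934r : List ℕ := [10,2,2,10,2,2,10,2,2]
theorem cv934p0 : Rng (slChk 368280 19 m893 cv934r) 0 19 := Rng.of_chk (c := 19) (by decide +kernel)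
theorem cv934 : wp (finG m893ok) [10,2,2,10,2,2,10,2,2] ∈ cl (finG m893ok) us906 := mem_of_rel m893s0 (sl := []) (r := cv934r) (by decide +kernel) (fin_rel_of_rng m893ok (k := 19) (by norm_num) cv934p0)
noncomputable def cv939r : List ℕ := [11,2,7,2,10,3,6,3,9]
theorem cv939p0 : Rng (slChk 368280 19 m893 cv939r) 0 19 := Rng.of_chk (c := 19) (by decide +kernel)
theorem cv939 : wp (finG m893ok) [11,2,7,2,10,3,6,3,9] ∈ cl (finG m893ok) us906 := mem_of_rel m893s0 (sl := []) (r := cv939r) (by decide +kernel) (fin_rel_of_rng m893ok (k := 19) (by norm_num) cv939p0)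

end Cfsg.Agent.H6.ScON
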