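import Cfsg.Agent.H6.OnS21
import Cfsg.Agent.H6.Sch12
set_option maxRecDepth 100000
set_option Elab.async false
namespace Cfsg.Agent.H6.ScON
open Cfsg.Agent.H6
universe u

noncomputable def cv923r : List ℕ := [7,3,1,1,1,2,0,0,3,6,1,3,1,1,1,2,0,0,4,4,3,1]
theorem cv923p0 : Rng (slChk 368280 19 m893 cv923r) 0 8 := Rng.of_chk (c := 8) (by decide +kernel)
theorem cv923p8 : Rng (slChk 368280 19 m893 cv923r) 8 16 := Rng.of_chk (c := 8) (by decide +kernel)
theorem cv923p16 : Rng (slChk 368280 19 m893 cv923r) 16 19 := Rng.of_chk (c := 3) (by decide +kernel)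
theorem cv923 : wp (finG m893ok) [7,3,1,1,1,2,0,0,3,6,1,3,1,1,1,2,0,0,4,4,3,1] ∈ cl (finG m893ok) us906 := mem_of_rel m893s0 (sl := []) (r := cv923r) (by decide +kernel) (fin_rel_of_rng m893ok (k := 19) (by norm_num) ((cv923p0.trans cv923p8).trans cv923p16))
noncomputable def cv942r : List ℕ := [11,1,3,1,1,3,11,1,2,0,10,5,6,0,5,3,1,1,3,0,0,0,6,0]
theorem cv942p0 : Rng (slChk 368280 19 m893 cv942r) 0 7 := Rng.of_chk (c := 7) (by decide +kernel)
theorem cv942p7 : Rng (slChk 368280 19 m893 cv942r) 7 14 := Rng.of_chk (c := 7) (by decide +kernel)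
theorem cv942p14 : Rng (slChk 368280 19 m893 cv942r) 14 19 := Rng.of_chk (c := 5) (by decide +kernel)
theorem cv942 : wp (finG m893ok) [11,1,3,1,1,3,11,1,2,0,10,5,6,0,5,3,1,1,3,0,0,0,6,0] ∈ cl (finG m893ok) us906 := mem_of_rel m893s0 (sl := []) (r := cv942r) (by decide +kernel) (fin_rel_of_rng m893ok (k := 19) (by norm_num) ((cv942p0.trans cv942p7).trans cv942p14))
noncomputable def cv909r : List ℕ := [2,2,2,2]
theorem cv909p0 : Rng (slChk 368280 19 m893 cv909r) 0 19 := Rng.of_chk (c := 19) (by decide +kernel)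
theorem cv909 : wp (finG m893ok) [2,2,2,2] ∈ cl (finG m893ok) us906 := mem_of_rel m893s0 (sl := []) (r := cv909r) (by decide +kernel) (fin_rel_of_rng m893ok (k := 19) (by norm_num) cv909p0)
noncomputable def cv911r : List ℕ := [3,1,2,1,2,1]
theorem cv911p0 : Rng (slChk 368280 19 m893 cv911r) 0 19 := Rng.of_chk (c := 19) (by decide +kernel)
theorem cv911 : wp (finG m893ok) [3,1,2,1,2,1] ∈ cl (finG m893ok) us906 := mem_of_rel m893s0 (sl := []) (r := cv911r) (by decide +kernel) (fin_rel_of_rng m893ok (k := 19) (by norm_num) cv911p0)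
noncomputable def cv915r : List ℕ := [4,0,2,4,0,2,4,0,2]
theorem cv915p0 : Rng (slChk 368280 19 m893 cv915r) 0 19 := Rng.of_chk (c := 19) (by decide +kernel)
theorem cv915 : wp (finG m893ok) [4,0,2,4,0,2,4,0,2] ∈ cl (finG m893ok) us906 := mem_of_rel m893s0 (sl := []) (r := cv915r) (by decide +kernel) (fin_rel_of_rng m893ok (k := 19) (by norm_num) cv915p0)
noncomputable def cv918r : List ℕ := [6,2,6,2,6,2]
theorem cv918p0 : Rng (slChk 368280 19 m893 cv918r) 0 19 := Rng.of_chk (c := 19) (by decide +kernel)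
theorem cv918 : wp (finG m893ok) [6,2,6,2,6,2] ∈ cl (finG m893ok) us906 := mem_of_rel m893s0 (sl := []) (r := cv918r) (by decide +kernel) (fin_rel_of_rng m893ok (k := 19) (by norm_num) cv918p0)
noncomputable def cv921r : List ℕ := [6,0,7,3,5,2]
theorem cv921p0 : Rng (slChk 368280 19 m893 cv921r) 0 19 := Rng.of_chk (c := 19) (by decide +kernel)
theorem cv921 : wp (finG m893ok) [6,0,7,3,5,2] ∈ cl (finG m893ok) us906 := mem_of_rel m893s0 (sl := []) (r := cv921r) (by decide +kernel) (fin_rel_of_rng m893ok (k := 19) (by norm_num) cv921p0)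
noncomputable def cv926r : List ℕ := [9,0,8,5]
theorem cv926p0 : Rng (slChk 368280 19 m893 cv926r) 0 19 := Rng.of_chk (c := 19) (by decide +kernel)
theorem cv926 : wp (finG m893ok) [9,0,8,5] ∈ cl (finG m893ok) us906 := mem_of_rel m893s0 (sl := []) (r := cv926r) (by decide +kernel) (fin_rel_of_rng m893ok (k := 19) (by norm_num) cv926p0)
noncomputable def cv929r : List ℕ := [9,6,8,3]
theorem cv929p0 : Rng (slChk 368280 19 m893 cv929r) 0 19 := Rng.of_chk (c := 19) (by decide +kernel)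
theorem cv929 : wp (finG m893ok) [9,6,8,3] ∈ cl (finG m893ok) us906 := mem_of_rel m893s0 (sl := []) (r := cv929r) (by decide +kernel) (fin_rel_of_rng m893ok (k := 19) (by norm_num) cv929p0)
noncomputable def cv932r : List ℕ := [10,0,4,4,0,11,1,5,5,1]
theorem cv932p0 : Rng (slChk 368280 19 m893 cv932r) 0 19 := Rng.of_chk (c := 19) (by decide +kernel)
theorem cv932 : wp (finG m893ok) [10,0,4,4,0,11,1,5,5,1] ∈ cl (finG m893ok) us906 := mem_of_rel m893s0 (sl := []) (r := cv932r) (by decide +kernel) (fin_rel_of_rng m893ok (k := 19) (by norm_num) cv932p0)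
noncomputable def cv937r : List ℕ := [11,8,10,9]
theorem cv937p0 : Rng (slChk 368280 19 m893 cv937r) 0 19 := Rng.of_chk (c := 19) (by decide +kernel)
theorem cv937 : wp (finG m893ok) [11,8,10,9] ∈ cl (finG m893ok) us906 := mem_of_rel m893s0 (sl := []) (r := cv937r) (by decide +kernel) (fin_rel_of_rng m893ok (k := 19) (by norm_num) cv937p0)
noncomputable def cv940r : List ℕ := [11,3,6,3,10,3,6,3,9]
theorem cv940p0 : Rng (slChk 368280 19 m893 cv940r) 0 19 := Rng.of_chk (c := 19) (by decide +kernel)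
theorem cv940 : wp (finG m893ok) [11,3,6,3,10,3,6,3,9] ∈ cl (finG m893ok) us906 := mem_of_rel m893s0 (sl := []) (r := cv940r) (by decide +kernel) (fin_rel_of_rng m893ok (k := 19) (by norm_num) cv940p0)

end Cfsg.Agent.H6.ScON
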