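import Cfsg.Agent.H6.OnS21
import Cfsg.Agent.H6.Sch12
set_option maxRecDepth 100000
set_option Elab.async false
namespace Cfsg.Agent.H6.ScON
open Cfsg.Agent.H6
universe u

noncomputable def cv936r : List ℕ := [10,2,7,10,2,7,10,2,7,10,2,7,10,6,11,7,10,6,11,7]
theorem cv936p0 : Rng (slChk 368280 19 m893 cv936r) 0 9 := Rng.of_chk (c := 9) (by decide +kernel)
theorem cv936p9 : Rng (slChk 368280 19 m893 cv936r) 9 18 := Rng.of_chk (c := 9) (by decide +kernel)
theorem cv936p18 : Rng (slChk 368280 19 m893 cv936r) 18 19 := Rng.of_chk (c := 1) (by decide +kernel)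
theorem cv936 : wp (finG m893ok) [10,2,7,10,2,7,10,2,7,10,2,7] ∈ cl (finG m893ok) us906 := mem_of_rel m893s0 (sl := [0]) (r := cv936r) (by decide +kernel) (fin_rel_of_rng m893ok (k := 19) (by norm_num) ((cv936p0.trans cv936p9).trans cv936p18))
noncomputable def cv912r : List ℕ := [3,0,0,0,3,0,0,0,2,0,0,0,3,0,0,0]
theorem cv912p0 : Rng (slChk 368280 19 m893 cv912r) 0 11 := Rng.of_chk (c := 11) (by decide +kernel)
theorem cv912p11 : Rng (slChk 368280 19 m893 cv912r) 11 19 := Rng.of_chk (c := 8) (by decide +kernel)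
theorem cv912 : wp (finG m893ok) [3,0,0,0,3,0,0,0,2,0,0,0,3,0,0,0] ∈ cl (finG m893ok) us906 := mem_of_rel m893s0 (sl := []) (r := cv912r) (by decide +kernel) (fin_rel_of_rng m893ok (k := 19) (by norm_num) (cv912p0.trans cv912p11))
noncomputable def cv935r : List ℕ := [10,1,5,10,1,5,10,1,5,10,1,5]
theorem cv935p0 : Rng (slChk 368280 19 m893 cv935r) 0 15 := Rng.of_chk (c := 15) (by decide +kernel)
theorem cv935p15 : Rng (slChk 368280 19 m893 cv935r) 15 19 := Rng.of_chk (c := 4) (by decide +kernel)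
theorem cv935 : wp (finG m893ok) [10,1,5,10,1,5,10,1,5,10,1,5] ∈ cl (finG m893ok) us906 := mem_of_rel m893s0 (sl := []) (r := cv935r) (by decide +kernel) (fin_rel_of_rng m893ok (k := 19) (by norm_num) (cv935p0.trans cv935p15))
noncomputable def cv913r : List ℕ := [4,2,2,4,2,2]
theorem cv913p0 : Rng (slChk 368280 19 m893 cv913r) 0 19 := Rng.of_chk (c := 19) (by decide +kernel)
theorem cv913 : wp (finG m893ok) [4,2,2,4,2,2] ∈ cl (finG m893ok) us906 := mem_of_rel m893s0 (sl := []) (r := cv913r) (by decide +kernel) (fin_rel_of_rng m893ok (k := 19) (by norm_num) cv913p0)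
noncomputable def cv916r : List ℕ := [5,0,3,0,4,1,2,1]
theorem cv916p0 : Rng (slChk 368280 19 m893 cv916r) 0 19 := Rng.of_chk (c := 19) (by decide +kernel)
theorem cv916 : wp (finG m893ok) [5,0,3,0,4,1,2,1] ∈ cl (finG m893ok) us906 := mem_of_rel m893s0 (sl := []) (r := cv916r) (by decide +kernel) (fin_rel_of_rng m893ok (k := 19) (by norm_num) cv916p0)
noncomputable def cv919r : List ℕ := [6,2,2,6,2,2]
theorem cv919p0 : Rng (slChk 368280 19 m893 cv919r) 0 19 := Rng.of_chk (c := 19) (by decide +kernel)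
theorem cv919 : wp (finG m893ok) [6,2,2,6,2,2] ∈ cl (finG m893ok) us906 := mem_of_rel m893s0 (sl := []) (r := cv919r) (by decide +kernel) (fin_rel_of_rng m893ok (k := 19) (by norm_num) cv919p0)
noncomputable def cv924r : List ℕ := [7,7,2,6,6,2]
theorem cv924p0 : Rng (slChk 368280 19 m893 cv924r) 0 19 := Rng.of_chk (c := 19) (by decide +kernel)
theorem cv924 : wp (finG m893ok) [7,7,2,6,6,2] ∈ cl (finG m893ok) us906 := mem_of_rel m893s0 (sl := []) (r := cv924r) (by decide +kernel) (fin_rel_of_rng m893ok (k := 19) (by norm_num) cv924p0)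
noncomputable def cv927r : List ℕ := [9,2,8,7]
theorem cv927p0 : Rng (slChk 368280 19 m893 cv927r) 0 19 := Rng.of_chk (c := 19) (by decide +kernel)
theorem cv927 : wp (finG m893ok) [9,2,8,7] ∈ cl (finG m893ok) us906 := mem_of_rel m893s0 (sl := []) (r := cv927r) (by decide +kernel) (fin_rel_of_rng m893ok (k := 19) (by norm_num) cv927p0)
noncomputable def cv930r : List ℕ := [10,2,6,2,11,3,7,3]
theorem cv930p0 : Rng (slChk 368280 19 m893 cv930r) 0 19 := Rng.of_chk (c := 19) (by decide +kernel)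
theorem cv930 : wp (finG m893ok) [10,2,6,2,11,3,7,3] ∈ cl (finG m893ok) us906 := mem_of_rel m893s0 (sl := []) (r := cv930r) (by decide +kernel) (fin_rel_of_rng m893ok (k := 19) (by norm_num) cv930p0)
noncomputable def cv933r : List ℕ := [10,10,9]
theorem cv933p0 : Rng (slChk 368280 19 m893 cv933r) 0 19 := Rng.of_chk (c := 19) (by decide +kernel)
theorem cv933 : wp (finG m893ok) [10,10,9] ∈ cl (finG m893ok) us906 := mem_of_rel m893s0 (sl := []) (r := cv933r) (by decide +kernel) (fin_rel_of_rng m893ok (k := 19) (by norm_num) cv933p0)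
noncomputable def cv938r : List ℕ := [11,9,10,9]
theorem cv938p0 : Rng (slChk 368280 19 m893 cv938r) 0 19 := Rng.of_chk (c := 19) (by decide +kernel)
theorem cv938 : wp (finG m893ok) [11,9,10,9] ∈ cl (finG m893ok) us906 := mem_of_rel m893s0 (sl := []) (r := cv938r) (by decide +kernel) (fin_rel_of_rng m893ok (k := 19) (by norm_num) cv938p0)

end Cfsg.Agent.H6.ScON
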