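import Cfsg.Agent.H6.SMat9
set_option maxRecDepth 100000
set_option Elab.async false
namespace Cfsg.Agent.H6.SMat
open Cfsg.Agent.H6
universe u

theorem cv1306 : ∀ r ∈ C392, wp (finG m1278ok) r ∈ cl (finG m1278ok) us1279 := (List.forall_mem_cons.2 ⟨cv1294, (List.forall_mem_cons.2 ⟨cv1295, (List.forall_mem_cons.2 ⟨cv1296, (List.forall_mem_cons.2 ⟨cv1297, (List.forall_mem_cons.2 ⟨cv1298, (List.forall_mem_cons.2 ⟨cv1299, (List.forall_mem_cons.2 ⟨cv1300, (List.forall_mem_cons.2 ⟨cv1301, (List.forall_mem_cons.2 ⟨cv1302, (List.forall_mem_cons.2 ⟨cv1303, (List.forall_mem_cons.2 ⟨cv1304, (List.forall_mem_cons.2 ⟨cv1305, (by simp)⟩)⟩)⟩)⟩)⟩)⟩)⟩)⟩)⟩)⟩)⟩)⟩)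
theorem cv1307 : finG m1278ok 15 * wp (finG m1278ok) [0,14,0,2,15,1,3,1,0,14,0,2,15,1,3,1,0,14,0,2,15,1,3,1,0,14,0,2,15,1,3,1] = wp (finG m1278ok) [0,14,0,2,15,1,3,1,0,14,0,2,15,1,3,1,0,14,0,2,15,1,3,1,0,14,0,2,15,1,3,1] * finG m1278ok 15 := comm_of_eqv' (eqv_of_faith (finModel m1278ok) (faith_fin 34272) 16) (us := [[0,14,0,2,15,1,3,1,0,14,0,2,15,1,3,1,0,14,0,2,15,1,3,1,0,14,0,2,15,1,3,1]]) (kl := [15]) (by decide +kernel) _ (List.mem_singleton_self _) _ (List.mem_singleton_self _)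
theorem cv1308 : finG m1278ok 14 * wp (finG m1278ok) [0,14,0,2,15,1,3,1,0,14,0,2,15,1,3,1,0,14,0,2,15,1,3,1,0,14,0,2,15,1,3,1] = wp (finG m1278ok) [0,14,0,2,15,1,3,1,0,14,0,2,15,1,3,1,0,14,0,2,15,1,3,1,0,14,0,2,15,1,3,1] * finG m1278ok 14 := comm_of_eqv' (eqv_of_faith (finModel m1278ok) (faith_fin 34272) 16) (us := [[0,14,0,2,15,1,3,1,0,14,0,2,15,1,3,1,0,14,0,2,15,1,3,1,0,14,0,2,15,1,3,1]]) (kl := [14]) (by decide +kernel) _ (List.mem_singleton_self _) _ (List.mem_singleton_self _)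
theorem cv1309 : finG m1278ok 13 * wp (finG m1278ok) [0,14,0,2,15,1,3,1,0,14,0,2,15,1,3,1,0,14,0,2,15,1,3,1,0,14,0,2,15,1,3,1] = wp (finG m1278ok) [0,14,0,2,15,1,3,1,0,14,0,2,15,1,3,1,0,14,0,2,15,1,3,1,0,14,0,2,15,1,3,1] * finG m1278ok 13 := comm_of_eqv' (eqv_of_faith (finModel m1278ok) (faith_fin 34272) 16) (us := [[0,14,0,2,15,1,3,1,0,14,0,2,15,1,3,1,0,14,0,2,15,1,3,1,0,14,0,2,15,1,3,1]]) (kl := [13]) (by decide +kernel) _ (List.mem_singleton_self _) _ (List.mem_singleton_self _)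
theorem cv1310 : finG m1278ok 12 * wp (finG m1278ok) [0,14,0,2,15,1,3,1,0,14,0,2,15,1,3,1,0,14,0,2,15,1,3,1,0,14,0,2,15,1,3,1] = wp (finG m1278ok) [0,14,0,2,15,1,3,1,0,14,0,2,15,1,3,1,0,14,0,2,15,1,3,1,0,14,0,2,15,1,3,1] * finG m1278ok 12 := comm_of_eqv' (eqv_of_faith (finModel m1278ok) (faith_fin 34272) 16) (us := [[0,14,0,2,15,1,3,1,0,14,0,2,15,1,3,1,0,14,0,2,15,1,3,1,0,14,0,2,15,1,3,1]]) (kl := [12]) (by decide +kernel) _ (List.mem_singleton_self _) _ (List.mem_singleton_self _)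
theorem cv1311 : finG m1278ok 3 * wp (finG m1278ok) [0,14,0,2,15,1,3,1,0,14,0,2,15,1,3,1,0,14,0,2,15,1,3,1,0,14,0,2,15,1,3,1] = wp (finG m1278ok) [0,14,0,2,15,1,3,1,0,14,0,2,15,1,3,1,0,14,0,2,15,1,3,1,0,14,0,2,15,1,3,1] * finG m1278ok 3 := comm_of_eqv' (eqv_of_faith (finModel m1278ok) (faith_fin 34272) 16) (us := [[0,14,0,2,15,1,3,1,0,14,0,2,15,1,3,1,0,14,0,2,15,1,3,1,0,14,0,2,15,1,3,1]]) (kl := [3]) (by decide +kernel) _ (List.mem_singleton_self _) _ (List.mem_singleton_self _)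
theorem cv1312 : finG m1278ok 2 * wp (finG m1278ok) [0,14,0,2,15,1,3,1,0,14,0,2,15,1,3,1,0,14,0,2,15,1,3,1,0,14,0,2,15,1,3,1] = wp (finG m1278ok) [0,14,0,2,15,1,3,1,0,14,0,2,15,1,3,1,0,14,0,2,15,1,3,1,0,14,0,2,15,1,3,1] * finG m1278ok 2 := comm_of_eqv' (eqv_of_faith (finModel m1278ok) (faith_fin 34272) 16) (us := [[0,14,0,2,15,1,3,1,0,14,0,2,15,1,3,1,0,14,0,2,15,1,3,1,0,14,0,2,15,1,3,1]]) (kl := [2]) (by decide +kernel) _ (List.mem_singleton_self _) _ (List.mem_singleton_self _)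
theorem cv1313 : finG m1278ok 1 * wp (finG m1278ok) [0,14,0,2,15,1,3,1,0,14,0,2,15,1,3,1,0,14,0,2,15,1,3,1,0,14,0,2,15,1,3,1] = wp (finG m1278ok) [0,14,0,2,15,1,3,1,0,14,0,2,15,1,3,1,0,14,0,2,15,1,3,1,0,14,0,2,15,1,3,1] * finG m1278ok 1 := comm_of_eqv' (eqv_of_faith (finModel m1278ok) (faith_fin 34272) 16) (us := [[0,14,0,2,15,1,3,1,0,14,0,2,15,1,3,1,0,14,0,2,15,1,3,1,0,14,0,2,15,1,3,1]]) (kl := [1]) (by decide +kernel) _ (List.mem_singleton_self _) _ (List.mem_singleton_self _)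
theorem cv1314 : finG m1278ok 0 * wp (finG m1278ok) [0,14,0,2,15,1,3,1,0,14,0,2,15,1,3,1,0,14,0,2,15,1,3,1,0,14,0,2,15,1,3,1] = wp (finG m1278ok) [0,14,0,2,15,1,3,1,0,14,0,2,15,1,3,1,0,14,0,2,15,1,3,1,0,14,0,2,15,1,3,1] * finG m1278ok 0 := comm_of_eqv' (eqv_of_faith (finModel m1278ok) (faith_fin 34272) 16) (us := [[0,14,0,2,15,1,3,1,0,14,0,2,15,1,3,1,0,14,0,2,15,1,3,1,0,14,0,2,15,1,3,1]]) (kl := [0]) (by decide +kernel) _ (List.mem_singleton_self _) _ (List.mem_singleton_self _)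
theorem cv1315 : finG m1278ok 15 * wp (finG m1278ok) [13,1,3,15,0,12,14,2,13,1,3,15,0,12,14,2,13,1,3,15,0,12,14,2] = wp (finG m1278ok) [13,1,3,15,0,12,14,2,13,1,3,15,0,12,14,2,13,1,3,15,0,12,14,2] * finG m1278ok 15 := comm_of_eqv' (eqv_of_faith (finModel m1278ok) (faith_fin 34272) 16) (us := [[13,1,3,15,0,12,14,2,13,1,3,15,0,12,14,2,13,1,3,15,0,12,14,2]]) (kl := [15]) (by decide +kernel) _ (List.mem_singleton_self _) _ (List.mem_singleton_self _)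
theorem cv1316 : finG m1278ok 14 * wp (finG m1278ok) [13,1,3,15,0,12,14,2,13,1,3,15,0,12,14,2,13,1,3,15,0,12,14,2] = wp (finG m1278ok) [13,1,3,15,0,12,14,2,13,1,3,15,0,12,14,2,13,1,3,15,0,12,14,2] * finG m1278ok 14 := comm_of_eqv' (eqv_of_faith (finModel m1278ok) (faith_fin 34272) 16) (us := [[13,1,3,15,0,12,14,2,13,1,3,15,0,12,14,2,13,1,3,15,0,12,14,2]]) (kl := [14]) (by decide +kernel) _ (List.mem_singleton_self _) _ (List.mem_singleton_self _)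
theorem cv1317 : finG m1278ok 13 * wp (finG m1278ok) [13,1,3,15,0,12,14,2,13,1,3,15,0,12,14,2,13,1,3,15,0,12,14,2] = wp (finG m1278ok) [13,1,3,15,0,12,14,2,13,1,3,15,0,12,14,2,13,1,3,15,0,12,14,2] * finG m1278ok 13 := comm_of_eqv' (eqv_of_faith (finModel m1278ok) (faith_fin 34272) 16) (us := [[13,1,3,15,0,12,14,2,13,1,3,15,0,12,14,2,13,1,3,15,0,12,14,2]]) (kl := [13]) (by decide +kernel) _ (List.mem_singleton_self _) _ (List.mem_singleton_self _)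
theorem cv1318 : finG m1278ok 12 * wp (finG m1278ok) [13,1,3,15,0,12,14,2,13,1,3,15,0,12,14,2,13,1,3,15,0,12,14,2] = wp (finG m1278ok) [13,1,3,15,0,12,14,2,13,1,3,15,0,12,14,2,13,1,3,15,0,12,14,2] * finG m1278ok 12 := comm_of_eqv' (eqv_of_faith (finModel m1278ok) (faith_fin 34272) 16) (us := [[13,1,3,15,0,12,14,2,13,1,3,15,0,12,14,2,13,1,3,15,0,12,14,2]]) (kl := [12]) (by decide +kernel) _ (List.mem_singleton_self _) _ (List.mem_singleton_self _)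
theorem cv1319 : finG m1278ok 3 * wp (finG m1278ok) [13,1,3,15,0,12,14,2,13,1,3,15,0,12,14,2,13,1,3,15,0,12,14,2] = wp (finG m1278ok) [13,1,3,15,0,12,14,2,13,1,3,15,0,12,14,2,13,1,3,15,0,12,14,2] * finG m1278ok 3 := comm_of_eqv' (eqv_of_faith (finModel m1278ok) (faith_fin 34272) 16) (us := [[13,1,3,15,0,12,14,2,13,1,3,15,0,12,14,2,13,1,3,15,0,12,14,2]]) (kl := [3]) (by decide +kernel) _ (List.mem_singleton_self _) _ (List.mem_singleton_self _)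
theorem cv1320 : finG m1278ok 2 * wp (finG m1278ok) [13,1,3,15,0,12,14,2,13,1,3,15,0,12,14,2,13,1,3,15,0,12,14,2] = wp (finG m1278ok) [13,1,3,15,0,12,14,2,13,1,3,15,0,12,14,2,13,1,3,15,0,12,14,2] * finG m1278ok 2 := comm_of_eqv' (eqv_of_faith (finModel m1278ok) (faith_fin 34272) 16) (us := [[13,1,3,15,0,12,14,2,13,1,3,15,0,12,14,2,13,1,3,15,0,12,14,2]]) (kl := [2]) (by decide +kernel) _ (List.mem_singleton_self _) _ (List.mem_singleton_self _)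
theorem cv1321 : finG m1278ok 1 * wp (finG m1278ok) [13,1,3,15,0,12,14,2,13,1,3,15,0,12,14,2,13,1,3,15,0,12,14,2] = wp (finG m1278ok) [13,1,3,15,0,12,14,2,13,1,3,15,0,12,14,2,13,1,3,15,0,12,14,2] * finG m1278ok 1 := comm_of_eqv' (eqv_of_faith (finModel m1278ok) (faith_fin 34272) 16) (us := [[13,1,3,15,0,12,14,2,13,1,3,15,0,12,14,2,13,1,3,15,0,12,14,2]]) (kl := [1]) (by decide +kernel) _ (List.mem_singleton_self _) _ (List.mem_singleton_self _)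
theorem cv1322 : finG m1278ok 0 * wp (finG m1278ok) [13,1,3,15,0,12,14,2,13,1,3,15,0,12,14,2,13,1,3,15,0,12,14,2] = wp (finG m1278ok) [13,1,3,15,0,12,14,2,13,1,3,15,0,12,14,2,13,1,3,15,0,12,14,2] * finG m1278ok 0 := comm_of_eqv' (eqv_of_faith (finModel m1278ok) (faith_fin 34272) 16) (us := [[13,1,3,15,0,12,14,2,13,1,3,15,0,12,14,2,13,1,3,15,0,12,14,2]]) (kl := [0]) (by decide +kernel) _ (List.mem_singleton_self _) _ (List.mem_singleton_self _)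
theorem rl1323 : ∀ r ∈ us1279, wp g22 r = 1 := rels_of_eqv heq22 (by decide +kernel)
theorem cov22 : HasCov ↥Spor.M22 12 := HasCov.of sa1231 m1278s0 bd495 (le_of_eq_of_le (by norm_num) card_M22.ge) (top_of_card card_M22 lb1228) (cs := [([13,1],[3,15],3),([0,14],[0,2],4)]) (us := us1279) (by decide +kernel) (by decide +kernel) rl1323 (List.forall_mem_cons.2 ⟨(List.forall_mem_cons.2 ⟨cv1322, (List.forall_mem_cons.2 ⟨cv1321, (List.forall_mem_cons.2 ⟨cv1320, (List.forall_mem_cons.2 ⟨cv1319, (List.forall_mem_cons.2 ⟨cv1318, (List.forall_mem_cons.2 ⟨cv1317, (List.forall_mem_cons.2 ⟨cv1316, (List.forall_mem_cons.2 ⟨cv1315, (by simp)⟩)⟩)⟩)⟩)⟩)⟩)⟩)⟩), (List.forall_mem_cons.2 ⟨(List.forall_mem_cons.2 ⟨cv1314, (List.forall_mem_cons.2 ⟨cv1313, (List.forall_mem_cons.2 ⟨cv1312, (List.forall_mem_cons.2 ⟨cv1311, (List.forall_mem_cons.2 ⟨cv1310, (List.forall_mem_cons.2 ⟨cv1309, (List.forall_mem_cons.2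 ⟨cv1308, (List.forall_mem_cons.2 ⟨cv1307, (by simp)⟩)⟩)⟩)⟩)⟩)⟩)⟩)⟩), (by simp)⟩)⟩) cv1306 lb1293
theorem schur11 : HasCyclicSchurMultiplier ↥Spor.M11 1 := hasCyc_of (pm11_2.mono (by norm_num)) (pm11_3.mono (by norm_num)) (PM.ge5 card_M11 (fl := [2,2,2,2,3,3,5,11]) (l := []) (by simp) (by decide +kernel)) HasCov.one (by norm_num)
theorem schur12 : HasCyclicSchurMultiplier ↥Spor.M12 2 := hasCyc_of pm12_2 (pm12_3.mono (by norm_num)) (PM.ge5 card_M12 (fl := [2,2,2,2,2,2,3,3,3,5,11]) (l := []) (by simp) (by decide +kernel)) cov12 (by norm_num)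
theorem schur22 : HasCyclicSchurMultiplier ↥Spor.M22 12 := hasCyc_of pm22_2 pm22_3 (PM.ge5 card_M22 (fl := [2,2,2,2,2,2,2,3,3,5,7,11]) (l := []) (by simp) (by decide +kernel)) cov22 (by norm_num)
theorem schur23 : HasCyclicSchurMultiplier ↥Spor.M23 1 := hasCyc_of (pm23_2.mono (by norm_num)) (pm23_3.mono (by norm_num)) (PM.ge5 card_M23 (fl := [2,2,2,2,2,2,2,3,3,5,7,11,23]) (l := []) (by simp) (by decide +kernel)) HasCov.one (by norm_num)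
theorem schur24 : HasCyclicSchurMultiplier ↥M24 1 := hasCyc_of (pm24_2.mono (by norm_num)) (pm24_3.mono (by norm_num)) (PM.ge5 card_M24 (fl := [2,2,2,2,2,2,2,2,2,2,3,3,3,5,7,11,23]) (l := []) (by simp) (by decide +kernel)) HasCov.one (by norm_num)

end Cfsg.Agent.H6.SMat
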