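import Cfsg.Agent.H6.SMat3
set_option maxRecDepth 100000
set_option Elab.async false
namespace Cfsg.Agent.H6.SMat
open Cfsg.Agent.H6
universe u

theorem ui1043 : UImp (3 ^ (0 + 1)) g24 io [] E1017 E1021 := dg1020.uimp (UGen.base (us := []) bd329 imp1024 lb807 (by simp)) rl1044 ck1022
theorem ex1045 : Ex (3 ^ (0 + 1)) g24 io [] E1023 := ex1041.step (UImp.add (UImp.of_imp Imp.refl) ui1043)
theorem imp1046 : Imp.{u} io E1023 C332 := Imp.of_chk (pfs := [[([],41)],[([],39)],[([],37)],[([],35)],[([],25)],[([],27)],[([],29)],[([],31)],[([],33)],[([],23)],[([],13)],[([],15)],[([],17)],[([],19)],[([],21)],[([],11)],[([],1)],[([],3)],[([],5)],[([],7)],[([],9)]]) (by decide +kernel)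
theorem ug1047 : UGen (3 ^ (0 + 1)) g24 io [] E1023 [0,1,2,3,4,5,8,9,10,11] [] := (UGen.base (us := []) bd368 imp1046 lb852 (by simp))
theorem pm24_3 : PM ↥M24 3 0 0 := PM.of ex1045 ug1047 (by simp) (pfs := []) (by decide +kernel) (coprime_index (n := 1) (B := 244823040) (card_M24.trans (by norm_num)) lb852 (bd368 _ _ sa854).2 (by norm_num) (by norm_num))

end Cfsg.Agent.H6.SMat
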