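import Cfsg.Agent.H6.SMat4
set_option maxRecDepth 100000
set_option Elab.async false
namespace Cfsg.Agent.H6.SMat
open Cfsg.Agent.H6
universe u

noncomputable def E1048 : List (List ℕ) := []
noncomputable def E1049 : List (List ℕ) := [0,0,0,0,0,0,0,0,0,0,0] :: E1048
noncomputable def E1050 : List (List ℕ) := [2,2,2,2,2] :: E1049
noncomputable def t1051v0 : ℕ := (nat_lit 0x20000020001000002000002000300000200000000010000000000000000000000000000)
noncomputable def t1051 : Tr := (Tr.leaf t1051v0)
noncomputable def tt1052v0 : ℕ := (nat_lit 0x1001000000000)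
noncomputable def tt1052 : Tr := (Tr.leaf tt1052v0)
noncomputable def t1051T : List (List ℕ) := [[3,0,2,0,0]]
noncomputable def t1051R : List (List ℕ × ℕ) := [([0,3,0,0,2],1),([0,0,0,0,0,0,0,0,0,0,0],0),([],0)]
theorem t1051Rok : TRot.{u} (2 ^ (1 + 1)) 1 io E1050 t1051T t1051R := TRot.of (cs := [(1,0,[1,2],[]),(0,0,[],[([],3)]),(0,0,[],[])]) (by decide +kernel)
noncomputable def dg1053p : List (List ℕ) := [[3],[0],[],[1,5,2,2,4],[2,6,6,6,6,6,6,6,6,6,6,6]]
theorem dg1053 : TD.{u} (2 ^ (1 + 1)) 1 io E1050 t1051T [0,1] t1051 (tt1052.getW 12) 5 := TD.steps (i := 0) TD.zero t1051Rok (prs := dg1053p) (by decide +kernel)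
noncomputable def E1054 : List (List ℕ) := [[3,0,2,0,0]]
theorem ck1055 : lall2 (fun r o => band (outChk t1051 (tt1052.getW 12) (2 ^ (1 + 1)) 1 5 o) (eqnChk io [] r (sel t1051T o.1) [])) E1054 [([0],[4])] = true := by decide +kernel
noncomputable def E1056 : List (List ℕ) := lapp E1054 E1050
theorem imp1057 : Imp.{u} io E1050 C4 := Imp.of_chk (pfs := [[([],3)]]) (by decide +kernel)
noncomputable def E1058 : List (List ℕ) := [4,2,4,2,4,2] :: E1056
noncomputable def t1059v0 : ℕ := (nat_lit 0x44000044000400005900004400000000440000c300000000590000a000040000c200007a0001000026000054000600002800007a0000000054000079000000007a00007e00000000bf00002600000000a200002800000000a100000b0000000024000049000000006a00001b00000000460000c4000500003400004300000000430000990000000034000096000200009c000094000100009c0000c500040000c500007700020000c400006a00030000c300005900020000c200005400050000bf0000a100050000a10000bf00010000bf00005400030000bb00009400010000770000bb00050000520000bb00050000bb0000520001000089000059000600008900007f000600007f000089000600002a00007b0005000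02a00007b000000008700007b00060000360000830005000036000083000000008300009e00030000360000630002000068000063000100002500006300000000630000630004000083000050000000006c000063000200005300005000000000220000a70000000050000061000500006c0000a700010000a700005000020000770000a4000500004d0000a400050000a400004d000500007a0000a200030000a200004900020000a100004900040000a0000044000500003600009e000500009e000036000500003300009c000500009c000033000600009900003400060000340000990004000099000031000600009600004300060000430000960002000096000031000500002f000094000500009400002f000600009000005a000600005a000090000400004b000090000100009000002f000400004d00008e000400008e00002d000400008a000042000200005600008a000100003600008a000300008a00002d000400008900002b000500002a000087000500008700002a0000000083000083000200004b0000830003000061000083000200008300002a000400007f000053000200007f000043000400007b00007f000100007f00002a000500007e000028000200004200007b000400005200007b000200007b000028000400007a000026000200007900002600050000250000770005000077000025000300006c000061000400001b000033000200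0043000033000000003300004700010000460000350001000052000066000400006c000036000300006600003c0002000037000068000200006800006c000200006c000025000500002400006a000500006a000024000400005a0000680004000068000024000300004600006600010000660000240003000063000050000500002200006300050000630000220002000053000061000200006100002200030000350000560003000020000034000200005a0000340000000058000034000400004000005a000100005800005a000100005a0000220005000059000020000400005800002000020000520000560003000056000020000500001e000054000500005400001e000400005300001e000300005200001e000500001d000050000500005000001d000200004000004d000400004200004d000200004d00001d000400004600004b000100004b00001d000500001b000049000500004900001b0002000043000047000300004700001b000200004600001b000500001900004400050000440000190003000043000019000100004200001900040000280000400001000040000014000400001400003e000400003e000013000100003700003c000100003c000013000000003800003800030000380000380005000011000038000500003800001100040000370000100002000036000010000400003500000e000300003400000e000200003300000e00050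0000d000031000500003100000d000400002a00002f000400002f00000d000200002500002d000200002d00000d000500000c00002b000500002b00000c000300002a00000c0004000024000028000200002800000c000500000b000026000500002600000b000400002500000b000100002400000b000400001d0000220004000022000008000200000d0000200002000020000008000100001300001e000100001e000008000300001d000007000400000b00001b000200001b00000700040000100000190001000019000007000000000e00000e0004000011000014000100001400000e000500000600001400050000140000060004000013000006000200000c00001100030000110000060002000010000006000500000500000e000500000e000005000400000d000005000300000c000005000100000b00000500060000080000070006000007000008000400000800000300030000070000030002000006000003000100000500000300050000000000030005000003000000000300000000000000010000000000000000000000000000)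
noncomputable def t1059 : Tr := (Tr.leaf t1059v0)
noncomputable def tt1060v0 : ℕ := (nat_lit 0x3000001002000000000000000000000000000000000000000000000000003000001000000001000003000000000000000001000000000000000000000000000000000000000000000000000000000000000000000000000000000000000000000000000000001000000000000000000000000000000000000000000000000000000000000000000000000000000000000000001000000000000000000000000000000000000000000000000000000000000000000000000001000000000000000000000000000000000000000000000000000000000000000000000000000000000000000000000000000000000000000000000000000000000000000000000000000000000000000000000000000000000000000000000000000000000000000000001003000000001000001000003002000000000001002000000000000001000000000000000000000000000000000000000000000000000000000000000000000000000000000000000001000000000000000000000000000000000000000000000000000000000000000000000000002000000000000001000000000000000000000000000000000000000000000000000000000000000000000000001000000000000000000000000000000000000000000000000000000000000)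
noncomputable def tt1060v1 : ℕ := (nat_lit 0x2000001003000000000000000000000000000000000000000000000000000000000000000000000000001000000000000000000002000003001000003000001003000003000001003000001000003001000003000001003000000000000000000000000000000000000000000000000000000000000000000000000000000000000000000000000000000001000000000000000000002000001003000000000000000000000000000000000000000000000000000000000001000000000000001000000000000000000000000000000000000000000000000001000003001000003000001003000003000001003000003000001003000001000000003000000000000000000000000000000000000000000000000000000000000000000000000000000000000000000000000000000001000000000000000000000000000000000000000000000000000000000001000000000000000000001000000003000000000000000000000000000000000000000000000000000000000000000000000000001000000000000000000000000000000000000000000000000000000000000000000000000001000000000000000000000000000000000000000000000000001000003002000000000000000)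
noncomputable def tt1060v2 : ℕ := (nat_lit 0x1000003003001003002001003002000000000000001000000000000000000001001001000003000001001003001000003003000003000001001001003000001001002003000001001001000002000003001000002000003002000002000001003001001003000002001001003000002001001003000002001003002001001001003003001002001001003000002001003003001002001003003001002003001001003002003003000002001000000000000000003003000001002000000000000001000000000000000000000000000003000000000000000000000000000000000000000000000000000000000001000000000000000000000000000001000000000000000000000000000002000000000000001000000000000000000002000003000000002000001003000000000000000000000000000001000000000000000000001000003001000003000001002000002000001003000000000000000000002000001003000000000000000000002000003001000000000000000000000000000000000000000000000000000000000000000000000000001000000000000000000002000003001000002000001003000000000000000000000000000000000000000000000000002000003001000000000000000)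
noncomputable def tt1060v3 : ℕ := (nat_lit 0x1001001000000003002003003000001002001001000003002003003000003003000002000000001003000000000001002002000000003001000000000003002002000000003001000000000003002003000000003002003000000001002001000000001002000000000003002000000001003003003000003001001003000003003000002000000001003000000002001001001000000000000000000000000000000000000000000000000000000000000000000000003001000000000001000)
noncomputable def tt1060 : Tr := (Tr.node (Tr.node (Tr.leaf tt1060v0) (Tr.leaf tt1060v2)) (Tr.node (Tr.leaf tt1060v1) (Tr.leaf tt1060v3)))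
noncomputable def t1059T : List (List ℕ) := [[4,4],[4,0,4,0,4,0,4,0],[4,0,3,4,0,3,4,0,3,4,0,3,4,0,3],[5,0,3,3,0,4,0,4,1,1,1,2,2],[5,0,3,3,0,5,0,4,1,1,1,2,2]]
noncomputable def t1059R : List (List ℕ × ℕ) := [([4,4],1),([5,4],0),([1,3,1,1,2],0),([3,0,0,2,0],0),([3,1,1,2,1],0),([3,3,3,3,3],0),([1,0],0),([3,2],0),([5,5],3),([1,2,1,3,1],0),([2,4,2,4,2,4],0),([0,3,0,0,2],0),([0,1],0),([5,3,5,3,5,3],0),([0,2,0,3,0],0),([2,1,3,1,1],0),([0,4,3,0,4,3,0,4,3,0,4,3,0,4,3],16777216),([4,5],0),([2,2,2,2,2],0),([2,3],0),([1,1,1,1,1,1,1,1,1,1,1],0),([1,1,2,1,3],0),([4,0,4,0,4,0,4,0],4096),([0,4,0,4,0,4,0,4],4096),([3,3,0,5,2,2,1,1,1,4,0,4,0],68719476736),([0,3,3,0,5,2,2,1,1,1,4,0,5],281474976710656),([1,1,4,0,4,0,3,3,0,5,2,2,1],68719476736),([2,0,3,0,0],0),([5,2,2,1,1,1,4,0,4,0,3,3,0],68719476736),([5,0,0,0,3,3,4,1,2,2,1,5,1],206158430208),([4,2,4,2,4,2],0),([1,5,0,0,0,3,3,4,1,2,2,1,4],844424930131968),([5,1,5,0,0,0,3,3,4,1,2,2,1],206158430208),([0,5,0,3,3,0,5,2,2,1,1,1,4],281474976710656),([0,4,0,3,3,0,5,2,2,1,1,1,4],68719476736),([1,5,1,5,1,5,1,5],12288),([2,2,1,5,1,5,0,0,0,3,3,4,1],206158430208),([3,0,5,2,2,1,1,1,4,0,4,0,3],68719476736),([3,5,3,5,3,5],0),([],0)]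
theorem t1059Rok : TRot.{u} (2 ^ (1 + 1)) 5 io E1058 t1059T t1059R := TRot.of (cs := [(1,0,[],[]),(0,0,[],[]),(0,0,[],[([0,2,0,0],2)]),(0,0,[],[([2],3)]),(0,0,[],[([2,0,0],2)]),(0,0,[],[([],4)]),(0,0,[],[]),(0,0,[],[]),(2,0,[],[]),(0,0,[],[([0],2)]),(0,0,[],[([],1)]),(0,0,[],[([1,2],3)]),(0,0,[],[]),(0,0,[],[([],0)]),(0,0,[],[([1,3,1,2],3)]),(0,0,[],[([],2)]),(1,2,[1,5],[]),(0,0,[],[]),(0,0,[],[([],5)]),(0,0,[],[]),(0,0,[],[([],6)]),(0,0,[],[([0,0],2)]),(1,1,[5],[]),(1,1,[],[]),(1,3,[2,2,1,4],[]),(1,4,[1,2,2,1,4],[]),(1,3,[1,2,2],[]),(0,0,[],[([3,1,2],3)]),(1,3,[4],[]),(2,3,[4,1,1,1,2,2],[]),(0,0,[],[([5],1)]),(2,4,[4,1,2,2,1,4],[]),(2,3,[1,2,2,1,4],[]),(1,4,[4,1,1,1,2,2],[]),(1,3,[4,1,1,1,2,2],[]),(2,1,[0],[]),(2,3,[1,4],[]),(1,3,[2,1,4],[]),(0,0,[],[([2],0)]),(0,0,[],[])]) (by decide +kernel)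
noncomputable def dg1061p : List (List ℕ) := [[40],[0],[0],[],[1,6],[],[],[],[],[14,15,7,5,9,16],[9,18],[],[],[],[],[1,28],[],[],[3,25,11,12,34],[],[],[1,40],[24,42,13,8,2,6,10,28],[25,35,13,7,4,4,3,3,3,6,10,28,44],[26,44,46,35,13,7,4,4,3,3,3,6,10,31],[],[4,33,13,14,50],[],[5,23,11,14,54],[],[],[15,39,13,16,60],[],[10,27,11,16,64],[],[6,59,15,16,68],[],[],[],[1,76],[],[5,73,23,24,80],[],[],[1,86],[],[10,75,23,26,90],[],[6,85,25,26,94],[],[1,98],[],[],[],[],[],[],[1,112],[11,114,47,42,34,112],[19,116,116,116,116,116],[],[15,111,33,38,120],[],[6,46,35,38,124],[],[4,81,37,47,128],[],[],[],[1,136],[],[],[3,135,51,54,142],[],[1,146],[],[4,141,55,58,150],[],[5,133,51,58,154],[27,129,42,13,8,2,5,5,2,9,14,58,154],[],[1,160],[],[],[],[1,168],[],[3,165,61,64,172],[],[],[],[15,177,65,68,180],[4,159,155,71,180],[3,183,184,129,45,104],[7,182,187],[20,176,187],[19,107,104,190,172],[],[10,167,61,68,194],[],[1,198],[11,200,69,21,58,160],[],[28,141,56,72,204],[],[6,184,130,82,208],[],[1,212],[],[10,209,73,74,216],[21,123,121,63,61,64,66,90,92,216,218],[16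,205,208,220,123],[5,218,220,111,108],[12,165,62,120,222],[12,207,226,175,192],[12,103,106,228,141,142],[7,145,230],[8,142,230],[16,218,210,181,194],[],[1,238],[],[],[],[5,227,205,83,246],[10,157,158,130,246],[],[],[4,247,81,84,254],[3,256,250,133,134],[6,256,248,165,166],[],[16,196,260,255,262],[21,151,154,158,129,45,102,232,258,255,262],[22,266,151,71,194,265],[],[1,270],[],[],[12,224,217,93,276],[3,173,66,90,276],[5,280,174,249,250],[],[6,156,282,277,284],[],[4,267,263,97,288],[29,211,209,73,23,11,8,2,6,10,26,94,288],[9,292],[],[1,296],[],[30,233,103,44,46,35,40,45,104,190,66,101,300],[9,302],[],[14,105,29,26,101,306],[9,308],[],[1,312],[],[1,316],[],[],[],[31,245,78,57,146,324],[],[1,328],[32,239,93,91,67,191,105,30,11,14,58,154,328],[],[23,217,238,333,330,155,160,334],[17,334,336,237,195,198,203,334,336,237,195,198,203,334,336,237],[7,194,338,334],[7,197,338],[8,237,338,202],[8,264,338],[2,344,337,340,198],[13,216,345],[7,219,345],[20,224,345],[11,347,162,71,198,354,316],[18,319,356],[2,316,356],[33,271,262,360,109,33,13,16,68,198,352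,209,83,246],[18,273,363],[2,270,363],[14,256,366,85,89,274],[9,368],[34,368,259,135,52,33,43,127,125,63,61,64,178],[],[1,374],[35,240,93,284,286,155,163,202,354,279,280,174,374],[11,376,249,364,97,296],[],[23,323,148,55,19,60,168,382],[1,384],[],[],[],[],[17,314,234,55,19,68,180,293,290,267,358,355,350,238,394],[22,397,395,379,381],[36,188,294,289,299,398,313,232,304],[2,304,400,309],[18,310,402],[37,153,291,289,299,398,313,103,44,128,130,82,212,392],[7,392,406,141],[2,215,409,146],[13,323,410,73],[8,325,410,83],[2,387,413,76],[2,327,415,252],[13,382,417,242],[2,252,418],[13,242,420],[38,389,169,164,249,250,133,51,19,60,168,424,244],[17,372,371,256,247,423,426,389,170,166,343,162,59,50,136,320],[8,320,428,390],[8,390,430],[39,432,179,191,405,135,139]]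
theorem dg1061 : TD.{u} (2 ^ (1 + 1)) 5 io E1058 t1059T [0,1,2,3] t1059 (tt1060.getW 60) 218 := TD.steps (i := 0) TD.zero t1059Rok (prs := dg1061p) (by decide +kernel)
noncomputable def E1062 : List (List ℕ) := [[4,4],[4,0,4,0,4,0,4,0],[4,0,3,4,0,3,4,0,3,4,0,3,4,0,3],[5,0,3,3,0,4,0,4,1,1,1,2,2],[5,0,3,3,0,5,0,4,1,1,1,2,2]]
theorem ck1063 : lall2 (fun r o => band (outChk t1059 (tt1060.getW 60) (2 ^ (1 + 1)) 5 218 o) (eqnChk io [] r (sel t1059T o.1) [])) E1062 [([0],[24,134,174,174,174,217,217]),([1],[24,24,24,59,59,174,217,217]),([2],[24,24,59,174,174,217]),([3],[24,24,24,59,174,217,217]),([4],[24,24,24,59,134,134,134,174,174])] = true := by decide +kernel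
noncomputable def E1064 : List (List ℕ) := lapp E1062 E1058
theorem imp1065 : Imp.{u} io E1058 C91 := Imp.of_chk (pfs := [[([],7)],[([],5)],[([],3)]]) (by decide +kernel)
noncomputable def E1066 : List (List ℕ) := [6,0,6,0,6,0] :: E1064
noncomputable def t1067v0 : ℕ := (nat_lit 0x14000014000000000b00000b000000000b00000b00020000100000140007000012000014000300001400000b000100000b000012000400001200000a000800000e000010000300001000000a000300000b00000e000100000e00000a000800000b00000a000800000a00000b000200000b000004000100000a0000040000000004000004000000000400000400050000040000040003000004000004000700000000000400070000040000000005000000000000000300000000000000010000000000000000000000000000)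
noncomputable def t1067 : Tr := (Tr.leaf t1067v0)
noncomputable def tt1068v0 : ℕ := (nat_lit 0x2001000000000003000003000001001000000000000000000000000001002000000000000000000000000003000000000000000000000000000000002000000000000000000000000001000000000000000000000000000000002000000000000001000000000000000000000000000000000000000003000000000001001000000000001000000000000000001000000000000000001000000000000000000000000000000000000000000000000000000000000000000000000000)
noncomputable def tt1068 : Tr := (Tr.leaf tt1068v0)
noncomputable def t1067T : List (List ℕ) := [[6,6],[7,2,6,2],[7,4,6,1,1,1,1,3,5,1,3,5,0,5,1],[7,1,1,4,0,6,0,2,5,0,3],[2,7,0,6,3,1,2,7,0,6,3,1]]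
noncomputable def t1067R : List (List ℕ × ℕ) := [([6,6],1),([2,7,2,6],4096),([4,7,1,5,0,5,3,1,5,3,1,1,1,1,6],16777216),([4,2,4,2,4,2],0),([2,2,2,2,2],0),([7,1,7,1,7,1],0),([7,7],3),([2,0,3,0,0],0),([7,2,6,2],4096),([0,0,2,0,3],0),([6,2,7,2],4096),([1,3,1,1,2],0),([2,6,0,0,5,1,7,1,3,4,1],206158430208),([2,1,3,6,0,7,2,1,3,6,0,7],281474976710656),([1,7,1,7,1,7],0),([],0)]
theorem t1067Rok : TRot.{u} (2 ^ (1 + 1)) 5 io E1066 t1067T t1067R := TRot.of (cs := [(1,0,[],[]),(1,1,[3,6],[]),(1,2,[5,6],[]),(0,0,[],[([5],13)]),(0,0,[],[([],17)]),(0,0,[],[([],0)]),(2,0,[],[]),(0,0,[],[([3,1,2],15)]),(1,1,[6],[]),(0,0,[],[([],15)]),(1,1,[2],[]),(0,0,[],[([0,2,0,0],14)]),(2,3,[3],[]),(1,4,[3],[]),(0,0,[],[([0],0)]),(0,0,[],[])]) (by decide +kernel)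
noncomputable def dg1069p : List (List ℕ) := [[16],[0],[0],[0],[],[1,8],[2,9,4,8],[3,9,3,7,2,7,5,3,7,5,3,3,3,3,8],[4,14,12,14,12,14,12],[5,12,12,12,12,12],[],[],[6,21,9,3,11,22],[7,24],[],[8,23,13,20,28],[],[9,30,27,32],[],[10,23,12,20,36],[],[11,37,26,40],[12,33,21,22,40],[13,40,42,38,23,15,22,24,21,13,14,22],[14,40,44,33,25,23,9,4,3,5,8,20,26],[15,44,34,29,26,39,43]]
theorem dg1069 : TD.{u} (2 ^ (1 + 1)) 5 io E1066 t1067T [0,1,2,3,4,5] t1067 (tt1068.getW 60) 26 := TD.steps (i := 0) TD.zero t1067Rok (prs := dg1069p) (by decide +kernel)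
noncomputable def E1070 : List (List ℕ) := [[6,6,2,7,0,6,3,1,2,7,0,6,3,1],[7,2,6,2],[7,4,6,1,1,1,1,3,5,1,3,5,0,5,1],[7,1,1,4,0,6,0,2,5,0,3,2,7,0,6,3,1,2,7,0,6,3,1],[2,7,0,6,3,1,2,7,0,6,3,1,2,7,0,6,3,1,2,7,0,6,3,1]]
theorem ck1071 : lall2 (fun r o => band (outChk t1067 (tt1068.getW 60) (2 ^ (1 + 1)) 5 26 o) (eqnChk io [] r (sel t1067T o.1) [])) E1070 [([0,4],[24,25]),([1],[9,9,9]),([2],[8,9]),([3,4],[9,9,9,23,23,23,24,25]),([4,4],[24,24,25])] = true := by decide +kernel
noncomputable def E1072 : List (List ℕ) := lapp E1070 E1066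
theorem imp1073 : Imp.{u} io E1066 C155 := Imp.of_chk (pfs := [[([],19)],[([],17)],[([],15)],[([],3)],[([],13)],[([],5)],[([],7)],[([],9)],[([],11)]]) (by decide +kernel)
theorem ex1074 : Ex (2 ^ (1 + 1)) g12 io [] E1048 := Ex.start s012 (by decide +kernel) hge12
theorem ex1075 : Ex (2 ^ (1 + 1)) g12 io [] E1049 := ex1074.norm (ol := [1,3,0,0,0,0,0,0,0,0,0,0,0,0,0,0]) (rl897 _ (List.mem_singleton_self _)) (by decide +kernel)
theorem ex1076 : Ex (2 ^ (1 + 1)) g12 io [] E1050 := ex1075.norm (ol := [0,0,3,1,0,0,0,0,0,0,0,0,0,0,0,0]) (rl899 _ (List.mem_singleton_self _)) (by decide +kernel)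
theorem rl1078 : ∀ r ∈ t1051T, wp g12 r = 1 := rels_of_eqv heq12 (by decide +kernel)
theorem ui1077 : UImp (2 ^ (1 + 1)) g12 io [] E1050 E1054 := dg1053.uimp (UGen.base (us := []) bd88 imp1057 lb908 (by simp)) rl1078 ck1055
theorem ex1079 : Ex (2 ^ (1 + 1)) g12 io [] E1056 := ex1076.step (UImp.add (UImp.of_imp Imp.refl) ui1077)
theorem rl1081 : ∀ r ∈ [[4,2,4,2,4,2]], wp g12 r = 1 := rels_of_eqv heq12 (by decide +kernel)
theorem ex1080 : Ex (2 ^ (1 + 1)) g12 io [] E1058 := ex1079.norm (ol := [0,0,0,0,1,3,0,0,0,0,0,0,0,0,0,0]) (rl1081 _ (List.mem_singleton_self _)) (by decide +kernel)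
theorem rl1083 : ∀ r ∈ t1059T, wp g12 r = 1 := rels_of_eqv heq12 (by decide +kernel)
theorem ui1082 : UImp (2 ^ (1 + 1)) g12 io [] E1058 E1062 := dg1061.uimp (UGen.base (us := []) bd152 imp1065 lb926 (by simp)) rl1083 ck1063
theorem ex1084 : Ex (2 ^ (1 + 1)) g12 io [] E1064 := ex1080.step (UImp.add (UImp.of_imp Imp.refl) ui1082)
theorem rl1086 : ∀ r ∈ [[6,0,6,0,6,0]], wp g12 r = 1 := rels_of_eqv heq12 (by decide +kernel)
theorem ex1085 : Ex (2 ^ (1 + 1)) g12 io [] E1066 := ex1084.norm (ol := [0,0,0,0,0,0,1,3,0,0,0,0,0,0,0,0]) (rl1086 _ (List.mem_singleton_self _)) (by decide +kernel)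
theorem rl1088 : ∀ r ∈ t1067T, wp g12 r = 1 := rels_of_eqv heq12 (by decide +kernel)
theorem ui1087 : UImp (2 ^ (1 + 1)) g12 io [] E1066 E1070 := dg1069.uimp (UGen.base (us := []) bd225 imp1073 lb954 (by simp)) rl1088 ck1071
theorem ex1089 : Ex (2 ^ (1 + 1)) g12 io [] E1072 := ex1085.step (UImp.add (UImp.of_imp Imp.refl) ui1087)
noncomputable def E1090 : List (List ℕ) := lapp [[2,7,0,6,3,1,2,7,0,6,3,1]] E1072
theorem imp1091 : Imp.{u} io E1090 C228 := Imp.of_chk (pfs := [[([],31)],[([],29)],[([],27)],[([],15)],[([],25)],[([],17)],[([],19)],[([],21)],[([],23)],[([],0),([],3)],[([],13)],[([],5)],[([],7)],[([],0),([],9)]]) (by decide +kernel)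
theorem rl1092 : ∀ r ∈ [[2,7,0,6,3,1,2,7,0,6,3,1]], wp g12 r = 1 := rels_of_eqv heq12 (by decide +kernel)
theorem ug1093 : UGen (2 ^ (1 + 1)) g12 io [] E1072 [0,1,2,3,4,5,6,7] [[2,7,0,6,3,1,2,7,0,6,3,1]] := (UGen.base (us := [[2,7,0,6,3,1,2,7,0,6,3,1]]) bd256 imp1091 lb985 rl1092)
theorem pm12_2 : PM ↥Spor.M12 2 1 1 := PM.of ex1089 ug1093 rl1092 (pfs := [[([],9)]]) (by decide +kernel) (coprime_index (n := 1) (B := 95040) (card_M12.trans (by norm_num)) lb985 (bd256 _ _ sa987).2 (by norm_num) (by norm_num))
noncomputable def m1094n0 : Net := (Net.cons (nat_lit 12) (nat_lit 288)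
  (Net.cons (nat_lit 6) (nat_lit 0x1e01e)
  (Net.cons (nat_lit 3) (nat_lit 0xc60c6)
  (Net.cons (nat_lit 1) (nat_lit 0x200200)
  (Net.cons (nat_lit 1) (nat_lit 0x490490)
  (Net.cons (nat_lit 1) (nat_lit 32776)
  (Net.cons (nat_lit 6) (nat_lit 57358)
  Net.nil)))))))
noncomputable def m1094n1 : Net := (Net.cons (nat_lit 12) (nat_lit 768)
  (Net.cons (nat_lit 6) (nat_lit 57358)
  (Net.cons (nat_lit 3) (nat_lit 0x140140)
  (Net.cons (nat_lit 1) (nat_lit 32776)
  (Net.cons (nat_lit 1) (nat_lit 0x490490)
  (Net.cons (nat_lit 1) (nat_lit 0x40040)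
  (Net.cons (nat_lit 3) (nat_lit 24582)
  (Net.cons (nat_lit 6) (nat_lit 0x1e01e)
  Net.nil))))))))
noncomputable def m1094n2 : Net := (Net.cons (nat_lit 12) (nat_lit 320)
  (Net.cons (nat_lit 6) (nat_lit 81940)
  (Net.cons (nat_lit 3) (nat_lit 0x84084)
  (Net.cons (nat_lit 1) (nat_lit 0x240240)
  (Net.cons (nat_lit 1) (nat_lit 0x490490)
  (Net.cons (nat_lit 1) (nat_lit 0x48048)
  (Net.cons (nat_lit 3) (nat_lit 0x80080)
  (Net.cons (nat_lit 6) (nat_lit 0x28028)
  Net.nil))))))))
noncomputable def m1094n3 : Net := (Net.cons (nat_lit 12) (nat_lit 768)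
  (Net.cons (nat_lit 6) (nat_lit 0x28028)
  (Net.cons (nat_lit 3) (nat_lit 0x40040)
  (Net.cons (nat_lit 1) (nat_lit 0x208208)
  (Net.cons (nat_lit 1) (nat_lit 0x490490)
  (Net.cons (nat_lit 1) (nat_lit 0x240240)
  (Net.cons (nat_lit 3) (nat_lit 0x104104)
  (Net.cons (nat_lit 6) (nat_lit 81940)
  Net.nil))))))))
noncomputable def m1094n4 : Net := (Net.cons (nat_lit 12) (nat_lit 180)
  (Net.cons (nat_lit 6) (nat_lit 0x34034)
  (Net.cons (nat_lit 3) (nat_lit 0x186186)
  (Net.cons (nat_lit 1) (nat_lit 32776)
  (Net.cons (nat_lit 1) (nat_lit 0x492492)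
  (Net.cons (nat_lit 1) (nat_lit 32776)
  (Net.cons (nat_lit 3) (nat_lit 24582)
  (Net.cons (nat_lit 6) (nat_lit 0x34034)
  Net.nil))))))))
noncomputable def m1094n5 : Net := (Net.cons (nat_lit 12) (nat_lit 180)
  (Net.cons (nat_lit 6) (nat_lit 0x34034)
  (Net.cons (nat_lit 3) (nat_lit 0x186186)
  (Net.cons (nat_lit 1) (nat_lit 32776)
  (Net.cons (nat_lit 1) (nat_lit 0x492492)
  (Net.cons (nat_lit 1) (nat_lit 32776)
  (Net.cons (nat_lit 3) (nat_lit 24582)
  (Net.cons (nat_lit 6) (nat_lit 0x34034)
  Net.nil))))))))
noncomputable def m1094n6 : Net := (Net.cons (nat_lit 12) (nat_lit 1433)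
  (Net.cons (nat_lit 3) (nat_lit 0x105105)
  (Net.cons (nat_lit 1) (nat_lit 4097)
  (Net.cons (nat_lit 1) (nat_lit 73746)
  (Net.cons (nat_lit 1) (nat_lit 0x248248)
  (Net.cons (nat_lit 3) (nat_lit 8194)
  Net.nil))))))
noncomputable def m1094n7 : Net := (Net.cons (nat_lit 12) (nat_lit 2662)
  (Net.cons (nat_lit 3) (nat_lit 0x105105)
  (Net.cons (nat_lit 1) (nat_lit 4097)
  (Net.cons (nat_lit 1) (nat_lit 73746)
  (Net.cons (nat_lit 1) (nat_lit 0x248248)
  (Net.cons (nat_lit 3) (nat_lit 8194)
  Net.nil))))))
noncomputable def m1094l : List Net := [m1094n0,m1094n1,m1094n2,m1094n3,m1094n4,m1094n5,m1094n6,m1094n7,Net.nil,Net.nil,Net.nil,Net.nil,Net.nil,Net.nil,Net.nil,Net.nil]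
noncomputable abbrev m1094 : ℕ → Net := lk Net.nil m1094l
theorem m1094ok : NetsOk 24 m1094 vT := netsOk_of (by decide +kernel)
theorem m1094s0 : Sat io [] (finG m1094ok) := fin_sat_nil _ (k := 5) (n := 16) (by decide +kernel)
noncomputable def us1095 : List (List ℕ) := [[2,7,0,6,3,1,2,7,0,6,3,1]]
theorem der1096 : Der 24 (finX 24) (cl (finG m1094ok) us1095) (fun _ => Net.nil) := Der.zero (finModel m1094ok).inj
noncomputable def x1097 : Net := (Net.cons (nat_lit 12) (nat_lit 4095)
  Net.nil)
noncomputable def ns1098 : ℕ → Net := upd (fun _ => Net.nil) 0 x1097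
theorem der1099 : Der 24 (finX 24) (cl (finG m1094ok) us1095) ns1098 := der1096.add (wp_mem_cl (w := [2,7,0,6,3,1,2,7,0,6,3,1]) (by decide)) ((finModel m1094ok).toIsPre.rep_word (k := 5) (w := [2,7,0,6,3,1,2,7,0,6,3,1]) (n := x1097) (by decide +kernel)) 0
noncomputable def L1100 : Lev := Lev.cons 0 2 [[0]] Lev.nil
theorem lc1101 : Lev.chk 24 2 ns1098 vT 100 L1100 = true := by decide +kernel
theorem lb1102 : 2 ≤ Nat.card (cl (finG m1094ok) us1095) := le_of_eq_of_le (by decide +kernel) (der1099.card_ge lc1101)
theorem cv1103 : ∀ r ∈ C228, wp (finG m1094ok) r ∈ cl (finG m1094ok) us1095 := (mem_cl_of_eqv (eqv_of_faith (finModel m1094ok) (faith_fin 24) 5) (sl := [[],[],[],[],[],[],[],[],[],[0],[],[],[],[0]]) (by decide +kernel))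
theorem rl1104 : ∀ r ∈ us1095, wp g12 r = 1 := rels_of_eqv heq12 (by decide +kernel)
theorem cov12 : HasCov ↥Spor.M12 2 := HasCov.of sa987 m1094s0 bd256 (le_of_eq_of_le (by norm_num) card_M12.ge) (top_of_card card_M12 lb985) (cs := [([2,7],[0],2)]) (us := us1095) (by decide +kernel) (by decide +kernel) rl1104 (comm_of_eqv' (eqv_of_faith (finModel m1094ok) (faith_fin 24) 5) (by decide +kernel)) cv1103 lb1102

end Cfsg.Agent.H6.SMat
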