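import Cfsg.Agent.H6.SMat8
set_option maxRecDepth 100000
set_option Elab.async false
namespace Cfsg.Agent.H6.SMat
open Cfsg.Agent.H6
universe u

theorem cv1294 : wp (finG m1278ok) [0,0,0,0,0,0,0,0,0,0,0] ∈ cl (finG m1278ok) us1279 := mem_cl_of_eqv (eqv_of_faith (finModel m1278ok) (faith_fin 34272) 16) (R := [[0,0,0,0,0,0,0,0,0,0,0]]) (sl := [[]]) (by decide +kernel) _ (List.mem_singleton_self _)
theorem cv1295 : wp (finG m1278ok) [2,2,2,2,2] ∈ cl (finG m1278ok) us1279 := mem_cl_of_eqv (eqv_of_faith (finModel m1278ok) (faith_fin 34272) 16) (R := [[2,2,2,2,2]]) (sl := [[]]) (by decide +kernel) _ (List.mem_singleton_self _)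
theorem cv1296 : wp (finG m1278ok) [3,0,2,0,0] ∈ cl (finG m1278ok) us1279 := mem_cl_of_eqv (eqv_of_faith (finModel m1278ok) (faith_fin 34272) 16) (R := [[3,0,2,0,0]]) (sl := [[]]) (by decide +kernel) _ (List.mem_singleton_self _)
theorem cv1297 : wp (finG m1278ok) [12,12] ∈ cl (finG m1278ok) us1279 := mem_cl_of_eqv (eqv_of_faith (finModel m1278ok) (faith_fin 34272) 16) (R := [[12,12]]) (sl := [[0,0]]) (by decide +kernel) _ (List.mem_singleton_self _)
theorem cv1298 : wp (finG m1278ok) [12,0,12,0,12,0] ∈ cl (finG m1278ok) us1279 := mem_cl_of_eqv (eqv_of_faith (finModel m1278ok) (faith_fin 34272) 16) (R := [[12,0,12,0,12,0]]) (sl := [[]]) (by decide +kernel) _ (List.mem_singleton_self _)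
theorem cv1299 : wp (finG m1278ok) [13,2,12,2] ∈ cl (finG m1278ok) us1279 := mem_cl_of_eqv (eqv_of_faith (finModel m1278ok) (faith_fin 34272) 16) (R := [[13,2,12,2]]) (sl := [[]]) (by decide +kernel) _ (List.mem_singleton_self _)
theorem cv1300 : wp (finG m1278ok) [14,2,14,2,14,2] ∈ cl (finG m1278ok) us1279 := mem_cl_of_eqv (eqv_of_faith (finModel m1278ok) (faith_fin 34272) 16) (R := [[14,2,14,2,14,2]]) (sl := [[]]) (by decide +kernel) _ (List.mem_singleton_self _)
theorem cv1301 : wp (finG m1278ok) [14,2,12,14,2,12,14,2,12,14,2,12,14,2,12] ∈ cl (finG m1278ok) us1279 := mem_cl_of_eqv (eqv_of_faith (finModel m1278ok) (faith_fin 34272) 16) (R := [[14,2,12,14,2,12,14,2,12,14,2,12,14,2,12]]) (sl := [[0,1]]) (by decide +kernel) _ (List.mem_singleton_self _)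
theorem cv1302 : wp (finG m1278ok) [15,13,14,13] ∈ cl (finG m1278ok) us1279 := mem_cl_of_eqv (eqv_of_faith (finModel m1278ok) (faith_fin 34272) 16) (R := [[15,13,14,13]]) (sl := [[0,0]]) (by decide +kernel) _ (List.mem_singleton_self _)
theorem cv1303 : wp (finG m1278ok) [15,1,1,1,13,0,0,0,14,1,1,1,2,13,1,2,0] ∈ cl (finG m1278ok) us1279 := mem_cl_of_eqv (eqv_of_faith (finModel m1278ok) (faith_fin 34272) 16) (R := [[15,1,1,1,13,0,0,0,14,1,1,1,2,13,1,2,0]]) (sl := [[]]) (by decide +kernel) _ (List.mem_singleton_self _)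
theorem cv1304 : wp (finG m1278ok) [15,0,2,13,15,3,1,14,0,2,2,13,1] ∈ cl (finG m1278ok) us1279 := mem_cl_of_eqv (eqv_of_faith (finModel m1278ok) (faith_fin 34272) 16) (R := [[15,0,2,13,15,3,1,14,0,2,2,13,1]]) (sl := [[1]]) (by decide +kernel) _ (List.mem_singleton_self _)
theorem cv1305 : wp (finG m1278ok) [15,1,15,0,3,15,1,14,0,3,3,13] ∈ cl (finG m1278ok) us1279 := mem_cl_of_eqv (eqv_of_faith (finModel m1278ok) (faith_fin 34272) 16) (R := [[15,1,15,0,3,15,1,14,0,3,3,13]]) (sl := [[0]]) (by decide +kernel) _ (List.mem_singleton_self _)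

end Cfsg.Agent.H6.SMat
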