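import Cfsg.Agent.H6.ScB8
import Cfsg.Agent.H6.ScB9
import Cfsg.Agent.H6.ScB10
set_option maxRecDepth 100000
set_option Elab.async false
namespace Cfsg.Agent.H6.ScSuz
open Cfsg.Agent.H6
universe u

theorem cv778 : ∀ r ∈ C319, wp (finG m709ok) r ∈ cl (finG m709ok) us734 := (List.forall_mem_cons.2 ⟨cv747, (List.forall_mem_cons.2 ⟨cv748, (List.forall_mem_cons.2 ⟨cv749, (List.forall_mem_cons.2 ⟨cv750, (List.forall_mem_cons.2 ⟨cv751, (List.forall_mem_cons.2 ⟨cv752, (List.forall_mem_cons.2 ⟨cv753, (List.forall_mem_cons.2 ⟨cv754, (List.forall_mem_cons.2 ⟨cv755, (List.forall_mem_cons.2 ⟨cv756, (List.forall_mem_cons.2 ⟨cv757, (List.forall_mem_cons.2 ⟨cv758, (List.forall_mem_cons.2 ⟨cv759, (List.forall_mem_cons.2 ⟨cv760, (List.forall_mem_cons.2 ⟨cv761, (List.forall_mem_cons.2 ⟨cv762, (List.forall_mem_cons.2 ⟨cv763, (List.forall_mem_cons.2 ⟨cv764, (List.forall_mem_cons.2 ⟨cv765,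 (List.forall_mem_cons.2 ⟨cv766, (List.forall_mem_cons.2 ⟨cv767, (List.forall_mem_cons.2 ⟨cv768, (List.forall_mem_cons.2 ⟨cv769, (List.forall_mem_cons.2 ⟨cv770, (List.forall_mem_cons.2 ⟨cv771, (List.forall_mem_cons.2 ⟨cv772, (List.forall_mem_cons.2 ⟨cv773, (List.forall_mem_cons.2 ⟨cv774, (List.forall_mem_cons.2 ⟨cv775, (List.forall_mem_cons.2 ⟨cv776, (List.forall_mem_cons.2 ⟨cv777, (by simp)⟩)⟩)⟩)⟩)⟩)⟩)⟩)⟩)⟩)⟩)⟩)⟩)⟩)⟩)⟩)⟩)⟩)⟩)⟩)⟩)⟩)⟩)⟩)⟩)⟩)⟩)⟩)⟩)⟩)⟩)⟩)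
theorem cv779 : finG m709ok 11 * wp (finG m709ok) [0,10,5,8,11,1,9,4,0,10,5,8,11,1,9,4,0,10,5,8,11,1,9,4,0,10,5,8,11,1,9,4,0,10,5,8,11,1,9,4] = wp (finG m709ok) [0,10,5,8,11,1,9,4,0,10,5,8,11,1,9,4,0,10,5,8,11,1,9,4,0,10,5,8,11,1,9,4,0,10,5,8,11,1,9,4] * finG m709ok 11 := comm_of_eqv' (eqv_of_faith (finModel m709ok) (faith_fin 70866) 17) (us := [[0,10,5,8,11,1,9,4,0,10,5,8,11,1,9,4,0,10,5,8,11,1,9,4,0,10,5,8,11,1,9,4,0,10,5,8,11,1,9,4]]) (kl := [11]) (by decide +kernel) _ (List.mem_singleton_self _) _ (List.mem_singleton_self _)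
theorem cv780 : finG m709ok 10 * wp (finG m709ok) [0,10,5,8,11,1,9,4,0,10,5,8,11,1,9,4,0,10,5,8,11,1,9,4,0,10,5,8,11,1,9,4,0,10,5,8,11,1,9,4] = wp (finG m709ok) [0,10,5,8,11,1,9,4,0,10,5,8,11,1,9,4,0,10,5,8,11,1,9,4,0,10,5,8,11,1,9,4,0,10,5,8,11,1,9,4] * finG m709ok 10 := comm_of_eqv' (eqv_of_faith (finModel m709ok) (faith_fin 70866) 17) (us := [[0,10,5,8,11,1,9,4,0,10,5,8,11,1,9,4,0,10,5,8,11,1,9,4,0,10,5,8,11,1,9,4,0,10,5,8,11,1,9,4]]) (kl := [10]) (by decide +kernel) _ (List.mem_singleton_self _) _ (List.mem_singleton_self _)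
theorem cv781 : finG m709ok 9 * wp (finG m709ok) [0,10,5,8,11,1,9,4,0,10,5,8,11,1,9,4,0,10,5,8,11,1,9,4,0,10,5,8,11,1,9,4,0,10,5,8,11,1,9,4] = wp (finG m709ok) [0,10,5,8,11,1,9,4,0,10,5,8,11,1,9,4,0,10,5,8,11,1,9,4,0,10,5,8,11,1,9,4,0,10,5,8,11,1,9,4] * finG m709ok 9 := comm_of_eqv' (eqv_of_faith (finModel m709ok) (faith_fin 70866) 17) (us := [[0,10,5,8,11,1,9,4,0,10,5,8,11,1,9,4,0,10,5,8,11,1,9,4,0,10,5,8,11,1,9,4,0,10,5,8,11,1,9,4]]) (kl := [9]) (by decide +kernel) _ (List.mem_singleton_self _) _ (List.mem_singleton_self _)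
theorem cv782 : finG m709ok 8 * wp (finG m709ok) [0,10,5,8,11,1,9,4,0,10,5,8,11,1,9,4,0,10,5,8,11,1,9,4,0,10,5,8,11,1,9,4,0,10,5,8,11,1,9,4] = wp (finG m709ok) [0,10,5,8,11,1,9,4,0,10,5,8,11,1,9,4,0,10,5,8,11,1,9,4,0,10,5,8,11,1,9,4,0,10,5,8,11,1,9,4] * finG m709ok 8 := comm_of_eqv' (eqv_of_faith (finModel m709ok) (faith_fin 70866) 17) (us := [[0,10,5,8,11,1,9,4,0,10,5,8,11,1,9,4,0,10,5,8,11,1,9,4,0,10,5,8,11,1,9,4,0,10,5,8,11,1,9,4]]) (kl := [8]) (by decide +kernel) _ (List.mem_singleton_self _) _ (List.mem_singleton_self _)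
theorem cv783 : finG m709ok 7 * wp (finG m709ok) [0,10,5,8,11,1,9,4,0,10,5,8,11,1,9,4,0,10,5,8,11,1,9,4,0,10,5,8,11,1,9,4,0,10,5,8,11,1,9,4] = wp (finG m709ok) [0,10,5,8,11,1,9,4,0,10,5,8,11,1,9,4,0,10,5,8,11,1,9,4,0,10,5,8,11,1,9,4,0,10,5,8,11,1,9,4] * finG m709ok 7 := comm_of_eqv' (eqv_of_faith (finModel m709ok) (faith_fin 70866) 17) (us := [[0,10,5,8,11,1,9,4,0,10,5,8,11,1,9,4,0,10,5,8,11,1,9,4,0,10,5,8,11,1,9,4,0,10,5,8,11,1,9,4]]) (kl := [7]) (by decide +kernel) _ (List.mem_singleton_self _) _ (List.mem_singleton_self _)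
theorem cv784 : finG m709ok 6 * wp (finG m709ok) [0,10,5,8,11,1,9,4,0,10,5,8,11,1,9,4,0,10,5,8,11,1,9,4,0,10,5,8,11,1,9,4,0,10,5,8,11,1,9,4] = wp (finG m709ok) [0,10,5,8,11,1,9,4,0,10,5,8,11,1,9,4,0,10,5,8,11,1,9,4,0,10,5,8,11,1,9,4,0,10,5,8,11,1,9,4] * finG m709ok 6 := comm_of_eqv' (eqv_of_faith (finModel m709ok) (faith_fin 70866) 17) (us := [[0,10,5,8,11,1,9,4,0,10,5,8,11,1,9,4,0,10,5,8,11,1,9,4,0,10,5,8,11,1,9,4,0,10,5,8,11,1,9,4]]) (kl := [6]) (by decide +kernel) _ (List.mem_singleton_self _) _ (List.mem_singleton_self _)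
theorem cv785 : finG m709ok 5 * wp (finG m709ok) [0,10,5,8,11,1,9,4,0,10,5,8,11,1,9,4,0,10,5,8,11,1,9,4,0,10,5,8,11,1,9,4,0,10,5,8,11,1,9,4] = wp (finG m709ok) [0,10,5,8,11,1,9,4,0,10,5,8,11,1,9,4,0,10,5,8,11,1,9,4,0,10,5,8,11,1,9,4,0,10,5,8,11,1,9,4] * finG m709ok 5 := comm_of_eqv' (eqv_of_faith (finModel m709ok) (faith_fin 70866) 17) (us := [[0,10,5,8,11,1,9,4,0,10,5,8,11,1,9,4,0,10,5,8,11,1,9,4,0,10,5,8,11,1,9,4,0,10,5,8,11,1,9,4]]) (kl := [5]) (by decide +kernel) _ (List.mem_singleton_self _) _ (List.mem_singleton_self _)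
theorem cv786 : finG m709ok 4 * wp (finG m709ok) [0,10,5,8,11,1,9,4,0,10,5,8,11,1,9,4,0,10,5,8,11,1,9,4,0,10,5,8,11,1,9,4,0,10,5,8,11,1,9,4] = wp (finG m709ok) [0,10,5,8,11,1,9,4,0,10,5,8,11,1,9,4,0,10,5,8,11,1,9,4,0,10,5,8,11,1,9,4,0,10,5,8,11,1,9,4] * finG m709ok 4 := comm_of_eqv' (eqv_of_faith (finModel m709ok) (faith_fin 70866) 17) (us := [[0,10,5,8,11,1,9,4,0,10,5,8,11,1,9,4,0,10,5,8,11,1,9,4,0,10,5,8,11,1,9,4,0,10,5,8,11,1,9,4]]) (kl := [4]) (by decide +kernel) _ (List.mem_singleton_self _) _ (List.mem_singleton_self _)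
theorem cv787 : finG m709ok 3 * wp (finG m709ok) [0,10,5,8,11,1,9,4,0,10,5,8,11,1,9,4,0,10,5,8,11,1,9,4,0,10,5,8,11,1,9,4,0,10,5,8,11,1,9,4] = wp (finG m709ok) [0,10,5,8,11,1,9,4,0,10,5,8,11,1,9,4,0,10,5,8,11,1,9,4,0,10,5,8,11,1,9,4,0,10,5,8,11,1,9,4] * finG m709ok 3 := comm_of_eqv' (eqv_of_faith (finModel m709ok) (faith_fin 70866) 17) (us := [[0,10,5,8,11,1,9,4,0,10,5,8,11,1,9,4,0,10,5,8,11,1,9,4,0,10,5,8,11,1,9,4,0,10,5,8,11,1,9,4]]) (kl := [3]) (by decide +kernel) _ (List.mem_singleton_self _) _ (List.mem_singleton_self _)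
theorem cv788 : finG m709ok 2 * wp (finG m709ok) [0,10,5,8,11,1,9,4,0,10,5,8,11,1,9,4,0,10,5,8,11,1,9,4,0,10,5,8,11,1,9,4,0,10,5,8,11,1,9,4] = wp (finG m709ok) [0,10,5,8,11,1,9,4,0,10,5,8,11,1,9,4,0,10,5,8,11,1,9,4,0,10,5,8,11,1,9,4,0,10,5,8,11,1,9,4] * finG m709ok 2 := comm_of_eqv' (eqv_of_faith (finModel m709ok) (faith_fin 70866) 17) (us := [[0,10,5,8,11,1,9,4,0,10,5,8,11,1,9,4,0,10,5,8,11,1,9,4,0,10,5,8,11,1,9,4,0,10,5,8,11,1,9,4]]) (kl := [2]) (by decide +kernel) _ (List.mem_singleton_self _) _ (List.mem_singleton_self _)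
theorem cv789 : finG m709ok 1 * wp (finG m709ok) [0,10,5,8,11,1,9,4,0,10,5,8,11,1,9,4,0,10,5,8,11,1,9,4,0,10,5,8,11,1,9,4,0,10,5,8,11,1,9,4] = wp (finG m709ok) [0,10,5,8,11,1,9,4,0,10,5,8,11,1,9,4,0,10,5,8,11,1,9,4,0,10,5,8,11,1,9,4,0,10,5,8,11,1,9,4] * finG m709ok 1 := comm_of_eqv' (eqv_of_faith (finModel m709ok) (faith_fin 70866) 17) (us := [[0,10,5,8,11,1,9,4,0,10,5,8,11,1,9,4,0,10,5,8,11,1,9,4,0,10,5,8,11,1,9,4,0,10,5,8,11,1,9,4]]) (kl := [1]) (by decide +kernel) _ (List.mem_singleton_self _) _ (List.mem_singleton_self _)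
theorem cv790 : finG m709ok 0 * wp (finG m709ok) [0,10,5,8,11,1,9,4,0,10,5,8,11,1,9,4,0,10,5,8,11,1,9,4,0,10,5,8,11,1,9,4,0,10,5,8,11,1,9,4] = wp (finG m709ok) [0,10,5,8,11,1,9,4,0,10,5,8,11,1,9,4,0,10,5,8,11,1,9,4,0,10,5,8,11,1,9,4,0,10,5,8,11,1,9,4] * finG m709ok 0 := comm_of_eqv' (eqv_of_faith (finModel m709ok) (faith_fin 70866) 17) (us := [[0,10,5,8,11,1,9,4,0,10,5,8,11,1,9,4,0,10,5,8,11,1,9,4,0,10,5,8,11,1,9,4,0,10,5,8,11,1,9,4]]) (kl := [0]) (by decide +kernel) _ (List.mem_singleton_self _) _ (List.mem_singleton_self _)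
theorem cv791 : finG m709ok 11 * wp (finG m709ok) [11,7,10,6] = wp (finG m709ok) [11,7,10,6] * finG m709ok 11 := comm_of_eqv' (eqv_of_faith (finModel m709ok) (faith_fin 70866) 17) (us := [[11,7,10,6]]) (kl := [11]) (by decide +kernel) _ (List.mem_singleton_self _) _ (List.mem_singleton_self _)
theorem cv792 : finG m709ok 10 * wp (finG m709ok) [11,7,10,6] = wp (finG m709ok) [11,7,10,6] * finG m709ok 10 := comm_of_eqv' (eqv_of_faith (finModel m709ok) (faith_fin 70866) 17) (us := [[11,7,10,6]]) (kl := [10]) (by decide +kernel) _ (List.mem_singleton_self _) _ (List.mem_singleton_self _)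
theorem cv793 : finG m709ok 9 * wp (finG m709ok) [11,7,10,6] = wp (finG m709ok) [11,7,10,6] * finG m709ok 9 := comm_of_eqv' (eqv_of_faith (finModel m709ok) (faith_fin 70866) 17) (us := [[11,7,10,6]]) (kl := [9]) (by decide +kernel) _ (List.mem_singleton_self _) _ (List.mem_singleton_self _)
theorem cv794 : finG m709ok 8 * wp (finG m709ok) [11,7,10,6] = wp (finG m709ok) [11,7,10,6] * finG m709ok 8 := comm_of_eqv' (eqv_of_faith (finModel m709ok) (faith_fin 70866) 17) (us := [[11,7,10,6]]) (kl := [8]) (by decide +kernel) _ (List.mem_singleton_self _) _ (List.mem_singleton_self _)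
theorem cv795 : finG m709ok 7 * wp (finG m709ok) [11,7,10,6] = wp (finG m709ok) [11,7,10,6] * finG m709ok 7 := comm_of_eqv' (eqv_of_faith (finModel m709ok) (faith_fin 70866) 17) (us := [[11,7,10,6]]) (kl := [7]) (by decide +kernel) _ (List.mem_singleton_self _) _ (List.mem_singleton_self _)
theorem cv796 : finG m709ok 6 * wp (finG m709ok) [11,7,10,6] = wp (finG m709ok) [11,7,10,6] * finG m709ok 6 := comm_of_eqv' (eqv_of_faith (finModel m709ok) (faith_fin 70866) 17) (us := [[11,7,10,6]]) (kl := [6]) (by decide +kernel) _ (List.mem_singleton_self _) _ (List.mem_singleton_self _)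
theorem cv797 : finG m709ok 5 * wp (finG m709ok) [11,7,10,6] = wp (finG m709ok) [11,7,10,6] * finG m709ok 5 := comm_of_eqv' (eqv_of_faith (finModel m709ok) (faith_fin 70866) 17) (us := [[11,7,10,6]]) (kl := [5]) (by decide +kernel) _ (List.mem_singleton_self _) _ (List.mem_singleton_self _)
theorem cv798 : finG m709ok 4 * wp (finG m709ok) [11,7,10,6] = wp (finG m709ok) [11,7,10,6] * finG m709ok 4 := comm_of_eqv' (eqv_of_faith (finModel m709ok) (faith_fin 70866) 17) (us := [[11,7,10,6]]) (kl := [4]) (by decide +kernel) _ (List.mem_singleton_self _) _ (List.mem_singleton_self _)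
theorem cv799 : finG m709ok 3 * wp (finG m709ok) [11,7,10,6] = wp (finG m709ok) [11,7,10,6] * finG m709ok 3 := comm_of_eqv' (eqv_of_faith (finModel m709ok) (faith_fin 70866) 17) (us := [[11,7,10,6]]) (kl := [3]) (by decide +kernel) _ (List.mem_singleton_self _) _ (List.mem_singleton_self _)
theorem cv800 : finG m709ok 2 * wp (finG m709ok) [11,7,10,6] = wp (finG m709ok) [11,7,10,6] * finG m709ok 2 := comm_of_eqv' (eqv_of_faith (finModel m709ok) (faith_fin 70866) 17) (us := [[11,7,10,6]]) (kl := [2]) (by decide +kernel) _ (List.mem_singleton_self _) _ (List.mem_singleton_self _)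
theorem cv801 : finG m709ok 1 * wp (finG m709ok) [11,7,10,6] = wp (finG m709ok) [11,7,10,6] * finG m709ok 1 := comm_of_eqv' (eqv_of_faith (finModel m709ok) (faith_fin 70866) 17) (us := [[11,7,10,6]]) (kl := [1]) (by decide +kernel) _ (List.mem_singleton_self _) _ (List.mem_singleton_self _)
theorem cv802 : finG m709ok 0 * wp (finG m709ok) [11,7,10,6] = wp (finG m709ok) [11,7,10,6] * finG m709ok 0 := comm_of_eqv' (eqv_of_faith (finModel m709ok) (faith_fin 70866) 17) (us := [[11,7,10,6]]) (kl := [0]) (by decide +kernel) _ (List.mem_singleton_self _) _ (List.mem_singleton_self _)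
theorem rl803 : ∀ r ∈ us734, wp gX r = 1 := rels_of_eqv heqX (by decide +kernel)
theorem cov : HasCov Spor.Suz 6 := HasCov.of sa635 m709s0 bd381 (le_of_eq_of_le (by norm_num) Suz.cardSuz.ge) (top_of_card Suz.cardSuz lb629) (cs := [([11],[7],1),([0,10],[5,8],5)]) (us := us734) (by decide +kernel) (by decide +kernel) rl803 (List.forall_mem_cons.2 ⟨(List.forall_mem_cons.2 ⟨cv802, (List.forall_mem_cons.2 ⟨cv801, (List.forall_mem_cons.2 ⟨cv800, (List.forall_mem_cons.2 ⟨cv799, (List.forall_mem_cons.2 ⟨cv798, (List.forall_mem_cons.2 ⟨cv797, (List.forall_mem_cons.2 ⟨cv796, (List.forall_mem_cons.2 ⟨cv795, (List.forall_mem_cons.2 ⟨cv794, (List.forall_mem_cons.2 ⟨cv793, (List.forall_mem_cons.2 ⟨cv792, (List.forall_mem_cons.2 ⟨cv791, (by simp)⟩)⟩)⟩)⟩)⟩)⟩)⟩)⟩)⟩)⟩)⟩)⟩), (List.forall_mem_cons.2 ⟨(List.forall_mem_cons.2 ⟨cv790, (List.forall_mem_cons.2 ⟨cv789, (List.forall_mem_cons.2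 ⟨cv788, (List.forall_mem_cons.2 ⟨cv787, (List.forall_mem_cons.2 ⟨cv786, (List.forall_mem_cons.2 ⟨cv785, (List.forall_mem_cons.2 ⟨cv784, (List.forall_mem_cons.2 ⟨cv783, (List.forall_mem_cons.2 ⟨cv782, (List.forall_mem_cons.2 ⟨cv781, (List.forall_mem_cons.2 ⟨cv780, (List.forall_mem_cons.2 ⟨cv779, (by simp)⟩)⟩)⟩)⟩)⟩)⟩)⟩)⟩)⟩)⟩)⟩)⟩), (by simp)⟩)⟩) cv778 lb746
theorem schur : HasCyclicSchurMultiplier Spor.Suz 6 := hasCyc_of (a := 1) (b := 1) (pm2.mono (by norm_num)) (pm3.mono (by norm_num)) (PM.ge5 Suz.cardSuz (fl := [2,2,2,2,2,2,2,2,2,2,2,2,2,3,3,3,3,3,3,3,5,5,7,11,13]) (l := [5]) (List.forall_mem_cons.2 ⟨pm5, (by simp)⟩) (by decide +kernel)) cov (by norm_num)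

end Cfsg.Agent.H6.ScSuz
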