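import Cfsg.Agent.H6.ScB7
set_option maxRecDepth 100000
set_option Elab.async false
namespace Cfsg.Agent.H6.ScSuz
open Cfsg.Agent.H6
universe u

theorem cv747 : wp (finG m709ok) [0,0,0,0,0,0,0] ∈ cl (finG m709ok) us734 := mem_cl_of_eqv (eqv_of_faith (finModel m709ok) (faith_fin 70866) 17) (R := [[0,0,0,0,0,0,0]]) (sl := [[]]) (by decide +kernel) _ (List.mem_singleton_self _)
theorem cv750 : wp (finG m709ok) [2,0,0,2,0,0,2,0,0] ∈ cl (finG m709ok) us734 := mem_cl_of_eqv (eqv_of_faith (finModel m709ok) (faith_fin 70866) 17) (R := [[2,0,0,2,0,0,2,0,0]]) (sl := [[]]) (by decide +kernel) _ (List.mem_singleton_self _)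
theorem cv753 : wp (finG m709ok) [4,2,4,2,4,2] ∈ cl (finG m709ok) us734 := mem_cl_of_eqv (eqv_of_faith (finModel m709ok) (faith_fin 70866) 17) (R := [[4,2,4,2,4,2]]) (sl := [[]]) (by decide +kernel) _ (List.mem_singleton_self _)
theorem cv756 : wp (finG m709ok) [5,0,0,3,1,1,4,1,1,1,3,1,3,0,0] ∈ cl (finG m709ok) us734 := mem_cl_of_eqv (eqv_of_faith (finModel m709ok) (faith_fin 70866) 17) (R := [[5,0,0,3,1,1,4,1,1,1,3,1,3,0,0]]) (sl := [[]]) (by decide +kernel) _ (List.mem_singleton_self _)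
theorem cv759 : wp (finG m709ok) [7,0,6,0] ∈ cl (finG m709ok) us734 := mem_cl_of_eqv (eqv_of_faith (finModel m709ok) (faith_fin 70866) 17) (R := [[7,0,6,0]]) (sl := [[]]) (by decide +kernel) _ (List.mem_singleton_self _)
theorem cv762 : wp (finG m709ok) [7,5,7,0,5,0,2,4,1,6,4,6,5,1,2,4,1,4,1,1] ∈ cl (finG m709ok) us734 := mem_cl_of_eqv (eqv_of_faith (finModel m709ok) (faith_fin 70866) 17) (R := [[7,5,7,0,5,0,2,4,1,6,4,6,5,1,2,4,1,4,1,1]]) (sl := [[0]]) (by decide +kernel) _ (List.mem_singleton_self _)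
theorem cv765 : wp (finG m709ok) [8,6,8,6] ∈ cl (finG m709ok) us734 := mem_cl_of_eqv (eqv_of_faith (finModel m709ok) (faith_fin 70866) 17) (R := [[8,6,8,6]]) (sl := [[0]]) (by decide +kernel) _ (List.mem_singleton_self _)
theorem cv768 : wp (finG m709ok) [9,4,8,1,1,7,5,1,1,6] ∈ cl (finG m709ok) us734 := mem_cl_of_eqv (eqv_of_faith (finModel m709ok) (faith_fin 70866) 17) (R := [[9,4,8,1,1,7,5,1,1,6]]) (sl := [[]]) (by decide +kernel) _ (List.mem_singleton_self _)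
theorem cv771 : wp (finG m709ok) [10,8,10,8,10,8] ∈ cl (finG m709ok) us734 := mem_cl_of_eqv (eqv_of_faith (finModel m709ok) (faith_fin 70866) 17) (R := [[10,8,10,8,10,8]]) (sl := [[]]) (by decide +kernel) _ (List.mem_singleton_self _)
theorem cv774 : wp (finG m709ok) [11,6,10,7] ∈ cl (finG m709ok) us734 := mem_cl_of_eqv (eqv_of_faith (finModel m709ok) (faith_fin 70866) 17) (R := [[11,6,10,7]]) (sl := [[0]]) (by decide +kernel) _ (List.mem_singleton_self _)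
theorem cv777 : wp (finG m709ok) [11,8,5,9,11,1,5,9,5,7,5,0,9,4,9,4,0,10,8,4,9,10,1,1,4,8,5,0,0,5,8,5,3,7,4,9,6,4,7,5,3,5,1,2,5,1,1,4,1,3,5,8,1,1,8,4,9,1,4] ∈ cl (finG m709ok) us734 := mem_cl_of_eqv (eqv_of_faith (finModel m709ok) (faith_fin 70866) 17) (R := [[11,8,5,9,11,1,5,9,5,7,5,0,9,4,9,4,0,10,8,4,9,10,1,1,4,8,5,0,0,5,8,5,3,7,4,9,6,4,7,5,3,5,1,2,5,1,1,4,1,3,5,8,1,1,8,4,9,1,4]]) (sl := [[1]]) (by decide +kernel) _ (List.mem_singleton_self _)

end Cfsg.Agent.H6.ScSuz
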