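import Cfsg.Agent.H6.ScC17
set_option maxRecDepth 100000
set_option Elab.async false
namespace Cfsg.Agent.H6.ScFi22
open Cfsg.Agent.H6
universe u

theorem cv1065 : wp (finG m1037ok) [0,0,0,0,0,0,0] ∈ cl (finG m1037ok) us1052 := mem_cl_of_eqv (eqv_of_faith (finModel m1037ok) (faith_fin 213488) 18) (R := [[0,0,0,0,0,0,0]]) (sl := [[]]) (by decide +kernel) _ (List.mem_singleton_self _)
theorem cv1068 : wp (finG m1037ok) [3,1,1,1,3,1,1,1,2,1,1,1,2,1,1,1] ∈ cl (finG m1037ok) us1052 := mem_cl_of_eqv (eqv_of_faith (finModel m1037ok) (faith_fin 213488) 18) (R := [[3,1,1,1,3,1,1,1,2,1,1,1,2,1,1,1]]) (sl := [[]]) (by decide +kernel) _ (List.mem_singleton_self _)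
theorem cv1071 : wp (finG m1037ok) [5,1,2,0,4,0,0,3,1,1] ∈ cl (finG m1037ok) us1052 := mem_cl_of_eqv (eqv_of_faith (finModel m1037ok) (faith_fin 213488) 18) (R := [[5,1,2,0,4,0,0,3,1,1]]) (sl := [[]]) (by decide +kernel) _ (List.mem_singleton_self _)
theorem cv1074 : wp (finG m1037ok) [4,1,4,0,5,2,4,3] ∈ cl (finG m1037ok) us1052 := mem_cl_of_eqv (eqv_of_faith (finModel m1037ok) (faith_fin 213488) 18) (R := [[4,1,4,0,5,2,4,3]]) (sl := [[]]) (by decide +kernel) _ (List.mem_singleton_self _)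
theorem cv1077 : wp (finG m1037ok) [7,5,0,0,5,0,6,1,4,1,1,4] ∈ cl (finG m1037ok) us1052 := mem_cl_of_eqv (eqv_of_faith (finModel m1037ok) (faith_fin 213488) 18) (R := [[7,5,0,0,5,0,6,1,4,1,1,4]]) (sl := [[]]) (by decide +kernel) _ (List.mem_singleton_self _)
theorem cv1080 : wp (finG m1037ok) [7,3,7,5,0,5,2,1,6,2,6,0,3,5,0,5,0,3] ∈ cl (finG m1037ok) us1052 := mem_cl_of_eqv (eqv_of_faith (finModel m1037ok) (faith_fin 213488) 18) (R := [[7,3,7,5,0,5,2,1,6,2,6,0,3,5,0,5,0,3]]) (sl := [[]]) (by decide +kernel) _ (List.mem_singleton_self _)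
theorem cv1083 : wp (finG m1037ok) [9,2,8,3] ∈ cl (finG m1037ok) us1052 := mem_cl_of_eqv (eqv_of_faith (finModel m1037ok) (faith_fin 213488) 18) (R := [[9,2,8,3]]) (sl := [[]]) (by decide +kernel) _ (List.mem_singleton_self _)
theorem cv1086 : wp (finG m1037ok) [10,10] ∈ cl (finG m1037ok) us1052 := mem_cl_of_eqv (eqv_of_faith (finModel m1037ok) (faith_fin 213488) 18) (R := [[10,10]]) (sl := [[]]) (by decide +kernel) _ (List.mem_singleton_self _)
theorem cv1089 : wp (finG m1037ok) [11,4,10,5] ∈ cl (finG m1037ok) us1052 := mem_cl_of_eqv (eqv_of_faith (finModel m1037ok) (faith_fin 213488) 18) (R := [[11,4,10,5]]) (sl := [[]]) (by decide +kernel) _ (List.mem_singleton_self _)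
theorem cv1092 : wp (finG m1037ok) [10,1,3,5,0,2,1,11,4,0,6,2,5,0,7,9,0,3,6,0,5,3,6,1] ∈ cl (finG m1037ok) us1052 := mem_cl_of_eqv (eqv_of_faith (finModel m1037ok) (faith_fin 213488) 18) (R := [[10,1,3,5,0,2,1,11,4,0,6,2,5,0,7,9,0,3,6,0,5,3,6,1]]) (sl := [[0]]) (by decide +kernel) _ (List.mem_singleton_self _)
theorem cv1095 : wp (finG m1037ok) [11,1,7,1,10,0,6,0,10,1,5,7,3,7,1,4,3,7,2,0,2,5,6,3,0] ∈ cl (finG m1037ok) us1052 := mem_cl_of_eqv (eqv_of_faith (finModel m1037ok) (faith_fin 213488) 18) (R := [[11,1,7,1,10,0,6,0,10,1,5,7,3,7,1,4,3,7,2,0,2,5,6,3,0]]) (sl := [[0]]) (by decide +kernel) _ (List.mem_singleton_self _)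
theorem cv1098 : wp (finG m1037ok) [11,1,11,1,3,10,0,10,0,10,5,7,4,2,1,7,0,2,1,1,6,4,3,4] ∈ cl (finG m1037ok) us1052 := mem_cl_of_eqv (eqv_of_faith (finModel m1037ok) (faith_fin 213488) 18) (R := [[11,1,11,1,3,10,0,10,0,10,5,7,4,2,1,7,0,2,1,1,6,4,3,4]]) (sl := [[]]) (by decide +kernel) _ (List.mem_singleton_self _)
theorem cv1101 : wp (finG m1037ok) [13,0,12,1] ∈ cl (finG m1037ok) us1052 := mem_cl_of_eqv (eqv_of_faith (finModel m1037ok) (faith_fin 213488) 18) (R := [[13,0,12,1]]) (sl := [[]]) (by decide +kernel) _ (List.mem_singleton_self _)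
theorem cv1104 : wp (finG m1037ok) [13,3,12,2,12,5,2,4,6,2,5,1,5,0,7,3] ∈ cl (finG m1037ok) us1052 := mem_cl_of_eqv (eqv_of_faith (finModel m1037ok) (faith_fin 213488) 18) (R := [[13,3,12,2,12,5,2,4,6,2,5,1,5,0,7,3]]) (sl := [[]]) (by decide +kernel) _ (List.mem_singleton_self _)

end Cfsg.Agent.H6.ScFi22
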