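import Cfsg.Agent.H6.ScC17
set_option maxRecDepth 100000
set_option Elab.async false
namespace Cfsg.Agent.H6.ScFi22
open Cfsg.Agent.H6
universe u

theorem cv1066 : wp (finG m1037ok) [2,2] ∈ cl (finG m1037ok) us1052 := mem_cl_of_eqv (eqv_of_faith (finModel m1037ok) (faith_fin 213488) 18) (R := [[2,2]]) (sl := [[]]) (by decide +kernel) _ (List.mem_singleton_self _)
theorem cv1069 : wp (finG m1037ok) [4,4,4] ∈ cl (finG m1037ok) us1052 := mem_cl_of_eqv (eqv_of_faith (finModel m1037ok) (faith_fin 213488) 18) (R := [[4,4,4]]) (sl := [[]]) (by decide +kernel) _ (List.mem_singleton_self _)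
theorem cv1072 : wp (finG m1037ok) [5,1,3,0,4,0,0,3,1,1] ∈ cl (finG m1037ok) us1052 := mem_cl_of_eqv (eqv_of_faith (finModel m1037ok) (faith_fin 213488) 18) (R := [[5,1,3,0,4,0,0,3,1,1]]) (sl := [[]]) (by decide +kernel) _ (List.mem_singleton_self _)
theorem cv1075 : wp (finG m1037ok) [6,6] ∈ cl (finG m1037ok) us1052 := mem_cl_of_eqv (eqv_of_faith (finModel m1037ok) (faith_fin 213488) 18) (R := [[6,6]]) (sl := [[]]) (by decide +kernel) _ (List.mem_singleton_self _)
theorem cv1078 : wp (finG m1037ok) [7,5,6,4,7,4,6,5] ∈ cl (finG m1037ok) us1052 := mem_cl_of_eqv (eqv_of_faith (finModel m1037ok) (faith_fin 213488) 18) (R := [[7,5,6,4,7,4,6,5]]) (sl := [[]]) (by decide +kernel) _ (List.mem_singleton_self _)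
theorem cv1081 : wp (finG m1037ok) [8,8] ∈ cl (finG m1037ok) us1052 := mem_cl_of_eqv (eqv_of_faith (finModel m1037ok) (faith_fin 213488) 18) (R := [[8,8]]) (sl := [[]]) (by decide +kernel) _ (List.mem_singleton_self _)
theorem cv1084 : wp (finG m1037ok) [9,4,8,5] ∈ cl (finG m1037ok) us1052 := mem_cl_of_eqv (eqv_of_faith (finModel m1037ok) (faith_fin 213488) 18) (R := [[9,4,8,5]]) (sl := [[]]) (by decide +kernel) _ (List.mem_singleton_self _)
theorem cv1087 : wp (finG m1037ok) [11,2,10,3] ∈ cl (finG m1037ok) us1052 := mem_cl_of_eqv (eqv_of_faith (finModel m1037ok) (faith_fin 213488) 18) (R := [[11,2,10,3]]) (sl := [[]]) (by decide +kernel) _ (List.mem_singleton_self _)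
theorem cv1090 : wp (finG m1037ok) [11,6,10,7] ∈ cl (finG m1037ok) us1052 := mem_cl_of_eqv (eqv_of_faith (finModel m1037ok) (faith_fin 213488) 18) (R := [[11,6,10,7]]) (sl := [[]]) (by decide +kernel) _ (List.mem_singleton_self _)
theorem cv1093 : wp (finG m1037ok) [11,1,3,5,0,2,1,10,2,1,5,3,0,0,7,0,0,7,1,4,8,4,7,2,6] ∈ cl (finG m1037ok) us1052 := mem_cl_of_eqv (eqv_of_faith (finModel m1037ok) (faith_fin 213488) 18) (R := [[11,1,3,5,0,2,1,10,2,1,5,3,0,0,7,0,0,7,1,4,8,4,7,2,6]]) (sl := [[0]]) (by decide +kernel) _ (List.mem_singleton_self _)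
theorem cv1096 : wp (finG m1037ok) [11,1,11,0,5,1,1,4,2,10,0,10,2,0,5,1,1,1,1,4] ∈ cl (finG m1037ok) us1052 := mem_cl_of_eqv (eqv_of_faith (finModel m1037ok) (faith_fin 213488) 18) (R := [[11,1,11,0,5,1,1,4,2,10,0,10,2,0,5,1,1,1,1,4]]) (sl := [[1]]) (by decide +kernel) _ (List.mem_singleton_self _)
theorem cv1099 : wp (finG m1037ok) [12,12] ∈ cl (finG m1037ok) us1052 := mem_cl_of_eqv (eqv_of_faith (finModel m1037ok) (faith_fin 213488) 18) (R := [[12,12]]) (sl := [[]]) (by decide +kernel) _ (List.mem_singleton_self _)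
theorem cv1102 : wp (finG m1037ok) [13,6,12,7] ∈ cl (finG m1037ok) us1052 := mem_cl_of_eqv (eqv_of_faith (finModel m1037ok) (faith_fin 213488) 18) (R := [[13,6,12,7]]) (sl := [[]]) (by decide +kernel) _ (List.mem_singleton_self _)

end Cfsg.Agent.H6.ScFi22
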