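import Cfsg.Agent.H6.ScC17
set_option maxRecDepth 100000
set_option Elab.async false
namespace Cfsg.Agent.H6.ScFi22
open Cfsg.Agent.H6
universe u

theorem cv1067 : wp (finG m1037ok) [2,0,2,0,2,0] ∈ cl (finG m1037ok) us1052 := mem_cl_of_eqv (eqv_of_faith (finModel m1037ok) (faith_fin 213488) 18) (R := [[2,0,2,0,2,0]]) (sl := [[]]) (by decide +kernel) _ (List.mem_singleton_self _)
theorem cv1070 : wp (finG m1037ok) [4,1,3,5,3,1,1,1,3,0,0,3] ∈ cl (finG m1037ok) us1052 := mem_cl_of_eqv (eqv_of_faith (finModel m1037ok) (faith_fin 213488) 18) (R := [[4,1,3,5,3,1,1,1,3,0,0,3]]) (sl := [[]]) (by decide +kernel) _ (List.mem_singleton_self _)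
theorem cv1073 : wp (finG m1037ok) [5,1,1,3,0,0,4,1,1,3,0,0] ∈ cl (finG m1037ok) us1052 := mem_cl_of_eqv (eqv_of_faith (finModel m1037ok) (faith_fin 213488) 18) (R := [[5,1,1,3,0,0,4,1,1,3,0,0]]) (sl := [[]]) (by decide +kernel) _ (List.mem_singleton_self _)
theorem cv1076 : wp (finG m1037ok) [7,3,1,5,2,6,3,4,0,2] ∈ cl (finG m1037ok) us1052 := mem_cl_of_eqv (eqv_of_faith (finModel m1037ok) (faith_fin 213488) 18) (R := [[7,3,1,5,2,6,3,4,0,2]]) (sl := [[]]) (by decide +kernel) _ (List.mem_singleton_self _)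
theorem cv1079 : wp (finG m1037ok) [7,0,4,1,1,6,0,6,5,3,4,2,0,4,2] ∈ cl (finG m1037ok) us1052 := mem_cl_of_eqv (eqv_of_faith (finModel m1037ok) (faith_fin 213488) 18) (R := [[7,0,4,1,1,6,0,6,5,3,4,2,0,4,2]]) (sl := [[]]) (by decide +kernel) _ (List.mem_singleton_self _)
theorem cv1082 : wp (finG m1037ok) [9,0,8,1] ∈ cl (finG m1037ok) us1052 := mem_cl_of_eqv (eqv_of_faith (finModel m1037ok) (faith_fin 213488) 18) (R := [[9,0,8,1]]) (sl := [[]]) (by decide +kernel) _ (List.mem_singleton_self _)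
theorem cv1085 : wp (finG m1037ok) [9,6,8,6] ∈ cl (finG m1037ok) us1052 := mem_cl_of_eqv (eqv_of_faith (finModel m1037ok) (faith_fin 213488) 18) (R := [[9,6,8,6]]) (sl := [[]]) (by decide +kernel) _ (List.mem_singleton_self _)
theorem cv1088 : wp (finG m1037ok) [11,3,10,3] ∈ cl (finG m1037ok) us1052 := mem_cl_of_eqv (eqv_of_faith (finModel m1037ok) (faith_fin 213488) 18) (R := [[11,3,10,3]]) (sl := [[]]) (by decide +kernel) _ (List.mem_singleton_self _)
theorem cv1091 : wp (finG m1037ok) [11,8,10,8] ∈ cl (finG m1037ok) us1052 := mem_cl_of_eqv (eqv_of_faith (finModel m1037ok) (faith_fin 213488) 18) (R := [[11,8,10,8]]) (sl := [[]]) (by decide +kernel) _ (List.mem_singleton_self _)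
theorem cv1094 : wp (finG m1037ok) [11,1,11,1,5,7,4,0,10,0,10,5,7,3,1,6,1,5,2,5,3,5,1,6] ∈ cl (finG m1037ok) us1052 := mem_cl_of_eqv (eqv_of_faith (finModel m1037ok) (faith_fin 213488) 18) (R := [[11,1,11,1,5,7,4,0,10,0,10,5,7,3,1,6,1,5,2,5,3,5,1,6]]) (sl := [[]]) (by decide +kernel) _ (List.mem_singleton_self _)
theorem cv1097 : wp (finG m1037ok) [11,1,10,0,5,1,1,4,2,11,0,10,5,7,4,1,6,3,5,7,0,0,7,4] ∈ cl (finG m1037ok) us1052 := mem_cl_of_eqv (eqv_of_faith (finModel m1037ok) (faith_fin 213488) 18) (R := [[11,1,10,0,5,1,1,4,2,11,0,10,5,7,4,1,6,3,5,7,0,0,7,4]]) (sl := [[1]]) (by decide +kernel) _ (List.mem_singleton_self _)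
theorem cv1100 : wp (finG m1037ok) [12,8,12,8,12,8] ∈ cl (finG m1037ok) us1052 := mem_cl_of_eqv (eqv_of_faith (finModel m1037ok) (faith_fin 213488) 18) (R := [[12,8,12,8,12,8]]) (sl := [[]]) (by decide +kernel) _ (List.mem_singleton_self _)
theorem cv1103 : wp (finG m1037ok) [13,10,12,11] ∈ cl (finG m1037ok) us1052 := mem_cl_of_eqv (eqv_of_faith (finModel m1037ok) (faith_fin 213488) 18) (R := [[13,10,12,11]]) (sl := [[]]) (by decide +kernel) _ (List.mem_singleton_self _)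

end Cfsg.Agent.H6.ScFi22
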