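import Cfsg.Agent.H6.ScC21
import Cfsg.Agent.H6.Sch11
set_option maxRecDepth 100000
set_option Elab.async false
namespace Cfsg.Agent.H6.ScFi22
open Cfsg.Agent.H6
universe u

noncomputable def cv1106r : List ℕ := [0,2,1,10,7,0,6,11,0,3,7,1,6,2,1,10,7,0,6,11,0,3,7,1,6,2,1,10,7,0,6,11,0,3,7,1,6,2,1,10,7,0,6,11,0,3,7,1,6,2,1,10,7,0,6,11,0,3,7,1,6,1,7,0,6,2,1,10,7,1,6,11,0,3,7,0,6,2,1,10,7,1,6,11,0,3,7,0,6,2,1,10,7,1,6,11,0,3,7,0,6,2,1,10,7,1,6,11,0,3,7,0,6,2,1,10,7,1,6,11,0,3]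
theorem cv1106p0 : Rng (slChk 213488 18 m1037 cv1106r) 0 2 := Rng.of_chk (c := 2) (by decide +kernel)
theorem cv1106p2 : Rng (slChk 213488 18 m1037 cv1106r) 2 4 := Rng.of_chk (c := 2) (by decide +kernel)
theorem cv1106p4 : Rng (slChk 213488 18 m1037 cv1106r) 4 6 := Rng.of_chk (c := 2) (by decide +kernel)
theorem cv1106p6 : Rng (slChk 213488 18 m1037 cv1106r) 6 8 := Rng.of_chk (c := 2) (by decide +kernel)
theorem cv1106p8 : Rng (slChk 213488 18 m1037 cv1106r) 8 10 := Rng.of_chk (c := 2) (by decide +kernel)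
theorem cv1106p10 : Rng (slChk 213488 18 m1037 cv1106r) 10 12 := Rng.of_chk (c := 2) (by decide +kernel)
theorem cv1106p12 : Rng (slChk 213488 18 m1037 cv1106r) 12 14 := Rng.of_chk (c := 2) (by decide +kernel)
theorem cv1106p14 : Rng (slChk 213488 18 m1037 cv1106r) 14 16 := Rng.of_chk (c := 2) (by decide +kernel)
theorem cv1106p16 : Rng (slChk 213488 18 m1037 cv1106r) 16 18 := Rng.of_chk (c := 2) (by decide +kernel)
theorem cv1106 : finG m1037ok 0 * wp (finG m1037ok) [2,1,10,7,0,6,11,0,3,7,1,6,2,1,10,7,0,6,11,0,3,7,1,6,2,1,10,7,0,6,11,0,3,7,1,6,2,1,10,7,0,6,11,0,3,7,1,6,2,1,10,7,0,6,11,0,3,7,1,6] = wp (finG m1037ok) [2,1,10,7,0,6,11,0,3,7,1,6,2,1,10,7,0,6,11,0,3,7,1,6,2,1,10,7,0,6,11,0,3,7,1,6,2,1,10,7,0,6,11,0,3,7,1,6,2,1,10,7,0,6,11,0,3,7,1,6] * finG m1037ok 0 := comm_of_rel m1037s0 (r := cv1106r) (by decide +kernel) (fin_rel_of_rng m1037ok (k := 18) (by norm_num)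 ((((((((cv1106p0.trans cv1106p2).trans cv1106p4).trans cv1106p6).trans cv1106p8).trans cv1106p10).trans cv1106p12).trans cv1106p14).trans cv1106p16))
noncomputable def cv1109r : List ℕ := [6,2,1,10,7,0,6,11,0,3,7,1,6,2,1,10,7,0,6,11,0,3,7,1,6,2,1,10,7,0,6,11,0,3,7,1,6,2,1,10,7,0,6,11,0,3,7,1,6,2,1,10,7,0,6,11,0,3,7,1,6,7,7,0,6,2,1,10,7,1,6,11,0,3,7,0,6,2,1,10,7,1,6,11,0,3,7,0,6,2,1,10,7,1,6,11,0,3,7,0,6,2,1,10,7,1,6,11,0,3,7,0,6,2,1,10,7,1,6,11,0,3]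
theorem cv1109p0 : Rng (slChk 213488 18 m1037 cv1109r) 0 2 := Rng.of_chk (c := 2) (by decide +kernel)
theorem cv1109p2 : Rng (slChk 213488 18 m1037 cv1109r) 2 4 := Rng.of_chk (c := 2) (by decide +kernel)
theorem cv1109p4 : Rng (slChk 213488 18 m1037 cv1109r) 4 6 := Rng.of_chk (c := 2) (by decide +kernel)
theorem cv1109p6 : Rng (slChk 213488 18 m1037 cv1109r) 6 8 := Rng.of_chk (c := 2) (by decide +kernel)
theorem cv1109p8 : Rng (slChk 213488 18 m1037 cv1109r) 8 10 := Rng.of_chk (c := 2) (by decide +kernel)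
theorem cv1109p10 : Rng (slChk 213488 18 m1037 cv1109r) 10 12 := Rng.of_chk (c := 2) (by decide +kernel)
theorem cv1109p12 : Rng (slChk 213488 18 m1037 cv1109r) 12 14 := Rng.of_chk (c := 2) (by decide +kernel)
theorem cv1109p14 : Rng (slChk 213488 18 m1037 cv1109r) 14 16 := Rng.of_chk (c := 2) (by decide +kernel)
theorem cv1109p16 : Rng (slChk 213488 18 m1037 cv1109r) 16 18 := Rng.of_chk (c := 2) (by decide +kernel)
theorem cv1109 : finG m1037ok 6 * wp (finG m1037ok) [2,1,10,7,0,6,11,0,3,7,1,6,2,1,10,7,0,6,11,0,3,7,1,6,2,1,10,7,0,6,11,0,3,7,1,6,2,1,10,7,0,6,11,0,3,7,1,6,2,1,10,7,0,6,11,0,3,7,1,6] = wp (finG m1037ok) [2,1,10,7,0,6,11,0,3,7,1,6,2,1,10,7,0,6,11,0,3,7,1,6,2,1,10,7,0,6,11,0,3,7,1,6,2,1,10,7,0,6,11,0,3,7,1,6,2,1,10,7,0,6,11,0,3,7,1,6] * finG m1037ok 6 := comm_of_rel m1037s0 (r := cv1109r) (by decide +kernel) (fin_rel_of_rng m1037ok (k := 18) (by norm_num)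 ((((((((cv1109p0.trans cv1109p2).trans cv1109p4).trans cv1109p6).trans cv1109p8).trans cv1109p10).trans cv1109p12).trans cv1109p14).trans cv1109p16))
noncomputable def cv1112r : List ℕ := [12,2,1,10,7,0,6,11,0,3,7,1,6,2,1,10,7,0,6,11,0,3,7,1,6,2,1,10,7,0,6,11,0,3,7,1,6,2,1,10,7,0,6,11,0,3,7,1,6,2,1,10,7,0,6,11,0,3,7,1,6,13,7,0,6,2,1,10,7,1,6,11,0,3,7,0,6,2,1,10,7,1,6,11,0,3,7,0,6,2,1,10,7,1,6,11,0,3,7,0,6,2,1,10,7,1,6,11,0,3,7,0,6,2,1,10,7,1,6,11,0,3]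
theorem cv1112p0 : Rng (slChk 213488 18 m1037 cv1112r) 0 2 := Rng.of_chk (c := 2) (by decide +kernel)
theorem cv1112p2 : Rng (slChk 213488 18 m1037 cv1112r) 2 4 := Rng.of_chk (c := 2) (by decide +kernel)
theorem cv1112p4 : Rng (slChk 213488 18 m1037 cv1112r) 4 6 := Rng.of_chk (c := 2) (by decide +kernel)
theorem cv1112p6 : Rng (slChk 213488 18 m1037 cv1112r) 6 8 := Rng.of_chk (c := 2) (by decide +kernel)
theorem cv1112p8 : Rng (slChk 213488 18 m1037 cv1112r) 8 10 := Rng.of_chk (c := 2) (by decide +kernel)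
theorem cv1112p10 : Rng (slChk 213488 18 m1037 cv1112r) 10 12 := Rng.of_chk (c := 2) (by decide +kernel)
theorem cv1112p12 : Rng (slChk 213488 18 m1037 cv1112r) 12 14 := Rng.of_chk (c := 2) (by decide +kernel)
theorem cv1112p14 : Rng (slChk 213488 18 m1037 cv1112r) 14 16 := Rng.of_chk (c := 2) (by decide +kernel)
theorem cv1112p16 : Rng (slChk 213488 18 m1037 cv1112r) 16 18 := Rng.of_chk (c := 2) (by decide +kernel)
theorem cv1112 : finG m1037ok 12 * wp (finG m1037ok) [2,1,10,7,0,6,11,0,3,7,1,6,2,1,10,7,0,6,11,0,3,7,1,6,2,1,10,7,0,6,11,0,3,7,1,6,2,1,10,7,0,6,11,0,3,7,1,6,2,1,10,7,0,6,11,0,3,7,1,6] = wp (finG m1037ok) [2,1,10,7,0,6,11,0,3,7,1,6,2,1,10,7,0,6,11,0,3,7,1,6,2,1,10,7,0,6,11,0,3,7,1,6,2,1,10,7,0,6,11,0,3,7,1,6,2,1,10,7,0,6,11,0,3,7,1,6] * finG m1037ok 12 := comm_of_rel m1037s0 (r := cv1112r) (by decide +kernel) (fin_rel_of_rng m1037ok (k := 18) (by norm_num)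 ((((((((cv1112p0.trans cv1112p2).trans cv1112p4).trans cv1112p6).trans cv1112p8).trans cv1112p10).trans cv1112p12).trans cv1112p14).trans cv1112p16))
noncomputable def cv1119r : List ℕ := [12,4,13,7,1,5,0,6,12,4,13,7,1,5,0,6,12,13,13,7,1,4,0,6,12,5,13,7,1,4,0,6,12,5]
theorem cv1119p0 : Rng (slChk 213488 18 m1037 cv1119r) 0 10 := Rng.of_chk (c := 10) (by decide +kernel)
theorem cv1119p10 : Rng (slChk 213488 18 m1037 cv1119r) 10 18 := Rng.of_chk (c := 8) (by decide +kernel)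
theorem cv1119 : finG m1037ok 12 * wp (finG m1037ok) [4,13,7,1,5,0,6,12,4,13,7,1,5,0,6,12] = wp (finG m1037ok) [4,13,7,1,5,0,6,12,4,13,7,1,5,0,6,12] * finG m1037ok 12 := comm_of_rel m1037s0 (r := cv1119r) (by decide +kernel) (fin_rel_of_rng m1037ok (k := 18) (by norm_num) (cv1119p0.trans cv1119p10))

end Cfsg.Agent.H6.ScFi22
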