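import Cfsg.Agent.H6.ScC21
import Cfsg.Agent.H6.Sch11
set_option maxRecDepth 100000
set_option Elab.async false
namespace Cfsg.Agent.H6.ScFi22
open Cfsg.Agent.H6
universe u

noncomputable def cv1107r : List ℕ := [2,2,1,10,7,0,6,11,0,3,7,1,6,2,1,10,7,0,6,11,0,3,7,1,6,2,1,10,7,0,6,11,0,3,7,1,6,2,1,10,7,0,6,11,0,3,7,1,6,2,1,10,7,0,6,11,0,3,7,1,6,3,7,0,6,2,1,10,7,1,6,11,0,3,7,0,6,2,1,10,7,1,6,11,0,3,7,0,6,2,1,10,7,1,6,11,0,3,7,0,6,2,1,10,7,1,6,11,0,3,7,0,6,2,1,10,7,1,6,11,0,3]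
theorem cv1107p0 : Rng (slChk 213488 18 m1037 cv1107r) 0 2 := Rng.of_chk (c := 2) (by decide +kernel)
theorem cv1107p2 : Rng (slChk 213488 18 m1037 cv1107r) 2 4 := Rng.of_chk (c := 2) (by decide +kernel)
theorem cv1107p4 : Rng (slChk 213488 18 m1037 cv1107r) 4 6 := Rng.of_chk (c := 2) (by decide +kernel)
theorem cv1107p6 : Rng (slChk 213488 18 m1037 cv1107r) 6 8 := Rng.of_chk (c := 2) (by decide +kernel)
theorem cv1107p8 : Rng (slChk 213488 18 m1037 cv1107r) 8 10 := Rng.of_chk (c := 2) (by decide +kernel)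
theorem cv1107p10 : Rng (slChk 213488 18 m1037 cv1107r) 10 12 := Rng.of_chk (c := 2) (by decide +kernel)
theorem cv1107p12 : Rng (slChk 213488 18 m1037 cv1107r) 12 14 := Rng.of_chk (c := 2) (by decide +kernel)
theorem cv1107p14 : Rng (slChk 213488 18 m1037 cv1107r) 14 16 := Rng.of_chk (c := 2) (by decide +kernel)
theorem cv1107p16 : Rng (slChk 213488 18 m1037 cv1107r) 16 18 := Rng.of_chk (c := 2) (by decide +kernel)
theorem cv1107 : finG m1037ok 2 * wp (finG m1037ok) [2,1,10,7,0,6,11,0,3,7,1,6,2,1,10,7,0,6,11,0,3,7,1,6,2,1,10,7,0,6,11,0,3,7,1,6,2,1,10,7,0,6,11,0,3,7,1,6,2,1,10,7,0,6,11,0,3,7,1,6] = wp (finG m1037ok) [2,1,10,7,0,6,11,0,3,7,1,6,2,1,10,7,0,6,11,0,3,7,1,6,2,1,10,7,0,6,11,0,3,7,1,6,2,1,10,7,0,6,11,0,3,7,1,6,2,1,10,7,0,6,11,0,3,7,1,6] * finG m1037ok 2 := comm_of_rel m1037s0 (r := cv1107r) (by decide +kernel) (fin_rel_of_rng m1037ok (k := 18) (by norm_num) ((((((((cv1107p0.trans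 cv1107p2).trans cv1107p4).trans cv1107p6).trans cv1107p8).trans cv1107p10).trans cv1107p12).trans cv1107p14).trans cv1107p16))
noncomputable def cv1110r : List ℕ := [8,2,1,10,7,0,6,11,0,3,7,1,6,2,1,10,7,0,6,11,0,3,7,1,6,2,1,10,7,0,6,11,0,3,7,1,6,2,1,10,7,0,6,11,0,3,7,1,6,2,1,10,7,0,6,11,0,3,7,1,6,9,7,0,6,2,1,10,7,1,6,11,0,3,7,0,6,2,1,10,7,1,6,11,0,3,7,0,6,2,1,10,7,1,6,11,0,3,7,0,6,2,1,10,7,1,6,11,0,3,7,0,6,2,1,10,7,1,6,11,0,3]
theorem cv1110p0 : Rng (slChk 213488 18 m1037 cv1110r) 0 2 := Rng.of_chk (c := 2) (by decide +kernel)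
theorem cv1110p2 : Rng (slChk 213488 18 m1037 cv1110r) 2 4 := Rng.of_chk (c := 2) (by decide +kernel)
theorem cv1110p4 : Rng (slChk 213488 18 m1037 cv1110r) 4 6 := Rng.of_chk (c := 2) (by decide +kernel)
theorem cv1110p6 : Rng (slChk 213488 18 m1037 cv1110r) 6 8 := Rng.of_chk (c := 2) (by decide +kernel)
theorem cv1110p8 : Rng (slChk 213488 18 m1037 cv1110r) 8 10 := Rng.of_chk (c := 2) (by decide +kernel)
theorem cv1110p10 : Rng (slChk 213488 18 m1037 cv1110r) 10 12 := Rng.of_chk (c := 2) (by decide +kernel)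
theorem cv1110p12 : Rng (slChk 213488 18 m1037 cv1110r) 12 14 := Rng.of_chk (c := 2) (by decide +kernel)
theorem cv1110p14 : Rng (slChk 213488 18 m1037 cv1110r) 14 16 := Rng.of_chk (c := 2) (by decide +kernel)
theorem cv1110p16 : Rng (slChk 213488 18 m1037 cv1110r) 16 18 := Rng.of_chk (c := 2) (by decide +kernel)
theorem cv1110 : finG m1037ok 8 * wp (finG m1037ok) [2,1,10,7,0,6,11,0,3,7,1,6,2,1,10,7,0,6,11,0,3,7,1,6,2,1,10,7,0,6,11,0,3,7,1,6,2,1,10,7,0,6,11,0,3,7,1,6,2,1,10,7,0,6,11,0,3,7,1,6] = wp (finG m1037ok) [2,1,10,7,0,6,11,0,3,7,1,6,2,1,10,7,0,6,11,0,3,7,1,6,2,1,10,7,0,6,11,0,3,7,1,6,2,1,10,7,0,6,11,0,3,7,1,6,2,1,10,7,0,6,11,0,3,7,1,6] * finG m1037ok 8 := comm_of_rel m1037s0 (r := cv1110r) (by decide +kernel) (fin_rel_of_rng m1037ok (k := 18) (by norm_num) ((((((((cv1110p0.trans cv1110p2).trans cv1110p4).trans cv1110p6).trans cv1110p8).trans cv1110p10).trans cv1110p12).trans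 cv1110p14).trans cv1110p16))
noncomputable def cv1113r : List ℕ := [0,4,13,7,1,5,0,6,12,4,13,7,1,5,0,6,12,1,13,7,1,4,0,6,12,5,13,7,1,4,0,6,12,5]
theorem cv1113p0 : Rng (slChk 213488 18 m1037 cv1113r) 0 10 := Rng.of_chk (c := 10) (by decide +kernel)
theorem cv1113p10 : Rng (slChk 213488 18 m1037 cv1113r) 10 18 := Rng.of_chk (c := 8) (by decide +kernel)
theorem cv1113 : finG m1037ok 0 * wp (finG m1037ok) [4,13,7,1,5,0,6,12,4,13,7,1,5,0,6,12] = wp (finG m1037ok) [4,13,7,1,5,0,6,12,4,13,7,1,5,0,6,12] * finG m1037ok 0 := comm_of_rel m1037s0 (r := cv1113r) (by decide +kernel) (fin_rel_of_rng m1037ok (k := 18) (by norm_num) (cv1113p0.trans cv1113p10))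
noncomputable def cv1115r : List ℕ := [4,4,13,7,1,5,0,6,12,4,13,7,1,5,0,6,12,5,13,7,1,4,0,6,12,5,13,7,1,4,0,6,12,5]
theorem cv1115p0 : Rng (slChk 213488 18 m1037 cv1115r) 0 10 := Rng.of_chk (c := 10) (by decide +kernel)
theorem cv1115p10 : Rng (slChk 213488 18 m1037 cv1115r) 10 18 := Rng.of_chk (c := 8) (by decide +kernel)
theorem cv1115 : finG m1037ok 4 * wp (finG m1037ok) [4,13,7,1,5,0,6,12,4,13,7,1,5,0,6,12] = wp (finG m1037ok) [4,13,7,1,5,0,6,12,4,13,7,1,5,0,6,12] * finG m1037ok 4 := comm_of_rel m1037s0 (r := cv1115r) (by decide +kernel) (fin_rel_of_rng m1037ok (k := 18) (by norm_num) (cv1115p0.trans cv1115p10))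
noncomputable def cv1117r : List ℕ := [8,4,13,7,1,5,0,6,12,4,13,7,1,5,0,6,12,9,13,7,1,4,0,6,12,5,13,7,1,4,0,6,12,5]
theorem cv1117p0 : Rng (slChk 213488 18 m1037 cv1117r) 0 10 := Rng.of_chk (c := 10) (by decide +kernel)
theorem cv1117p10 : Rng (slChk 213488 18 m1037 cv1117r) 10 18 := Rng.of_chk (c := 8) (by decide +kernel)
theorem cv1117 : finG m1037ok 8 * wp (finG m1037ok) [4,13,7,1,5,0,6,12,4,13,7,1,5,0,6,12] = wp (finG m1037ok) [4,13,7,1,5,0,6,12,4,13,7,1,5,0,6,12] * finG m1037ok 8 := comm_of_rel m1037s0 (r := cv1117r) (by decide +kernel) (fin_rel_of_rng m1037ok (k := 18) (by norm_num) (cv1117p0.trans cv1117p10))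

end Cfsg.Agent.H6.ScFi22
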