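import Cfsg.Agent.H6.ScC21
import Cfsg.Agent.H6.Sch11
set_option maxRecDepth 100000
set_option Elab.async false
namespace Cfsg.Agent.H6.ScFi22
open Cfsg.Agent.H6
universe u

noncomputable def cv1108r : List ℕ := [4,2,1,10,7,0,6,11,0,3,7,1,6,2,1,10,7,0,6,11,0,3,7,1,6,2,1,10,7,0,6,11,0,3,7,1,6,2,1,10,7,0,6,11,0,3,7,1,6,2,1,10,7,0,6,11,0,3,7,1,6,5,7,0,6,2,1,10,7,1,6,11,0,3,7,0,6,2,1,10,7,1,6,11,0,3,7,0,6,2,1,10,7,1,6,11,0,3,7,0,6,2,1,10,7,1,6,11,0,3,7,0,6,2,1,10,7,1,6,11,0,3]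
theorem cv1108p0 : Rng (slChk 213488 18 m1037 cv1108r) 0 2 := Rng.of_chk (c := 2) (by decide +kernel)
theorem cv1108p2 : Rng (slChk 213488 18 m1037 cv1108r) 2 4 := Rng.of_chk (c := 2) (by decide +kernel)
theorem cv1108p4 : Rng (slChk 213488 18 m1037 cv1108r) 4 6 := Rng.of_chk (c := 2) (by decide +kernel)
theorem cv1108p6 : Rng (slChk 213488 18 m1037 cv1108r) 6 8 := Rng.of_chk (c := 2) (by decide +kernel)
theorem cv1108p8 : Rng (slChk 213488 18 m1037 cv1108r) 8 10 := Rng.of_chk (c := 2) (by decide +kernel)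
theorem cv1108p10 : Rng (slChk 213488 18 m1037 cv1108r) 10 12 := Rng.of_chk (c := 2) (by decide +kernel)
theorem cv1108p12 : Rng (slChk 213488 18 m1037 cv1108r) 12 14 := Rng.of_chk (c := 2) (by decide +kernel)
theorem cv1108p14 : Rng (slChk 213488 18 m1037 cv1108r) 14 16 := Rng.of_chk (c := 2) (by decide +kernel)
theorem cv1108p16 : Rng (slChk 213488 18 m1037 cv1108r) 16 18 := Rng.of_chk (c := 2) (by decide +kernel)
theorem cv1108 : finG m1037ok 4 * wp (finG m1037ok) [2,1,10,7,0,6,11,0,3,7,1,6,2,1,10,7,0,6,11,0,3,7,1,6,2,1,10,7,0,6,11,0,3,7,1,6,2,1,10,7,0,6,11,0,3,7,1,6,2,1,10,7,0,6,11,0,3,7,1,6] = wp (finG m1037ok) [2,1,10,7,0,6,11,0,3,7,1,6,2,1,10,7,0,6,11,0,3,7,1,6,2,1,10,7,0,6,11,0,3,7,1,6,2,1,10,7,0,6,11,0,3,7,1,6,2,1,10,7,0,6,11,0,3,7,1,6] * finG m1037ok 4 := comm_of_rel m1037s0 (r := cv1108r) (by decide +kernel) (fin_rel_of_rng m1037ok (k := 18) (by norm_num) ((((((((cv1108p0.trans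 cv1108p2).trans cv1108p4).trans cv1108p6).trans cv1108p8).trans cv1108p10).trans cv1108p12).trans cv1108p14).trans cv1108p16))
noncomputable def cv1111r : List ℕ := [10,2,1,10,7,0,6,11,0,3,7,1,6,2,1,10,7,0,6,11,0,3,7,1,6,2,1,10,7,0,6,11,0,3,7,1,6,2,1,10,7,0,6,11,0,3,7,1,6,2,1,10,7,0,6,11,0,3,7,1,6,11,7,0,6,2,1,10,7,1,6,11,0,3,7,0,6,2,1,10,7,1,6,11,0,3,7,0,6,2,1,10,7,1,6,11,0,3,7,0,6,2,1,10,7,1,6,11,0,3,7,0,6,2,1,10,7,1,6,11,0,3]
theorem cv1111p0 : Rng (slChk 213488 18 m1037 cv1111r) 0 2 := Rng.of_chk (c := 2) (by decide +kernel)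
theorem cv1111p2 : Rng (slChk 213488 18 m1037 cv1111r) 2 4 := Rng.of_chk (c := 2) (by decide +kernel)
theorem cv1111p4 : Rng (slChk 213488 18 m1037 cv1111r) 4 6 := Rng.of_chk (c := 2) (by decide +kernel)
theorem cv1111p6 : Rng (slChk 213488 18 m1037 cv1111r) 6 8 := Rng.of_chk (c := 2) (by decide +kernel)
theorem cv1111p8 : Rng (slChk 213488 18 m1037 cv1111r) 8 10 := Rng.of_chk (c := 2) (by decide +kernel)
theorem cv1111p10 : Rng (slChk 213488 18 m1037 cv1111r) 10 12 := Rng.of_chk (c := 2) (by decide +kernel)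
theorem cv1111p12 : Rng (slChk 213488 18 m1037 cv1111r) 12 14 := Rng.of_chk (c := 2) (by decide +kernel)
theorem cv1111p14 : Rng (slChk 213488 18 m1037 cv1111r) 14 16 := Rng.of_chk (c := 2) (by decide +kernel)
theorem cv1111p16 : Rng (slChk 213488 18 m1037 cv1111r) 16 18 := Rng.of_chk (c := 2) (by decide +kernel)
theorem cv1111 : finG m1037ok 10 * wp (finG m1037ok) [2,1,10,7,0,6,11,0,3,7,1,6,2,1,10,7,0,6,11,0,3,7,1,6,2,1,10,7,0,6,11,0,3,7,1,6,2,1,10,7,0,6,11,0,3,7,1,6,2,1,10,7,0,6,11,0,3,7,1,6] = wp (finG m1037ok) [2,1,10,7,0,6,11,0,3,7,1,6,2,1,10,7,0,6,11,0,3,7,1,6,2,1,10,7,0,6,11,0,3,7,1,6,2,1,10,7,0,6,11,0,3,7,1,6,2,1,10,7,0,6,11,0,3,7,1,6] * finG m1037ok 10 := comm_of_rel m1037s0 (r := cv1111r) (by decide +kernel) (fin_rel_of_rng m1037ok (k := 18) (by norm_num) ((((((((cv1111p0.trans cv1111p2).trans cv1111p4).trans cv1111p6).trans cv1111p8).trans cv1111p10).trans cv1111p12).trans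 cv1111p14).trans cv1111p16))
noncomputable def cv1114r : List ℕ := [2,4,13,7,1,5,0,6,12,4,13,7,1,5,0,6,12,3,13,7,1,4,0,6,12,5,13,7,1,4,0,6,12,5]
theorem cv1114p0 : Rng (slChk 213488 18 m1037 cv1114r) 0 10 := Rng.of_chk (c := 10) (by decide +kernel)
theorem cv1114p10 : Rng (slChk 213488 18 m1037 cv1114r) 10 18 := Rng.of_chk (c := 8) (by decide +kernel)
theorem cv1114 : finG m1037ok 2 * wp (finG m1037ok) [4,13,7,1,5,0,6,12,4,13,7,1,5,0,6,12] = wp (finG m1037ok) [4,13,7,1,5,0,6,12,4,13,7,1,5,0,6,12] * finG m1037ok 2 := comm_of_rel m1037s0 (r := cv1114r) (by decide +kernel) (fin_rel_of_rng m1037ok (k := 18) (by norm_num) (cv1114p0.trans cv1114p10))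
noncomputable def cv1116r : List ℕ := [6,4,13,7,1,5,0,6,12,4,13,7,1,5,0,6,12,7,13,7,1,4,0,6,12,5,13,7,1,4,0,6,12,5]
theorem cv1116p0 : Rng (slChk 213488 18 m1037 cv1116r) 0 10 := Rng.of_chk (c := 10) (by decide +kernel)
theorem cv1116p10 : Rng (slChk 213488 18 m1037 cv1116r) 10 18 := Rng.of_chk (c := 8) (by decide +kernel)
theorem cv1116 : finG m1037ok 6 * wp (finG m1037ok) [4,13,7,1,5,0,6,12,4,13,7,1,5,0,6,12] = wp (finG m1037ok) [4,13,7,1,5,0,6,12,4,13,7,1,5,0,6,12] * finG m1037ok 6 := comm_of_rel m1037s0 (r := cv1116r) (by decide +kernel) (fin_rel_of_rng m1037ok (k := 18) (by norm_num) (cv1116p0.trans cv1116p10))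
noncomputable def cv1118r : List ℕ := [10,4,13,7,1,5,0,6,12,4,13,7,1,5,0,6,12,11,13,7,1,4,0,6,12,5,13,7,1,4,0,6,12,5]
theorem cv1118p0 : Rng (slChk 213488 18 m1037 cv1118r) 0 10 := Rng.of_chk (c := 10) (by decide +kernel)
theorem cv1118p10 : Rng (slChk 213488 18 m1037 cv1118r) 10 18 := Rng.of_chk (c := 8) (by decide +kernel)
theorem cv1118 : finG m1037ok 10 * wp (finG m1037ok) [4,13,7,1,5,0,6,12,4,13,7,1,5,0,6,12] = wp (finG m1037ok) [4,13,7,1,5,0,6,12,4,13,7,1,5,0,6,12] * finG m1037ok 10 := comm_of_rel m1037s0 (r := cv1118r) (by decide +kernel) (fin_rel_of_rng m1037ok (k := 18) (by norm_num) (cv1118p0.trans cv1118p10))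

end Cfsg.Agent.H6.ScFi22
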