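import Cfsg.Agent.H6.ScC2
set_option maxRecDepth 100000
set_option Elab.async false
namespace Cfsg.Agent.H6.ScFi22
open Cfsg.Agent.H6
universe u

noncomputable def wX0 : List ℕ := [7,4,5,2,3,4,1,2,3,7,8,7,4,5,3,4,0,1,2,3,7,6,5,4,3,2,1,0,5,4,1,2,3,7,8,6,5,4,3,7,2,3,4,5,6,4,3,7,8,2,3,7,4,3,2,1,4,5,3,4,2,3,7,8,3,4,5,4,7,3,7]
theorem rpX0 : Rep 3510 (finX 3510) (wp Fi.gFi22 wX0) (m2 0) := Fi.modelFi22.toIsPre.rep_word (k := 12) (by decide +kernel)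
theorem rqX0 : Rep 3510 (finX 3510) (wp Fi.gFi22 wX0)⁻¹ (m2 1) := rpX0.inv2 m2ok m2s0 rfl
noncomputable def wX2 : List ℕ := [3,7,6,4,5,3,4,2,3,7,8,3,7,4,5,3,4,1,2,3,7,6,5,4,3,2,1,0,2,3,4,1,2,3,7,8,3,4,2,3,7,1,2,3,4,5,6,1,4,3,7,8,4,3,7,5,4,3,2,5,7,3,4,7,3,7]
theorem rpX2 : Rep 3510 (finX 3510) (wp Fi.gFi22 wX2) (m2 2) := Fi.modelFi22.toIsPre.rep_word (k := 12) (by decide +kernel)
theorem rqX2 : Rep 3510 (finX 3510) (wp Fi.gFi22 wX2)⁻¹ (m2 3) := rpX2.inv2 m2ok m2s0 rfl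
noncomputable def wX4 : List ℕ := [4,3,7,8,6,5,4,2,3,7,4,5,1,2,3,4,0,1,2,3,7,8,7,5,3,4,0,1,2,3,7,6,5,4,3,2,1,0,6,5,3,4,2,3,7,1,2,3,4,5,6,2,1,4,3,7,8,3,2,4,5,7,3,4,3]
theorem rpX4 : Rep 3510 (finX 3510) (wp Fi.gFi22 wX4) (m2 4) := Fi.modelFi22.toIsPre.rep_word (k := 12) (by decide +kernel)
theorem rqX4 : Rep 3510 (finX 3510) (wp Fi.gFi22 wX4)⁻¹ (m2 5) := rpX4.inv2 m2ok m2s0 rfl
noncomputable def wX6 : List ℕ := [7,6,5,3,4,2,3,7,8,5,2,3,4,1,2,3,7,6,5,4,3,2,1,0,1,2,3,7,8,4,5,3,4,2,3,7,1,2,3,4,5,6,2,5,4,3,7]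
theorem rpX6 : Rep 3510 (finX 3510) (wp Fi.gFi22 wX6) (m2 6) := Fi.modelFi22.toIsPre.rep_word (k := 12) (by decide +kernel)
theorem rqX6 : Rep 3510 (finX 3510) (wp Fi.gFi22 wX6)⁻¹ (m2 7) := rpX6.inv2 m2ok m2s0 rfl
noncomputable def wX8 : List ℕ := [0]
theorem rpX8 : Rep 3510 (finX 3510) (wp Fi.gFi22 wX8) (m2 8) := Fi.modelFi22.toIsPre.rep_word (k := 12) (by decide +kernel)
theorem rqX8 : Rep 3510 (finX 3510) (wp Fi.gFi22 wX8)⁻¹ (m2 9) := rpX8.inv2 m2ok m2s0 rfl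
noncomputable def wX10 : List ℕ := [3,7,6,4,5,3,4,2,3,7,8,3,7,4,5,3,4,1,2,3,7,6,5,4,3,2,1,0,1,2,3,7,8,4,3,7,2,3,4,5,6,1,4,3,7,8,5,4,3,2,7,3,4,7,3]
theorem rpX10 : Rep 3510 (finX 3510) (wp Fi.gFi22 wX10) (m2 10) := Fi.modelFi22.toIsPre.rep_word (k := 12) (by decide +kernel)
theorem rqX10 : Rep 3510 (finX 3510) (wp Fi.gFi22 wX10)⁻¹ (m2 11) := rpX10.inv2 m2ok m2s0 rfl
noncomputable def wX12 : List ℕ := [5,4,3,7,4,5,2,3,4,1,2,3,7,8,2,3,4,0,1,2,3,7,6,5,4,3,2,1,0,7,3,4,2,3,7,1,2,3,4,5,6,2,3,7,8,1,2,3,7,4,3,2,1,8,2,3,7,4,3,2,7,3,4,5,7,3,4,3]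
theorem rpX12 : Rep 3510 (finX 3510) (wp Fi.gFi22 wX12) (m2 12) := Fi.modelFi22.toIsPre.rep_word (k := 12) (by decide +kernel)
theorem rqX12 : Rep 3510 (finX 3510) (wp Fi.gFi22 wX12)⁻¹ (m2 13) := rpX12.inv2 m2ok m2s0 rfl
noncomputable def glX : List Spor.Fi22 := [wp Fi.gFi22 wX0,(wp Fi.gFi22 wX0)⁻¹,wp Fi.gFi22 wX2,(wp Fi.gFi22 wX2)⁻¹,wp Fi.gFi22 wX4,(wp Fi.gFi22 wX4)⁻¹,wp Fi.gFi22 wX6,(wp Fi.gFi22 wX6)⁻¹,wp Fi.gFi22 wX8,(wp Fi.gFi22 wX8)⁻¹,wp Fi.gFi22 wX10,(wp Fi.gFi22 wX10)⁻¹,wp Fi.gFi22 wX12,(wp Fi.gFi22 wX12)⁻¹]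
noncomputable def gX : ℕ → Spor.Fi22 := lk 1 glX
theorem modelX : IsModel 3510 (finX 3510) gX m2 vT := ⟨IsPre.ofLists (.cons rpX0 (.cons rqX0 (.cons rpX2 (.cons rqX2 (.cons rpX4 (.cons rqX4 (.cons rpX6 (.cons rqX6 (.cons rpX8 (.cons rqX8 (.cons rpX10 (.cons rqX10 (.cons rpX12 (.cons rqX12 .nil)))))))))))))), Fi.modelFi22.inj⟩
theorem hgeX : ∀ l, llen il ≤ l → gX l = 1 := fun _ h => lk1_ge' (gl := glX) (le_of_eq_of_le rfl h)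
theorem heqX : ∀ u w, eqBc m2 Fi.baseFi22 u w = true → wp gX u = wp gX w := Fi.basedFi22.eqv modelX.toIsPre
theorem s0X : Sat io [] gX := sat_of_eqv heqX hgeX (by decide +kernel)

end Cfsg.Agent.H6.ScFi22
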