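import Cfsg.Agent.H6.SuzB1
set_option maxRecDepth 100000
set_option Elab.async false
namespace Cfsg.Agent.H6.Suz
open Cfsg.Agent.H6
universe u

noncomputable def m9001n0 : Net := (Net.cons (nat_lit 64) (nat_lit 0xd9208000000000)
  (Net.cons (nat_lit 32) (nat_lit 0x15a480000000007be00000)
  (Net.cons (nat_lit 16) (nat_lit 0x800e000019000000fc6000006b50)
  (Net.cons (nat_lit 8) (nat_lit 0x4000000099002000c4002a007d0014)
  (Net.cons (nat_lit 4) (nat_lit 0xa040809070a0806040f06010a0705)
  (Net.cons (nat_lit 2) (nat_lit 0x222001102300220202002333012110)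
  (Net.cons (nat_lit 1) (nat_lit 0x40014000400141405144554540415141)
  (Net.cons (nat_lit 2) (nat_lit 0x22000000200200202002020000022)
  (Net.cons (nat_lit 4) (nat_lit 0xa040008060a0806040000040a000e)
  (Net.cons (nat_lit 8) (nat_lit 0x40000000c000200040002a00580080)
  (Net.cons (nat_lit 16) (nat_lit 0x800e000019000000fc6000006b50)
  (Net.cons (nat_lit 32) (nat_lit 0x15a480000000007be00000)
  (Net.cons (nat_lit 64) (nat_lit 0xd9208000000000)
  Net.nil)))))))))))))
noncomputable def m9001n1 : Net := (Net.cons (nat_lit 64) (nat_lit 0xe3143a1800000000)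
  (Net.cons (nat_lit 32) (nat_lit 0x807e02180000000040dc0000)
  (Net.cons (nat_lit 16) (nat_lit 0x848000099c000005864000098c8)
  (Net.cons (nat_lit 8) (nat_lit 0x6a00100004009600040018000c0018)
  (Net.cons (nat_lit 4) (nat_lit 0x2040c08030600080406030c0e01)
  (Net.cons (nat_lit 2) (nat_lit 0x120002321013120033010202023031)
  (Net.cons (nat_lit 1) (nat_lit 0x1040000040414010005005100400414)
  (Net.cons (nat_lit 2) (nat_lit 0x20000020002020000000200000020)
  (Net.cons (nat_lit 4) (nat_lit 0xc08040400080406000c0c0c)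
  (Net.cons (nat_lit 8) (nat_lit 0x4200000004001600040018000c0018)
  (Net.cons (nat_lit 16) (nat_lit 0x848000099c0000058640000bac0)
  (Net.cons (nat_lit 32) (nat_lit 0x807e02180000000040dc0000)
  (Net.cons (nat_lit 64) (nat_lit 0xe3143a1800000000)
  Net.nil)))))))))))))
noncomputable def m9001n2 : Net := (Net.cons (nat_lit 64) (nat_lit 0xaaa51c000000000)
  (Net.cons (nat_lit 32) (nat_lit 0xa6250c0000000000c3e8888)
  (Net.cons (nat_lit 16) (nat_lit 0x5820000022200000291c00003488)
  (Net.cons (nat_lit 8) (nat_lit 0x8800c000f00020006c000a001400ac)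
  (Net.cons (nat_lit 4) (nat_lit 0x4040c040a0e0f0c080202060304080c)
  (Net.cons (nat_lit 2) (nat_lit 0x20020120200122020001200213022320)
  (Net.cons (nat_lit 1) (nat_lit 0x14040040110000000410055114014040)
  (Net.cons (nat_lit 2) (nat_lit 0x20020020200000000000000202022020)
  (Net.cons (nat_lit 4) (nat_lit 0x40404040a0400080802020604000804)
  (Net.cons (nat_lit 8) (nat_lit 0x8800c000f000200004000a001400ac)
  (Net.cons (nat_lit 16) (nat_lit 0x5820000022200000291c00002488)
  (Net.cons (nat_lit 32) (nat_lit 0xa6250c0000000000c3e8888)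
  (Net.cons (nat_lit 64) (nat_lit 0xaaa51c000000000)
  Net.nil)))))))))))))
noncomputable def m9001n3 : Net := (Net.cons (nat_lit 64) (nat_lit 0xb9b0285880000000)
  (Net.cons (nat_lit 32) (nat_lit 0x6db30d1800000000863bc5c0)
  (Net.cons (nat_lit 16) (nat_lit 0x2ca300005a04000095c600009aa6)
  (Net.cons (nat_lit 8) (nat_lit 0x10002400fc0022003600e200cc0064)
  (Net.cons (nat_lit 4) (nat_lit 0xc000400030808010a0e060e00020205)
  (Net.cons (nat_lit 2) (nat_lit 0x21002230133002222021002103010102)
  (Net.cons (nat_lit 1) (nat_lit 0x40004104514010444540004055401011)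
  (Net.cons (nat_lit 2) (nat_lit 0x20002200002000202020002000000020)
  (Net.cons (nat_lit 4) (nat_lit 0x40004000c0002080a0600060000020a)
  (Net.cons (nat_lit 8) (nat_lit 0x24000c0028002600e2000c0064)
  (Net.cons (nat_lit 16) (nat_lit 0x2ca00000c0a0000095c6000092a6)
  (Net.cons (nat_lit 32) (nat_lit 0x6db30d1800000000863bc5c0)
  (Net.cons (nat_lit 64) (nat_lit 0xb9b0285880000000)
  Net.nil)))))))))))))
noncomputable def m9001n4 : Net := (Net.cons (nat_lit 64) (nat_lit 0x4a7130b000000000)
  (Net.cons (nat_lit 32) (nat_lit 0x26741430000000001e474900)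
  (Net.cons (nat_lit 16) (nat_lit 0x36040000d1800000b4c400006d84)
  (Net.cons (nat_lit 8) (nat_lit 0x74001000c2001e0042007c004e0028)
  (Net.cons (nat_lit 4) (nat_lit 0xc050600040a050b04000e0f00000d05)
  (Net.cons (nat_lit 2) (nat_lit 0x30201023233031120303212120302002)
  (Net.cons (nat_lit 1) (nat_lit 0x400005150141514500405511501144)
  (Net.cons (nat_lit 2) (nat_lit 0x200000200022000000200020000202)
  (Net.cons (nat_lit 4) (nat_lit 0xc040400040a02000400060000000204)
  (Net.cons (nat_lit 8) (nat_lit 0x34001000c200760042007c00420028)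
  (Net.cons (nat_lit 16) (nat_lit 0x3604000051800000b4c400004d84)
  (Net.cons (nat_lit 32) (nat_lit 0x26741430000000001e474900)
  (Net.cons (nat_lit 64) (nat_lit 0x4a7130b000000000)
  Net.nil)))))))))))))
noncomputable def m9001l : List Net := [m9001n0,m9001n1,m9001n2,m9001n3,m9001n4,Net.nil,Net.nil]
noncomputable abbrev m9001 : ℕ → Net := lk Net.nil m9001l
theorem m9001ok : NetsOk 100 m9001 vT := netsOk_of (by decide +kernel)
theorem m9001s0 : Sat io [] (finG m9001ok) := fin_sat_nil _ (k := 7) (n := 7) (by decide +kernel)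
theorem sat100 : Sat io RJ (finG m9001ok) := m9001s0.fin (k := 7) (by decide +kernel)
theorem j100 : ∃ G : Subgroup (Equiv.Perm (Fin 100)), IsSimpleGroup G ∧ Nat.card G = 604800 := by
  obtain ⟨φ, -, h⟩ := bdJ.{0}.homTop satJ sat100 topJ cardJ.ge
  have hi : Function.Injective φ := (MonoidHom.ker_eq_bot_iff φ).1 ((simpleJ.eq_bot_or_eq_top_of_normal φ.ker inferInstance).resolve_right
    fun e => (finModel m9001ok).ne_one_of_mp (w := [0]) (p := 0) (by decide +kernel)
      ((h [0] (by decide +kernel)).symm.trans (show _ ∈ φ.ker from e ▸ Subgroup.mem_top _)))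
  exact ⟨φ.range, simple_congr (MonoidHom.ofInjective hi) simpleJ, (Nat.card_congr (MonoidHom.ofInjective hi).toEquiv).symm.trans cardJ⟩

end Cfsg.Agent.H6.Suz
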