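import Cfsg.Agent.H6.U6b1
import Cfsg.Agent.H6.Sub
set_option maxRecDepth 100000
set_option Elab.async false
namespace Cfsg.Agent.H6.Fi
open Cfsg.Agent.H6
universe u

noncomputable def wsU : List (List ℕ) := [[0],[1],[2],[3],[4],[5],[6],[7],[8],[],[],[],[0,1,2,3,4,7,0,1,2,3,4,7,0,1,2,3,4,7,0,1,2,3,4,7,0,1,2,3,4,7]]
noncomputable def g22 : ℕ → Spor.Fi22 := dG gFi22 wsU
noncomputable def C410001 : List (List ℕ) := [r21,r22,r23,r24,r25,r26,r30,r31,r32,r33,r34,r38,r39,r40,r41,r45,r46,r47,r51,r52,r56,r74,r75,r76,r77,r78,r79,r80,r81,r82,r85]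
theorem sat22U : Sat io C410001 g22 := sat_dG heqFi22 (by decide +kernel)
theorem K22_eq : cl g22 (lw [2,3,4,5,6,7,8,12]) = cl gFi22 swFi22 := by
  rw [g22, cl_dG]
  exact le_antisymm (cl_mono (by decide +kernel)) (cl_le_of_sel heqFi22 (sl := [[0,1,2,3,5,7,0,1,2,3,5,7,0,1,2,3,5,7,0,1,2,3,5,7,0,1,2,3,5,7],[0],[1],[2],[3],[4],[5],[6],[7]]) (by decide +kernel))
noncomputable def cmU8 : List (List ℕ) := [[2,2,2,2],[2,3,2,3],[2,4,2,4],[2,5,2,5],[2,6,2,6],[2,7,2,7],[2,8,2,8],[2,12,2,12],[3,2,3,2],[3,3,3,3],[3,4,3,4],[3,5,3,5],[3,6,3,6],[3,7,3,7],[3,8,3,8],[3,12,3,12],[4,2,4,2],[4,3,4,3],[4,4,4,4],[4,5,4,5],[4,6,4,6],[4,7,4,7],[4,8,4,8],[4,12,4,12],[5,2,5,2],[5,3,5,3],[5,4,5,4],[5,5,5,5],[5,6,5,6],[5,7,5,7],[5,8,5,8],[5,12,5,12],[6,2,6,2],[6,3,6,3],[6,4,6,4],[6,5,6,5],[6,6,6,6],[6,7,6,7],[6,8,6,8],[6,12,6,12],[7,2,7,2],[7,3,7,3],[7,4,7,4],[7,5,7,5],[7,6,7,6],[7,7,7,7],[7,8,7,8],[7,12,7,12],[8,2,8,2],[8,3,8,3],[8,4,8,4],[8,5,8,5],[8,6,8,6],[8,7,8,7],[8,8,8,8],[8,12,8,12],[12,2,12,2],[12,3,12,3],[12,4,12,4],[12,5,12,5],[12,6,12,6],[12,7,12,7],[12,8,12,8],[12,12,12,12]]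
noncomputable def C410002 : List (List ℕ) := lapp cmU8 C410001
noncomputable def t410003v0 : ℕ := (nat_lit 0x10000000009000001000000000000002900000000000000010000080008000008000029000300000800002900090000290000010008000001000000000000002300000000000000010000070004000007000023000300000700002300080000230000010007000001000000000000001d0000000000000001000006000600000600001d000300000600001d000700001d00000100030000000000010000000001000002000000000000000900040000020000090004000001000000000000000000000a0000000001000003000500000a00000300050000000000010000000001000004000000000000000b000600000400000b0006000001000000000000000000000c0000000001000005000d00000500000c000600000c000001000500000b000001000400000a00000100030000090000010009000008000000000800000700000000070000060000000006000005000000000500000400000000040000030000000003000002000000000d0000010000000000000000000000)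
noncomputable def t410003 : Tr := (Tr.leaf t410003v0)
noncomputable def t410003R : List (List ℕ) := [[2,2],[5,5],[4,4],[3,3],[12,5,12,5],[5,12,5,12,5,12],[5,4,5,4],[5,4,5,4,5,4],[4,3,4,3],[4,3,4,3,4,3],[3,2,3,2],[3,2,3,2,3,2],[2,6,2,6],[5,6,5,6],[6,5,6,5,6,5],[6,6],[2,7,2,7],[3,7,3,7],[7,3,7,3,7,3],[7,7],[2,8,2,8],[7,8,7,8],[8,7,8,7,8,7],[8,8],[8,7,6,5,4,3,2,8,7,6,5,4,3,2,8,7,6,5,4,3,2,8,7,6,5,4,3,2,8,7,6,5,4,3,2,8,7,6,5,4,3,2,8,7,6,5,4,3,2,8,7,6,5,4,3,2,8,7,6,5,4,3,2],[]]
theorem t410003Rok : RotOk.{u} io C410002 t410003R := RotOk.of (pfs := [[],[],[],[],[([],63)],[([5],177)],[([],39)],[([],151)],[([],21)],[([],141)],[([],3)],[([],129)],[([2],9)],[([5],57)],[([],159)],[],[([2],11)],[([3],27)],[([],147)],[],[([2],13)],[([7],93)],[([],169)],[],[([],189)],[]]) (by decide +kernel)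
noncomputable def dg410004p : List (List ℕ) := [[26],[],[],[],[],[],[],[],[],[],[],[],[],[5,11,2,24],[6,24,26,11,2,24,26],[2,10,28,24],[2,24,30],[7,9,32,22],[8,32,22,34,9,32,22],[3,22,36,8],[3,8,38],[9,21,40,6],[10,40,6,42,21,40,6],[4,6,44,20],[4,20,46],[11,5,48,18],[12,48,18,50,5,48,18],[1,18,52,4],[1,4,54],[],[13,13,57,58],[14,13,32,58],[15,58,62,13,32,58,62],[1,60,64,56],[16,58,67],[],[17,15,57,70],[18,15,48,70],[19,70,74,15,48,70,74],[1,72,76,56],[20,70,79],[],[21,17,57,82],[22,17,80,82],[23,82,86,17,80,82,86],[1,84,88,56],[24,82,91],[25,93,80,69,32,40,48,56,92,81,68,33,41,49,57,93,80,69,32,40,48,56,92,81,68,33,41,49,57,93,80,69,32,40,48,56,92,81,68,33,41,49,57,93,80,69,32,40,48,56,92,81,68,33,41,49,57,93,80,69,32,40,48,56]]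
theorem dg410004 : DagOk.{u} io C410002 [] t410003 48 := DagOk.steps (i := 0) DagOk.zero t410003Rok (prs := dg410004p) (by decide +kernel)
theorem mem410005 : Mem.{u} io C410002 [] [12] := dg410004.mem (p := [2,95]) (by decide +kernel)
noncomputable def t410006v0 : ℕ := (nat_lit 0x10000000007000001000000000000000c0000000000000001000006000600000c00000600060000000000010000000005000001000000000000000b000500000500000b0005000001000000000000000a0000000000000001000004000300000100000000000000000000080000000001000002000400000c000006000400000b000005000400000a000004000400000800000200040000000000010000000001000003000000000000000900080000030000090008000001000000000000000000000d0000000001000007000900000700000d000800000d000001000700000c000001000600000b000001000500000a0000010004000009000001000300000800000100080000070000000007000006000000000600000500000000050000040000000004000003000000000300000200000000090000010000000000000000000000)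
noncomputable def t410006 : Tr := (Tr.leaf t410006v0)
noncomputable def t410006R : List (List ℕ) := [[3,3],[7,7],[2,2],[8,7,8,7],[7,8,7,8,7,8],[7,3,7,3],[7,3,7,3,7,3],[3,2,3,2],[3,4,3,4],[3,5,3,5],[3,6,3,6],[3,2,3,2,3,2],[3,4,3,4,3,4],[4,4],[4,5,4,5],[4,5,4,5,4,5],[5,5],[5,6,5,6],[5,6,5,6,5,6],[6,6],[5,4,3,2,8,7,6,5,4,3,2,8,7,6,5,4,3,2,8,7,6,5,4,3,2,8,7,6,5,4,3,2,8,7,6,5,4,3,2,8,7,6,5,4,3,2,8,7,6,5,4,3,2,8,7,6,5,4,3,2,8,7,6],[]]
theorem t410006Rok : RotOk.{u} io C410002 t410006R := RotOk.of (pfs := [[],[],[],[([],93)],[([7],169)],[([],27)],[([],147)],[([],3)],[([3],21)],[([3],23)],[([3],25)],[([],129)],[([3],141)],[],[([4],39)],[([4],151)],[],[([5],57)],[([5],159)],[],[([5,4,3,2],189)],[]]) (by decide +kernel)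
noncomputable def dg410007p : List (List ℕ) := [[22],[],[],[],[],[],[],[],[],[],[],[],[],[],[4,15,2,26],[5,26,28,15,2,26,28],[2,14,30,26],[2,26,32],[6,7,34,18],[7,34,18,36,7,34,18],[1,18,38,6],[1,6,40],[8,17,42,4],[9,21,42,8],[10,23,42,10],[11,25,42,12],[12,42,4,44,17,42,4],[3,4,52,16],[3,16,54],[13,42,8,46,21,42,8],[1,47,58,42],[14,20,61],[15,11,62,22],[16,62,22,64,11,62,22],[1,48,66,43],[17,10,69],[18,25,70,12],[19,70,12,72,25,70,12],[1,51,74,42],[20,24,77],[21,70,62,42,56,3,34,79,71,63,43,57,2,35,78,70,62,42,56,3,34,79,71,63,43,57,2,35,78,70,62,42,56,3,34,79,71,63,43,57,2,35,78,70,62,42,56,3,34,79,71,63,43,57,2,35,78,70,62,42,56,3,34,79]]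
theorem dg410007 : DagOk.{u} io C410002 [] t410006 41 := DagOk.steps (i := 0) DagOk.zero t410006Rok (prs := dg410007p) (by decide +kernel)
theorem mem410008 : Mem.{u} io C410002 [] [8] := dg410007.mem (p := [2,81]) (by decide +kernel)
noncomputable def t410009v0 : ℕ := (nat_lit 0x10000000009000001000000000000002400000000000000010000070008000007000024000300000700002400090000240000010007000001000000000000001e0000000000000001000006000600000600001e000300000600001e000700001e000001000600000100000000000000180000000000000001000005000500000500001800030000050000180006000018000001000500000100000000000000120000000000000001000004000400000400001200030000040000120005000012000001000300000000000100000000010000020000000000000008000400000200000800040000010000000000000000000009000000000100000300080000030000090004000009000001000300000800000100090000070000000007000006000000000600000500000000050000040000000004000003000000000300000200000000080000010000000000000000000000)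
noncomputable def t410009 : Tr := (Tr.leaf t410009v0)
noncomputable def t410009R : List (List ℕ) := [[2,2],[3,3],[7,3,7,3],[3,7,3,7,3,7],[3,2,3,2],[3,2,3,2,3,2],[2,4,2,4],[3,4,3,4],[4,3,4,3,4,3],[4,4],[2,5,2,5],[4,5,4,5],[5,4,5,4,5,4],[5,5],[2,6,2,6],[5,6,5,6],[6,5,6,5,6,5],[6,6],[2,8,2,8],[7,8,7,8],[8,7,8,7,8,7],[8,8],[8,7,6,5,4,3,2,8,7,6,5,4,3,2,8,7,6,5,4,3,2,8,7,6,5,4,3,2,8,7,6,5,4,3,2,8,7,6,5,4,3,2,8,7,6,5,4,3,2,8,7,6,5,4,3,2,8,7,6,5,4,3,2],[]]
theorem t410009Rok : RotOk.{u} io C410002 t410009R := RotOk.of (pfs := [[],[],[([],27)],[([3],147)],[([],3)],[([],129)],[([2],5)],[([3],21)],[([],141)],[],[([2],7)],[([4],39)],[([],151)],[],[([2],9)],[([5],57)],[([],159)],[],[([2],13)],[([7],93)],[([],169)],[],[([],189)],[]]) (by decide +kernel)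
noncomputable def dg410010p : List (List ℕ) := [[24],[],[],[],[],[],[],[],[],[],[3,7,2,18],[4,18,20,7,2,18,20],[2,6,22,18],[2,18,24],[5,5,26,16],[6,26,16,28,5,26,16],[1,16,30,4],[1,4,32],[],[7,9,35,36],[8,9,26,36],[9,36,40,9,26,36,40],[1,38,42,34],[10,36,45],[],[11,11,35,48],[12,11,46,48],[13,48,52,11,46,48,52],[1,50,54,34],[14,48,57],[],[15,13,35,60],[16,13,58,60],[17,60,64,13,58,60,64],[1,62,66,34],[18,60,69],[],[19,15,35,72],[20,15,2,72],[21,72,76,15,2,72,76],[1,74,78,34],[22,72,81],[23,83,2,71,58,47,26,34,82,3,70,59,46,27,35,83,2,71,58,47,26,34,82,3,70,59,46,27,35,83,2,71,58,47,26,34,82,3,70,59,46,27,35,83,2,71,58,47,26,34,82,3,70,59,46,27,35,83,2,71,58,47,26,34]]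
theorem dg410010 : DagOk.{u} io C410002 [] t410009 43 := DagOk.steps (i := 0) DagOk.zero t410009Rok (prs := dg410010p) (by decide +kernel)
theorem mem410011 : Mem.{u} io C410002 [] [7] := dg410010.mem (p := [2,85]) (by decide +kernel)
noncomputable def t410012v0 : ℕ := (nat_lit 0x10000000009000001000000000000002200000000000000010000070008000007000022000300000700002200090000220000010008000001000000000000001c0000000000000001000006000400000600001c000300000600001c000800001c0000010003000000000001000000000100000200000000000000080004000002000008000400000100000000000000000000090000000001000003000500000900000300050000000000010000000001000004000000000000000a000600000400000a0006000001000000000000000000000b0000000001000005000700000500000b000600000b000001000500000a0000010004000009000001000300000800000100090000070000000008000006000000000600000500000000050000040000000004000003000000000300000200000000070000010000000000000000000000)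
noncomputable def t410012 : Tr := (Tr.leaf t410012v0)
noncomputable def t410012R : List (List ℕ) := [[2,2],[5,5],[4,4],[3,3],[6,5,6,5],[5,6,5,6,5,6],[5,4,5,4],[5,4,5,4,5,4],[4,3,4,3],[4,3,4,3,4,3],[3,2,3,2],[3,2,3,2,3,2],[2,7,2,7],[3,7,3,7],[7,3,7,3,7,3],[7,7],[2,8,2,8],[7,8,7,8],[8,7,8,7,8,7],[8,8],[8,7,6,5,4,3,2,8,7,6,5,4,3,2,8,7,6,5,4,3,2,8,7,6,5,4,3,2,8,7,6,5,4,3,2,8,7,6,5,4,3,2,8,7,6,5,4,3,2,8,7,6,5,4,3,2,8,7,6,5,4,3,2],[]]
theorem t410012Rok : RotOk.{u} io C410002 t410012R := RotOk.of (pfs := [[],[],[],[],[([],57)],[([5],159)],[([],39)],[([],151)],[([],21)],[([],141)],[([],3)],[([],129)],[([2],11)],[([3],27)],[([],147)],[],[([2],13)],[([7],93)],[([],169)],[],[([],189)],[]]) (by decide +kernel)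
noncomputable def dg410013p : List (List ℕ) := [[22],[],[],[],[],[],[],[],[],[],[],[],[5,11,2,22],[6,22,24,11,2,22,24],[2,10,26,22],[2,22,28],[7,9,30,20],[8,30,20,32,9,30,20],[3,20,34,8],[3,8,36],[9,19,38,6],[10,38,6,40,19,38,6],[4,6,42,18],[4,18,44],[11,5,46,16],[12,46,16,48,5,46,16],[1,16,50,4],[1,4,52],[],[13,13,55,56],[14,13,46,56],[15,56,60,13,46,56,60],[1,58,62,54],[16,56,65],[],[17,15,55,68],[18,15,66,68],[19,68,72,15,66,68,72],[1,70,74,54],[20,68,77],[21,79,66,3,30,38,46,54,78,67,2,31,39,47,55,79,66,3,30,38,46,54,78,67,2,31,39,47,55,79,66,3,30,38,46,54,78,67,2,31,39,47,55,79,66,3,30,38,46,54,78,67,2,31,39,47,55,79,66,3,30,38,46,54]]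
theorem dg410013 : DagOk.{u} io C410002 [] t410012 41 := DagOk.steps (i := 0) DagOk.zero t410012Rok (prs := dg410013p) (by decide +kernel)
theorem mem410014 : Mem.{u} io C410002 [] [6] := dg410013.mem (p := [2,81]) (by decide +kernel)
noncomputable def t410015v0 : ℕ := (nat_lit 0x10000000009000001000000000000002300000000000000010000070008000007000023000300000700002300090000230000010008000001000000000000001d0000000000000001000006000400000600001d000300000600001d000800001d000001000700000100000000000000170000000000000001000005000600000500001700030000050000170007000017000001000300000100000000000000000000080000000001000002000400000800000200040000000000010000000001000003000000000000000900050000030000090005000001000000000000000000000a0000000001000004000600000400000a000500000a0000010004000009000001000300000800000100090000070000000008000006000000000700000500000000050000040000000004000003000000000300000200000000060000010000000000000000000000)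
noncomputable def t410015 : Tr := (Tr.leaf t410015v0)
noncomputable def t410015R : List (List ℕ) := [[2,2],[4,4],[3,3],[5,4,5,4],[4,5,4,5,4,5],[4,3,4,3],[4,3,4,3,4,3],[3,2,3,2],[3,2,3,2,3,2],[2,6,2,6],[5,6,5,6],[6,5,6,5,6,5],[6,6],[2,7,2,7],[3,7,3,7],[7,3,7,3,7,3],[7,7],[2,8,2,8],[7,8,7,8],[8,7,8,7,8,7],[8,8],[8,7,6,5,4,3,2,8,7,6,5,4,3,2,8,7,6,5,4,3,2,8,7,6,5,4,3,2,8,7,6,5,4,3,2,8,7,6,5,4,3,2,8,7,6,5,4,3,2,8,7,6,5,4,3,2,8,7,6,5,4,3,2],[]]
theorem t410015Rok : RotOk.{u} io C410002 t410015R := RotOk.of (pfs := [[],[],[],[([],39)],[([4],151)],[([],21)],[([],141)],[([],3)],[([],129)],[([2],9)],[([5],57)],[([],159)],[],[([2],11)],[([3],27)],[([],147)],[],[([2],13)],[([7],93)],[([],169)],[],[([],189)],[]]) (by decide +kernel)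
noncomputable def dg410016p : List (List ℕ) := [[23],[],[],[],[],[],[],[],[],[],[],[4,9,2,20],[5,20,22,9,2,20,22],[2,8,24,20],[2,20,26],[6,7,28,18],[7,28,18,30,7,28,18],[3,18,32,6],[3,6,34],[8,17,36,4],[9,36,4,38,17,36,4],[1,4,40,16],[1,16,42],[],[10,11,44,46],[11,11,2,46],[12,46,50,11,2,46,50],[1,48,52,45],[13,46,55],[],[14,13,44,58],[15,13,37,58],[16,58,62,13,37,58,62],[1,60,64,45],[17,58,67],[],[18,15,44,70],[19,15,68,70],[20,70,74,15,68,70,74],[1,72,76,45],[21,70,79],[22,81,68,57,2,29,37,45,80,69,56,3,28,36,44,81,68,57,2,29,37,45,80,69,56,3,28,36,44,81,68,57,2,29,37,45,80,69,56,3,28,36,44,81,68,57,2,29,37,45,80,69,56,3,28,36,44,81,68,57,2,29,37,45]]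
theorem dg410016 : DagOk.{u} io C410002 [] t410015 42 := DagOk.steps (i := 0) DagOk.zero t410015Rok (prs := dg410016p) (by decide +kernel)
theorem mem410017 : Mem.{u} io C410002 [] [5] := dg410016.mem (p := [2,83]) (by decide +kernel)
noncomputable def t410018v0 : ℕ := (nat_lit 0x10000000009000001000000000000002400000000000000010000070008000007000024000300000700002400090000240000010008000001000000000000001e0000000000000001000006000400000600001e000300000600001e000800001e000001000700000100000000000000180000000000000001000005000600000500001800030000050000180007000018000001000600000100000000000000120000000000000001000004000500000400001200030000040000120006000012000001000300000000000100000000010000020000000000000008000400000200000800040000010000000000000000000009000000000100000300050000030000090004000009000001000300000800000100090000070000000008000006000000000700000500000000060000040000000004000003000000000300000200000000050000010000000000000000000000)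
noncomputable def t410018 : Tr := (Tr.leaf t410018v0)
noncomputable def t410018R : List (List ℕ) := [[2,2],[3,3],[4,3,4,3],[3,4,3,4,3,4],[3,2,3,2],[3,2,3,2,3,2],[2,5,2,5],[4,5,4,5],[5,4,5,4,5,4],[5,5],[2,6,2,6],[5,6,5,6],[6,5,6,5,6,5],[6,6],[2,7,2,7],[3,7,3,7],[7,3,7,3,7,3],[7,7],[2,8,2,8],[7,8,7,8],[8,7,8,7,8,7],[8,8],[8,7,6,5,4,3,2,8,7,6,5,4,3,2,8,7,6,5,4,3,2,8,7,6,5,4,3,2,8,7,6,5,4,3,2,8,7,6,5,4,3,2,8,7,6,5,4,3,2,8,7,6,5,4,3,2,8,7,6,5,4,3,2],[]]
theorem t410018Rok : RotOk.{u} io C410002 t410018R := RotOk.of (pfs := [[],[],[([],21)],[([3],141)],[([],3)],[([],129)],[([2],7)],[([4],39)],[([],151)],[],[([2],9)],[([5],57)],[([],159)],[],[([2],11)],[([3],27)],[([],147)],[],[([2],13)],[([7],93)],[([],169)],[],[([],189)],[]]) (by decide +kernel)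
noncomputable def dg410019p : List (List ℕ) := [[24],[],[],[],[],[],[],[],[],[],[3,7,2,18],[4,18,20,7,2,18,20],[2,6,22,18],[2,18,24],[5,5,26,16],[6,26,16,28,5,26,16],[1,16,30,4],[1,4,32],[],[7,9,35,36],[8,9,2,36],[9,36,40,9,2,36,40],[1,38,42,34],[10,36,45],[],[11,11,35,48],[12,11,46,48],[13,48,52,11,46,48,52],[1,50,54,34],[14,48,57],[],[15,13,35,60],[16,13,26,60],[17,60,64,13,26,60,64],[1,62,66,34],[18,60,69],[],[19,15,35,72],[20,15,70,72],[21,72,76,15,70,72,76],[1,74,78,34],[22,72,81],[23,83,70,59,46,3,26,34,82,71,58,47,2,27,35,83,70,59,46,3,26,34,82,71,58,47,2,27,35,83,70,59,46,3,26,34,82,71,58,47,2,27,35,83,70,59,46,3,26,34,82,71,58,47,2,27,35,83,70,59,46,3,26,34]]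
theorem dg410019 : DagOk.{u} io C410002 [] t410018 43 := DagOk.steps (i := 0) DagOk.zero t410018Rok (prs := dg410019p) (by decide +kernel)
theorem mem410020 : Mem.{u} io C410002 [] [4] := dg410019.mem (p := [2,85]) (by decide +kernel)
noncomputable def t410021v0 : ℕ := (nat_lit 0x10000000009000001000000000000002500000000000000010000070008000007000025000300000700002500090000250000010008000001000000000000001f0000000000000001000006000400000600001f000300000600001f000800001f0000010007000001000000000000001900000000000000010000050006000005000019000300000500001900070000190000010006000001000000000000001300000000000000010000040005000004000013000300000400001300060000130000010005000001000000000000000d0000000000000001000003000400000300000d000300000300000d000500000d0000010003000001000000000000000000000800000000010000020004000002000008000300000800000100090000070000000008000006000000000700000500000000060000040000000005000003000000000300000200000000040000010000000000000000000000)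
noncomputable def t410021 : Tr := (Tr.leaf t410021v0)
noncomputable def t410021R : List (List ℕ) := [[2,2],[3,2,3,2],[2,3,2,3,2,3],[2,4,2,4],[3,4,3,4],[4,3,4,3,4,3],[4,4],[2,5,2,5],[4,5,4,5],[5,4,5,4,5,4],[5,5],[2,6,2,6],[5,6,5,6],[6,5,6,5,6,5],[6,6],[2,7,2,7],[3,7,3,7],[7,3,7,3,7,3],[7,7],[2,8,2,8],[7,8,7,8],[8,7,8,7,8,7],[8,8],[8,7,6,5,4,3,2,8,7,6,5,4,3,2,8,7,6,5,4,3,2,8,7,6,5,4,3,2,8,7,6,5,4,3,2,8,7,6,5,4,3,2,8,7,6,5,4,3,2,8,7,6,5,4,3,2,8,7,6,5,4,3,2],[]]
theorem t410021Rok : RotOk.{u} io C410002 t410021R := RotOk.of (pfs := [[],[([],3)],[([2],129)],[([2],5)],[([3],21)],[([],141)],[],[([2],7)],[([4],39)],[([],151)],[],[([2],9)],[([5],57)],[([],159)],[],[([2],11)],[([3],27)],[([],147)],[],[([2],13)],[([7],93)],[([],169)],[],[([],189)],[]]) (by decide +kernel)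
noncomputable def dg410022p : List (List ℕ) := [[25],[],[],[],[],[],[],[],[],[2,5,2,16],[3,16,18,5,2,16,18],[1,4,20,16],[1,16,22],[],[4,7,24,26],[5,7,2,26],[6,26,30,7,2,26,30],[1,28,32,25],[7,26,35],[],[8,9,24,38],[9,9,36,38],[10,38,42,9,36,38,42],[1,40,44,25],[11,38,47],[],[12,11,24,50],[13,11,48,50],[14,50,54,11,48,50,54],[1,52,56,25],[15,50,59],[],[16,13,24,62],[17,13,2,62],[18,62,66,13,2,62,66],[1,64,68,25],[19,62,71],[],[20,15,24,74],[21,15,72,74],[22,74,78,15,72,74,78],[1,76,80,25],[23,74,83],[24,85,72,61,48,37,2,25,84,73,60,49,36,3,24,85,72,61,48,37,2,25,84,73,60,49,36,3,24,85,72,61,48,37,2,25,84,73,60,49,36,3,24,85,72,61,48,37,2,25,84,73,60,49,36,3,24,85,72,61,48,37,2,25]]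
theorem dg410022 : DagOk.{u} io C410002 [] t410021 44 := DagOk.steps (i := 0) DagOk.zero t410021Rok (prs := dg410022p) (by decide +kernel)
theorem mem410023 : Mem.{u} io C410002 [] [3] := dg410022.mem (p := [2,87]) (by decide +kernel)
noncomputable def t410024v0 : ℕ := (nat_lit 0x10000000009000001000000000000002500000000000000010000070008000007000025000300000700002500090000250000010008000001000000000000001f0000000000000001000006000400000600001f000300000600001f000800001f0000010007000001000000000000001900000000000000010000050006000005000019000300000500001900070000190000010006000001000000000000001300000000000000010000040005000004000013000300000400001300060000130000010005000001000000000000000d0000000000000001000003000400000300000d000300000300000d000500000d0000010004000001000000000000000800000000000000010000020003000002000008000400000800000100090000070000000008000006000000000700000500000000060000040000000005000003000000000400000200000000030000010000000000000000000000)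
noncomputable def t410024 : Tr := (Tr.leaf t410024v0)
noncomputable def t410024R : List (List ℕ) := [[2,2],[2,3,2,3],[3,2,3,2,3,2],[3,3],[2,4,2,4],[3,4,3,4],[4,3,4,3,4,3],[4,4],[2,5,2,5],[4,5,4,5],[5,4,5,4,5,4],[5,5],[2,6,2,6],[5,6,5,6],[6,5,6,5,6,5],[6,6],[2,7,2,7],[3,7,3,7],[7,3,7,3,7,3],[7,7],[2,8,2,8],[7,8,7,8],[8,7,8,7,8,7],[8,8],[8,7,6,5,4,3,2,8,7,6,5,4,3,2,8,7,6,5,4,3,2,8,7,6,5,4,3,2,8,7,6,5,4,3,2,8,7,6,5,4,3,2,8,7,6,5,4,3,2,8,7,6,5,4,3,2,8,7,6,5,4,3,2],[]]
theorem t410024Rok : RotOk.{u} io C410002 t410024R := RotOk.of (pfs := [[],[([2],3)],[([],129)],[],[([2],5)],[([3],21)],[([],141)],[],[([2],7)],[([4],39)],[([],151)],[],[([2],9)],[([5],57)],[([],159)],[],[([2],11)],[([3],27)],[([],147)],[],[([2],13)],[([7],93)],[([],169)],[],[([],189)],[]]) (by decide +kernel)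
noncomputable def dg410025p : List (List ℕ) := [[26],[],[],[],[],[],[],[],[],[2,5,2,16],[3,16,18,5,2,16,18],[1,18,20,3],[4,16,23],[],[5,7,2,26],[6,7,24,26],[7,26,30,7,24,26,30],[1,28,32,3],[8,26,35],[],[9,9,2,38],[10,9,36,38],[11,38,42,9,36,38,42],[1,40,44,3],[12,38,47],[],[13,11,2,50],[14,11,48,50],[15,50,54,11,48,50,54],[1,52,56,3],[16,50,59],[],[17,13,2,62],[18,13,24,62],[19,62,66,13,24,62,66],[1,64,68,3],[20,62,71],[],[21,15,2,74],[22,15,72,74],[23,74,78,15,72,74,78],[1,76,80,3],[24,74,83],[25,85,72,61,48,37,24,3,84,73,60,49,36,25,2,85,72,61,48,37,24,3,84,73,60,49,36,25,2,85,72,61,48,37,24,3,84,73,60,49,36,25,2,85,72,61,48,37,24,3,84,73,60,49,36,25,2,85,72,61,48,37,24,3]]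
theorem dg410025 : DagOk.{u} io C410002 [] t410024 44 := DagOk.steps (i := 0) DagOk.zero t410024Rok (prs := dg410025p) (by decide +kernel)
theorem mem410026 : Mem.{u} io C410002 [] [2] := dg410025.mem (p := [2,87]) (by decide +kernel)
theorem imp410027 : Imp.{u} io C410002 (lw [2,3,4,5,6,7,8,12]) := (mem410026.imp_nil.cons (mem410023.imp_nil.cons (mem410020.imp_nil.cons (mem410017.imp_nil.cons (mem410014.imp_nil.cons (mem410011.imp_nil.cons (mem410008.imp_nil.cons (mem410005.imp_nil.cons (Imp.of_chk (pfs := []) rfl)))))))))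
theorem perfK22 : commutator (cl gFi22 swFi22) = ⊤ := perfect_sub sat22U K22_eq (by decide +kernel) (C := cmU8) (by decide +kernel) imp410027
theorem cover22U : IsNonsplitDoubleCover (cl gFi22 swFi22) GU :=
  bdU.cover sat22U.nil K22_eq (d := wp g22 [0]) (wp_mem_cl (gens := gFi22) (w := [0]) (by decide +kernel)) (fun x hx => cmFi22 x (stabFi22 ▸ hx)) ordFi22
    (by decide +kernel) (mem_zpowers_of (eqv_dG heqFi22 wsU) (n := 2) (by decide +kernel)) satU topU cardU
    (cstabFi22.trans (by norm_num)) perfK22 (@center_eq_bot_of_perfect _ _ simpleU perfU)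
theorem cover22 {F : Type} [Field F] [Fintype F] (hF : Fintype.card F = 4) : IsNonsplitDoubleCover (cl gFi22 swFi22) (PSU 6 F 2) := by
  obtain ⟨_, _, _, _, _, e, -⟩ := isoU hF
  exact nonsplit_congr_right e cover22U

end Cfsg.Agent.H6.Fi
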